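import Cfsg.Agent.Lib.Fusion.Saturation
import Mathlib.GroupTheory.Index

/-!
Fusion systems of finite groups: saturation, the criteria for fully normalized and fully
centralized subgroups, representatives with Sylow normalizer.
-/

set_option autoImplicit false
set_option linter.style.haveILetI false
set_option linter.unusedVariables false
set_option linter.unusedSectionVars false
set_option linter.overlappingInstances false

namespace CfsgLib.Fusion

open Cfsg Cfsg.FusionSystem Subgroup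

variable {Ω : Type*} [Group Ω] {T : Subgroup Ω} {F : FusionSystem T} {H : Subgroup Ω}
  {P Q R A K M : Subgroup Ω} {f : Ω → Ω} {p : ℕ}

/-- `F`, a system over `T`, is the system induced by `H`. -/
def IsSystemOf (F : FusionSystem T) (H : Subgroup Ω) : Prop :=
  T ≤ H ∧ ∀ (P : Subgroup Ω) (f : Ω → Ω), IsMap F P f ↔
    P ≤ T ∧ (∀ x ∈ P, f x ∈ T) ∧ ∃ g ∈ H, ∀ x ∈ P, f x = g * x * g⁻¹

theorem isSystemOf_subgroup (H T : Subgroup Ω) (hTH : T ≤ H) :
    IsSystemOf (fusionSystemOfSubgroup H T hTH) H := by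
  refine ⟨hTH, fun P f => ⟨?_, ?_⟩⟩
  · rintro ⟨φ, ⟨hP, hφT, g, hg, hgx⟩, hf⟩
    exact ⟨hP, fun x hx => hf ⟨x, hx⟩ ▸ hφT ⟨x, hx⟩, g, hg,
      fun x hx => (hf ⟨x, hx⟩).symm.trans (hgx ⟨x, hx⟩)⟩
  · rintro ⟨hP, hfT, g, hg, hgx⟩
    refine ⟨conjHom P g, ⟨hP, fun x => ?_, g, hg, fun x => rfl⟩, fun x => (hgx x x.2).symm⟩
    show g * (x : Ω) * g⁻¹ ∈ T
    exact hgx x x.2 ▸ hfT x x.2

theorem isSystemOf_group {G : Type*} [Group G] (S : Subgroup G) :
    IsSystemOf (groupFusionSystem S) ⊤ := by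
  refine ⟨le_top, fun P f => ⟨?_, ?_⟩⟩
  · rintro ⟨φ, ⟨hP, hφT, g, hgx⟩, hf⟩
    exact ⟨hP, fun x hx => hf ⟨x, hx⟩ ▸ hφT ⟨x, hx⟩, g, Subgroup.mem_top g,
      fun x hx => (hf ⟨x, hx⟩).symm.trans (hgx ⟨x, hx⟩)⟩
  · rintro ⟨hP, hfT, g, -, hgx⟩
    refine ⟨conjHom P g, ⟨hP, fun x => ?_, g, fun x => rfl⟩, fun x => (hgx x x.2).symm⟩
    show g * (x : G) * g⁻¹ ∈ S
    exact hgx x x.2 ▸ hfT x x.2

theorem isSystemOf_inner (T : Subgroup Ω) : IsSystemOf (innerFusionSystem T) T := by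
  refine ⟨le_rfl, fun P f => ⟨?_, ?_⟩⟩
  · rintro ⟨φ, ⟨hP, g, hg, hgx⟩, hf⟩
    refine ⟨hP, fun x hx => ?_, g, hg, fun x hx => (hf ⟨x, hx⟩).symm.trans (hgx ⟨x, hx⟩)⟩
    rw [← hf ⟨x, hx⟩, hgx ⟨x, hx⟩]
    exact T.mul_mem (T.mul_mem hg (hP hx)) (T.inv_mem hg)
  · rintro ⟨hP, hfT, g, hg, hgx⟩
    exact ⟨conjHom P g, ⟨hP, g, hg, fun x => rfl⟩, fun x => (hgx x x.2).symm⟩

/-! ### Conjugates of subgroups -/

/-- `g P g⁻¹`. -/
def conjSub (g : Ω) (P : Subgroup Ω) : Subgroup Ω := P.map (MulAut.conj g).toMonoidHom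

theorem mem_conjSub {g y : Ω} : y ∈ conjSub g P ↔ g⁻¹ * y * g ∈ P := by
  constructor
  · rintro ⟨x, hx, rfl⟩
    simpa [mul_assoc] using hx
  · intro h
    exact ⟨g⁻¹ * y * g, h, by simp [mul_assoc]⟩

theorem conj_mem_conjSub {g x : Ω} (hx : x ∈ P) : g * x * g⁻¹ ∈ conjSub g P :=
  ⟨x, hx, rfl⟩

theorem card_conjSub (g : Ω) (P : Subgroup Ω) : Nat.card (conjSub g P) = Nat.card P :=
  Subgroup.card_map_of_injective (MulAut.conj g).injective

theorem img_conj (g : Ω) (P : Subgroup Ω) : img P (fun x => g * x * g⁻¹) = conjSub g P := by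
  have : (fun x => g * x * g⁻¹) '' (P : Set Ω) = (conjSub g P : Set Ω) := by
    ext y
    simp [conjSub, Subgroup.coe_map]
  rw [img, this, Subgroup.closure_eq]

theorem conjSub_mul (g h : Ω) (P : Subgroup Ω) :
    conjSub (g * h) P = conjSub g (conjSub h P) := by
  ext y
  simp [mem_conjSub, mul_assoc]

theorem conjSub_one (P : Subgroup Ω) : conjSub 1 P = P := by
  ext y
  simp [mem_conjSub]

theorem conjSub_mono {g : Ω} (h : P ≤ Q) : conjSub g P ≤ conjSub g Q := Subgroup.map_mono h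

theorem conjSub_normalizer {g : Ω} (hg : g ∈ H) :
    conjSub g (H ⊓ Subgroup.normalizer (P : Set Ω)) =
      H ⊓ Subgroup.normalizer (conjSub g P : Set Ω) := by
  ext y
  simp only [mem_conjSub, Subgroup.mem_inf]
  refine and_congr ⟨fun h => ?_, fun h => H.mul_mem (H.mul_mem (H.inv_mem hg) h) hg⟩ ?_
  · simpa [mul_assoc] using H.mul_mem (H.mul_mem hg h) (H.inv_mem hg)
  · constructor
    · intro h n
      rw [SetLike.mem_coe, SetLike.mem_coe, mem_conjSub, mem_conjSub]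
      have := h (g⁻¹ * n * g)
      rw [SetLike.mem_coe, SetLike.mem_coe] at this
      rw [this]
      simp [mul_assoc]
    · intro h n
      have := h (g * n * g⁻¹)
      rw [SetLike.mem_coe, SetLike.mem_coe, mem_conjSub, mem_conjSub] at this
      rw [SetLike.mem_coe, SetLike.mem_coe]
      convert this using 2 <;> simp [mul_assoc]

theorem conjSub_centralizer {g : Ω} (hg : g ∈ H) :
    conjSub g (H ⊓ Subgroup.centralizer (P : Set Ω)) =
      H ⊓ Subgroup.centralizer (conjSub g P : Set Ω) := by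
  ext y
  simp only [mem_conjSub, Subgroup.mem_inf]
  refine and_congr ⟨fun h => ?_, fun h => H.mul_mem (H.mul_mem (H.inv_mem hg) h) hg⟩ ?_
  · simpa [mul_assoc] using H.mul_mem (H.mul_mem hg h) (H.inv_mem hg)
  · simp only [Subgroup.mem_centralizer_iff, SetLike.mem_coe, mem_conjSub]
    constructor
    · intro h n hn
      have := congrArg (fun z => g * z * g⁻¹) (h _ hn)
      simpa [mul_assoc] using this
    · intro h n hn
      have := congrArg (fun z => g⁻¹ * z * g) (h (g * n * g⁻¹) (by simpa [mul_assoc] using hn))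
      simpa [mul_assoc] using this

/-! ### Sylow subgroups of a subgroup, inside the ambient group -/

theorem exists_sylow_of [Fact p.Prime] (hA : IsPGroup p A) (hAK : A ≤ K)
    (hidx : ¬ p ∣ A.relIndex K) :
    ∃ W : Sylow p K, (W : Subgroup K) = A.subgroupOf K :=
  ⟨(hA.of_equiv (Subgroup.subgroupOfEquivOfLe hAK).symm).toSylow hidx, rfl⟩

theorem not_dvd_relIndex_of_sylow [Fact p.Prime] [Finite K] (W : Sylow p K) :
    ¬ p ∣ ((W : Subgroup K).map K.subtype).relIndex K := by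
  rw [Subgroup.relIndex, Subgroup.subgroupOf, Subgroup.comap_map_eq_self_of_injective
    K.subtype_injective]
  exact W.not_dvd_index

/-- A `p`-subgroup of `K` is conjugate in `K` into a subgroup of index prime to `p`. -/
theorem exists_conj_le_of_sylow [Fact p.Prime] [Finite K] (hA : IsPGroup p A) (hAK : A ≤ K)
    (hidx : ¬ p ∣ A.relIndex K) (hR : IsPGroup p R) (hRK : R ≤ K) :
    ∃ k ∈ K, conjSub k R ≤ A := by
  obtain ⟨W, hW⟩ := exists_sylow_of hA hAK hidx
  obtain ⟨W', hW'⟩ := (hR.of_equiv (Subgroup.subgroupOfEquivOfLe hRK).symm).exists_le_sylow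
  obtain ⟨k, hk⟩ := MulAction.exists_smul_eq K W' W
  refine ⟨k, k.2, ?_⟩
  rintro _ ⟨x, hx, rfl⟩
  have h1 : (k * ⟨x, hRK hx⟩ * k⁻¹ : K) ∈ (W : Subgroup K) := by
    rw [← hk, Sylow.coe_subgroup_smul, Subgroup.mem_pointwise_smul_iff_inv_smul_mem]
    have h2 : (MulAut.conj k)⁻¹ • (k * ⟨x, hRK hx⟩ * k⁻¹ : K) = ⟨x, hRK hx⟩ := by
      rw [MulAut.smul_def, MulAut.conj_inv_apply]
      group
    rw [h2]
    exact hW' hx
  rw [hW] at h1
  exact h1

theorem card_le_of_sylow [Fact p.Prime] [Finite K] (hA : IsPGroup p A) (hAK : A ≤ K)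
    (hidx : ¬ p ∣ A.relIndex K) (hR : IsPGroup p R) (hRK : R ≤ K) :
    Nat.card R ≤ Nat.card A := by
  obtain ⟨k, -, hk⟩ := exists_conj_le_of_sylow hA hAK hidx hR hRK
  haveI : Finite A := finite_of_le hAK
  exact (card_conjSub k R) ▸ Subgroup.card_le_of_le hk

theorem not_dvd_relIndex_of_card [Fact p.Prime] [Finite K] (hR : IsPGroup p R) (hRK : R ≤ K)
    (h : ∀ W : Subgroup Ω, IsPGroup p W → W ≤ K → Nat.card W ≤ Nat.card R) :
    ¬ p ∣ R.relIndex K := by
  obtain ⟨W, hW⟩ := (hR.of_equiv (Subgroup.subgroupOfEquivOfLe hRK).symm).exists_le_sylow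
  have hcard := h ((W : Subgroup K).map K.subtype) (W.isPGroup'.map _) (Subgroup.map_subtype_le _)
  rw [Subgroup.card_map_of_injective K.subtype_injective] at hcard
  have he : R.subgroupOf K = W := by
    refine Subgroup.eq_of_le_of_card_ge hW ?_
    rw [Nat.card_congr (Subgroup.subgroupOfEquivOfLe hRK).toEquiv]
    exact hcard
  rw [Subgroup.relIndex, he]
  exact W.not_dvd_index

theorem not_dvd_relIndex_conjSub {g : Ω} :
    (conjSub g A).relIndex (conjSub g K) = A.relIndex K :=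
  Subgroup.relIndex_map_map_of_injective _ _ (MulAut.conj g).injective

/-- A subgroup of index prime to `p` meets a normal subgroup in one of index prime to `p`. -/
theorem not_dvd_relIndex_inf [Fact p.Prime] [Finite K] (hA : IsPGroup p A) (hAK : A ≤ K)
    (hidx : ¬ p ∣ A.relIndex K) (hMK : M ≤ K) (hMn : ∀ k ∈ K, ∀ m ∈ M, k * m * k⁻¹ ∈ M) :
    ¬ p ∣ (A ⊓ M).relIndex M := by
  haveI : Finite M := finite_of_le hMK
  refine not_dvd_relIndex_of_card (hA.to_le inf_le_left) inf_le_right fun W hW hWM => ?_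
  obtain ⟨k, hk, hkW⟩ := exists_conj_le_of_sylow hA hAK hidx hW (hWM.trans hMK)
  haveI : Finite (A ⊓ M : Subgroup Ω) := finite_of_le (inf_le_right)
  rw [← card_conjSub k W]
  refine Subgroup.card_le_of_le (le_inf hkW ?_)
  rintro _ ⟨x, hx, rfl⟩
  exact hMn k hk x (hWM hx)

/-! ### Saturation -/

section System

variable [Fact p.Prime] [Finite H] (hF : IsSystemOf F H) (hT : IsPGroup p T)
  (hidx : ¬ p ∣ T.relIndex H)

theorem IsSystemOf.finite_base [Finite H] (hF : IsSystemOf F H) : Finite T := finite_of_le hF.1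

include hF in
theorem IsSystemOf.isConj_iff : F.IsConj P Q ↔ P ≤ T ∧ Q ≤ T ∧ ∃ g ∈ H, conjSub g P = Q := by
  rw [CfsgLib.Fusion.isConj_iff]
  constructor
  · rintro ⟨f, hf, rfl⟩
    obtain ⟨hP, -, g, hg, hgx⟩ := (hF.2 P f).1 hf
    exact ⟨hP, hf.img_le, g, hg, (img_conj g P).symm.trans (img_congr hgx).symm⟩
  · rintro ⟨hP, hQ, g, hg, rfl⟩
    exact ⟨fun x => g * x * g⁻¹, (hF.2 P _).2
      ⟨hP, fun x hx => hQ (conj_mem_conjSub hx), g, hg, fun x hx => rfl⟩, img_conj g P⟩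

include hF in
theorem IsSystemOf.autGroup_eq (hP : P ≤ T) : F.autGroup P = autInducedBy H P := by
  ext α
  rw [mem_autInducedBy_iff]
  constructor
  · intro hα
    obtain ⟨-, -, g, hg, hgx⟩ := (hF.2 P _).1 (isMap_of_autGroup hP hα)
    refine ⟨g, hg, fun x => ?_⟩
    rw [← hgx x x.2, toFun_aut_apply _ x.2]
  · rintro ⟨g, hg, hgx⟩
    exact (autGroup_iff_isMap hP hgx).2 ((hF.2 P _).2
      ⟨hP, fun x hx => hP (hgx ⟨x, hx⟩ ▸ (α ⟨x, hx⟩).2), g, hg, fun x _ => rfl⟩)

theorem normalizerIn_le_normalizer (h : T ≤ H) :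
    normalizerIn T P ≤ H ⊓ Subgroup.normalizer (P : Set Ω) := inf_le_inf_right _ h

theorem centralizerIn_le_centralizer (h : T ≤ H) :
    centralizerIn T P ≤ H ⊓ Subgroup.centralizer (P : Set Ω) := inf_le_inf_right _ h

include hF hT in
theorem IsSystemOf.not_dvd_centralizer_of_normalizer (hP : P ≤ T)
    (h : ¬ p ∣ (normalizerIn T P).relIndex (H ⊓ Subgroup.normalizer (P : Set Ω))) :
    ¬ p ∣ (centralizerIn T P).relIndex (H ⊓ Subgroup.centralizer (P : Set Ω)) := by
  haveI : Finite (H ⊓ Subgroup.normalizer (P : Set Ω) : Subgroup Ω) := finite_of_le inf_le_left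
  have h1 := not_dvd_relIndex_inf (M := H ⊓ Subgroup.centralizer (P : Set Ω))
    (hT.to_le inf_le_left) (normalizerIn_le_normalizer hF.1) h
    (inf_le_inf_left _ (Subgroup.centralizer_le_normalizer (s := (P : Set Ω)))) ?_
  · convert h1 using 3
    apply le_antisymm
    · exact le_inf (inf_le_inf_left _ (Subgroup.centralizer_le_normalizer (s := (P : Set Ω))))
        (centralizerIn_le_centralizer hF.1)
    · exact fun x hx => ⟨hx.1.1, hx.2.2⟩
  · intro k hk m hm
    refine ⟨H.mul_mem (H.mul_mem hk.1 hm.1) (H.inv_mem hk.1), fun x hx => ?_⟩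
    have hx' : k⁻¹ * x * k ∈ P := (Subgroup.mem_normalizer_iff''.1 hk.2 x).1 hx
    have := congrArg (fun z => k * z * k⁻¹) (hm.2 _ hx')
    simpa [mul_assoc] using this

include hF hT in
theorem IsSystemOf.automized_receptive (hP : P ≤ T)
    (h : ¬ p ∣ (normalizerIn T P).relIndex (H ⊓ Subgroup.normalizer (P : Set Ω))) :
    F.IsFullyAutomized p P ∧ F.IsReceptive P := by
  haveI := hF.finite_base
  haveI : Finite (H ⊓ Subgroup.normalizer (P : Set Ω) : Subgroup Ω) := finite_of_le inf_le_left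
  set K := H ⊓ Subgroup.normalizer (P : Set Ω) with hKdef
  haveI := finite_of_le hP
  let ρ : K →* F.autGroup P :=
    (P.normalizerMonoidHom.comp (Subgroup.inclusion inf_le_right)).codRestrict _ fun a => by
      rw [hF.autGroup_eq hP, mem_autInducedBy_iff]
      exact ⟨a, a.2.1, fun x => rfl⟩
  have hsurj : Function.Surjective ρ := by
    rintro ⟨α, hα⟩
    rw [hF.autGroup_eq hP, mem_autInducedBy_iff] at hα
    obtain ⟨g, hg, hgx⟩ := hα
    refine ⟨⟨g, hg, mem_normalizer_of_aut hgx⟩, Subtype.ext ?_⟩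
    ext x
    exact (hgx x).symm
  have hauto : F.IsFullyAutomized p P := by
    obtain ⟨W, hW⟩ := exists_sylow_of (hT.to_le inf_le_left) (normalizerIn_le_normalizer hF.1) h
    refine ⟨hP, W.mapSurjective hsurj, ?_⟩
    rw [Sylow.coe_mapSurjective, hW]
    ext α
    rw [Subgroup.mem_map, Subgroup.mem_subgroupOf, mem_autInducedBy_iff]
    constructor
    · rintro ⟨a, ha, rfl⟩
      exact ⟨a, ha.1, fun x => rfl⟩
    · rintro ⟨g, hg, hgx⟩
      refine ⟨⟨g, hF.1 hg, mem_normalizer_of_aut hgx⟩, ⟨hg, mem_normalizer_of_aut hgx⟩, ?_⟩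
      apply Subtype.ext
      ext x
      exact (hgx x).symm
  refine ⟨hauto, receptive_of_extend hP fun R f hf hi N hRN hN => ?_⟩
  obtain ⟨hRT, -, g, hg, hgx⟩ := (hF.2 R f).1 hf
  have hgR : conjSub g R = P := by rw [← img_conj, ← img_congr hgx, hi]
  -- the elements of `K` acting on `P` like elements of `T`
  let K' : Subgroup Ω :=
    (((autInducedBy T P).subgroupOf (F.autGroup P)).comap ρ).map K.subtype
  have hK'K : K' ≤ K := Subgroup.map_subtype_le _
  haveI : Finite K' := finite_of_le hK'K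
  have hNK' : normalizerIn T P ≤ K' := fun a ha =>
    ⟨⟨a, hF.1 ha.1, ha.2⟩, mem_autInducedBy_iff.2 ⟨a, ha.1, fun x => rfl⟩, rfl⟩
  have hidx' : ¬ p ∣ (normalizerIn T P).relIndex K' := fun hd =>
    h (hd.trans (Subgroup.relIndex_mul_relIndex _ _ _ hNK' hK'K ▸ dvd_mul_right _ _))
  have hNle : conjSub g N ≤ K' := by
    rintro _ ⟨a, ha, rfl⟩
    obtain ⟨haT, han, b, hb, hbx⟩ := hN a ha
    have hgan : g * a * g⁻¹ ∈ Subgroup.normalizer (P : Set Ω) := by
      rw [← hgR]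
      have h1 : g * a * g⁻¹ ∈ conjSub g (H ⊓ Subgroup.normalizer (R : Set Ω)) :=
        conj_mem_conjSub ⟨hF.1 haT, han⟩
      rw [conjSub_normalizer hg] at h1
      exact h1.2
    refine ⟨⟨g * a * g⁻¹, H.mul_mem (H.mul_mem hg (hF.1 haT)) (H.inv_mem hg), hgan⟩, ?_, rfl⟩
    refine mem_autInducedBy_iff.2 ⟨b, hb, fun x => ?_⟩
    have hx : g⁻¹ * (x : Ω) * g ∈ R := mem_conjSub.1 (hgR.symm ▸ x.2)
    have h1 := hbx _ hx
    rw [hgx _ hx, hgx _ ((han _).1 hx)] at h1
    show g * a * g⁻¹ * (x : Ω) * (g * a * g⁻¹)⁻¹ = b * (x : Ω) * b⁻¹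
    simpa [mul_assoc] using h1
  obtain ⟨k, hk, hkN⟩ := exists_conj_le_of_sylow (hT.to_le inf_le_left) hNK' hidx'
    (IsPGroup.map (hT.to_le fun a ha => (hN a ha).1) _) hNle
  obtain ⟨kK, hkA, rfl⟩ := hk
  obtain ⟨n, hn, hnx⟩ := mem_autInducedBy_iff.1 hkA
  have hnN : n ∈ normalizerIn T P := ⟨hn, mem_normalizer_of_aut hnx⟩
  let c : Ω := n⁻¹ * kK.1
  have hc : ∀ x ∈ P, c * x * c⁻¹ = x := fun x hx => by
    have h1 : kK.1 * x * kK.1⁻¹ = n * x * n⁻¹ := hnx ⟨x, hx⟩
    calc c * x * c⁻¹ = n⁻¹ * (kK.1 * x * kK.1⁻¹) * n := by simp only [c]; group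
      _ = x := by rw [h1]; group
  refine ⟨fun x => c * g * x * (c * g)⁻¹, (hF.2 N _).2
    ⟨fun a ha => (hN a ha).1, fun a ha => ?_, c * g,
      H.mul_mem (H.mul_mem (H.inv_mem (hF.1 hn)) kK.2.1) hg, fun x _ => rfl⟩, fun x hx => ?_⟩
  · have h1 : kK.1 * (g * a * g⁻¹) * kK.1⁻¹ ∈ normalizerIn T P :=
      hkN (conj_mem_conjSub (conj_mem_conjSub ha))
    have h2 := ((normalizerIn T P).mul_mem ((normalizerIn T P).mul_mem
      ((normalizerIn T P).inv_mem hnN) h1) hnN).1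
    show c * g * a * (c * g)⁻¹ ∈ T
    have h3 : c * g * a * (c * g)⁻¹ = n⁻¹ * (kK.1 * (g * a * g⁻¹) * kK.1⁻¹) * n := by
      simp only [c]
      group
    rw [h3]
    exact h2
  · show c * g * x * (c * g)⁻¹ = f x
    have hxP : g * x * g⁻¹ ∈ P := hgR ▸ conj_mem_conjSub hx
    rw [hgx x hx, ← hc _ hxP]
    simp only [c]
    group

include hF hT hidx in
theorem IsSystemOf.exists_sylow_normalizer (hP : P ≤ T) :
    ∃ g ∈ H, conjSub g P ≤ T ∧ ¬ p ∣ (normalizerIn T (conjSub g P)).relIndex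
      (H ⊓ Subgroup.normalizer (conjSub g P : Set Ω)) := by
  haveI := hF.finite_base
  haveI : Finite (H ⊓ Subgroup.normalizer (P : Set Ω) : Subgroup Ω) := finite_of_le inf_le_left
  obtain ⟨W, hW⟩ := ((hT.to_le hP).of_equiv (Subgroup.subgroupOfEquivOfLe
    (le_inf (hP.trans hF.1) Subgroup.le_normalizer)).symm).exists_le_sylow (G := ↥(H ⊓
      Subgroup.normalizer (P : Set Ω)))
  set W' := (W : Subgroup ↥(H ⊓ Subgroup.normalizer (P : Set Ω))).map (Subgroup.subtype _)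
    with hW'def
  have hW'K : W' ≤ H ⊓ Subgroup.normalizer (P : Set Ω) := Subgroup.map_subtype_le _
  have hPW' : P ≤ W' := fun x hx =>
    ⟨⟨x, hF.1 (hP hx), Subgroup.le_normalizer hx⟩, hW hx, rfl⟩
  obtain ⟨g, hg, hgW⟩ := exists_conj_le_of_sylow hT hF.1 hidx (W.isPGroup'.map _)
    (hW'K.trans inf_le_left)
  refine ⟨g, hg, (conjSub_mono hPW').trans hgW, fun hd => not_dvd_relIndex_of_sylow W ?_⟩
  rw [← hW'def, ← not_dvd_relIndex_conjSub (g := g), conjSub_normalizer hg]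
  refine hd.trans (Subgroup.relIndex_dvd_of_le_left _ (le_inf hgW ?_))
  exact (conjSub_mono hW'K).trans ((conjSub_normalizer hg).le.trans inf_le_right)

include hF hT hidx in
theorem IsSystemOf.isSaturated : F.IsSaturated p := fun P hP => by
  obtain ⟨g, hg, hgP, hgN⟩ := hF.exists_sylow_normalizer hT hidx hP
  exact ⟨conjSub g P, hF.isConj_iff.2 ⟨hP, hgP, g, hg, rfl⟩,
    hF.automized_receptive hT hgP hgN⟩

include hF hT hidx in
theorem IsSystemOf.fullyNormalized_iff (hP : P ≤ T) :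
    F.IsFullyNormalized P ↔
      ¬ p ∣ (normalizerIn T P).relIndex (H ⊓ Subgroup.normalizer (P : Set Ω)) := by
  haveI := hF.finite_base
  refine ⟨fun h => ?_, fun h => ?_⟩
  · obtain ⟨g, hg, hgP, hgN⟩ := hF.exists_sylow_normalizer hT hidx hP
    haveI : Finite (H ⊓ Subgroup.normalizer (P : Set Ω) : Subgroup Ω) := finite_of_le inf_le_left
    haveI : Finite (H ⊓ Subgroup.normalizer (conjSub g P : Set Ω) : Subgroup Ω) :=
      finite_of_le inf_le_left
    refine not_dvd_relIndex_of_card (hT.to_le inf_le_left) (normalizerIn_le_normalizer hF.1)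
      fun W hW hWK => ?_
    have h1 := card_le_of_sylow (hT.to_le inf_le_left) (normalizerIn_le_normalizer hF.1) hgN
      (hW.map _) (show conjSub g W ≤ _ from (conjSub_mono hWK).trans (conjSub_normalizer hg).le)
    rw [← card_conjSub g W]
    exact h1.trans (h.2 _ (hF.isConj_iff.2 ⟨hP, hgP, g, hg, rfl⟩))
  · obtain ⟨ha, hr⟩ := hF.automized_receptive hT hP h
    exact fullyNormalized_of_automized_receptive hT ha hr

include hF hT hidx in
theorem IsSystemOf.fullyCentralized_iff (hP : P ≤ T) :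
    F.IsFullyCentralized P ↔
      ¬ p ∣ (centralizerIn T P).relIndex (H ⊓ Subgroup.centralizer (P : Set Ω)) := by
  haveI := hF.finite_base
  haveI : Finite (H ⊓ Subgroup.centralizer (P : Set Ω) : Subgroup Ω) := finite_of_le inf_le_left
  refine ⟨fun h => ?_, fun h => ⟨hP, fun Q hQ => ?_⟩⟩
  · obtain ⟨g, hg, hgP, hgN⟩ := hF.exists_sylow_normalizer hT hidx hP
    have hgC := hF.not_dvd_centralizer_of_normalizer hT hgP hgN
    haveI : Finite (H ⊓ Subgroup.centralizer (conjSub g P : Set Ω) : Subgroup Ω) :=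
      finite_of_le inf_le_left
    refine not_dvd_relIndex_of_card (hT.to_le inf_le_left) (centralizerIn_le_centralizer hF.1)
      fun W hW hWK => ?_
    have h1 := card_le_of_sylow (hT.to_le inf_le_left) (centralizerIn_le_centralizer hF.1) hgC
      (hW.map _) (show conjSub g W ≤ _ from (conjSub_mono hWK).trans (conjSub_centralizer hg).le)
    rw [← card_conjSub g W]
    exact h1.trans (h.2 _ (hF.isConj_iff.2 ⟨hP, hgP, g, hg, rfl⟩))
  · obtain ⟨-, hQT, g, hg, rfl⟩ := hF.isConj_iff.1 hQ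
    rw [← card_conjSub g⁻¹ (centralizerIn T (conjSub g P))]
    refine card_le_of_sylow (hT.to_le inf_le_left) (centralizerIn_le_centralizer hF.1) h
      (IsPGroup.map (hT.to_le inf_le_left) _) ?_
    refine (conjSub_mono (centralizerIn_le_centralizer hF.1)).trans ?_
    rw [conjSub_centralizer (H.inv_mem hg), ← conjSub_mul, inv_mul_cancel, conjSub_one]

end System

end CfsgLib.Fusion
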