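import Cfsg.Agent.Lib.Fusion.SimpleGroupQuotient
import Cfsg.Agent.Lib.Classical.SLGen
import Cfsg.Agent.Lib.Solvable.Nilpotent
import Mathlib.LinearAlgebra.Matrix.CharP

/-!
The unitriangular subgroup of `SL_n(K)` in the characteristic, checked against the simplicity
criterion.
-/

set_option autoImplicit false
set_option linter.unusedVariables false
set_option linter.unusedSectionVars false

namespace CfsgLib.Fusion.SLUni

open Cfsg Subgroup Matrix

variable {K : Type*} [Field K] {n : ℕ}

local notation "SL" => Matrix.SpecialLinearGroup (Fin n) K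
local notation "tv" => Matrix.SpecialLinearGroup.transvection

/-- Upper unitriangular. -/
def IsUni (A : Matrix (Fin n) (Fin n) K) : Prop :=
  ∀ a b : Fin n, b ≤ a → A a b = if a = b then 1 else 0

theorem isUni_one : IsUni (1 : Matrix (Fin n) (Fin n) K) := fun a b _ => Matrix.one_apply

theorem mul_apply_diag {A B : Matrix (Fin n) (Fin n) K} (hA : ∀ a b, b < a → A a b = 0)
    (hB : ∀ a b, b < a → B a b = 0) (a b : Fin n) (h : b ≤ a) :
    (A * B) a b = if a = b then A a a * B a a else 0 := by
  rw [Matrix.mul_apply]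
  split_ifs with hab
  · subst hab
    refine Finset.sum_eq_single a (fun c _ hc => ?_) (fun h => absurd (Finset.mem_univ a) h)
    rcases lt_or_gt_of_ne hc with h1 | h1
    · rw [hA a c h1, zero_mul]
    · rw [hB c a h1, mul_zero]
  · refine Finset.sum_eq_zero fun c _ => ?_
    rcases lt_or_ge c a with h1 | h1
    · rw [hA a c h1, zero_mul]
    · rw [hB c b (lt_of_lt_of_le (lt_of_le_of_ne h (Ne.symm hab)) h1), mul_zero]

theorem IsUni.lower {A : Matrix (Fin n) (Fin n) K} (h : IsUni A) (a b : Fin n) (hba : b < a) :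
    A a b = 0 := by rw [h a b hba.le, if_neg hba.ne']

theorem IsUni.diag {A : Matrix (Fin n) (Fin n) K} (h : IsUni A) (a : Fin n) : A a a = 1 := by
  rw [h a a le_rfl, if_pos rfl]

theorem IsUni.mul {A B : Matrix (Fin n) (Fin n) K} (hA : IsUni A) (hB : IsUni B) :
    IsUni (A * B) := fun a b h => by
  rw [mul_apply_diag hA.lower hB.lower a b h, hA.diag, hB.diag, mul_one]

variable [Fintype K]

variable (K n) in
/-- The upper unitriangular subgroup. -/
def U : Subgroup SL where
  carrier := {A | IsUni A.1}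
  one_mem' := isUni_one
  mul_mem' := fun ha hb => IsUni.mul ha hb
  inv_mem' := fun {A} hA => by
    have h : A⁻¹ = A ^ (orderOf A - 1) := by
      refine inv_eq_of_mul_eq_one_left ?_
      rw [← pow_succ, Nat.sub_add_cancel (orderOf_pos A), pow_orderOf_eq_one]
    rw [Set.mem_ofPred_eq] at hA ⊢
    rw [h]
    induction orderOf A - 1 with
    | zero => exact isUni_one
    | succ m ih =>
      rw [pow_succ]
      exact IsUni.mul ih hA

theorem mem_U {A : SL} : A ∈ U K n ↔ IsUni A.1 := Iff.rfl

theorem tv_apply {i j : Fin n} (h : i ≠ j) (c : K) (a b : Fin n) :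
    (tv h c).1 a b = (if a = b then 1 else 0) + if i = a ∧ j = b then c else 0 := by
  rw [Matrix.SpecialLinearGroup.transvection_coe, Matrix.add_apply, Matrix.one_apply,
    Matrix.single]
  rfl

theorem tv_mem_U {i j : Fin n} (h : i < j) (c : K) : tv h.ne c ∈ U K n := fun a b hba => by
  rw [tv_apply, if_neg (show ¬(i = a ∧ j = b) from fun ⟨h1, h2⟩ => by subst h1 h2; omega),
    add_zero]

theorem tv_mul_apply {i j : Fin n} (h : i ≠ j) (c : K) (A : SL) (a b : Fin n) :
    (tv h c * A).1 a b = A.1 a b + if a = i then c * A.1 j b else 0 := by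
  rw [Matrix.SpecialLinearGroup.coe_mul, Matrix.SpecialLinearGroup.transvection_coe,
    Matrix.add_mul, Matrix.one_mul, Matrix.add_apply]
  split_ifs with ha
  · subst ha
    simp
  · simp [ha]

theorem mul_tv_apply {i j : Fin n} (h : i ≠ j) (c : K) (A : SL) (a b : Fin n) :
    (A * tv h c).1 a b = A.1 a b + if b = j then A.1 a i * c else 0 := by
  rw [Matrix.SpecialLinearGroup.coe_mul, Matrix.SpecialLinearGroup.transvection_coe,
    Matrix.mul_add, Matrix.mul_one, Matrix.add_apply]
  split_ifs with hb
  · subst hb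
    simp
  · simp [hb]

theorem sub_one_pow_apply {A : Matrix (Fin n) (Fin n) K} (hA : IsUni A) (m : ℕ) :
    ∀ a b : Fin n, (b : ℕ) < (a : ℕ) + m → ((A - 1) ^ m) a b = 0 := by
  induction m with
  | zero =>
    intro a b h
    rw [pow_zero, Matrix.one_apply, if_neg (Fin.ne_of_val_ne (by omega))]
  | succ m ih =>
    intro a b h
    rw [pow_succ, Matrix.mul_apply]
    refine Finset.sum_eq_zero fun c _ => ?_
    rcases lt_or_ge (c : ℕ) ((a : ℕ) + m) with h1 | h1
    · rw [ih a c h1, zero_mul]
    · have hbc : b ≤ c := Fin.le_def.2 (by omega)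
      rw [Matrix.sub_apply, hA c b hbc, Matrix.one_apply, sub_self, mul_zero]

variable {p : ℕ} [Fact p.Prime] [CharP K p]

theorem eq_one_of_pow {z : K} {k : ℕ} (h : z ^ p ^ k = 1) : z = 1 := by
  have h1 : (z - 1) ^ p ^ k = 0 := by rw [sub_pow_char_pow, h, one_pow, sub_self]
  exact sub_eq_zero.1 (eq_zero_of_pow_eq_zero h1)

theorem isPGroup_U (hn : 0 < n) : IsPGroup p (U K n) := fun A => by
  haveI : Nonempty (Fin n) := ⟨⟨0, hn⟩⟩
  refine ⟨n, Subtype.ext (Subtype.ext ?_)⟩
  have h1 : (A.1.1 - 1) ^ p ^ n = 0 := by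
    ext a b
    refine sub_one_pow_apply A.2 _ a b ?_
    have := Nat.lt_pow_self (n := n) (Fact.out : p.Prime).one_lt
    omega
  have h2 : A.1.1 ^ p ^ n = 1 := by
    rw [sub_pow_char_pow_of_commute _ _ (Commute.one_right _), one_pow, sub_eq_zero] at h1
    exact h1
  simpa using h2

theorem normalizer_upper {g : SL} (hg : g ∈ Subgroup.normalizer (U K n : Set SL)) :
    ∀ a b : Fin n, b < a → g.1 a b = 0 := by
  suffices h : ∀ m : ℕ, ∀ a b : Fin n, n ≤ (a : ℕ) + m → b < a → g.1 a b = 0 from
    fun a b => h n a b (by omega)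
  intro m
  induction m with
  | zero => intro a b h; omega
  | succ m ih =>
    intro a b h hba
    set u := tv hba.ne (1 : K)
    have hu : g * u * g⁻¹ ∈ U K n := (Subgroup.mem_normalizer_iff.1 hg u).1 (tv_mem_U hba 1)
    have he : (g * u).1 a a = (g * u * g⁻¹ * g).1 a a := by rw [inv_mul_cancel_right]
    rw [mul_tv_apply, if_pos rfl, mul_one, Matrix.SpecialLinearGroup.coe_mul, Matrix.mul_apply,
      Finset.sum_eq_single a] at he
    · rw [IsUni.diag hu, one_mul] at he
      exact left_eq_add.1 he.symm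
    · intro c _ hc
      rcases lt_or_gt_of_ne hc with h1 | h1
      · rw [IsUni.lower hu a c h1, zero_mul]
      · rw [ih c a (by omega) h1, mul_zero]
    · exact fun h => absurd (Finset.mem_univ a) h

theorem diag_ne_zero {g : SL} (hg : ∀ a b : Fin n, b < a → g.1 a b = 0) (a : Fin n) :
    g.1 a a ≠ 0 := by
  have h := g.2
  rw [Matrix.det_of_isUpperTriangular (fun a b h => hg a b h)] at h
  exact fun h0 => one_ne_zero (α := K) (h.symm.trans (Finset.prod_eq_zero (Finset.mem_univ a) h0))

theorem pElement_mem {g : SL} (hg : g ∈ Subgroup.normalizer (U K n : Set SL)) (k : ℕ)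
    (hk : g ^ p ^ k = 1) : g ∈ U K n := by
  have hup := normalizer_upper hg
  have hpow : ∀ m : ℕ, ∀ a b : Fin n, b ≤ a → (g ^ m).1 a b = if a = b then g.1 a a ^ m else 0 := by
    intro m
    induction m with
    | zero =>
      intro a b h
      simp [Matrix.one_apply]
    | succ m ih =>
      intro a b h
      rw [pow_succ g m, Matrix.SpecialLinearGroup.coe_mul, mul_apply_diag
        (fun x y hxy => by rw [ih x y hxy.le, if_neg hxy.ne']) hup a b h, ih a a le_rfl, if_pos rfl,
        pow_succ]
  intro a b h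
  rcases eq_or_ne a b with rfl | hab
  · rw [if_pos rfl]
    refine eq_one_of_pow (p := p) (k := k) ?_
    have := hpow (p ^ k) a a le_rfl
    rw [if_pos rfl, hk] at this
    simpa using this.symm
  · rw [if_neg hab, hup a b (lt_of_le_of_ne h hab.symm)]

theorem center_pFree (hn : 0 < n) {z : SL} (hz : z ∈ Subgroup.center SL) (k : ℕ)
    (hk : z ^ p ^ k = 1) : z = 1 := by
  obtain ⟨r, -, hr⟩ := Matrix.SpecialLinearGroup.mem_center_iff.1 hz
  have h1 : r ^ p ^ k = 1 := by
    have := congrArg (fun M : SL => M.1 ⟨0, hn⟩ ⟨0, hn⟩) hk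
    simp only [Matrix.SpecialLinearGroup.coe_pow, ← hr] at this
    rw [← map_pow] at this
    simpa using this
  exact Subtype.ext (by rw [← hr, eq_one_of_pow h1, map_one]; rfl)

/-! ### The torus inside products of `p`-elements -/

/-- The matrices of `U` with a fixed entry zero just above the diagonal. -/
def R {i j : Fin n} (h : (j : ℕ) = i + 1) : Subgroup SL where
  carrier := {A | A ∈ U K n ∧ A.1 i j = 0}
  one_mem' := ⟨one_mem _, Matrix.one_apply_ne (Fin.ne_of_val_ne (by omega))⟩
  mul_mem' := fun {A B} hA hB => ⟨mul_mem hA.1 hB.1, by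
    rw [Matrix.SpecialLinearGroup.coe_mul, Matrix.mul_apply]
    refine Finset.sum_eq_zero fun c _ => ?_
    rcases lt_trichotomy c i with h1 | h1 | h1
    · rw [IsUni.lower hA.1 i c h1, zero_mul]
    · rw [h1, hB.2, mul_zero]
    · rcases eq_or_lt_of_le (show j ≤ c from Fin.le_def.2 (by omega)) with h2 | h2
      · rw [← h2, hA.2, zero_mul]
      · rw [IsUni.lower hB.1 c j h2, mul_zero]⟩
  inv_mem' := fun {A} hA => ⟨inv_mem hA.1, by
    have hm : (A * A⁻¹).1 i j = 0 := by
      rw [mul_inv_cancel]
      exact Matrix.one_apply_ne (Fin.ne_of_val_ne (by omega))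
    rw [Matrix.SpecialLinearGroup.coe_mul, Matrix.mul_apply, Finset.sum_eq_single i] at hm
    · rwa [IsUni.diag hA.1, one_mul] at hm
    · intro c _ hc
      rcases lt_or_gt_of_ne hc with h1 | h1
      · rw [IsUni.lower hA.1 i c h1, zero_mul]
      · rcases eq_or_lt_of_le (show j ≤ c from Fin.le_def.2 (by omega)) with h2 | h2
        · rw [← h2, hA.2, zero_mul]
        · rw [IsUni.lower (show IsUni (A⁻¹).1 from inv_mem hA.1) c j h2, mul_zero]
    · exact fun h => absurd (Finset.mem_univ i) h⟩

theorem R_le {i j : Fin n} (h : (j : ℕ) = i + 1) : R (K := K) h ≤ U K n := fun A hA => hA.1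

theorem U_le_normalizer_R {i j : Fin n} (h : (j : ℕ) = i + 1) :
    U K n ≤ Subgroup.normalizer (R (K := K) h : Set SL) := by
  intro u hu
  have hadd : ∀ {A B : SL}, A ∈ U K n → B ∈ U K n → (A * B).1 i j = A.1 i j + B.1 i j := by
    intro A B hA hB
    have hij : i ≠ j := Fin.ne_of_val_ne (by omega)
    rw [Matrix.SpecialLinearGroup.coe_mul, Matrix.mul_apply, Fintype.sum_eq_add i j hij]
    · rw [IsUni.diag hA, IsUni.diag hB, one_mul, mul_one, add_comm]
    · rintro c ⟨h1, h2⟩
      rcases lt_or_gt_of_ne h1 with h3 | h3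
      · rw [IsUni.lower hA i c h3, zero_mul]
      · have h4 : j < c := by
          have := Fin.val_ne_of_ne h2
          exact Fin.lt_def.2 (by omega)
        rw [IsUni.lower hB c j h4, mul_zero]
  have hz : ∀ v ∈ U K n, v.1 i j + (v⁻¹).1 i j = 0 := fun v hv => by
    rw [← hadd hv (inv_mem hv), mul_inv_cancel]
    exact Matrix.one_apply_ne (Fin.ne_of_val_ne (by omega))
  have key : ∀ {v A : SL}, v ∈ U K n → A ∈ R (K := K) h → v * A * v⁻¹ ∈ R (K := K) h := by
    intro v A hv hA
    refine ⟨mul_mem (mul_mem hv hA.1) (inv_mem hv), ?_⟩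
    rw [hadd (mul_mem hv hA.1) (inv_mem hv), hadd hv hA.1, hA.2, add_zero, hz v hv]
  intro m
  refine ⟨fun hm => key hu hm, fun hm => ?_⟩
  have := key (inv_mem hu) hm
  simpa [mul_assoc] using this

theorem tv_lower_mem_normalizer_R {i j : Fin n} (h : (j : ℕ) = i + 1) (c : K) :
    tv (Fin.ne_of_val_ne (by omega) : j ≠ i) c ∈ Subgroup.normalizer (R (K := K) h : Set SL) := by
  have hji : j ≠ i := Fin.ne_of_val_ne (by omega)
  have key : ∀ (c : K) {A : SL}, A ∈ R (K := K) h → tv hji c * A * (tv hji c)⁻¹ ∈ R (K := K) h := by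
    intro c A hA
    have hE : ∀ a b : Fin n, (tv hji c * A * (tv hji c)⁻¹).1 a b =
        A.1 a b + (if a = j then c * A.1 i b else 0) +
          if b = i then (A.1 a j + if a = j then c * A.1 i j else 0) * (-c) else 0 := by
      intro a b
      rw [Matrix.SpecialLinearGroup.transvection_inv, mul_tv_apply, tv_mul_apply, tv_mul_apply]
    refine ⟨fun a b hba => ?_, ?_⟩
    · rw [hE, hA.2, mul_zero, ite_self, add_zero, hA.1 a b hba]
      by_cases ha : a = j
      · subst ha
        rw [if_pos rfl]
        by_cases hb : b = i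
        · subst hb
          rw [if_pos rfl, IsUni.diag hA.1, IsUni.diag hA.1]
          ring
        · rw [if_neg hb]
          rcases lt_or_gt_of_ne hb with h1 | h1
          · rw [IsUni.lower hA.1 i b h1]
            ring
          · obtain rfl : b = a := Fin.ext (by
              have := Fin.lt_def.1 h1
              have := Fin.le_def.1 hba
              omega)
            rw [hA.2]
            ring
      · rw [if_neg ha]
        by_cases hb : b = i
        · subst hb
          rw [if_pos rfl]
          rcases eq_or_ne a b with rfl | h1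
          · rw [hA.2]
            ring
          · have h2 : j < a := Fin.lt_def.2 (by
              have := Fin.le_def.1 hba
              have := Fin.val_ne_of_ne h1
              have := Fin.val_ne_of_ne ha
              omega)
            rw [IsUni.lower hA.1 a j h2]
            ring
        · rw [if_neg hb]
          ring
    · show (tv hji c * A * (tv hji c)⁻¹).1 i j = 0
      rw [hE, if_neg (Ne.symm hji), if_neg hji, add_zero, add_zero, hA.2]
  intro m
  refine ⟨fun hm => key c hm, fun hm => ?_⟩
  have h1 := key (-c) hm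
  rw [← Matrix.SpecialLinearGroup.transvection_inv hji c, inv_inv] at h1
  simpa [mul_assoc] using h1

theorem centralizer_R_le (hn : 3 ≤ n) {i j : Fin n} (h : (j : ℕ) = i + 1) :
    U K n ⊓ Subgroup.centralizer (R (K := K) h : Set SL) ≤ R (K := K) h := by
  rintro A ⟨hAU, hAc⟩
  refine ⟨hAU, ?_⟩
  have hR : ∀ {k l : Fin n} (hkl : k < l), ¬(k = i ∧ l = j) → tv hkl.ne (1 : K) ∈ R (K := K) h :=
    fun {k l} hkl hne => ⟨tv_mem_U hkl 1, by
      rw [tv_apply, if_neg (Fin.ne_of_val_ne (by omega)), if_neg hne, add_zero]⟩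
  rcases lt_or_ge ((j : ℕ) + 1) n with hj | hj
  · have hkl : j < (⟨n - 1, by omega⟩ : Fin n) := Fin.lt_def.2 (by simp; omega)
    have he := congrArg (fun M : SL => M.1 i ⟨n - 1, by omega⟩)
      (hAc _ (hR hkl fun h' => by rw [Fin.ext_iff] at h'; omega))
    simp only [tv_mul_apply, mul_tv_apply] at he
    rw [if_neg (Fin.ne_of_val_ne (by omega)), add_zero] at he
    simpa using he
  · have hkl : (⟨0, by omega⟩ : Fin n) < i := Fin.lt_def.2 (by simp; omega)
    have he := congrArg (fun M : SL => M.1 ⟨0, by omega⟩ j)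
      (hAc _ (hR hkl fun h' => by simp only [Fin.ext_iff] at h'; omega))
    simp only [tv_mul_apply, mul_tv_apply] at he
    simpa [(Fin.ne_of_val_ne (by omega) : j ≠ i)] using he

theorem tv_orderOf {i j : Fin n} (h : i ≠ j) (c : K) : ∃ k, orderOf (tv h c) = p ^ k := by
  have hm : ∀ m : ℕ, (tv h c) ^ m = tv h ((m : K) * c) := by
    intro m
    induction m with
    | zero => simp [Matrix.SpecialLinearGroup.transvection_coeff_zero]
    | succ m ih =>
      rw [pow_succ, ih, ← Matrix.SpecialLinearGroup.transvection_add]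
      congr 1
      push_cast
      ring
  have hp : (tv h c) ^ p = 1 := by
    rw [hm, CharP.cast_eq_zero, zero_mul, Matrix.SpecialLinearGroup.transvection_coeff_zero]
  obtain ⟨k, -, hk⟩ := (Nat.dvd_prime_pow (Fact.out : p.Prime) (m := 1) (i := orderOf (tv h c))).1
    (by rw [pow_one]; exact orderOf_dvd_of_pow_eq_one hp)
  exact ⟨k, hk⟩

theorem diag2n_mem_genSet (hn : 3 ≤ n) {i j : Fin n} (h : (j : ℕ) = i + 1) (a : K) (ha : a ≠ 0)
    (hN : Matrix.SpecialLinearGroup.diag2n (Fin.ne_of_val_ne (by omega) : i ≠ j) a ha ∈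
      Subgroup.normalizer (U K n : Set SL)) :
    Matrix.SpecialLinearGroup.diag2n (Fin.ne_of_val_ne (by omega) : i ≠ j) a ha ∈
      normalGenSet p (U K n) := by
  have hij : i ≠ j := Fin.ne_of_val_ne (by omega)
  have hlt : i < j := Fin.lt_def.2 (by omega)
  refine ⟨hN, R h, R_le h, U_le_normalizer_R h, centralizer_R_le hn h, ?_⟩
  set C := Subgroup.closure {g : SL | g ∈ Subgroup.normalizer (R (K := K) h : Set SL) ∧
    ∃ k, orderOf g = p ^ k}
  have hup : ∀ c : K, tv hij c ∈ C := fun c =>
    Subgroup.subset_closure ⟨U_le_normalizer_R h (tv_mem_U hlt c), tv_orderOf hij c⟩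
  have hlo : ∀ c : K, tv hij.symm c ∈ C := fun c =>
    Subgroup.subset_closure ⟨tv_lower_mem_normalizer_R h c, tv_orderOf hij.symm c⟩
  rw [CfsgLib.Classical.diag2n_eq_transvection_prod hij a ha]
  exact mul_mem (mul_mem (mul_mem (mul_mem (mul_mem (hup _) (hlo _)) (hup _)) (hup _)) (hlo _))
    (hup _)

theorem diagonal_mem_normalizer {D : SL} {d : Fin n → K} (hD : D.1 = Matrix.diagonal d) :
    D ∈ Subgroup.normalizer (U K n : Set SL) := by
  have key : ∀ {E : SL} {e : Fin n → K}, E.1 = Matrix.diagonal e →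
      ∀ {A : SL}, A ∈ U K n → E * A * E⁻¹ ∈ U K n := by
    intro E e hE A hA a b hba
    have hl : (E * A).1 = (E * A * E⁻¹).1 * Matrix.diagonal e := by
      rw [← hE, ← Matrix.SpecialLinearGroup.coe_mul, inv_mul_cancel_right]
    have h1 := congrFun (congrFun hl a) b
    rw [Matrix.SpecialLinearGroup.coe_mul, hE, Matrix.diagonal_mul, Matrix.mul_diagonal,
      hA a b hba] at h1
    have he : ∀ x, e x ≠ 0 := fun x h0 => by
      have hdet := E.2
      rw [hE, Matrix.det_diagonal, Finset.prod_eq_zero (Finset.mem_univ x) h0] at hdet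
      exact zero_ne_one hdet
    rcases eq_or_ne a b with rfl | hab
    · rw [if_pos rfl] at h1 ⊢
      exact (mul_right_cancel₀ (he a) (show (E * A * E⁻¹).1 a a * e a = 1 * e a by
        rw [one_mul, ← h1, mul_one]))
    · rw [if_neg hab] at h1 ⊢
      rw [mul_zero] at h1
      exact (mul_eq_zero.1 h1.symm).resolve_right (he b)
  have hinv : (D⁻¹ : SL).1 = Matrix.diagonal (fun x => (d x)⁻¹) := by
    refine left_inv_eq_right_inv (a := D.1) ?_ ?_
    · rw [← Matrix.SpecialLinearGroup.coe_mul, inv_mul_cancel, Matrix.SpecialLinearGroup.coe_one]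
    · rw [hD, Matrix.diagonal_mul_diagonal, ← Matrix.diagonal_one]
      congr 1
      funext x
      refine mul_inv_cancel₀ fun h0 => ?_
      have hdet := D.2
      rw [hD, Matrix.det_diagonal, Finset.prod_eq_zero (Finset.mem_univ x) h0] at hdet
      exact zero_ne_one hdet
  intro m
  refine ⟨fun hm => key hD hm, fun hm => ?_⟩
  have h1 := key hinv hm
  simpa [mul_assoc] using h1

theorem normalizerGenerated (hn : 3 ≤ n) : NormalizerGenerated p (U K n) := by
  intro g hg
  set H := Subgroup.closure ((Subgroup.centralizer (U K n : Set SL) : Set SL) ∪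
    (U K n : Set SL) ∪ normalGenSet p (U K n))
  have hup := normalizer_upper hg
  have key : ∀ (m : ℕ) (D : SL) (d : Fin n → K), D.1 = Matrix.diagonal d →
      (∀ x : Fin n, (x : ℕ) + m + 1 < n → d x = 1) → D ∈ H := by
    intro m
    induction m with
    | zero =>
      intro D d hD h1
      have hdet := D.2
      rw [hD, Matrix.det_diagonal, Finset.prod_eq_single (⟨n - 1, by omega⟩ : Fin n)
        (fun b _ hb => h1 b (by have := Fin.val_ne_of_ne hb; simp at this; omega))
        (fun h => absurd (Finset.mem_univ _) h)] at hdet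
      have : D = 1 := Subtype.ext (by
        rw [hD, Matrix.SpecialLinearGroup.coe_one, ← Matrix.diagonal_one]
        congr 1
        funext x
        rcases eq_or_ne x ⟨n - 1, by omega⟩ with rfl | hx
        · exact hdet
        · exact h1 x (by have := Fin.val_ne_of_ne hx; simp at this; omega))
      rw [this]
      exact one_mem _
    | succ m ih =>
      intro D d hD h1
      by_cases hm : m + 2 ≤ n
      · set i : Fin n := ⟨n - (m + 2), by omega⟩ with hi
        set j : Fin n := ⟨n - (m + 1), by omega⟩ with hj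
        have hij' : (j : ℕ) = i + 1 := by simp [hi, hj]; omega
        have hij : i ≠ j := Fin.ne_of_val_ne (by omega)
        have hdi : d i ≠ 0 := fun h0 => by
          have hdet := D.2
          rw [hD, Matrix.det_diagonal, Finset.prod_eq_zero (Finset.mem_univ i) h0] at hdet
          exact zero_ne_one hdet
        set E := Matrix.SpecialLinearGroup.diag2n hij (d i) hdi
        set E' := Matrix.SpecialLinearGroup.diag2n hij (d i)⁻¹ (inv_ne_zero hdi)
        have hE : E ∈ H := Subgroup.subset_closure (Or.inr (diag2n_mem_genSet hn hij' _ hdi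
          (diagonal_mem_normalizer (Matrix.SpecialLinearGroup.diag2n_coe ..))))
        have hEE : E * E' = 1 := Subtype.ext (by
          rw [Matrix.SpecialLinearGroup.coe_mul, Matrix.SpecialLinearGroup.diag2n_coe,
            Matrix.SpecialLinearGroup.diag2n_coe, Matrix.diagonal_mul_diagonal,
            Matrix.SpecialLinearGroup.coe_one, ← Matrix.diagonal_one]
          congr 1
          funext x
          split_ifs <;> field_simp)
        have hres : E' * D ∈ H := by
          refine ih _ (fun x => (if x = i then (d i)⁻¹ else if x = j then (d i)⁻¹⁻¹ else 1) * d x)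
            ?_ fun x hx => ?_
          · rw [Matrix.SpecialLinearGroup.coe_mul, Matrix.SpecialLinearGroup.diag2n_coe, hD,
              Matrix.diagonal_mul_diagonal]
          · rcases eq_or_ne x i with rfl | hxi
            · rw [if_pos rfl, inv_mul_cancel₀ hdi]
            · have h2 := Fin.val_ne_of_ne hxi
              rw [if_neg hxi, if_neg (Fin.ne_of_val_ne (by simp [hj]; omega)), one_mul]
              exact h1 x (by simp [hi] at h2; omega)
        have h3 := mul_mem hE hres
        rwa [← mul_assoc, hEE, one_mul] at h3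
      · exact ih D d hD fun x hx => absurd hx (by omega)
  set d : Fin n → K := fun a => g.1 a a
  have hdet : (Matrix.diagonal d).det = 1 := by
    have h := g.2
    rw [Matrix.det_of_isUpperTriangular (fun a b h => hup a b h)] at h
    rwa [Matrix.det_diagonal]
  set D : SL := ⟨Matrix.diagonal d, hdet⟩
  have hD : D ∈ H := key n D d rfl fun x hx => by omega
  set B : SL := D⁻¹ * g with hB
  have hBN : B ∈ U K n := by
    intro a b hba
    have he : (D * B).1 a b = g.1 a b := by rw [hB, mul_inv_cancel_left]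
    rw [Matrix.SpecialLinearGroup.coe_mul, Matrix.diagonal_mul] at he
    rcases eq_or_ne a b with rfl | hab
    · rw [if_pos rfl]
      exact mul_left_cancel₀ (diag_ne_zero hup a) (he.trans (mul_one _).symm)
    · rw [hup a b (lt_of_le_of_ne hba hab.symm)] at he
      rw [if_neg hab]
      exact (mul_eq_zero.1 he).resolve_left (diag_ne_zero hup a)
  have h4 := mul_mem hD (Subgroup.subset_closure (Or.inl (Or.inr hBN)) : B ∈ H)
  rwa [hB, mul_inv_cancel_left] at h4

/-! ### Strongly closed subgroups -/

theorem exists_conj_tv (hn : 3 ≤ n) {c c' : K} (hc : c ≠ 0) (hc' : c' ≠ 0) {k l : Fin n}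
    (hkl : k ≠ l) :
    ∃ g : SL, g * tv (Fin.ne_of_val_ne (by simp; omega) :
      (⟨0, by omega⟩ : Fin n) ≠ ⟨n - 1, by omega⟩) c * g⁻¹ = tv hkl c' := by
  set z : Fin n := ⟨0, by omega⟩ with hz
  set L : Fin n := ⟨n - 1, by omega⟩ with hL
  set t : Fin n := ⟨1, by omega⟩ with ht
  have hzL : z ≠ L := Fin.ne_of_val_ne (by simp [hz, hL]; omega)
  have htz : t ≠ z := Fin.ne_of_val_ne (by simp [hz, ht])
  have htL : t ≠ L := Fin.ne_of_val_ne (by simp [ht, hL]; omega)
  obtain ⟨σ, hσz, hσL⟩ : ∃ σ : Equiv.Perm (Fin n), σ z = k ∧ σ L = l := by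
    refine ⟨Equiv.swap (Equiv.swap z k L) l * Equiv.swap z k, ?_, ?_⟩
    · have h1 : k ≠ Equiv.swap z k L := fun h => hzL ((Equiv.swap z k).injective
        (by rw [Equiv.swap_apply_left, ← h]))
      rw [Equiv.Perm.mul_apply, Equiv.swap_apply_left, Equiv.swap_apply_of_ne_of_ne h1 hkl]
    · rw [Equiv.Perm.mul_apply, Equiv.swap_apply_left]
  set s : K := ((Equiv.Perm.sign σ.symm : ℤ) : K) with hs
  have hss : s * s = 1 := by
    rw [hs, ← Int.cast_mul, ← Units.val_mul, Int.units_mul_self, Units.val_one, Int.cast_one]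
  set d : Fin n → K := Function.update (Function.update 1 z (c' / c)) t (s * (c / c')) with hd
  have hdet : ((Matrix.diagonal d).submatrix σ.symm id).det = 1 := by
    rw [Matrix.det_permute, Matrix.det_diagonal]
    have hp : ∏ x, d x = s * (c / c') * (c' / c) := by
      rw [Fintype.prod_eq_mul t z htz]
      · simp [hd, htz, htz.symm]
      · rintro x ⟨h1, h2⟩
        simp [hd, h1, h2]
    rw [hp, ← hs]
    field_simp
    linear_combination hss
  set M : SL := ⟨_, hdet⟩ with hM
  have hMe : ∀ a b : Fin n, M.1 a b = if a = σ b then d b else 0 := by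
    intro a b
    show (Matrix.diagonal d) (σ.symm a) b = _
    rw [Matrix.diagonal_apply]
    by_cases h : a = σ b
    · subst h
      simp
    · rw [if_neg h, if_neg fun h' => h (by rw [← h', Equiv.apply_symm_apply])]
  refine ⟨M, mul_inv_eq_iff_eq_mul.2 (Subtype.ext (Matrix.ext fun a b => ?_))⟩
  rw [mul_tv_apply, tv_mul_apply, hMe, hMe, hMe, hσz]
  congr 1
  by_cases hb : b = L
  · subst hb
    rw [if_pos rfl, hσL, if_pos rfl]
    by_cases ha : a = k
    · rw [if_pos ha, if_pos ha]
      have e1 : d z = c' / c := by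
        simp only [hd]
        rw [Function.update_of_ne htz.symm, Function.update_self]
      have e2 : d L = 1 := by
        simp only [hd]
        rw [Function.update_of_ne htL.symm, Function.update_of_ne hzL.symm, Pi.one_apply]
      rw [e1, e2, mul_one]
      field_simp
    · rw [if_neg ha, if_neg ha, zero_mul]
  · rw [if_neg hb, if_neg (show ¬ l = σ b from fun h => hb (σ.injective (h.symm.trans hσL.symm))),
      mul_zero, ite_self]

theorem U_le_of_tv (T : Subgroup SL) (hT : ∀ (k l : Fin n) (h : k < l) (c : K), tv h.ne c ∈ T) :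
    U K n ≤ T := by
  classical
  let S : SL → Finset (Fin n × Fin n) := fun A =>
    Finset.univ.filter fun q => q.1 < q.2 ∧ A.1 q.1 q.2 ≠ 0
  suffices h : ∀ m : ℕ, ∀ A ∈ U K n, (S A).card = m → A ∈ T from fun A hA => h _ A hA rfl
  intro m
  induction m using Nat.strong_induction_on with
  | _ m ih =>
    intro A hA hm
    rcases (S A).eq_empty_or_nonempty with he | hne
    · suffices A = 1 by rw [this]; exact one_mem _
      ext a b
      rcases le_or_gt b a with h | h
      · exact (hA a b h).trans Matrix.one_apply.symm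
      · rw [Matrix.SpecialLinearGroup.coe_one, Matrix.one_apply_ne h.ne]
        by_contra h0
        have : (a, b) ∈ S A := Finset.mem_filter.2 ⟨Finset.mem_univ _, h, h0⟩
        rw [he] at this
        simp at this
    · obtain ⟨⟨k, l⟩, hq, hmax⟩ := Finset.exists_max_image (S A) Prod.fst hne
      obtain ⟨hkl, hv⟩ : k < l ∧ A.1 k l ≠ 0 := (Finset.mem_filter.1 hq).2
      have hrow : ∀ b, A.1 l b = if l = b then 1 else 0 := by
        intro b
        rcases le_or_gt b l with h | h
        · exact hA l b h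
        · rw [if_neg h.ne]
          by_contra h0
          exact absurd (hmax (l, b) (Finset.mem_filter.2 ⟨Finset.mem_univ _, h, h0⟩))
            (not_le.2 hkl)
      set B := tv hkl.ne (-A.1 k l) * A with hB
      have hval : ∀ a b, B.1 a b = if a = k ∧ b = l then 0 else A.1 a b := by
        intro a b
        rw [hB, tv_mul_apply, hrow]
        by_cases ha : a = k
        · subst ha
          by_cases hb : b = l
          · subst hb
            simp
          · simp [hb, Ne.symm hb]
        · simp [ha]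
      have hsub : S B ⊂ S A := by
        refine Finset.ssubset_iff_of_subset (fun q hq' => ?_) |>.2 ⟨(k, l), hq, fun h => ?_⟩
        · obtain ⟨h1, h2⟩ := (Finset.mem_filter.1 hq').2
          refine Finset.mem_filter.2 ⟨Finset.mem_univ _, h1, ?_⟩
          rw [hval] at h2
          split_ifs at h2 with h3
          · exact absurd rfl h2
          · exact h2
        · exact (Finset.mem_filter.1 h).2.2 (by rw [hval, if_pos ⟨rfl, rfl⟩])
      have hBT : B ∈ T :=
        ih _ (hm ▸ Finset.card_lt_card hsub) B (mul_mem (tv_mem_U hkl _) hA) rfl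
      have h5 := mul_mem (inv_mem (hT k l hkl (-A.1 k l))) hBT
      rwa [hB, inv_mul_cancel_left] at h5

theorem noStronglyClosed (p : ℕ) [Fact p.Prime] [CharP K p] (hn : 3 ≤ n) :
    NoStronglyClosed (U K n) := by
  intro T hT hTc
  refine or_iff_not_imp_left.2 fun hT0 => le_antisymm hT ?_
  haveI : Group.IsNilpotent (U K n) := (isPGroup_U (p := p) (by omega)).isNilpotent
  haveI : (T.subgroupOf (U K n)).Normal := ⟨fun x hx g =>
    hTc x.1 hx g.1 (mul_mem (mul_mem g.2 x.2) (inv_mem g.2))⟩
  have hne := CfsgLib.Solvable.normal_inf_center_ne_bot (T.subgroupOf (U K n)) (fun h => hT0 (by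
    rw [Subgroup.subgroupOf_eq_bot] at h
    exact h.eq_bot_of_le hT))
  obtain ⟨x, hx, hx1⟩ := ((Subgroup.ne_bot_iff_exists_ne_one).1 hne : _)|> fun ⟨y, hy⟩ =>
    (⟨y.1, y.2, fun h => hy (Subtype.ext h)⟩ : ∃ x, x ∈ T.subgroupOf (U K n) ⊓ center _ ∧ x ≠ 1)
  set A := x.1
  have hA : IsUni A.1 := x.2
  have hcomm : ∀ (k l : Fin n) (hkl : k < l) (a b : Fin n),
      (if b = l then A.1 a k else 0) = if a = k then A.1 l b else 0 := by
    intro k l hkl a b
    have h1 : A * tv hkl.ne (1 : K) = tv hkl.ne 1 * A :=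
      (congrArg Subtype.val (Subgroup.mem_center_iff.1 hx.2 ⟨_, tv_mem_U hkl (1 : K)⟩)).symm
    have h2 := congrArg (fun M : SL => M.1 a b) h1
    simp only [tv_mul_apply, mul_tv_apply, mul_one, one_mul] at h2
    exact add_left_cancel h2
  set z : Fin n := ⟨0, by omega⟩ with hz
  set L : Fin n := ⟨n - 1, by omega⟩ with hL
  have hzL : z ≠ L := Fin.ne_of_val_ne (by simp [hz, hL]; omega)
  have hoff : ∀ a b : Fin n, a < b → ¬(a = z ∧ b = L) → A.1 a b = 0 := by
    intro a b hab hne
    by_cases hb : b = L
    · subst hb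
      have haz : a ≠ z := fun h => hne ⟨h, rfl⟩
      have hza : z < a := Fin.lt_def.2 (by
        have := Fin.val_ne_of_ne haz
        simp [hz] at this ⊢
        omega)
      have h1 := hcomm z a hza z L
      rw [if_neg hab.ne', if_pos rfl] at h1
      exact h1.symm
    · have hbL : b < L := Fin.lt_def.2 (by
        have := Fin.val_ne_of_ne hb
        simp [hL] at this ⊢
        omega)
      have h1 := hcomm b L hbL a L
      rwa [if_pos rfl, if_neg hab.ne] at h1
  have hA' : A = tv hzL (A.1 z L) := by
    ext a b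
    rw [tv_apply]
    rcases le_or_gt b a with h | h
    · rw [hA a b h, if_neg (show ¬(z = a ∧ L = b) from fun ⟨h1, h2⟩ => by
        subst h1 h2
        simp [hz, hL, Fin.le_def] at h
        omega), add_zero]
    · rw [if_neg h.ne, zero_add]
      split_ifs with h1
      · rw [h1.1, h1.2]
      · exact hoff a b h fun h2 => h1 ⟨h2.1.symm, h2.2.symm⟩
  have hc : A.1 z L ≠ 0 := fun h0 => hx1 (Subtype.ext (by
    show A = 1
    rw [hA', h0, Matrix.SpecialLinearGroup.transvection_coeff_zero]))
  refine U_le_of_tv T fun k l hkl c' => ?_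
  rcases eq_or_ne c' 0 with rfl | hc'
  · rw [Matrix.SpecialLinearGroup.transvection_coeff_zero]
    exact one_mem _
  obtain ⟨g, hg⟩ := exists_conj_tv hn hc hc' hkl.ne
  have hg' : g * A * g⁻¹ = tv hkl.ne c' := by rw [hA']; exact hg
  rw [← hg']
  exact hTc A hx.1 g (hg' ▸ tv_mem_U hkl c')

theorem U_ne_bot (hn : 2 ≤ n) : U K n ≠ ⊥ := fun h => by
  have hlt : (⟨0, by omega⟩ : Fin n) < ⟨1, by omega⟩ := Fin.lt_def.2 Nat.zero_lt_one
  have h1 : tv hlt.ne (1 : K) = 1 := (Subgroup.eq_bot_iff_forall _).1 h _ (tv_mem_U hlt 1)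
  have h2 := congrArg (fun M : SL => M.1 ⟨0, by omega⟩ ⟨1, by omega⟩) h1
  simp [tv_apply, Fin.ext_iff] at h2

variable (p) in
/-- The `p`-fusion system of `PSL_n(K)`, `n ≥ 3`, in characteristic `p` is simple. -/
theorem isSimple_psl (hn : 3 ≤ n)
    (S : Sylow p (Matrix.ProjectiveSpecialLinearGroup (Fin n) K)) :
    (groupFusionSystem (S : Subgroup (Matrix.ProjectiveSpecialLinearGroup (Fin n) K))).IsSimple p :=
  group_isSimple_quotient (Subgroup.center SL) le_rfl
    (fun z hz k hk => center_pFree (by omega) hz k hk) (U K n) (isPGroup_U (by omega))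
    (not_dvd_index_of_pElements (isPGroup_U (by omega)) fun g hg k hk => pElement_mem hg k hk)
    (U_ne_bot (by omega)) (noStronglyClosed p hn) (normalizerGenerated hn) S

end CfsgLib.Fusion.SLUni
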