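import Cfsg.Agent.Lib.Fusion.GroupSystem

/-!
`groupFusionSystem` on a Sylow subgroup: the specializations of `GroupSystem`.
-/

set_option autoImplicit false
set_option linter.style.haveILetI false
set_option linter.unusedSectionVars false

namespace CfsgLib.Fusion

open Cfsg Cfsg.FusionSystem Subgroup

variable {G : Type*} [Group G] [Finite G] {p : ℕ} [Fact p.Prime] (S : Sylow p G) {P : Subgroup G}

theorem not_dvd_relIndex_top : ¬ p ∣ (S : Subgroup G).relIndex ⊤ := by
  rw [Subgroup.relIndex_top_right]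
  exact S.not_dvd_index

theorem group_isSaturated : (groupFusionSystem (S : Subgroup G)).IsSaturated p :=
  (isSystemOf_group _).isSaturated S.isPGroup' (not_dvd_relIndex_top S)

theorem exists_sylow_iff {A K : Subgroup G} (hA : IsPGroup p A) (hAK : A ≤ K) :
    (∃ W : Sylow p K, (W : Subgroup K) = A.subgroupOf K) ↔ ¬ p ∣ A.relIndex K := by
  refine ⟨?_, exists_sylow_of hA hAK⟩
  rintro ⟨W, hW⟩
  rw [Subgroup.relIndex, ← hW]
  exact W.not_dvd_index

theorem isPGroup_normalizerIn : IsPGroup p (normalizerIn (S : Subgroup G) P) :=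
  S.isPGroup'.to_le inf_le_left

theorem isPGroup_centralizerIn : IsPGroup p (centralizerIn (S : Subgroup G) P) :=
  S.isPGroup'.to_le inf_le_left

theorem group_fullyNormalized_iff (hP : P ≤ S) :
    (groupFusionSystem (S : Subgroup G)).IsFullyNormalized P ↔
      ∃ W : Sylow p ↥(Subgroup.normalizer (P : Set G)),
        (W : Subgroup ↥(Subgroup.normalizer (P : Set G))) =
          (normalizerIn (S : Subgroup G) P).subgroupOf (Subgroup.normalizer (P : Set G)) := by
  rw [exists_sylow_iff (isPGroup_normalizerIn S) inf_le_right,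
    (isSystemOf_group _).fullyNormalized_iff S.isPGroup' (not_dvd_relIndex_top S) hP, top_inf_eq]

theorem group_fullyCentralized_iff (hP : P ≤ S) :
    (groupFusionSystem (S : Subgroup G)).IsFullyCentralized P ↔
      ∃ W : Sylow p ↥(Subgroup.centralizer (P : Set G)),
        (W : Subgroup ↥(Subgroup.centralizer (P : Set G))) =
          (centralizerIn (S : Subgroup G) P).subgroupOf (Subgroup.centralizer (P : Set G)) := by
  rw [exists_sylow_iff (isPGroup_centralizerIn S) inf_le_right,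
    (isSystemOf_group _).fullyCentralized_iff S.isPGroup' (not_dvd_relIndex_top S) hP, top_inf_eq]

theorem group_autGroup_eq (hP : P ≤ S) :
    (groupFusionSystem (S : Subgroup G)).autGroup P = autInducedBy ⊤ P :=
  (isSystemOf_group _).autGroup_eq hP

theorem group_isConj_iff {Q : Subgroup G} :
    (groupFusionSystem (S : Subgroup G)).IsConj P Q ↔
      P ≤ S ∧ Q ≤ S ∧ ∃ g : G, conjSub g P = Q := by
  rw [(isSystemOf_group _).isConj_iff]
  simp

theorem group_isNormal (R : Subgroup G) [R.Normal] (hR : IsPGroup p R) :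
    (groupFusionSystem (S : Subgroup G)).IsNormal R := by
  have hRS : R ≤ S := hR.le_sylow_of_normal S
  refine ⟨hRS, fun P φ hφ => ?_⟩
  obtain ⟨hP, hφS, g, hg⟩ := hφ
  have hle : conjSub g (P ⊔ R) ≤ S := by
    rw [conjSub, Subgroup.map_sup, sup_le_iff]
    refine ⟨?_, ?_⟩
    · rintro _ ⟨x, hx, rfl⟩
      show g * x * g⁻¹ ∈ (S : Subgroup G)
      have := hφS ⟨x, hx⟩
      rwa [hg] at this
    · rintro _ ⟨x, hx, rfl⟩
      exact hRS (Subgroup.Normal.conj_mem inferInstance x hx g)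
  refine ⟨conjHom (P ⊔ R) g, ⟨sup_le hP hRS, fun x => hle (conj_mem_conjSub x.2), g, fun x => rfl⟩,
    fun x => (hg x).symm, ?_⟩
  ext y
  constructor
  · rintro ⟨x, hx, rfl⟩
    exact Subgroup.Normal.conj_mem inferInstance (x : G) hx g
  · intro hy
    refine ⟨⟨g⁻¹ * y * g, Subgroup.mem_sup_right ?_⟩, ?_, ?_⟩
    · simpa using Subgroup.Normal.conj_mem (inferInstance : R.Normal) y hy g⁻¹
    · show g⁻¹ * y * g ∈ R
      simpa using Subgroup.Normal.conj_mem (inferInstance : R.Normal) y hy g⁻¹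
    · show g * (g⁻¹ * y * g) * g⁻¹ = y
      group

/-- The extension lemma of Sylow theory. -/
theorem group_extension {Q : Subgroup G} (hP : P ≤ S) (hQ : Q ≤ S) {g : G}
    (hg : conjSub g P = Q)
    (hN : ¬ p ∣ (normalizerIn (S : Subgroup G) Q).relIndex (Subgroup.normalizer (Q : Set G))) :
    ∃ h ∈ Subgroup.centralizer (Q : Set G),
      conjSub (h * g) (normalizerIn (S : Subgroup G) P ⊓
        (normalizerIn (S : Subgroup G) Q ⊔ Subgroup.centralizer (Q : Set G)).comap
          (MulAut.conj g).toMonoidHom) ≤ S := by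
  set F := groupFusionSystem (S : Subgroup G)
  have hF := isSystemOf_group (S : Subgroup G)
  obtain ⟨-, hrec⟩ := hF.automized_receptive S.isPGroup' hQ (by rwa [top_inf_eq])
  have hf : IsMap F P (fun x => g * x * g⁻¹) := (hF.2 P _).2
    ⟨hP, fun x hx => hQ (hg ▸ conj_mem_conjSub hx), g, Subgroup.mem_top g, fun x _ => rfl⟩
  set N := normalizerIn (S : Subgroup G) P ⊓
    (normalizerIn (S : Subgroup G) Q ⊔ Subgroup.centralizer (Q : Set G)).comap
      (MulAut.conj g).toMonoidHom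
  set L := ((autInducedBy (S : Subgroup G) Q).comap Q.normalizerMonoidHom).map
    (Subgroup.normalizer (Q : Set G)).subtype
  have hle : normalizerIn (S : Subgroup G) Q ⊔ Subgroup.centralizer (Q : Set G) ≤ L := by
    refine sup_le (fun a ha => ⟨⟨a, ha.2⟩, mem_autInducedBy_iff.2 ⟨a, ha.1, fun x => rfl⟩, rfl⟩)
      fun a ha => ⟨⟨a, (Subgroup.centralizer_le_normalizer (s := (Q : Set G))) ha⟩,
        mem_autInducedBy_iff.2 ⟨1, S.one_mem, fun x => ?_⟩, rfl⟩
    show a * (x : G) * a⁻¹ = _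
    rw [← ha x x.2]
    simp
  have hPN : P ≤ N := fun x hx => ⟨le_normalizerIn hP hx,
    Subgroup.mem_sup_left (le_normalizerIn hQ (hg ▸ conj_mem_conjSub hx))⟩
  obtain ⟨ψ, hψ, hψx⟩ := receptive_extend hrec hf ((img_conj g P).trans hg) hPN fun a ha => by
    obtain ⟨⟨haS, han⟩, hag⟩ := ha
    obtain ⟨aL, haL, haa⟩ := hle hag
    obtain ⟨b, hb, hbx⟩ := mem_autInducedBy_iff.1 haL
    refine ⟨haS, han, b, hb, fun x hx => ?_⟩
    have h1 : aL.1 * (g * x * g⁻¹) * aL.1⁻¹ = b * (g * x * g⁻¹) * b⁻¹ :=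
      hbx ⟨g * x * g⁻¹, hg ▸ conj_mem_conjSub hx⟩
    have h2 : aL.1 = g * a * g⁻¹ := haa
    rw [h2] at h1
    show g * (a * x * a⁻¹) * g⁻¹ = _
    rw [← h1]
    group
  obtain ⟨-, hψS, g', -, hg'⟩ := (hF.2 N ψ).1 hψ
  refine ⟨g' * g⁻¹, fun y hy => ?_, ?_⟩
  · obtain ⟨x, hx, rfl⟩ : ∃ x ∈ P, g * x * g⁻¹ = y := by
      rw [← hg] at hy
      exact hy
    have h1 : g' * x * g'⁻¹ = g * x * g⁻¹ := (hg' x (hPN hx)).symm.trans (hψx x hx)
    have h2 : g' * x = g * x * g⁻¹ * g' := by rw [← h1]; group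
    calc g * x * g⁻¹ * (g' * g⁻¹) = g * x * g⁻¹ * g' * g⁻¹ := by group
      _ = g' * x * g⁻¹ := by rw [← h2]
      _ = g' * g⁻¹ * (g * x * g⁻¹) := by group
  · rintro _ ⟨a, ha, rfl⟩
    show g' * g⁻¹ * g * a * (g' * g⁻¹ * g)⁻¹ ∈ (S : Subgroup G)
    rw [show g' * g⁻¹ * g = g' by group, ← hg' a ha]
    exact hψS a ha

end CfsgLib.Fusion
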