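import Cfsg.Agent.Lib.Fusion.Saturation

/-!
Isomorphisms of fusion systems over (possibly) different ambient groups, and transport of the
basic notions along them.
-/

set_option autoImplicit false
set_option linter.style.haveILetI false
set_option linter.unusedSectionVars false

namespace CfsgLib.Fusion

open Cfsg Cfsg.FusionSystem Subgroup

variable {Ω : Type*} [Group Ω] {S : Subgroup Ω} {Ω' : Type*} [Group Ω'] {S' : Subgroup Ω'}

/-- The image of `P` under a function into another ambient group, as a subgroup. -/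
def push (j : Ω → Ω') (P : Subgroup Ω) : Subgroup Ω' := Subgroup.closure (j '' (P : Set Ω))

open Classical in
/-- Extension of a homomorphism defined on `P` to a function into another ambient group. -/
noncomputable def funOf {P : Subgroup Ω} (φ : P →* Ω') : Ω → Ω' :=
  fun x => if h : x ∈ P then φ ⟨x, h⟩ else 1

theorem funOf_apply {P : Subgroup Ω} (φ : P →* Ω') (x : P) : funOf φ (x : Ω) = φ x := by
  simp [funOf, x.2]

theorem funOf_of_mem {P : Subgroup Ω} (φ : P →* Ω') {x : Ω} (hx : x ∈ P) :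
    funOf φ x = φ ⟨x, hx⟩ :=
  funOf_apply φ ⟨x, hx⟩

/-- `j` and `k` restrict to mutually inverse isomorphisms `S ≃ S'` carrying `F` onto `F'`. -/
structure IsIso (F : FusionSystem S) (F' : FusionSystem S') (j : Ω → Ω') (k : Ω' → Ω) : Prop where
  mem : ∀ x ∈ S, j x ∈ S'
  mem' : ∀ y ∈ S', k y ∈ S
  left : ∀ x ∈ S, k (j x) = x
  right : ∀ y ∈ S', j (k y) = y
  mul : ∀ x ∈ S, ∀ y ∈ S, j (x * y) = j x * j y
  map : ∀ P f, IsMap F P f → IsMap F' (push j P) fun y => j (f (k y))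
  map' : ∀ P f, IsMap F' P f → IsMap F (push k P) fun x => k (f (j x))

namespace IsIso

variable {F : FusionSystem S} {F' : FusionSystem S'} {j : Ω → Ω'} {k : Ω' → Ω}
  (h : IsIso F F' j k) {P Q R : Subgroup Ω}

include h

theorem symm : IsIso F' F k j where
  mem := h.mem'
  mem' := h.mem
  left := h.right
  right := h.left
  mul a ha b hb := by
    conv_lhs => rw [← h.right a ha, ← h.right b hb, ← h.mul _ (h.mem' a ha) _ (h.mem' b hb)]
    rw [h.left _ (S.mul_mem (h.mem' a ha) (h.mem' b hb))]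
  map := h.map'
  map' := h.map

theorem map_one : j 1 = 1 := by
  have h1 := h.mul 1 S.one_mem 1 S.one_mem
  rw [one_mul] at h1
  exact mul_eq_left.1 h1.symm

theorem map_inv {x : Ω} (hx : x ∈ S) : j x⁻¹ = (j x)⁻¹ := by
  have h1 := h.mul _ (S.inv_mem hx) x hx
  rw [inv_mul_cancel, h.map_one] at h1
  exact eq_inv_of_mul_eq_one_left h1.symm

theorem map_conj {a x : Ω} (ha : a ∈ S) (hx : x ∈ S) : j (a * x * a⁻¹) = j a * j x * (j a)⁻¹ := by
  rw [h.mul _ (S.mul_mem ha hx) _ (S.inv_mem ha), h.mul _ ha _ hx, h.map_inv ha]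

theorem injOn {x y : Ω} (hx : x ∈ S) (hy : y ∈ S) (he : j x = j y) : x = y := by
  rw [← h.left x hx, he, h.left y hy]

theorem mem_push (hP : P ≤ S) {y : Ω'} : y ∈ push j P ↔ ∃ x ∈ P, j x = y := by
  let H : Subgroup Ω' :=
    { carrier := j '' (P : Set Ω)
      one_mem' := ⟨1, P.one_mem, h.map_one⟩
      mul_mem' := by
        rintro _ _ ⟨a, ha, rfl⟩ ⟨b, hb, rfl⟩
        exact ⟨a * b, P.mul_mem ha hb, h.mul a (hP ha) b (hP hb)⟩
      inv_mem' := by
        rintro _ ⟨a, ha, rfl⟩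
        exact ⟨a⁻¹, P.inv_mem ha, h.map_inv (hP ha)⟩ }
  have he : push j P = H :=
    le_antisymm ((Subgroup.closure_le _).2 fun y hy => hy) fun y hy => Subgroup.subset_closure hy
  rw [he]
  rfl

theorem apply_mem {x : Ω} (hx : x ∈ P) : j x ∈ push j P := Subgroup.subset_closure ⟨x, hx, rfl⟩

theorem apply_mem_iff (hP : P ≤ S) {x : Ω} (hx : x ∈ S) : j x ∈ push j P ↔ x ∈ P := by
  refine ⟨fun hm => ?_, fun hm => h.apply_mem hm⟩
  obtain ⟨a, ha, he⟩ := (h.mem_push hP).1 hm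
  exact h.injOn (hP ha) hx he ▸ ha

theorem push_le (hP : P ≤ S) : push j P ≤ S' := fun y hy => by
  obtain ⟨x, hx, rfl⟩ := (h.mem_push hP).1 hy
  exact h.mem x (hP hx)

theorem push_push (hP : P ≤ S) : push k (push j P) = P := by
  ext x
  rw [h.symm.mem_push (h.push_le hP)]
  constructor
  · rintro ⟨y, hy, rfl⟩
    obtain ⟨a, ha, rfl⟩ := (h.mem_push hP).1 hy
    rwa [h.left a (hP ha)]
  · exact fun hx => ⟨j x, h.apply_mem hx, h.left x (hP hx)⟩

theorem push_top : push j S = S' := by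
  refine le_antisymm (h.push_le le_rfl) fun y hy => ?_
  rw [← h.right y hy]
  exact h.apply_mem (h.mem' y hy)

/-- The isomorphism on a subgroup of `S`. -/
noncomputable def equiv (hP : P ≤ S) : P ≃* push j P :=
  MulEquiv.ofBijective
    (MonoidHom.mk' (fun x : P => (⟨j x, h.apply_mem x.2⟩ : push j P)) fun a b =>
      Subtype.ext (h.mul a (hP a.2) b (hP b.2)))
    ⟨fun a b hab => Subtype.ext (h.injOn (hP a.2) (hP b.2) (congrArg Subtype.val hab)),
      fun y => by
        obtain ⟨x, hx, hxy⟩ := (h.mem_push hP).1 y.2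
        exact ⟨⟨x, hx⟩, Subtype.ext hxy⟩⟩

theorem coe_equiv (hP : P ≤ S) (x : P) : (h.equiv hP x : Ω') = j x := rfl

theorem coe_equiv_symm (hP : P ≤ S) (y : push j P) : ((h.equiv hP).symm y : Ω) = k y := by
  conv_rhs => rw [← (h.equiv hP).apply_symm_apply y, h.coe_equiv]
  rw [h.left _ (hP ((h.equiv hP).symm y).2)]

theorem isMap_iff (hP : P ≤ S) {f : Ω → Ω} (hf : ∀ x ∈ P, f x ∈ S) :
    IsMap F' (push j P) (fun y => j (f (k y))) ↔ IsMap F P f := by
  refine ⟨fun hm => ?_, h.map P f⟩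
  have h1 := h.map' _ _ hm
  rw [h.push_push hP] at h1
  refine h1.congr fun x hx => ?_
  show k (j (f (k (j x)))) = f x
  rw [h.left x (hP hx), h.left _ (hf x hx)]

theorem push_map {f : Ω → Ω} (hf : IsMap F P f) :
    img (push j P) (fun y => j (f (k y))) = push j (img P f) := by
  ext z
  rw [(h.map P f hf).mem_img, h.mem_push hf.img_le]
  constructor
  · rintro ⟨y, hy, rfl⟩
    obtain ⟨x, hx, rfl⟩ := (h.mem_push hf.le).1 hy
    exact ⟨f x, hf.apply_mem_img hx, by rw [h.left x (hf.le hx)]⟩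
  · rintro ⟨y, hy, rfl⟩
    obtain ⟨x, hx, rfl⟩ := hf.mem_img.1 hy
    exact ⟨j x, h.apply_mem hx, by rw [h.left x (hf.le hx)]⟩

theorem isConj (hc : F.IsConj P Q) : F'.IsConj (push j P) (push j Q) := by
  obtain ⟨f, hf, rfl⟩ := isConj_iff.1 hc
  exact isConj_iff.2 ⟨_, h.map P f hf, h.push_map hf⟩

theorem apply_mem_normalizer_iff (hP : P ≤ S) {a : Ω} (ha : a ∈ S) :
    j a ∈ Subgroup.normalizer (push j P : Set Ω') ↔ a ∈ Subgroup.normalizer (P : Set Ω) := by
  constructor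
  · intro hn x
    constructor
    · intro hx
      have h1 := (hn (j x)).1 (h.apply_mem hx)
      rw [← h.map_conj ha (hP hx)] at h1
      exact (h.apply_mem_iff hP (S.mul_mem (S.mul_mem ha (hP hx)) (S.inv_mem ha))).1 h1
    · intro hx
      have hxS : x ∈ S := by
        have h2 := S.mul_mem (S.mul_mem (S.inv_mem ha) (hP hx)) ha
        simpa [mul_assoc] using h2
      have h1 := h.apply_mem (P := P) hx
      rw [h.map_conj ha hxS] at h1
      exact (h.apply_mem_iff hP hxS).1 ((hn (j x)).2 h1)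
  · intro hn y
    constructor
    · intro hy
      obtain ⟨x, hx, rfl⟩ := (h.mem_push hP).1 hy
      rw [SetLike.mem_coe, ← h.map_conj ha (hP hx)]
      exact h.apply_mem ((hn x).1 hx)
    · intro hy
      obtain ⟨x, hx, hxy⟩ := (h.mem_push hP).1 hy
      refine (h.mem_push hP).2 ⟨a⁻¹ * x * a, (Subgroup.mem_normalizer_iff''.1 hn x).1 hx, ?_⟩
      rw [h.mul _ (S.mul_mem (S.inv_mem ha) (hP hx)) _ ha, h.mul _ (S.inv_mem ha) _ (hP hx),
        h.map_inv ha, hxy]
      group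

theorem autCongr_mem (hP : P ≤ S) {α : MulAut P} :
    MulAut.congr (h.equiv hP) α ∈ F'.autGroup (push j P) ↔ α ∈ F.autGroup P := by
  have e : ∀ y : push j P, ((MulAut.congr (h.equiv hP) α y : push j P) : Ω') =
      j (toFun (P.subtype.comp α.toMonoidHom) (k y)) := fun y => by
    have h2 := h.coe_equiv_symm hP y
    rw [← h2, toFun_apply]
    rfl
  rw [autGroup_iff_isMap (f := fun y => j (toFun (P.subtype.comp α.toMonoidHom) (k y)))
    (h.push_le hP) e, h.isMap_iff hP, ← autGroup_iff_isMap hP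
    fun x => (toFun_aut_apply α x.2).symm]
  intro x hx
  rw [toFun_aut_apply _ hx]
  exact hP (α ⟨x, hx⟩).2

theorem autCongr_mem_induced (hP : P ≤ S) {α : MulAut P} :
    MulAut.congr (h.equiv hP) α ∈ autInducedBy S' (push j P) ↔ α ∈ autInducedBy S P := by
  simp only [mem_autInducedBy_iff]
  constructor
  · rintro ⟨b, hb, hbx⟩
    refine ⟨k b, h.mem' b hb, fun x => ?_⟩
    have h1 := hbx (h.equiv hP x)
    have h2 : ((MulAut.congr (h.equiv hP) α (h.equiv hP x) : push j P) : Ω') = j (α x : Ω) := by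
      show ((h.equiv hP) (α ((h.equiv hP).symm (h.equiv hP x))) : Ω') = _
      rw [MulEquiv.symm_apply_apply, h.coe_equiv]
    rw [h2, h.coe_equiv, ← h.right b hb, ← h.map_conj (h.mem' b hb) (hP x.2)] at h1
    exact h.injOn (hP (α x).2)
      (S.mul_mem (S.mul_mem (h.mem' b hb) (hP x.2)) (S.inv_mem (h.mem' b hb))) h1
  · rintro ⟨a, ha, hax⟩
    refine ⟨j a, h.mem a ha, fun y => ?_⟩
    show ((h.equiv hP) (α ((h.equiv hP).symm y)) : Ω') = _
    rw [h.coe_equiv, hax, h.map_conj ha (hP ((h.equiv hP).symm y).2), ← h.coe_equiv hP,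
      MulEquiv.apply_symm_apply]

theorem map_autGroup (hP : P ≤ S) :
    (F.autGroup P).map (MulAut.congr (h.equiv hP)).toMonoidHom = F'.autGroup (push j P) := by
  ext β
  rw [Subgroup.mem_map]
  constructor
  · rintro ⟨α, hα, rfl⟩
    exact (h.autCongr_mem hP).2 hα
  · intro hβ
    refine ⟨(MulAut.congr (h.equiv hP)).symm β, (h.autCongr_mem hP).1 ?_,
      MulEquiv.apply_symm_apply _ β⟩
    rwa [MulEquiv.apply_symm_apply]

theorem isFullyAutomized [Finite S] {p : ℕ} [Fact p.Prime] (hQ : F.IsFullyAutomized p Q) :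
    F'.IsFullyAutomized p (push j Q) := by
  obtain ⟨hQS, T, hT⟩ := hQ
  haveI := finite_of_le hQS
  let e : F.autGroup Q →* F'.autGroup (push j Q) :=
    ((MulAut.congr (h.equiv hQS)).toMonoidHom.comp (F.autGroup Q).subtype).codRestrict _
      fun α => (h.autCongr_mem hQS).2 α.2
  have he : Function.Surjective e := fun β => by
    refine ⟨⟨(MulAut.congr (h.equiv hQS)).symm β, (h.autCongr_mem hQS).1 ?_⟩,
      Subtype.ext ((MulAut.congr (h.equiv hQS)).apply_symm_apply _)⟩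
    rw [MulEquiv.apply_symm_apply]
    exact β.2
  refine ⟨h.push_le hQS, T.mapSurjective he, ?_⟩
  rw [Sylow.coe_mapSurjective, hT]
  ext β
  constructor
  · rintro ⟨α, hα, rfl⟩
    exact (h.autCongr_mem_induced hQS).2 hα
  · intro hβ
    obtain ⟨α, rfl⟩ := he β
    exact ⟨α, (h.autCongr_mem_induced hQS).1 hβ, rfl⟩

theorem isReceptive (hQ : F.IsReceptive Q) : F'.IsReceptive (push j Q) := by
  refine receptive_of_extend (h.push_le hQ.1) fun R' f' hf' hi' N' hRN hN => ?_
  have hN'S : N' ≤ S' := fun a ha => (hN a ha).1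
  have hf := h.map' R' f' hf'
  have hi : img (push k R') (fun x => k (f' (j x))) = Q := by
    rw [h.symm.push_map hf', hi', h.push_push hQ.1]
  have hRR : push k R' ≤ push k N' := fun x hx => by
    obtain ⟨y, hy, rfl⟩ := (h.symm.mem_push hf'.le).1 hx
    exact h.symm.apply_mem (hRN hy)
  obtain ⟨g, hg, hgx⟩ := receptive_extend hQ hf hi hRR fun a ha => by
    obtain ⟨a', ha', rfl⟩ := (h.symm.mem_push hN'S).1 ha
    obtain ⟨haS, han, b, hb, hbx⟩ := hN a' ha'
    refine ⟨h.mem' a' haS, (h.symm.apply_mem_normalizer_iff hf'.le haS).2 han, k b, h.mem' b hb,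
      fun x hx => ?_⟩
    obtain ⟨y, hy, rfl⟩ := (h.symm.mem_push hf'.le).1 hx
    show k (f' (j (k a' * k y * (k a')⁻¹))) = k b * k (f' (j (k y))) * (k b)⁻¹
    rw [← h.symm.map_conj haS (hf'.le hy),
      h.right _ (S'.mul_mem (S'.mul_mem haS (hf'.le hy)) (S'.inv_mem haS)), h.right y (hf'.le hy),
      hbx y hy, h.symm.map_conj hb (hf'.mem hy)]
  have hg' := h.map _ _ hg
  rw [h.symm.push_push hN'S] at hg'
  refine ⟨_, hg', fun y hy => ?_⟩
  show j (g (k y)) = f' y
  rw [hgx _ (h.symm.apply_mem hy)]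
  show j (k (f' (j (k y)))) = f' y
  rw [h.right y (hf'.le hy), h.right _ (hf'.mem hy)]

theorem isSaturated [Finite S] {p : ℕ} [Fact p.Prime] (hs : F.IsSaturated p) :
    F'.IsSaturated p := fun P' hP' => by
  obtain ⟨Q, hPQ, hQa, hQr⟩ := hs (push k P') (h.symm.push_le hP')
  refine ⟨push j Q, ?_, h.isFullyAutomized hQa, h.isReceptive hQr⟩
  have h1 := h.isConj hPQ
  rwa [h.symm.push_push hP'] at h1

end IsIso

/-! ### Systems realized by an injective homomorphism -/

variable {G : Type*} [Group G]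

/-- A realized system is isomorphic to the system of the group on the image. -/
theorem exists_isIso_of_realized {F : FusionSystem S} {ι : S →* G} (h : F.IsRealizedBy ι) :
    ∃ k, IsIso F (groupFusionSystem ι.range) (funOf ι) k := by
  classical
  let k : G → Ω := fun y => if hy : y ∈ ι.range then (hy.choose : Ω) else 1
  have hk : ∀ x : S, k (ι x) = x := fun x => by
    have hy : ι x ∈ ι.range := ⟨x, rfl⟩
    simp only [k, dif_pos hy]
    exact congrArg Subtype.val (h.1 hy.choose_spec)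
  have hj : ∀ x : S, funOf ι (x : Ω) = ι x := funOf_apply ι
  refine ⟨k, fun x hx => ⟨⟨x, hx⟩, (funOf_of_mem ι hx).symm⟩, ?_, fun x hx => ?_, ?_,
    fun x hx y hy => ?_, fun P f hf => ?_, fun P f hf => ?_⟩
  · rintro _ ⟨x, rfl⟩
    rw [hk]
    exact x.2
  · rw [hj ⟨x, hx⟩, hk]
  · rintro _ ⟨x, rfl⟩
    rw [hk, hj]
  · rw [funOf_of_mem ι hx, funOf_of_mem ι hy, funOf_of_mem ι (S.mul_mem hx hy), ← map_mul]
    rfl
  · obtain ⟨φ, hφ, hφf⟩ := hf
    have hP := (F.le_of_mem hφ).1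
    have hv := (F.le_of_mem hφ).2
    obtain ⟨g, hg⟩ := (h.2 P hP φ hv).1 hφ
    have hmem : ∀ y ∈ push (funOf ι) P, ∃ x : P, ι ⟨x, hP x.2⟩ = y := by
      intro y hy
      have hle : push (funOf ι) P ≤ (ι.comp (Subgroup.inclusion hP)).range := by
        refine (Subgroup.closure_le _).2 ?_
        rintro _ ⟨x, hx, rfl⟩
        exact ⟨⟨x, hx⟩, (funOf_of_mem ι (hP hx)).symm⟩
      obtain ⟨x, hx⟩ := hle hy
      exact ⟨x, hx⟩
    have hval : ∀ x : P, funOf ι (f (k (ι ⟨x, hP x.2⟩))) = g * ι ⟨x, hP x.2⟩ * g⁻¹ := fun x => by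
      rw [hk, ← hφf x, funOf_of_mem ι (hv x)]
      exact hg x
    refine ⟨conjHom _ g, ⟨fun y hy => ?_, fun y => ?_, g, fun y => rfl⟩, fun y => ?_⟩
    · obtain ⟨x, rfl⟩ := hmem y hy
      exact ⟨_, rfl⟩
    · obtain ⟨x, hx⟩ := hmem y y.2
      show g * (y : G) * g⁻¹ ∈ ι.range
      rw [← hx, ← hg x]
      exact ⟨_, rfl⟩
    · obtain ⟨x, hx⟩ := hmem y y.2
      show g * (y : G) * g⁻¹ = funOf ι (f (k (y : G)))
      rw [← hx, hval]
  · obtain ⟨φ, ⟨hP, hv, g, hg⟩, hφf⟩ := hf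
    have hmem : ∀ x ∈ push k P, ∃ y : P, ∃ s : S, ι s = y ∧ (s : Ω) = x := by
      intro x hx
      let H : Subgroup Ω := ((P.comap ι).map S.subtype)
      have hle : push k P ≤ H := by
        refine (Subgroup.closure_le _).2 ?_
        rintro _ ⟨y, hy, rfl⟩
        obtain ⟨s, rfl⟩ := hP hy
        exact ⟨s, hy, (hk s).symm⟩
      obtain ⟨s, hs, rfl⟩ := hle hx
      exact ⟨⟨ι s, hs⟩, s, rfl, rfl⟩
    have hle : push k P ≤ S := fun x hx => by
      obtain ⟨y, s, -, rfl⟩ := hmem x hx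
      exact s.2
    have hval : ∀ x (hx : x ∈ push k P), ∃ hS' : k (f (funOf ι x)) ∈ S,
        ι ⟨_, hS'⟩ = g * ι ⟨x, hle hx⟩ * g⁻¹ := fun x hx => by
      obtain ⟨y, s, hs, rfl⟩ := hmem x hx
      rw [hj, hs, ← hφf y]
      obtain ⟨t, ht⟩ := hv y
      refine ⟨by rw [← ht, hk]; exact t.2, ?_⟩
      have e : (⟨k (φ y), by rw [← ht, hk]; exact t.2⟩ : S) = t := Subtype.ext (by
        show k (φ y) = t
        rw [← ht, hk])
      rw [e, ht, hg]
    choose hmS hval using hval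
    let ψ : push k P →* Ω := MonoidHom.mk' (fun x => k (f (funOf ι (x : Ω)))) fun a b => by
      have e : (⟨_, hmS _ (mul_mem a.2 b.2)⟩ : S) = ⟨_, hmS _ a.2⟩ * ⟨_, hmS _ b.2⟩ := h.1 (by
        rw [map_mul, hval _ (mul_mem a.2 b.2), hval _ a.2, hval _ b.2,
          show (⟨_, hle (mul_mem a.2 b.2)⟩ : S) = ⟨_, hle a.2⟩ * ⟨_, hle b.2⟩ from rfl, map_mul]
        group)
      exact congrArg Subtype.val e
    exact ⟨ψ, (h.2 _ hle ψ fun x => hmS x x.2).2 ⟨g, fun x => hval x x.2⟩, fun x => rfl⟩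

end CfsgLib.Fusion
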