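import Cfsg.Agent.Lib.Fusion.Normal
import Cfsg.Agent.Lib.Fusion.Transport
import Cfsg.Agent.Lib.Fusion.GroupFusion

/-!
Realized systems and models: translation between maps and conjugations, saturation, the normal
centric subgroup given by `O_p(G)`.
-/

set_option autoImplicit false
set_option linter.style.haveILetI false
set_option linter.unusedVariables false
set_option linter.unusedSectionVars false

namespace CfsgLib.Fusion

open Cfsg Cfsg.FusionSystem Subgroup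

variable {Ω : Type*} [Group Ω] {S : Subgroup Ω} {F : FusionSystem S} {P Q R : Subgroup Ω}
  {G : Type*} [Group G] {ι : S →* G}

theorem realized_exists_elem (h : F.IsRealizedBy ι) {f : Ω → Ω} (hf : IsMap F P f) :
    ∃ g : G, ∀ (x : Ω) (hx : x ∈ P) (hS : x ∈ S) (hfx : f x ∈ S),
      ι ⟨f x, hfx⟩ = g * ι ⟨x, hS⟩ * g⁻¹ := by
  obtain ⟨φ, hφ, hφf⟩ := hf
  obtain ⟨g, hg⟩ := (h.2 P (F.le_of_mem hφ).1 φ (F.le_of_mem hφ).2).1 hφ
  refine ⟨g, fun x hx hS hfx => ?_⟩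
  have h1 := hg ⟨x, hx⟩
  simp only [hφf] at h1
  exact h1

theorem realized_exists_map (h : F.IsRealizedBy ι) (hP : P ≤ S) (g : G)
    (hg : ∀ (x : Ω) (hx : x ∈ P), g * ι ⟨x, hP hx⟩ * g⁻¹ ∈ ι.range) :
    ∃ f, IsMap F P f ∧ ∀ (x : Ω) (hx : x ∈ P), ∃ hfx : f x ∈ S,
      ι ⟨f x, hfx⟩ = g * ι ⟨x, hP hx⟩ * g⁻¹ := by
  choose s hs using hg
  let φ : P →* Ω := MonoidHom.mk' (fun x : P => (s x x.2 : Ω)) fun a b => by
    have e : s (a * b : P) (a * b).2 = s a a.2 * s b b.2 := h.1 (by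
      rw [map_mul, hs, hs, hs,
        show (⟨((a * b : P) : Ω), hP (a * b).2⟩ : S) = ⟨a, hP a.2⟩ * ⟨b, hP b.2⟩ from rfl, map_mul]
      group)
    exact congrArg Subtype.val e
  have hv : ∀ x : P, φ x ∈ S := fun x => (s x x.2).2
  have hφ : φ ∈ F.Hom P := (h.2 P hP φ hv).2 ⟨g, fun x => hs x x.2⟩
  refine ⟨toFun φ, isMap_of_hom hφ, fun x hx => ?_⟩
  rw [toFun_of_mem φ hx]
  exact ⟨hv _, hs x hx⟩

/-! ### Normal subgroups of the system -/

theorem IsNormal.img_eq (hQ : F.IsNormal Q) {f : Ω → Ω} (hf : IsMap F Q f) : img Q f = Q := by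
  obtain ⟨g, hg, hgx, hgQ⟩ := (isNormal_iff.1 hQ).2 Q f hf
  rw [← img_congr hgx, hgQ]

theorem IsNormal.isConj_eq (hQ : F.IsNormal Q) (h : F.IsConj Q R) : R = Q := by
  obtain ⟨f, hf, rfl⟩ := isConj_iff.1 h
  exact IsNormal.img_eq hQ hf

theorem IsNormal.fullyNormalized (hQ : F.IsNormal Q) : F.IsFullyNormalized Q :=
  ⟨hQ.1, fun R hR => by rw [IsNormal.isConj_eq hQ hR]⟩

theorem IsNormal.normalizerIn_eq (hQ : F.IsNormal Q) : normalizerIn S Q = S :=
  StronglyClosed.normalizerIn_eq (IsNormal.stronglyClosed hQ)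

theorem IsNormal.centric_iff (hQ : F.IsNormal Q) :
    F.IsCentric Q ↔ centralizerIn S Q ≤ Q :=
  ⟨fun h => h.2 Q (isConj_refl hQ.1), fun h => ⟨hQ.1, fun R hR => by
    rw [IsNormal.isConj_eq hQ hR]; exact h⟩⟩

/-! ### Saturation of realized systems -/

theorem isSaturated_of_realized [Finite G] {p : ℕ} [Fact p.Prime] (h : F.IsRealizedBy ι)
    (hT : ∃ T : Sylow p G, (T : Subgroup G) = ι.range) : F.IsSaturated p := by
  obtain ⟨T, hT⟩ := hT
  obtain ⟨k, hk⟩ := exists_isIso_of_realized h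
  haveI : Finite ι.range := inferInstance
  refine hk.symm.isSaturated ?_
  rw [← hT]
  exact group_isSaturated T

/-! ### The largest normal `p`-subgroup of a realizing group -/

/-- The preimage in `S` of a subgroup of `G`. -/
def preimage (ι : S →* G) (M : Subgroup G) : Subgroup Ω := (M.comap ι).map S.subtype

theorem mem_preimage {M : Subgroup G} {x : Ω} :
    x ∈ preimage ι M ↔ ∃ hx : x ∈ S, ι ⟨x, hx⟩ ∈ M :=
  ⟨fun ⟨s, hs, hsx⟩ => hsx ▸ ⟨s.2, hs⟩, fun ⟨hx, hM⟩ => ⟨⟨x, hx⟩, hM, rfl⟩⟩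

theorem preimage_le (M : Subgroup G) : preimage ι M ≤ S := Subgroup.map_subtype_le _

theorem map_subgroupOf_preimage {M : Subgroup G} (hM : M ≤ ι.range) :
    ((preimage ι M).subgroupOf S).map ι = M := by
  rw [preimage, Subgroup.subgroupOf, Subgroup.comap_map_eq_self_of_injective S.subtype_injective,
    Subgroup.map_comap_eq, inf_eq_right.2 hM]

theorem pCore_le_sylow {p : ℕ} [Finite G] [Fact p.Prime] (T : Sylow p G) :
    Cfsg.pCore p G ≤ (T : Subgroup G) := by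
  refine sSup_le fun N hN => ?_
  haveI := hN.1
  exact le_sup_right.trans
    (T.is_maximal' (IsPGroup.to_sup_of_normal_right T.isPGroup' hN.2) le_sup_left).le

theorem preimage_isNormal (h : F.IsRealizedBy ι) {M : Subgroup G} (hMn : M.Normal)
    (hM : M ≤ ι.range) : F.IsNormal (preimage ι M) := by
  refine isNormal_iff.2 ⟨preimage_le M, fun P f hf => ?_⟩
  obtain ⟨g, hg⟩ := realized_exists_elem h hf
  let K : Subgroup Ω := preimage ι (ι.range.comap (MulAut.conj g).toMonoidHom)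
  have hK : ∀ x ∈ P ⊔ preimage ι M, x ∈ K := by
    intro x hx
    refine (sup_le (fun y hy => mem_preimage.2 ⟨hf.le hy, ?_⟩) (fun y hy => ?_) :
      P ⊔ preimage ι M ≤ K) hx
    · exact ⟨_, hg y hy (hf.le hy) (hf.mem hy)⟩
    · obtain ⟨hyS, hyM⟩ := mem_preimage.1 hy
      exact mem_preimage.2 ⟨hyS, hM (hMn.conj_mem _ hyM g)⟩
  have hle : P ⊔ preimage ι M ≤ S := sup_le hf.le (preimage_le M)
  obtain ⟨f', hf', hf'x⟩ := realized_exists_map h hle g fun x hx => (mem_preimage.1 (hK x hx)).2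
  refine ⟨f', hf', fun x hx => ?_, ?_⟩
  · obtain ⟨hfx, he⟩ := hf'x x (Subgroup.mem_sup_left hx)
    exact congrArg Subtype.val (h.1 (he.trans (hg x hx (hf.le hx) (hf.mem hx)).symm))
  · ext y
    rw [(hf'.mono le_sup_right).mem_img]
    constructor
    · rintro ⟨x, hx, rfl⟩
      obtain ⟨hfx, he⟩ := hf'x x (Subgroup.mem_sup_right hx)
      refine mem_preimage.2 ⟨hfx, ?_⟩
      rw [he]
      exact hMn.conj_mem _ (mem_preimage.1 hx).2 g
    · intro hy
      obtain ⟨hyS, hyM⟩ := mem_preimage.1 hy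
      have h1 := hMn.conj_mem _ hyM g⁻¹
      rw [inv_inv] at h1
      obtain ⟨s, hs⟩ := hM h1
      have hsU : (s : Ω) ∈ preimage ι M := mem_preimage.2 ⟨s.2, hs ▸ h1⟩
      obtain ⟨hfx, he⟩ := hf'x s (Subgroup.mem_sup_right hsU)
      refine ⟨s, hsU, congrArg Subtype.val (h.1 (a₂ := ⟨y, hyS⟩) (he.trans ?_))⟩
      rw [show (⟨(s : Ω), hle (Subgroup.mem_sup_right hsU)⟩ : S) = s from rfl, hs]
      group

theorem preimage_isCentric (h : F.IsRealizedBy ι) {M : Subgroup G} (hMn : M.Normal)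
    (hM : M ≤ ι.range) (hc : Subgroup.centralizer (M : Set G) ≤ M) :
    F.IsCentric (preimage ι M) := by
  refine (IsNormal.centric_iff (preimage_isNormal h hMn hM)).2 fun x hx => ?_
  refine mem_preimage.2 ⟨hx.1, hc fun m hm => ?_⟩
  obtain ⟨s, rfl⟩ := hM hm
  rw [← map_mul, ← map_mul]
  exact congrArg ι (Subtype.ext (hx.2 s (mem_preimage.2 ⟨s.2, hm⟩)))

/-- A subgroup normal in a system with a model is normal in the model. -/
theorem normal_of_model [Finite G] {p : ℕ} [Fact p.Prime] (h : F.IsRealizedBy ι)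
    (hT : ∃ T : Sylow p G, (T : Subgroup G) = ι.range)
    (hc : Subgroup.centralizer ((Cfsg.pCore p G : Subgroup G) : Set G) ≤ Cfsg.pCore p G)
    (hR : F.IsNormal R) : ((R.subgroupOf S).map ι).Normal := by
  obtain ⟨T, hT⟩ := hT
  have hM : Cfsg.pCore p G ≤ ι.range := hT ▸ pCore_le_sylow T
  have hMn : (Cfsg.pCore p G).Normal := Subgroup.sSup_normal _ fun _ hN => hN.1
  constructor
  rintro _ ⟨r, hr, rfl⟩ g
  set U := preimage ι (Cfsg.pCore p G) with hU
  obtain ⟨f, hf, hfx⟩ := realized_exists_map h (preimage_le (ι := ι) (Cfsg.pCore p G)) g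
    fun x hx => hM (hMn.conj_mem _ (mem_preimage.1 hx).2 g)
  obtain ⟨f', hf', hf'x, hf'R⟩ := (isNormal_iff.1 hR).2 U f hf
  obtain ⟨k, hk⟩ := realized_exists_elem h hf'
  have hz : k⁻¹ * g ∈ Cfsg.pCore p G := hc fun m hm => by
    obtain ⟨s, rfl⟩ := hM hm
    have hsU : (s : Ω) ∈ U := mem_preimage.2 ⟨s.2, hm⟩
    obtain ⟨hS', he⟩ := hfx s hsU
    have h1 := hk s (Subgroup.mem_sup_left hsU) s.2 (by rw [hf'x s hsU]; exact hS')
    simp only [hf'x s hsU] at h1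
    rw [he] at h1
    calc ι s * (k⁻¹ * g) = k⁻¹ * (k * ι s * k⁻¹) * g := by group
      _ = k⁻¹ * (g * ι s * g⁻¹) * g := by rw [← h1]
      _ = k⁻¹ * g * ι s := by group
  obtain ⟨z, hzι⟩ := hM hz
  have hzr : ((z * r * z⁻¹ : S) : Ω) ∈ R :=
    StronglyClosed.conj_mem (IsNormal.stronglyClosed hR) z.2 hr
  have hmem : f' ((z * r * z⁻¹ : S) : Ω) ∈ R := by
    have h2 := (hf'.mono (le_sup_right : R ≤ U ⊔ R)).apply_mem_img hzr
    rwa [hf'R] at h2
  refine ⟨⟨_, hf'.mem (Subgroup.mem_sup_right hzr)⟩, hmem, ?_⟩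
  rw [hk _ (Subgroup.mem_sup_right hzr) (z * r * z⁻¹ : S).2 _,
    show (⟨((z * r * z⁻¹ : S) : Ω), (z * r * z⁻¹ : S).2⟩ : S) = z * r * z⁻¹ from rfl, map_mul,
    map_mul, map_inv, hzι]
  group

end CfsgLib.Fusion
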