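import Cfsg.Agent.Lib.Fusion.ModelEmbed
import Cfsg.Agent.Lib.Fusion.Transport

/-!
Models, the main theorem: the normalizer system of a fully normalized centric subgroup `Q` of a
saturated system is realized by a finite group in which `Q` is normal and self-centralizing.
-/

set_option autoImplicit false
set_option linter.style.haveILetI false
set_option linter.unusedVariables false
set_option linter.unusedSectionVars false

namespace CfsgLib.Fusion.Model

open Cfsg Cfsg.FusionSystem Subgroup CfsgLib.Fusion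

universe u

variable {Ω : Type u} [Group Ω] {S : Subgroup Ω} [Finite S] (F : FusionSystem S) {Q : Subgroup Ω}
  (hQ : Q ≤ S)

theorem finite_lift : Finite (Lift F hQ) := by
  haveI := finite_of_le hQ
  haveI := finite_cos F hQ
  haveI : Finite (normalizerIn S Q) := finite_normalizerIn
  exact Finite.of_injective (fun e : Lift F hQ => (e.aut, e.coord)) fun a b h =>
    Lift.ext' (congrArg Prod.fst h) fun c => congrFun (congrArg Prod.snd h) c

section Hyp

variable {p : ℕ} [Fact p.Prime] (hS : IsPGroup p S) (hsat : F.IsSaturated p)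
  (hcen : F.IsCentric Q) (hn : F.IsFullyNormalized Q)
  {θA : normalizerIn S Q →* Lift F hQ} (hθ : IsAdm F hQ le_rfl (le_normalizerIn hQ) θA)

/-- The embedding of `N_S(Q)` into the model group given by an admissible representation. -/
noncomputable def emb (θA : normalizerIn S Q →* Lift F hQ) : normalizerIn S Q →* Grp F hQ :=
  (QuotientGroup.mk' (tauKer F hQ)).comp θA

include hθ

theorem emb_q (q : Q) : emb F hQ θA ⟨q, le_normalizerIn hQ q.2⟩ = qIncl F hQ q :=
  congrArg (QuotientGroup.mk' (tauKer F hQ)) (hθ.map_q q)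

theorem proj_emb (u : normalizerIn S Q) : proj F hQ (emb F hQ θA u) = rho F hQ u :=
  hθ.aut_eq u

include hS hsat hcen hn

theorem emb_injective : Function.Injective (emb F hQ θA) := by
  refine (injective_iff_map_eq_one _).2 fun u hu => ?_
  have h1 : rho F hQ u = 1 := by rw [← proj_emb F hQ hθ, hu, map_one]
  obtain ⟨z, rfl⟩ := exists_cen_of_rho_eq_one F hQ hcen h1
  have h2 : qIncl F hQ (z : Q) = 1 := (emb_q F hQ hθ (z : Q)).symm.trans hu
  have h3 := qIncl_eq_one F hQ hS hsat hn z.2 h2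
  exact Subtype.ext (congrArg (fun q : Q => (q : Ω)) h3)

theorem qIncl_injective : Function.Injective (qIncl F hQ) := fun a b h => by
  rw [← emb_q F hQ hθ, ← emb_q F hQ hθ] at h
  have h' := congrArg (fun u : normalizerIn S Q => (u : Ω)) (emb_injective F hQ hS hsat hcen hn hθ h)
  exact Subtype.ext h'

theorem range_emb : (emb F hQ θA).range = (rho F hQ).range.comap (proj F hQ) := by
  ext g
  rw [Subgroup.mem_comap]
  constructor
  · rintro ⟨u, rfl⟩
    exact ⟨u, (proj_emb F hQ hθ u).symm⟩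
  · rintro ⟨u, hu⟩
    have h1 : (emb F hQ θA u)⁻¹ * g ∈ (proj F hQ).ker := by
      rw [MonoidHom.mem_ker, map_mul, map_inv, proj_emb F hQ hθ, hu, inv_mul_cancel]
    rw [proj_ker F hQ hS hsat hcen hn] at h1
    obtain ⟨z, -, hz⟩ := h1
    refine ⟨u * ⟨z, le_normalizerIn hQ z.2⟩, ?_⟩
    rw [map_mul, emb_q F hQ hθ, hz, mul_inv_cancel_left]

theorem exists_sylow_emb : ∃ T : Sylow p (Grp F hQ),
    (T : Subgroup (Grp F hQ)) = (emb F hQ θA).range := by
  have h1 : IsPGroup p (emb F hQ θA).range :=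
    (hS.to_le (inf_le_left : normalizerIn S Q ≤ S)).of_surjective (emb F hQ θA).rangeRestrict
      (emb F hQ θA).rangeRestrict_surjective
  have h2 : ¬ p ∣ (emb F hQ θA).range.index := by
    rw [range_emb F hQ hS hsat hcen hn hθ,
      Subgroup.index_comap_of_surjective _ (proj_surjective F hQ)]
    exact not_dvd_card_cos F hQ hS hsat hn
  exact ⟨h1.toSylow h2, rfl⟩

theorem centralizer_qIncl_le :
    Subgroup.centralizer ((qIncl F hQ).range : Set (Grp F hQ)) ≤ (qIncl F hQ).range := by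
  intro g hg
  have h1 : proj F hQ g = 1 := by
    refine ext_val F fun x => ?_
    have h2 := conj_qIncl F hQ g x
    rw [← hg (qIncl F hQ x) ⟨x, rfl⟩, mul_inv_cancel_right] at h2
    rw [← qIncl_injective F hQ hS hsat hcen hn hθ h2]
    rfl
  have h3 := MonoidHom.mem_ker.2 h1
  rw [proj_ker F hQ hS hsat hcen hn] at h3
  obtain ⟨z, -, rfl⟩ := h3
  exact ⟨z, rfl⟩

/-- A map of `F` carrying `Q` onto itself is induced by an element of the model group. -/
theorem exists_conj_map {P₁ : Subgroup Ω} (hQP : Q ≤ P₁) (hP : P₁ ≤ normalizerIn S Q) {f : Ω → Ω}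
    (hf : IsMap F P₁ f) (hfQ : img Q f = Q) :
    ∃ g : Grp F hQ, ∀ (u : Ω) (hu : u ∈ P₁) (hv : f u ∈ normalizerIn S Q),
      emb F hQ θA ⟨f u, hv⟩ = g * emb F hQ θA ⟨u, hP hu⟩ * g⁻¹ := by
  have hval : ∀ u ∈ P₁, f u ∈ normalizerIn S Q := fun u hu => by
    have h1 := hf.apply_mem_normalizerIn hQP hu (hP hu).2
    rwa [hfQ] at h1
  let φ : P₁ →* normalizerIn S Q :=
    MonoidHom.mk' (fun u : P₁ => (⟨f u, hval u u.2⟩ : normalizerIn S Q)) fun a b =>
      Subtype.ext (hf.map_mul a.2 b.2)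
  set a : F.autGroup Q :=
    ⟨(hf.mono hQP).toAut hfQ, (hf.mono hQP).toAut_mem hfQ⟩ with ha
  have hax : ∀ x : Q, (((a : MulAut Q) x : Q) : Ω) = f x := fun x =>
    (hf.mono hQP).toAut_apply hfQ x
  obtain ⟨e, he⟩ := autHom_surjective F hQ a
  replace he : e.aut = a := he
  have hρ : ∀ u : P₁, rho F hQ (φ u) = a * rhoOn F hQ hP u * a⁻¹ := fun u => by
    rw [eq_mul_inv_iff_mul_eq]
    refine ext_val F fun x => ?_
    show f u * (((a : MulAut Q) x : Q) : Ω) * (f u)⁻¹ =
      (((a : MulAut Q) (((rhoOn F hQ hP u : F.autGroup Q) : MulAut Q) x) : Q) : Ω)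
    rw [hax, hax, rhoOn_apply, hf.map_conj u.2 (hQP x.2)]
  let θ₁ : P₁ →* Lift F hQ := θA.comp (Subgroup.inclusion hP)
  have h₁ : IsAdm F hQ hP hQP θ₁ := by
    refine ⟨fun u => hθ.aut_eq _, fun q => hθ.map_q q, fun c => ?_⟩
    obtain ⟨h, hh, hhu⟩ := hθ.is_map c
    refine ⟨h, hh.mono ?_, fun u hu => hhu (Subgroup.inclusion hP u) hu⟩
    rintro _ ⟨u, hu, rfl⟩
    exact (mem_stab F hQ le_rfl c (Subgroup.inclusion hP u)).2 hu
  let θ₂ : P₁ →* Lift F hQ := (MulAut.conj e⁻¹).toMonoidHom.comp (θA.comp φ)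
  have h₂app : ∀ u, θ₂ u = e⁻¹ * θA (φ u) * e := fun u => by
    show e⁻¹ * θA (φ u) * e⁻¹⁻¹ = _
    rw [inv_inv]
  have h₂ : IsAdm F hQ hP hQP θ₂ := by
    refine ⟨fun u => ?_, fun q => ?_, fun c => ?_⟩
    · rw [h₂app]
      show e.aut⁻¹ * (θA (φ u)).aut * e.aut = _
      rw [hθ.aut_eq, show rhoOn F hQ le_rfl (φ u) = rho F hQ (φ u) from rfl, hρ, he]
      group
    · have h1 : φ ⟨q, hQP q.2⟩ = ⟨_, le_normalizerIn hQ ((a : MulAut Q) q).2⟩ :=
        Subtype.ext (hax q).symm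
      rw [h₂app, h1, hθ.map_q, ← he, ← conj_diag]
      group
    · set d := e.aut • c with hd
      obtain ⟨h, hh, hhu⟩ := hθ.is_map d
      have hfix : ∀ u : P₁, rhoOn F hQ hP u • c = c → rho F hQ (φ u) • d = d := fun u hu => by
        rw [hρ, hd, he, mul_smul, mul_smul, inv_smul_smul, hu]
      have hmem : ∀ x ∈ stab F hQ hP c, f x ∈ stab F hQ le_rfl d := by
        rintro _ ⟨u, hu, rfl⟩
        exact (mem_stab F hQ le_rfl d (φ u)).2 (hfix u hu)
      have hv1 := isMap_conj F (le_refl S) (S.inv_mem (e.coord c).2.1)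
      refine ⟨_, ((hf.mono (stab_le F hQ hP c)).comp hh hmem).comp hv1
        fun x hx => hh.mem (hmem x hx), fun u hu => ?_⟩
      show (e.coord c : Ω)⁻¹ * h (f u) * (e.coord c : Ω)⁻¹⁻¹ = ((θ₂ u).coord c : Ω)
      have hfd := hfix u hu
      rw [h₂app, Lift.mul_coord, Lift.mul_coord, Lift.inv_coord, hθ.aut_eq,
        show rhoOn F hQ le_rfl (φ u) = rho F hQ (φ u) from rfl, ← hd, hfd, hd, inv_smul_smul,
        ← hd]
      simp only [Subgroup.coe_mul, Subgroup.coe_inv, inv_inv]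
      rw [← hhu (φ u) hfd]
      rfl
  obtain ⟨r, hr⟩ := h₁.exists_conj F hQ hS hsat hcen h₂
  refine ⟨QuotientGroup.mk' _ (e * kerLift F hQ r), fun u hu hv => ?_⟩
  have h3 := hr ⟨u, hu⟩
  rw [h₂app] at h3
  have h4 : θA ⟨f u, hv⟩ = e * kerLift F hQ r * θA ⟨u, hP hu⟩ * (e * kerLift F hQ r)⁻¹ := by
    have h5 := congrArg (fun z => e * z * e⁻¹) h3
    simp only [θ₁, mul_assoc, mul_inv_cancel_left, mul_inv_cancel, mul_one] at h5
    rw [show θA ⟨f u, hv⟩ = θA (φ ⟨u, hu⟩) from rfl, h5]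
    simp only [MonoidHom.comp_apply, mul_inv_rev, mul_assoc]
    rfl
  show QuotientGroup.mk' _ (θA ⟨f u, hv⟩) = _
  rw [h4, map_mul, map_mul, map_inv]
  rfl

theorem mem_normalizerHom_iff_emb {P : Subgroup Ω} (hP : P ≤ normalizerIn S Q) {φ : P →* Ω}
    (hφ : ∀ x : P, φ x ∈ normalizerIn S Q) :
    φ ∈ F.normalizerHom Q P ↔
      ∃ g : Grp F hQ, ∀ x : P,
        emb F hQ θA ⟨φ x, hφ x⟩ = g * emb F hQ θA ⟨x, hP x.2⟩ * g⁻¹ := by
  constructor
  · intro h
    obtain ⟨-, -, f, hf, hfx, hfQ⟩ := (mem_normalizerHom_iff fun x => (toFun_apply φ x).symm).1 h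
    obtain ⟨g, hg⟩ := exists_conj_map F hQ hS hsat hcen hn hθ le_sup_right
      (sup_le hP (le_normalizerIn hQ)) hf hfQ
    refine ⟨g, fun x => ?_⟩
    have h1 : f x = φ x := (hfx x x.2).trans (toFun_apply φ x)
    have h2 := hg x (Subgroup.mem_sup_left x.2) (h1.symm ▸ hφ x)
    simp only [h1] at h2
    exact h2
  · rintro ⟨g, hg⟩
    set a := proj F hQ g with ha
    have hm := isMap_of_autGroup hQ a.2
    have hma : ∀ x (hx : x ∈ Q), toFun (Q.subtype.comp (a : MulAut Q).toMonoidHom) x =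
        (((a : MulAut Q) ⟨x, hx⟩ : Q) : Ω) := fun x hx => toFun_aut_apply _ hx
    have hext : P ⊔ Q ≤ extender S Q hm.toHom := by
      refine sup_le (fun u hu => (mem_extender_iff hm hm.toHom_apply).2
        ⟨(hP hu).1, (hP hu).2, φ ⟨u, hu⟩, (hφ _).1, fun x hx => ?_⟩) fun u hu =>
        (mem_extender_iff hm hm.toHom_apply).2 ⟨hQ hu, Subgroup.le_normalizer hu, _, hm.mem hu,
          fun x hx => hm.map_conj hu hx⟩
      have h1 : rho F hQ ⟨φ ⟨u, hu⟩, hφ _⟩ * a = a * rho F hQ ⟨u, hP hu⟩ := by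
        rw [← proj_emb F hQ hθ, hg ⟨u, hu⟩, map_mul, map_mul, map_inv, proj_emb F hQ hθ, ← ha]
        group
      have h2 := congrArg (fun b : F.autGroup Q => (((b : MulAut Q) ⟨x, hx⟩ : Q) : Ω)) h1
      simp only [Subgroup.coe_mul, MulAut.mul_apply, rho_apply] at h2
      rw [hma x hx, hma _ (((hP hu).2 x).1 hx), h2]
      rfl
    obtain ⟨f, hf, hfx⟩ := receptive_extend (receptive_of_fullyNormalized hS hsat hn) hm
      (img_toFun_aut _) (le_sup_right : Q ≤ P ⊔ Q) fun u hu =>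
        (mem_extender_iff hm hm.toHom_apply).1 (hext hu)
    have hfQ : img Q f = Q := (img_congr hfx).trans (img_toFun_aut _)
    have hPQN : P ⊔ Q ≤ normalizerIn S Q := sup_le hP (le_normalizerIn hQ)
    have hval : ∀ u ∈ P ⊔ Q, f u ∈ normalizerIn S Q := fun u hu => by
      have h1 := hf.apply_mem_normalizerIn le_sup_right hu (hPQN hu).2
      rwa [hfQ] at h1
    obtain ⟨h, hh⟩ := exists_conj_map F hQ hS hsat hcen hn hθ le_sup_right hPQN hf hfQ
    have hc : h⁻¹ * g ∈ (proj F hQ).ker := by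
      have h1 : proj F hQ h = a := by
        refine ext_val F fun x => ?_
        have h2 := hh x (Subgroup.mem_sup_right x.2) (hval _ (Subgroup.mem_sup_right x.2))
        have h3 : (⟨f x, hval _ (Subgroup.mem_sup_right x.2)⟩ : normalizerIn S Q) =
            ⟨((a : MulAut Q) x : Q), le_normalizerIn hQ ((a : MulAut Q) x).2⟩ :=
          Subtype.ext ((hfx x x.2).trans (hma x x.2))
        rw [h3, emb_q F hQ hθ, emb_q F hQ hθ, conj_qIncl] at h2
        exact congrArg Subtype.val (qIncl_injective F hQ hS hsat hcen hn hθ h2).symm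
      rw [MonoidHom.mem_ker, map_mul, map_inv, h1, ← ha, inv_mul_cancel]
    rw [proj_ker F hQ hS hsat hcen hn] at hc
    obtain ⟨z, hz, hzg⟩ := hc
    have hzS : (z : Ω) ∈ S := hQ z.2
    have hzmem : ∀ x ∈ P ⊔ Q, (z : Ω) * x * (z : Ω)⁻¹ ∈ P ⊔ Q := fun x hx =>
      mul_mem (mul_mem (Subgroup.mem_sup_right z.2) hx) (inv_mem (Subgroup.mem_sup_right z.2))
    refine (mem_normalizerHom_iff (f := fun x => f ((z : Ω) * x * (z : Ω)⁻¹)) fun x => ?_).2
      ⟨hP, fun x hx => hval _ (hzmem x (Subgroup.mem_sup_left hx)),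
        fun x => f ((z : Ω) * x * (z : Ω)⁻¹),
        (isMap_conj F (hPQN.trans inf_le_left) hzS).comp hf hzmem, fun x _ => rfl, ?_⟩
    · have hx1 := hzmem x (Subgroup.mem_sup_left x.2)
      have h2 := hh _ hx1 (hval _ hx1)
      have h3 : (⟨(z : Ω) * x * (z : Ω)⁻¹, hPQN hx1⟩ : normalizerIn S Q) =
          ⟨z, le_normalizerIn hQ z.2⟩ * ⟨x, hP x.2⟩ * ⟨z, le_normalizerIn hQ z.2⟩⁻¹ := rfl
      rw [h3, map_mul, map_mul, map_inv, emb_q F hQ hθ, hzg] at h2
      have h4 : emb F hQ θA ⟨φ x, hφ x⟩ = emb F hQ θA ⟨f ((z : Ω) * x * (z : Ω)⁻¹), hval _ hx1⟩ := by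
        rw [hg x, h2]
        group
      exact congrArg Subtype.val (emb_injective F hQ hS hsat hcen hn hθ h4)
    · refine (img_congr fun x hx => ?_).trans hfQ
      show f ((z : Ω) * x * (z : Ω)⁻¹) = f x
      have h5 : (z : Ω) * x = x * (z : Ω) :=
        congrArg Subtype.val (Subgroup.mem_center_iff.1 hz ⟨x, hx⟩).symm
      rw [h5, mul_inv_cancel_right]

end Hyp

/-- The normalizer system of a fully normalized centric subgroup is realized by a finite group
with `Q` normal and self-centralizing. -/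
theorem exists_model_normalizer {p : ℕ} [Fact p.Prime] (hS : IsPGroup p S)
    (hsat : F.IsSaturated p) (hcen : F.IsCentric Q) (hn : F.IsFullyNormalized Q)
    {E : FusionSystem (normalizerIn S Q)} (hE : F.IsNormalizerSystem Q E) :
    ∃ (G : Type u) (_ : Group G) (ι : normalizerIn S Q →* G), Finite G ∧ E.IsRealizedBy ι ∧
      (∃ T : Sylow p G, (T : Subgroup G) = ι.range) ∧
      ((Q.subgroupOf (normalizerIn S Q)).map ι).Normal ∧
      Subgroup.centralizer (((Q.subgroupOf (normalizerIn S Q)).map ι : Subgroup G) : Set G) ≤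
        (Q.subgroupOf (normalizerIn S Q)).map ι := by
  have hQS := hn.1
  obtain ⟨θA, hθ⟩ := exists_adm F hQS hS hsat hcen hn
  haveI := finite_lift F hQS
  have hM : (Q.subgroupOf (normalizerIn S Q)).map (emb F hQS θA) = (qIncl F hQS).range := by
    ext g
    constructor
    · rintro ⟨u, hu, rfl⟩
      exact ⟨⟨u, hu⟩, (emb_q F hQS hθ ⟨u, hu⟩).symm⟩
    · rintro ⟨q, rfl⟩
      exact ⟨⟨q, le_normalizerIn hQS q.2⟩, q.2, emb_q F hQS hθ q⟩
  refine ⟨Grp F hQS, inferInstance, emb F hQS θA, inferInstance,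
    ⟨emb_injective F hQS hS hsat hcen hn hθ, fun P hP φ hφ => ?_⟩,
    exists_sylow_emb F hQS hS hsat hcen hn hθ, ?_, ?_⟩
  · rw [hE P]
    exact mem_normalizerHom_iff_emb F hQS hS hsat hcen hn hθ hP hφ
  · rw [hM]
    exact qIncl_range_normal F hQS
  · rw [hM]
    exact centralizer_qIncl_le F hQS hS hsat hcen hn hθ

end CfsgLib.Fusion.Model
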