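import Cfsg.Agent.Lib.Fusion.CommTransitiveCore
import Cfsg.Agent.Lib.Fusion.PSLUnitri
import Cfsg.Agent.S5090

/-!
The Sylow subgroup of `SL₃(K)` in the characteristic has transitive commuting; an exotic system
over it has trivial core.
-/

set_option autoImplicit false
set_option linter.style.haveILetI false
set_option linter.unusedVariables false
set_option linter.unusedSectionVars false

universe u

namespace CfsgLib.Fusion.SLThree

open Cfsg Subgroup Matrix CfsgLib.Fusion.SLUni

variable {K : Type*} [Field K] [Fintype K]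

theorem isUni_three (a b c : K) : IsUni !![1, a, c; 0, 1, b; 0, 0, 1] := by
  intro i j h
  fin_cases i <;> fin_cases j <;> simp_all

/-- The unitriangular element with given entries. -/
def el (a b c : K) : U K 3 :=
  ⟨⟨!![1, a, c; 0, 1, b; 0, 0, 1], by simp [Matrix.det_fin_three]⟩, isUni_three a b c⟩

theorem el_eq (x : U K 3) : x = el (x.1.1 0 1) (x.1.1 1 2) (x.1.1 0 2) := by
  have h : IsUni x.1.1 := x.2
  refine Subtype.ext (Subtype.ext ?_)
  ext i j
  fin_cases i <;> fin_cases j <;>
    first
      | exact h.diag _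
      | exact h.lower _ _ (by decide)
      | simp [el]

theorem el_mul (a b c a' b' c' : K) :
    el a b c * el a' b' c' = el (a + a') (b + b') (c + c' + a * b') := by
  refine Subtype.ext (Subtype.ext ?_)
  show !![(1 : K), a, c; 0, 1, b; 0, 0, 1] * !![(1 : K), a', c'; 0, 1, b'; 0, 0, 1] =
    !![1, a + a', c + c' + a * b'; 0, 1, b + b'; 0, 0, 1]
  ext i j
  fin_cases i <;> fin_cases j <;> simp [Matrix.mul_apply, Fin.sum_univ_three] <;> ring

theorem el_inj {a b c a' b' c' : K} (h : el a b c = el a' b' c') : a = a' ∧ b = b' ∧ c = c' := by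
  have e : ∀ i j, (!![1, a, c; 0, 1, b; 0, 0, 1] : Matrix (Fin 3) (Fin 3) K) i j =
      !![1, a', c'; 0, 1, b'; 0, 0, 1] i j := fun i j =>
    congrArg (fun x : U K 3 => x.1.1 i j) h
  exact ⟨by simpa using e 0 1, by simpa using e 1 2, by simpa using e 0 2⟩

theorem el_comm_iff (a b c a' b' c' : K) :
    el a b c * el a' b' c' = el a' b' c' * el a b c ↔ a * b' = a' * b := by
  rw [el_mul, el_mul]
  refine ⟨fun h => ?_, fun h => ?_⟩
  · linear_combination (el_inj h).2.2
  · rw [add_comm a a', add_comm b b', show c + c' + a * b' = c' + c + a' * b by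
      linear_combination h]

theorem el_center {a b c : K} : el a b c ∈ Subgroup.center (U K 3) ↔ a = 0 ∧ b = 0 := by
  rw [Subgroup.mem_center_iff]
  refine ⟨fun h => ?_, fun h x => ?_⟩
  · have h1 := (el_comm_iff 1 0 0 a b c).1 (h _)
    have h2 := (el_comm_iff 0 1 0 a b c).1 (h _)
    constructor
    · linear_combination -h2
    · linear_combination h1
  · rw [el_eq x, el_comm_iff, h.1, h.2, mul_zero, zero_mul]

theorem el_inv_eq (a b c : K) : (el a b c)⁻¹ = el (-a) (-b) (a * b - c) := by
  refine inv_eq_of_mul_eq_one_right ?_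
  rw [el_mul, add_neg_cancel, add_neg_cancel, show c + (a * b - c) + a * -b = 0 by ring]
  exact Subtype.ext (Subtype.ext (by ext i j; fin_cases i <;> fin_cases j <;> simp [el]))

theorem commTransitive : CommTransitive (U K 3) where
  comm x y := by
    rw [el_eq x, el_eq y]
    simp only [el_inv_eq, el_mul, el_center]
    constructor <;> ring
  trans x y w hy h1 h2 := by
    rw [el_eq x, el_eq y, el_comm_iff] at h1
    rw [el_eq y, el_eq w, el_comm_iff] at h2
    rw [el_eq y, el_center, not_and_or] at hy
    rw [el_eq x, el_eq w, el_comm_iff]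
    rcases hy with h | h
    · exact mul_left_cancel₀ h (by linear_combination x.1.1 0 1 * h2 + w.1.1 0 1 * h1)
    · exact mul_left_cancel₀ h (by linear_combination x.1.1 1 2 * h2 + w.1.1 1 2 * h1)
  surj x z hx hz := by
    rw [el_eq x, el_center, not_and_or] at hx
    rw [el_eq z, el_center] at hz
    rw [el_eq x, el_eq z]
    rcases eq_or_ne (x.1.1 0 1) 0 with h0 | h0
    · have hb := hx.resolve_left (not_not.2 h0)
      refine ⟨el (z.1.1 0 2 / x.1.1 1 2) 0 0, ?_⟩
      rw [el_inv_eq, el_mul, el_mul, el_mul, hz.1, hz.2, h0]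
      simp only [add_zero, zero_add, mul_zero, zero_mul, sub_zero, neg_zero]
      congr 1
      · ring
      · field_simp
        ring
    · refine ⟨el 0 (-(z.1.1 0 2) / x.1.1 0 1) 0, ?_⟩
      rw [el_inv_eq, el_mul, el_mul, el_mul, hz.1, hz.2]
      simp only [add_zero, zero_add, mul_zero, zero_mul, sub_zero, neg_zero]
      congr 1
      · ring
      · field_simp
        ring
  nonabelian := ⟨el 1 0 0, fun h => one_ne_zero (el_center.1 h).1⟩

/-- An exotic system over a Sylow subgroup of `SL₃(K)` has trivial core. -/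
theorem core_eq_bot_of_exotic {Ω : Type u} [Group Ω] {S : Subgroup Ω} [Finite S] {p : ℕ}
    [Fact p.Prime] (hS : IsPGroup p S) (F : FusionSystem S) (hF : F.IsSaturated p) [CharP K p]
    (T : Sylow p (Matrix.SpecialLinearGroup (Fin 3) K))
    (e : S ≃* (T : Subgroup (Matrix.SpecialLinearGroup (Fin 3) K))) (hex : F.IsExotic p) :
    F.core = ⊥ := by
  by_contra hc
  classical
  let U₀ : Sylow p (Matrix.SpecialLinearGroup (Fin 3) K) :=
    (isPGroup_U (n := 3) (p := p) (K := K) (by omega)).toSylow
      (not_dvd_index_of_pElements (isPGroup_U (by omega)) fun g hg k hk => pElement_mem hg k hk)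
  have hU : (U₀ : Subgroup (Matrix.SpecialLinearGroup (Fin 3) K)) = U K 3 := rfl
  have hX : CommTransitive S :=
    commTransitive.of_equiv (((U₀.equiv T).symm.trans
      (MulEquiv.subgroupCongr hU)).symm.trans e.symm)
  obtain ⟨G, hG, ι, hfin, hr, hT, -⟩ :=
    Cfsg.Agent.S5090.result p hS F (constrained_of_commTransitive hS hF hX hc)
  exact hex.2 ⟨G, hG, hfin, ι, hr, hT⟩

end CfsgLib.Fusion.SLThree
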