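import Cfsg.Agent.Lib.Complement.AbelianThompson
import Cfsg.Agent.Lib.OddLocal.PStable
import Cfsg.Agent.Lib.Solvable.PCore

/-!
The abelian Thompson subgroup either is normal or supplies quadratic elements outside `O_p`.
-/

set_option autoImplicit false
set_option linter.style.haveILetI false
set_option linter.unusedVariables false
set_option linter.unusedSectionVars false

universe u

namespace CfsgLib.Fusion

open Cfsg Subgroup
open scoped commutatorElement

/-- The centre lies in the abelian Thompson subgroup. -/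
theorem center_le_thompsonA (Q : Type u) [Group Q] [Finite Q] :
    Subgroup.center Q ≤ Cfsg.thompsonSubgroupA Q := by
  intro z hz
  obtain ⟨A, hA⟩ := CfsgLib.Complement.exists_maxAbIn (⊤ : Subgroup Q)
  have hzA := CfsgLib.Complement.mem_maxAbIn_of_centralizes hA (Subgroup.mem_top z)
    (fun a _ => Subgroup.mem_center_iff.1 hz a)
  have h1 : Cfsg.thompsonSubgroupAOf (⊤ : Subgroup Q) = Cfsg.thompsonSubgroupA Q := by
    rw [Cfsg.thompsonSubgroupAOf]
    exact CfsgLib.Complement.thompsonA_map_equiv (Subgroup.topEquiv (G := Q))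
  exact h1 ▸ CfsgLib.Complement.le_thompsonAOf hA hzA

theorem thompsonA_map (Q R : Type u) [Group Q] [Group R] (φ : Q ≃* R) :
    (Cfsg.thompsonSubgroupA Q).map φ.toMonoidHom = Cfsg.thompsonSubgroupA R :=
  CfsgLib.Complement.thompsonA_map_equiv φ

/-- If `J(P)` is not normal, an element of `P` outside `O_p(G)` acts quadratically on `Z(O_p(G))`. -/
theorem exists_quadratic_thompsonA {G : Type u} [Group G] [Finite G] {p : ℕ} [Fact p.Prime]
    (P : Sylow p G) (hc : Subgroup.centralizer ((Cfsg.pCore p G : Subgroup G) : Set G) ≤ Cfsg.pCore p G)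
    (hn : ¬ (Cfsg.thompsonSubgroupAOf (P : Subgroup G)).Normal) :
    ∃ g : G, g ∈ (P : Subgroup G) ∧ g ∉ Cfsg.pCore p G ∧
      ⁅⁅Subgroup.center ↥(Cfsg.pCore p G) |>.map (Cfsg.pCore p G).subtype, Subgroup.zpowers g⁆,
        Subgroup.zpowers g⁆ = ⊥ := by
  classical
  set U := Cfsg.pCore p G with hU
  haveI hUn : U.Normal := CfsgLib.Solvable.pCore_normal p G
  have hUP : U ≤ (P : Subgroup G) := CfsgLib.Solvable.pCore_le_sylow P
  set V : Subgroup G := (Subgroup.center ↥U).map U.subtype with hV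
  have hVn : V.Normal := by rw [hV]; infer_instance
  have hVU : V ≤ U := Subgroup.map_subtype_le _
  have hVcU : ∀ v ∈ V, ∀ u ∈ U, u * v = v * u := by
    rintro _ ⟨a, ha, rfl⟩ u hu
    exact congrArg Subtype.val (Subgroup.mem_center_iff.1 ha ⟨u, hu⟩)
  have hVc : ∀ a ∈ V, ∀ b ∈ V, a * b = b * a := fun a ha b hb => hVcU b hb a (hVU ha)
  have hex : ∃ A ∈ CfsgLib.Complement.maxAbIn (P : Subgroup G), ¬ A ≤ U := by
    by_contra hall
    have hJU : Cfsg.thompsonSubgroupAOf (P : Subgroup G) ≤ U := by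
      rw [CfsgLib.Complement.thompsonAOf_eq]
      exact sSup_le fun A hA => by_contra fun h => hall ⟨A, hA, h⟩
    refine hn (Subgroup.normalizer_eq_top_iff.1 ?_)
    rw [← CfsgLib.Complement.thompsonAOf_eq_of_le hJU hUP, ← top_le_iff]
    exact le_trans (Subgroup.normalizer_eq_top_iff.2 hUn).ge
      (CfsgLib.Complement.normalizer_le_normalizer_thompsonAOf U)
  obtain ⟨A, ⟨hAm, hAU⟩, hAmax⟩ := Set.exists_max_image
    {A | A ∈ CfsgLib.Complement.maxAbIn (P : Subgroup G) ∧ ¬ A ≤ U}
    (fun A => Nat.card ↥(A ⊓ V)) (Set.toFinite _) (by obtain ⟨A, h1, h2⟩ := hex; exact ⟨A, h1, h2⟩)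
  obtain ⟨g, hgA, hgU⟩ := SetLike.not_le_iff_exists.mp hAU
  have hVP : V ≤ (P : Subgroup G) := hVU.trans hUP
  have hVA : V ≤ Subgroup.normalizer (A : Set G) := by
    by_contra hne
    have hcomm : ∀ x ∈ V, ∀ y ∈ V, x * y * x⁻¹ * y⁻¹ = 1 := fun x hx y hy => by
      rw [hVc x hx y hy]
      group
    obtain ⟨A', hA', hA'N, hlt⟩ := CfsgLib.Complement.abelian_replacement P.2 (Or.inr hVc) hAm hVP
      (by rw [Subgroup.normalizer_eq_top_iff.mpr hVn]; exact le_top)
      (fun x hx y hy z _ => by rw [hcomm x hx y hy]; exact Commute.one_right z)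
      (fun x hx y hy b _ => by rw [hcomm x hx y hy]; exact Commute.one_right b) hne
    have hA'U : A' ≤ U := by
      by_contra h
      exact absurd (hAmax A' ⟨hA', h⟩) (not_le.mpr hlt)
    exact hne fun w hw => hA'N (CfsgLib.Complement.mem_maxAbIn_of_centralizes hA' (hVP hw)
      fun b hb => hVcU w hw b (hA'U hb))
  refine ⟨g, hAm.1 hgA, hgU, ?_⟩
  have hAc : IsMulCommutative A := hAm.2.1
  have h1 : ⁅V, Subgroup.zpowers g⁆ ≤ A := by
    rw [Subgroup.commutator_le]
    intro v hv k hk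
    have hkA : k ∈ A := Subgroup.zpowers_le.2 hgA hk
    rw [commutatorElement_def]
    exact A.mul_mem ((Subgroup.mem_normalizer_iff.1 (hVA hv) k).1 hkA) (A.inv_mem hkA)
  rw [Subgroup.commutator_eq_bot_iff_le_centralizer]
  exact fun y hy k hk => congrArg Subtype.val
    (hAc.1.comm ⟨k, Subgroup.zpowers_le.2 hgA hk⟩ ⟨y, h1 hy⟩)

end CfsgLib.Fusion
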