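import Cfsg.Agent.Lib.Fusion.Saturation

/-!
Subgroups normal or central in a fusion system; the core and the centre; normalizer and centralizer
systems.
-/

set_option autoImplicit false
set_option linter.style.haveILetI false
set_option linter.unusedVariables false

namespace CfsgLib.Fusion

open Cfsg Cfsg.FusionSystem Subgroup

variable {Ω : Type*} [Group Ω] {S : Subgroup Ω} {F : FusionSystem S}
  {P Q Q₁ Q₂ R N T U : Subgroup Ω} {f g : Ω → Ω} {p : ℕ}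

theorem map_subgroupOf_eq_img {φ : N →* Ω} (hφ : φ ∈ F.Hom N) (hQ : Q ≤ N) :
    (Q.subgroupOf N).map φ = img Q (toFun φ) := by
  ext y
  rw [((isMap_of_hom hφ).mono hQ).mem_img]
  constructor
  · rintro ⟨x, hx, rfl⟩
    exact ⟨x, hx, toFun_apply φ x⟩
  · rintro ⟨x, hx, rfl⟩
    exact ⟨⟨x, hQ hx⟩, hx, (toFun_of_mem φ (hQ hx)).symm⟩

theorem IsMap.map_subgroupOf_toHom (h : IsMap F N f) (hQ : Q ≤ N) :
    (Q.subgroupOf N).map h.toHom = img Q f := by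
  rw [map_subgroupOf_eq_img h.toHom_mem hQ]
  exact img_congr fun x hx => toFun_of_mem _ (hQ hx)

theorem IsMap.img_sup_le (h : IsMap F N f) (h₁ : Q₁ ≤ N) (h₂ : Q₂ ≤ N)
    (e₁ : img Q₁ f ≤ T) (e₂ : img Q₂ f ≤ T) : img (Q₁ ⊔ Q₂) f ≤ T := by
  let K : Subgroup Ω := (T.comap h.toHom).map N.subtype
  have hK : ∀ Q' : Subgroup Ω, Q' ≤ N → img Q' f ≤ T → Q' ≤ K := fun Q' hQ' he x hx =>
    ⟨⟨x, hQ' hx⟩, he (Subgroup.subset_closure ⟨x, hx, rfl⟩), rfl⟩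
  intro y hy
  obtain ⟨x, hx, rfl⟩ := (h.mono (sup_le h₁ h₂)).mem_img.1 hy
  obtain ⟨a, ha, hax⟩ := sup_le (hK _ h₁ e₁) (hK _ h₂ e₂) hx
  subst hax
  exact ha

theorem IsMap.img_sup (h : IsMap F N f) (h₁ : Q₁ ≤ N) (h₂ : Q₂ ≤ N) :
    img (Q₁ ⊔ Q₂) f = img Q₁ f ⊔ img Q₂ f :=
  le_antisymm (h.img_sup_le h₁ h₂ le_sup_left le_sup_right)
    (sup_le (img_mono le_sup_left) (img_mono le_sup_right))

/-! ### Normal and central subgroups, in terms of functions -/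

theorem isNormal_iff : F.IsNormal Q ↔ Q ≤ S ∧ ∀ (P : Subgroup Ω) (f : Ω → Ω), IsMap F P f →
    ∃ g, IsMap F (P ⊔ Q) g ∧ (∀ x ∈ P, g x = f x) ∧ img Q g = Q := by
  refine and_congr_right fun hQ => ⟨fun h P f hf => ?_, fun h P φ hφ => ?_⟩
  · obtain ⟨ψ, hψ, hψx, hψQ⟩ := h P hf.toHom hf.toHom_mem
    refine ⟨toFun ψ, isMap_of_hom hψ, fun x hx => ?_, ?_⟩
    · rw [toFun_of_mem ψ (Subgroup.mem_sup_left hx)]
      exact hψx ⟨x, hx⟩
    · rw [← map_subgroupOf_eq_img hψ le_sup_right, hψQ]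
  · obtain ⟨g, hg, hgx, hgQ⟩ := h P _ (isMap_of_hom hφ)
    refine ⟨hg.toHom, hg.toHom_mem, fun x => (hgx x x.2).trans (toFun_apply φ x), ?_⟩
    rw [hg.map_subgroupOf_toHom le_sup_right, hgQ]

theorem isCentral_iff : F.IsCentral Q ↔ Q ≤ S ∧ ∀ (P : Subgroup Ω) (f : Ω → Ω), IsMap F P f →
    ∃ g, IsMap F (P ⊔ Q) g ∧ (∀ x ∈ P, g x = f x) ∧ ∀ x ∈ Q, g x = x := by
  refine and_congr_right fun hQ => ⟨fun h P f hf => ?_, fun h P φ hφ => ?_⟩
  · obtain ⟨ψ, hψ, hψx, hψQ⟩ := h P hf.toHom hf.toHom_mem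
    refine ⟨toFun ψ, isMap_of_hom hψ, fun x hx => ?_, fun x hx => ?_⟩
    · rw [toFun_of_mem ψ (Subgroup.mem_sup_left hx)]
      exact hψx ⟨x, hx⟩
    · rw [toFun_of_mem ψ (Subgroup.mem_sup_right hx)]
      exact hψQ ⟨x, hx⟩
  · obtain ⟨g, hg, hgx, hgQ⟩ := h P _ (isMap_of_hom hφ)
    exact ⟨hg.toHom, hg.toHom_mem, fun x => (hgx x x.2).trans (toFun_apply φ x),
      fun x => hgQ x x.2⟩

theorem IsCentral.isNormal (h : F.IsCentral Q) : F.IsNormal Q := by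
  rw [isCentral_iff] at h
  refine isNormal_iff.2 ⟨h.1, fun P f hf => ?_⟩
  obtain ⟨g, hg, hgx, hgQ⟩ := h.2 P f hf
  refine ⟨g, hg, hgx, ?_⟩
  rw [img_congr (g := id) hgQ]
  simp [img]

theorem isNormal_bot : F.IsNormal ⊥ := by
  refine isNormal_iff.2 ⟨bot_le, fun P f hf => ?_⟩
  refine ⟨f, by rwa [sup_bot_eq], fun _ _ => rfl, ?_⟩
  rw [eq_bot_iff]
  intro y hy
  obtain ⟨x, hx, rfl⟩ := (hf.mono bot_le).mem_img.1 hy
  rw [Subgroup.mem_bot.1 hx, hf.map_one]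
  exact Subgroup.one_mem _

theorem isCentral_bot : F.IsCentral ⊥ := by
  refine isCentral_iff.2 ⟨bot_le, fun P f hf => ⟨f, by rwa [sup_bot_eq], fun _ _ => rfl, ?_⟩⟩
  intro x hx
  rw [Subgroup.mem_bot.1 hx, hf.map_one]

theorem isNormal_sup (h₁ : F.IsNormal Q₁) (h₂ : F.IsNormal Q₂) : F.IsNormal (Q₁ ⊔ Q₂) := by
  rw [isNormal_iff] at *
  refine ⟨sup_le h₁.1 h₂.1, fun P f hf => ?_⟩
  obtain ⟨g₁, hg₁, hgx₁, hQ₁⟩ := h₁.2 P f hf
  obtain ⟨g₂, hg₂, hgx₂, hQ₂⟩ := h₂.2 _ g₁ hg₁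
  refine ⟨g₂, by rwa [← sup_assoc],
    fun x hx => (hgx₂ x (Subgroup.mem_sup_left hx)).trans (hgx₁ x hx), ?_⟩
  rw [hg₂.img_sup (le_sup_right.trans le_sup_left) le_sup_right, hQ₂,
    img_congr (fun x hx => hgx₂ x (Subgroup.mem_sup_right hx)), hQ₁]

theorem isCentral_sup (h₁ : F.IsCentral Q₁) (h₂ : F.IsCentral Q₂) : F.IsCentral (Q₁ ⊔ Q₂) := by
  rw [isCentral_iff] at *
  refine ⟨sup_le h₁.1 h₂.1, fun P f hf => ?_⟩
  obtain ⟨g₁, hg₁, hgx₁, hQ₁⟩ := h₁.2 P f hf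
  obtain ⟨g₂, hg₂, hgx₂, hQ₂⟩ := h₂.2 _ g₁ hg₁
  refine ⟨g₂, by rwa [← sup_assoc],
    fun x hx => (hgx₂ x (Subgroup.mem_sup_left hx)).trans (hgx₁ x hx), fun x hx => ?_⟩
  have hle₁ : Q₁ ≤ P ⊔ Q₁ ⊔ Q₂ := le_sup_right.trans le_sup_left
  have hle₂ : Q₂ ≤ P ⊔ Q₁ ⊔ Q₂ := le_sup_right
  let K : Subgroup Ω :=
    { carrier := {x | x ∈ P ⊔ Q₁ ⊔ Q₂ ∧ g₂ x = x}
      one_mem' := ⟨Subgroup.one_mem _, hg₂.map_one⟩
      mul_mem' := fun ha hb => ⟨mul_mem ha.1 hb.1, by rw [hg₂.map_mul ha.1 hb.1, ha.2, hb.2]⟩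
      inv_mem' := fun ha => ⟨inv_mem ha.1, by rw [hg₂.map_inv ha.1, ha.2]⟩ }
  have hle : Q₁ ⊔ Q₂ ≤ K := sup_le
    (fun y hy => ⟨hle₁ hy, (hgx₂ y (Subgroup.mem_sup_right hy)).trans (hQ₁ y hy)⟩)
    (fun y hy => ⟨hle₂ hy, hQ₂ y hy⟩)
  exact (hle hx).2

theorem exists_max_of_sup_closed [Finite S] (p : Subgroup Ω → Prop) (hbot : p ⊥)
    (hle : ∀ Q, p Q → Q ≤ S) (hsup : ∀ Q Q', p Q → p Q' → p (Q ⊔ Q')) :
    p (sSup {Q | p Q}) := by
  obtain ⟨Q₀, h₀, hmax⟩ := Set.exists_max_image {Q | p Q} (fun Q => Nat.card Q)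
    ((finite_subgroups_le S).subset hle) ⟨⊥, hbot⟩
  have heq : sSup {Q | p Q} = Q₀ := by
    refine le_antisymm (sSup_le fun Q hQ => ?_) (le_sSup h₀)
    haveI := finite_of_le (hle _ (hsup _ _ h₀ hQ))
    rw [eq_of_le_of_card_le (le_sup_left : Q₀ ≤ Q₀ ⊔ Q) (hmax _ (hsup _ _ h₀ hQ))]
    exact le_sup_right
  exact heq ▸ h₀

theorem core_isNormal [Finite S] : F.IsNormal F.core :=
  exists_max_of_sup_closed (fun Q => F.IsNormal Q) isNormal_bot (fun _ h => h.1)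
    fun _ _ => isNormal_sup

theorem center_isCentral [Finite S] : F.IsCentral F.center :=
  exists_max_of_sup_closed (fun Q => F.IsCentral Q) isCentral_bot (fun _ h => h.1)
    fun _ _ => isCentral_sup

theorem IsNormal.le_core (h : F.IsNormal Q) : Q ≤ F.core := le_sSup h

theorem IsCentral.le_center (h : F.IsCentral Q) : Q ≤ F.center := le_sSup h

theorem center_le (F : FusionSystem S) : F.center ≤ S := sSup_le fun _ h => h.1

theorem core_le (F : FusionSystem S) : F.core ≤ S := sSup_le fun _ h => h.1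

theorem IsNormal.stronglyClosed (h : F.IsNormal Q) : F.StronglyClosed Q := by
  rw [isNormal_iff] at h
  refine ⟨h.1, fun R hR φ hφ x => ?_⟩
  obtain ⟨g, hg, hgx, hgQ⟩ := h.2 R _ (isMap_of_hom hφ)
  rw [← toFun_apply φ x, ← hgx x x.2, ← hgQ]
  exact (hg.mono le_sup_right).apply_mem_img (hR x.2)

theorem stronglyClosed_iff : F.StronglyClosed Q ↔
    Q ≤ S ∧ ∀ (R : Subgroup Ω) (f : Ω → Ω), R ≤ Q → IsMap F R f → ∀ x ∈ R, f x ∈ Q := by
  refine and_congr_right fun _ => ⟨fun h R f hR hf x hx => h R hR hf.toHom hf.toHom_mem ⟨x, hx⟩,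
    fun h R hR φ hφ x => toFun_apply φ x ▸ h R _ hR (isMap_of_hom hφ) x x.2⟩

theorem StronglyClosed.apply_mem (h : F.StronglyClosed Q) (hf : IsMap F P f) {x : Ω}
    (hxP : x ∈ P) (hxQ : x ∈ Q) : f x ∈ Q :=
  (stronglyClosed_iff.1 h).2 (P ⊓ Q) f inf_le_right (hf.mono inf_le_left) x ⟨hxP, hxQ⟩

theorem StronglyClosed.conj_mem (h : F.StronglyClosed Q) {a x : Ω} (ha : a ∈ S) (hx : x ∈ Q) :
    a * x * a⁻¹ ∈ Q :=
  StronglyClosed.apply_mem h (isMap_conj F h.1 ha) hx hx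

theorem StronglyClosed.le_normalizer (h : F.StronglyClosed Q) :
    S ≤ Subgroup.normalizer (Q : Set Ω) := by
  intro a ha n
  refine ⟨fun hn => StronglyClosed.conj_mem h ha hn, fun hn => ?_⟩
  simpa [mul_assoc] using StronglyClosed.conj_mem h (S.inv_mem ha) hn

theorem StronglyClosed.normalizerIn_eq (h : F.StronglyClosed Q) : normalizerIn S Q = S :=
  inf_eq_left.2 (StronglyClosed.le_normalizer h)

theorem StronglyClosed.img_eq [Finite S] (h : F.StronglyClosed Q) (hf : IsMap F P f)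
    (hQ : Q ≤ P) : img Q f = Q := by
  haveI := finite_of_le h.1
  refine eq_of_le_of_card_le (fun y hy => ?_) (hf.mono hQ).card_img.ge
  obtain ⟨x, hx, rfl⟩ := (hf.mono hQ).mem_img.1 hy
  exact StronglyClosed.apply_mem h hf (hQ hx) hx

theorem StronglyClosed.weaklyClosed [Finite S] (h : F.StronglyClosed Q) : F.WeaklyClosed Q := by
  refine ⟨h.1, fun φ hφ => ?_⟩
  obtain ⟨f, hf, hi⟩ := isConj_iff.1 (⟨φ, hφ, rfl⟩ : F.IsConj Q φ.range)
  rw [← hi, StronglyClosed.img_eq h hf le_rfl]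

theorem isNormal_characteristic (hQ : F.IsNormal Q) (hUQ : U ≤ Q)
    (hU : (U.subgroupOf Q).Characteristic) : F.IsNormal U := by
  rw [isNormal_iff] at *
  refine ⟨hUQ.trans hQ.1, fun P f hf => ?_⟩
  obtain ⟨g, hg, hgx, hgQ⟩ := hQ.2 P f hf
  refine ⟨g, hg.mono (sup_le_sup_left hUQ _), hgx, ?_⟩
  have hg' := hg.mono (le_sup_right : Q ≤ P ⊔ Q)
  have h1 := Subgroup.characteristic_iff_map_eq.1 hU (hg'.toAut hgQ)
  ext y
  rw [(hg'.mono hUQ).mem_img]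
  constructor
  · rintro ⟨x, hx, rfl⟩
    have : hg'.toAut hgQ ⟨x, hUQ hx⟩ ∈ U.subgroupOf Q := h1 ▸ ⟨_, hx, rfl⟩
    exact this
  · intro hy
    obtain ⟨x, hx, hxy⟩ := h1.symm ▸ (show (⟨y, hUQ hy⟩ : Q) ∈ U.subgroupOf Q from hy)
    exact ⟨x, hx, congrArg Subtype.val hxy⟩

/-! ### Normalizer and centralizer systems -/

theorem mem_normalizerHom_iff {φ : P →* Ω} (hφ : ∀ x : P, φ x = f x) :
    φ ∈ F.normalizerHom Q P ↔ P ≤ normalizerIn S Q ∧ (∀ x ∈ P, f x ∈ normalizerIn S Q) ∧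
      ∃ g, IsMap F (P ⊔ Q) g ∧ (∀ x ∈ P, g x = f x) ∧ img Q g = Q := by
  constructor
  · rintro ⟨hφm, hP, hv, ψ, hψ, hψx, hψQ⟩
    refine ⟨hP, fun x hx => hφ ⟨x, hx⟩ ▸ hv ⟨x, hx⟩, toFun ψ, isMap_of_hom hψ, fun x hx => ?_, ?_⟩
    · rw [toFun_of_mem ψ (Subgroup.mem_sup_left hx), ← hφ ⟨x, hx⟩]
      exact hψx ⟨x, hx⟩
    · rw [← map_subgroupOf_eq_img hψ le_sup_right, hψQ]
  · rintro ⟨hP, hv, g, hg, hgx, hgQ⟩
    refine ⟨((hg.mono le_sup_left).congr hgx).mem_hom hφ, hP, fun x => (hφ x).symm ▸ hv x x.2,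
      hg.toHom, hg.toHom_mem, fun x => (hgx x x.2).trans (hφ x).symm, ?_⟩
    rw [hg.map_subgroupOf_toHom le_sup_right, hgQ]

theorem mem_centralizerHom_iff {φ : P →* Ω} (hφ : ∀ x : P, φ x = f x) :
    φ ∈ F.centralizerHom Q P ↔ P ≤ centralizerIn S Q ∧ (∀ x ∈ P, f x ∈ centralizerIn S Q) ∧
      ∃ g, IsMap F (P ⊔ Q) g ∧ (∀ x ∈ P, g x = f x) ∧ ∀ x ∈ Q, g x = x := by
  constructor
  · rintro ⟨hφm, hP, hv, ψ, hψ, hψx, hψQ⟩
    refine ⟨hP, fun x hx => hφ ⟨x, hx⟩ ▸ hv ⟨x, hx⟩, toFun ψ, isMap_of_hom hψ, fun x hx => ?_,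
      fun x hx => ?_⟩
    · rw [toFun_of_mem ψ (Subgroup.mem_sup_left hx), ← hφ ⟨x, hx⟩]
      exact hψx ⟨x, hx⟩
    · rw [toFun_of_mem ψ (Subgroup.mem_sup_right hx)]
      exact hψQ ⟨x, hx⟩
  · rintro ⟨hP, hv, g, hg, hgx, hgQ⟩
    exact ⟨((hg.mono le_sup_left).congr hgx).mem_hom hφ, hP, fun x => (hφ x).symm ▸ hv x x.2,
      hg.toHom, hg.toHom_mem, fun x => (hgx x x.2).trans (hφ x).symm, fun x => hgQ x x.2⟩

/-- The normalizer system `N_F(Q)`. -/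
noncomputable def normalizerSys (F : FusionSystem S) (Q : Subgroup Ω) (hQ : Q ≤ S) :
    FusionSystem (normalizerIn S Q) where
  Hom P := F.normalizerHom Q P
  le_of_mem h := ⟨h.2.1, h.2.2.1⟩
  injective_of_mem h := F.injective_of_mem h.1
  conj_mem := by
    intro P a hP ha
    refine (mem_normalizerHom_iff (f := fun x => a * x * a⁻¹) fun _ => rfl).2
      ⟨hP, fun x hx => mul_mem (mul_mem ha (hP hx)) (inv_mem ha), fun x => a * x * a⁻¹,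
        isMap_conj F (sup_le (fun x hx => (hP hx).1) hQ) ha.1, fun _ _ => rfl, ?_⟩
    ext y
    rw [(isMap_conj F hQ ha.1).mem_img]
    constructor
    · rintro ⟨x, hx, rfl⟩
      exact (ha.2 x).1 hx
    · exact fun hy => ⟨a⁻¹ * y * a, (Subgroup.mem_normalizer_iff''.1 ha.2 y).1 hy, by group⟩
  comp_mem := by
    intro P R φ ψ hφ hψ h
    obtain ⟨hP, -, g₁, hg₁, hx₁, hQ₁⟩ :=
      (mem_normalizerHom_iff fun x => (toFun_apply φ x).symm).1 hφ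
    obtain ⟨-, hv, g₂, hg₂, hx₂, hQ₂⟩ :=
      (mem_normalizerHom_iff fun x => (toFun_apply ψ x).symm).1 hψ
    have hmem : ∀ x ∈ P ⊔ Q, g₁ x ∈ R ⊔ Q := by
      intro x hx
      refine hg₁.img_sup_le le_sup_left le_sup_right ?_ ?_ (hg₁.apply_mem_img hx)
      · intro y hy
        obtain ⟨z, hz, rfl⟩ := (hg₁.mono le_sup_left).mem_img.1 hy
        rw [hx₁ z hz, toFun_of_mem φ hz]
        exact Subgroup.mem_sup_left (h ⟨z, hz⟩)
      · exact hQ₁.le.trans le_sup_right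
    have hmemP : ∀ x ∈ P, toFun φ x ∈ R := fun x hx => (toFun_of_mem φ hx).symm ▸ h ⟨x, hx⟩
    refine (mem_normalizerHom_iff (f := fun x => toFun ψ (toFun φ x)) fun x => ?_).2
      ⟨hP, fun x hx => hv _ (hmemP x hx), fun x => g₂ (g₁ x),
        hg₁.comp hg₂ hmem, fun x hx => ?_, ?_⟩
    · show ψ _ = _
      rw [toFun_apply φ x, toFun_of_mem ψ (h x)]
      rfl
    · show g₂ (g₁ x) = _
      rw [hx₁ x hx, hx₂ _ (hmemP x hx)]
    · rw [img_comp_eq (hg₁.mono le_sup_right) hg₂ fun x hx => hmem x (Subgroup.mem_sup_right hx),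
        hQ₁, hQ₂]
  inv_mem := by
    intro P φ hφ
    obtain ⟨hP, hv, g₁, hg₁, hx₁, hQ₁⟩ :=
      (mem_normalizerHom_iff fun x => (toFun_apply φ x).symm).1 hφ
    obtain ⟨g, hg, hgx, hgy, -⟩ := hg₁.exists_inv
    have hrange : φ.range = img P g₁ := by
      ext y
      rw [(hg₁.mono le_sup_left).mem_img]
      constructor
      · rintro ⟨x, rfl⟩
        exact ⟨x, x.2, (hx₁ x x.2).trans (toFun_apply φ x)⟩
      · rintro ⟨x, hx, rfl⟩
        exact ⟨⟨x, hx⟩, ((hx₁ x hx).trans (toFun_of_mem φ hx)).symm⟩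
    have himg : img (P ⊔ Q) g₁ = φ.range ⊔ Q := by
      rw [hg₁.img_sup le_sup_left le_sup_right, hQ₁, hrange]
    rw [himg] at hg
    refine ⟨(hg.mono le_sup_left).toHom, (mem_normalizerHom_iff fun x => rfl).2
      ⟨?_, ?_, g, hg, fun _ _ => rfl, ?_⟩, fun x => ?_⟩
    · rintro _ ⟨x, rfl⟩
      exact toFun_apply φ x ▸ hv x x.2
    · rintro _ ⟨x, rfl⟩
      rw [← toFun_apply φ x, ← hx₁ x x.2, hgx _ (Subgroup.mem_sup_left x.2)]
      exact hP x.2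
    · ext y
      rw [(hg.mono le_sup_right).mem_img]
      constructor
      · rintro ⟨z, hz, rfl⟩
        obtain ⟨x, hx, hxz⟩ := (hg₁.mono le_sup_right).mem_img.1 (hQ₁.symm ▸ hz : z ∈ img Q g₁)
        rw [← hxz, hgx _ (Subgroup.mem_sup_right hx)]
        exact hx
      · exact fun hy => ⟨g₁ y, hQ₁ ▸ (hg₁.mono le_sup_right).apply_mem_img hy,
          hgx _ (Subgroup.mem_sup_right hy)⟩
    · rw [IsMap.toHom_apply]
      show g (φ x) = x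
      rw [← toFun_apply φ x, ← hx₁ x x.2, hgx _ (Subgroup.mem_sup_left x.2)]

theorem isNormalizerSystem_normalizerSys (F : FusionSystem S) (Q : Subgroup Ω) (hQ : Q ≤ S) :
    F.IsNormalizerSystem Q (normalizerSys F Q hQ) := fun _ => rfl

/-- The centralizer system `C_F(Q)`. -/
noncomputable def centralizerSys (F : FusionSystem S) (Q : Subgroup Ω) (hQ : Q ≤ S) :
    FusionSystem (centralizerIn S Q) where
  Hom P := F.centralizerHom Q P
  le_of_mem h := ⟨h.2.1, h.2.2.1⟩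
  injective_of_mem h := F.injective_of_mem h.1
  conj_mem := by
    intro P a hP ha
    refine (mem_centralizerHom_iff (f := fun x => a * x * a⁻¹) fun _ => rfl).2
      ⟨hP, fun x hx => mul_mem (mul_mem ha (hP hx)) (inv_mem ha), fun x => a * x * a⁻¹,
        isMap_conj F (sup_le (fun x hx => (hP hx).1) hQ) ha.1, fun _ _ => rfl, fun x hx => ?_⟩
    show a * x * a⁻¹ = x
    rw [← ha.2 x hx, mul_inv_cancel_right]
  comp_mem := by
    intro P R φ ψ hφ hψ h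
    obtain ⟨hP, -, g₁, hg₁, hx₁, hQ₁⟩ :=
      (mem_centralizerHom_iff fun x => (toFun_apply φ x).symm).1 hφ
    obtain ⟨-, hv, g₂, hg₂, hx₂, hQ₂⟩ :=
      (mem_centralizerHom_iff fun x => (toFun_apply ψ x).symm).1 hψ
    have hmem : ∀ x ∈ P ⊔ Q, g₁ x ∈ R ⊔ Q := by
      intro x hx
      refine hg₁.img_sup_le le_sup_left le_sup_right ?_ ?_ (hg₁.apply_mem_img hx)
      · intro y hy
        obtain ⟨z, hz, rfl⟩ := (hg₁.mono le_sup_left).mem_img.1 hy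
        rw [hx₁ z hz, toFun_of_mem φ hz]
        exact Subgroup.mem_sup_left (h ⟨z, hz⟩)
      · intro y hy
        obtain ⟨z, hz, rfl⟩ := (hg₁.mono le_sup_right).mem_img.1 hy
        rw [hQ₁ z hz]
        exact Subgroup.mem_sup_right hz
    have hmemP : ∀ x ∈ P, toFun φ x ∈ R := fun x hx => (toFun_of_mem φ hx).symm ▸ h ⟨x, hx⟩
    refine (mem_centralizerHom_iff (f := fun x => toFun ψ (toFun φ x)) fun x => ?_).2
      ⟨hP, fun x hx => hv _ (hmemP x hx), fun x => g₂ (g₁ x),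
        hg₁.comp hg₂ hmem, fun x hx => ?_, fun x hx => ?_⟩
    · show ψ _ = _
      rw [toFun_apply φ x, toFun_of_mem ψ (h x)]
      rfl
    · show g₂ (g₁ x) = _
      rw [hx₁ x hx, hx₂ _ (hmemP x hx)]
    · show g₂ (g₁ x) = _
      rw [hQ₁ x hx, hQ₂ x hx]
  inv_mem := by
    intro P φ hφ
    obtain ⟨hP, hv, g₁, hg₁, hx₁, hQ₁⟩ :=
      (mem_centralizerHom_iff fun x => (toFun_apply φ x).symm).1 hφ
    obtain ⟨g, hg, hgx, hgy, -⟩ := hg₁.exists_inv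
    have hle : φ.range ⊔ Q ≤ img (P ⊔ Q) g₁ := by
      refine sup_le ?_ fun y hy => ?_
      · rintro _ ⟨x, rfl⟩
        rw [← toFun_apply φ x, ← hx₁ x x.2]
        exact hg₁.apply_mem_img (Subgroup.mem_sup_left x.2)
      · exact hQ₁ y hy ▸ hg₁.apply_mem_img (Subgroup.mem_sup_right hy)
    have hg' := hg.mono hle
    refine ⟨(hg'.mono le_sup_left).toHom, (mem_centralizerHom_iff fun x => rfl).2
      ⟨?_, ?_, g, hg', fun _ _ => rfl, fun x hx => ?_⟩, fun x => ?_⟩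
    · rintro _ ⟨x, rfl⟩
      exact toFun_apply φ x ▸ hv x x.2
    · rintro _ ⟨x, rfl⟩
      rw [← toFun_apply φ x, ← hx₁ x x.2, hgx _ (Subgroup.mem_sup_left x.2)]
      exact hP x.2
    · conv_lhs => rw [← hQ₁ x hx]
      exact hgx x (Subgroup.mem_sup_right hx)
    · rw [IsMap.toHom_apply]
      show g (φ x) = x
      rw [← toFun_apply φ x, ← hx₁ x x.2, hgx _ (Subgroup.mem_sup_left x.2)]

theorem isCentralizerSystem_centralizerSys (F : FusionSystem S) (Q : Subgroup Ω) (hQ : Q ≤ S) :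
    F.IsCentralizerSystem Q (centralizerSys F Q hQ) := fun _ => rfl

theorem isMap_normalizerSystem_iff {E : FusionSystem (normalizerIn S Q)}
    (hE : F.IsNormalizerSystem Q E) :
    IsMap E P f ↔ P ≤ normalizerIn S Q ∧ (∀ x ∈ P, f x ∈ normalizerIn S Q) ∧
      ∃ g, IsMap F (P ⊔ Q) g ∧ (∀ x ∈ P, g x = f x) ∧ img Q g = Q := by
  constructor
  · rintro ⟨φ, hφ, hf⟩
    exact (mem_normalizerHom_iff hf).1 (hE P ▸ hφ)
  · rintro ⟨hP, hv, g, hg, hgx, hgQ⟩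
    let φ := ((hg.mono le_sup_left).congr hgx).toHom
    exact ⟨φ, hE P ▸ (mem_normalizerHom_iff fun _ => rfl).2 ⟨hP, hv, g, hg, hgx, hgQ⟩, fun _ => rfl⟩

theorem isMap_centralizerSystem_iff {E : FusionSystem (centralizerIn S Q)}
    (hE : F.IsCentralizerSystem Q E) :
    IsMap E P f ↔ P ≤ centralizerIn S Q ∧ (∀ x ∈ P, f x ∈ centralizerIn S Q) ∧
      ∃ g, IsMap F (P ⊔ Q) g ∧ (∀ x ∈ P, g x = f x) ∧ ∀ x ∈ Q, g x = x := by
  constructor
  · rintro ⟨φ, hφ, hf⟩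
    exact (mem_centralizerHom_iff hf).1 (hE P ▸ hφ)
  · rintro ⟨hP, hv, g, hg, hgx, hgQ⟩
    let φ := ((hg.mono le_sup_left).congr hgx).toHom
    exact ⟨φ, hE P ▸ (mem_centralizerHom_iff fun _ => rfl).2 ⟨hP, hv, g, hg, hgx, hgQ⟩,
      fun _ => rfl⟩

end CfsgLib.Fusion
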