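import Cfsg.Agent.Lib.Fusion.Centric
import Cfsg.Agent.Lib.Fusion.Normal
import Cfsg.Agent.Lib.Fusion.GroupFusion

/-!
Simplicity criteria: generation of a system by invariant subsystems and the automorphisms of `S`.
-/

set_option autoImplicit false
set_option linter.style.haveILetI false
set_option linter.unusedVariables false
set_option linter.unusedSectionVars false

namespace CfsgLib.Fusion

open Cfsg Cfsg.FusionSystem Subgroup

variable {Ω : Type*} [Group Ω] {S : Subgroup Ω} {F E : FusionSystem S}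
  {P Q R : Subgroup Ω} {f g : Ω → Ω} {p : ℕ}

section Saturated

variable [Fact p.Prime] [Finite S] (hS : IsPGroup p S) (hF : F.IsSaturated p)

include hS hF

/-- Alperin, inductive form. -/
theorem alperin_inductive (hE : ∀ R, F.IsFullyNormalized R →
    (∀ (Q : Subgroup Ω) (g : Ω → Ω), IsMap F Q g → Nat.card R < Nat.card Q → IsMap E Q g) →
    F.autGroup R ≤ E.autGroup R) :
    F ≤ E := by
  rw [le_iff_isMap]
  suffices h : ∀ n, ∀ (P : Subgroup Ω) (f : Ω → Ω), IsMap F P f →
      Nat.card S - Nat.card P = n → IsMap E P f from fun P f hf => h _ P f hf rfl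
  intro n
  induction n using Nat.strong_induction_on with
  | _ n ih =>
    intro P f hf hn
    have hlarge : ∀ {Q : Subgroup Ω} {g : Ω → Ω}, IsMap F Q g → Nat.card P < Nat.card Q →
        IsMap E Q g := fun {Q g} hg hlt => by
      have h1 : Nat.card Q ≤ Nat.card S := Subgroup.card_le_of_le hg.le
      exact ih _ (by omega) Q g hg rfl
    haveI := finite_of_le hf.le
    have hbig : ∀ α : MulAut P, IsExtendable F P α → α ∈ E.autGroup P := fun α ⟨R, hR, g, hg, hgx⟩ => by
      haveI := finite_of_le hg.le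
      have hlt : Nat.card P < Nat.card R :=
        lt_of_not_ge fun h => hR.ne (eq_of_le_of_card_le hR.le h)
      exact (autGroup_iff_isMap hf.le fun x => (hgx x).symm).2 ((hlarge hg hlt).mono hR.le)
    rcases hf.le.eq_or_lt with rfl | hPS
    · have hi : img P f = P := eq_of_le_of_card_le hf.img_le hf.card_img.ge
      exact (autGroup_iff_isMap le_rfl (hf.toAut_apply hi)).1
        (hE _ (fullyNormalized_top F) (fun Q g hg hlt =>
          absurd (Subgroup.card_le_of_le hg.le) (not_le.2 hlt)) (hf.toAut_mem hi))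
    · obtain ⟨R, hPR, hR⟩ := exists_fullyNormalized_conj F hf.le
      obtain ⟨ψ₁, hψ₁, hi₁, -⟩ := exists_map_normalizerIn_of_fullyNormalized hS hF hR hPR
      have hQR : F.IsConj (img P f) R := isConj_trans (isConj_symm hf.isConj) hPR
      obtain ⟨ψ₂, hψ₂, hi₂, -⟩ := exists_map_normalizerIn_of_fullyNormalized hS hF hR hQR
      have hQS : img P f < S := by
        refine lt_of_le_of_ne hf.img_le fun he => ?_
        refine hPS.ne (eq_of_le_of_card_le hf.le ?_)
        rw [← hf.card_img, he]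
      have hcard : ∀ {Q : Subgroup Ω}, Q < S → Nat.card Q = Nat.card P →
          Nat.card P < Nat.card (normalizerIn S Q) := fun {Q} hQ hc => by
        haveI := finite_normalizerIn (S := S) (P := Q)
        exact hc ▸ lt_of_not_ge fun h =>
          (lt_normalizerIn hS hQ).ne (eq_of_le_of_card_le (le_normalizerIn hQ.le) h)
      have e₁ := (hlarge hψ₁ (hcard hPS rfl)).mono (le_normalizerIn hf.le)
      have e₂ := (hlarge hψ₂ (hcard hQS hf.card_img)).mono (le_normalizerIn hf.img_le)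
      obtain ⟨g₁, hg₁, hgx₁, hgy₁, hgi₁⟩ := (hψ₁.mono (le_normalizerIn hf.le)).exists_inv
      rw [hi₁] at hg₁ hgy₁ hgi₁
      obtain ⟨k₁, hk₁, hkx₁, hky₁, -⟩ := e₁.exists_inv
      rw [hi₁] at hk₁
      obtain ⟨k₂, hk₂, hkx₂, -, -⟩ := e₂.exists_inv
      rw [hi₂] at hk₂
      have hmem : ∀ y ∈ R, f (g₁ y) ∈ img P f := fun y hy => hf.apply_mem_img (hgy₁ y hy).1
      have hmap : IsMap F R (fun y => ψ₂ (f (g₁ y))) :=
        (hg₁.comp hf fun y hy => (hgy₁ y hy).1).comp (hψ₂.mono (le_normalizerIn hf.img_le)) hmem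
      haveI := finite_of_le hR.1
      have hmapi : img R (fun y => ψ₂ (f (g₁ y))) = R := by
        refine eq_of_le_of_card_le (fun z hz => ?_) hmap.card_img.ge
        obtain ⟨y, hy, rfl⟩ := hmap.mem_img.1 hz
        exact hi₂ ▸ (hψ₂.mono (le_normalizerIn hf.img_le)).apply_mem_img (hmem y hy)
      have hRS : R < S := by
        refine lt_of_le_of_ne hR.1 fun he => ?_
        refine hPS.ne (eq_of_le_of_card_le hf.le ?_)
        rw [← isConj_card hPR, he]
      have hα : hmap.toAut hmapi ∈ E.autGroup R :=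
        hE R hR (fun Q g hg hlt => hlarge hg (isConj_card hPR ▸ hlt)) (hmap.toAut_mem hmapi)
      have hαE : IsMap E R (fun y => ψ₂ (f (g₁ y))) :=
        (autGroup_iff_isMap hR.1 fun x => hmap.toAut_apply hmapi x).1 hα
      have hin : ∀ x ∈ P, ψ₁ x ∈ R := fun x hx =>
        hi₁ ▸ (hψ₁.mono (le_normalizerIn hf.le)).apply_mem_img hx
      refine ((e₁.comp hαE hin).comp hk₂ fun x hx => ?_).congr fun x hx => ?_
      · exact hmapi ▸ hmap.apply_mem_img (hin x hx)
      · show k₂ (ψ₂ (f (g₁ (ψ₁ x)))) = f x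
        rw [hgx₁ x hx, hkx₂ _ (hf.apply_mem_img hx)]


omit hF in
/-- An automorphism of `S` whose restriction to a centric subgroup lies in a saturated subsystem
lies in that subsystem. -/
theorem mem_autGroup_of_restrict (hEs : E.IsSaturated p) (hEF : E.IsSubsystemOf F)
    (hF' : F.IsSaturated p) (hR : F.IsCentric R) {f : Ω → Ω} (hf : IsMap F S f)
    (hfR : img R f = R) (hfE : IsMap E R f) : IsMap E S f := by
  haveI := finite_of_le (le_refl S)
  suffices h : ∀ n, ∀ R : Subgroup Ω, F.IsCentric R → img R f = R → IsMap E R f →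
      Nat.card S - Nat.card R = n → IsMap E S f from h _ R hR hfR hfE rfl
  intro n
  induction n using Nat.strong_induction_on with
  | _ n ih =>
    intro R hR hfR hfE hn
    rcases hR.1.eq_or_lt with rfl | hRS
    · exact hfE
    have hRc : E.IsCentric R := ⟨hR.1, fun Q hQ => hR.2 Q (by
      obtain ⟨φ, hφ, hr⟩ := hQ
      exact ⟨φ, hEF R hφ, hr⟩)⟩
    have hrec := receptive_of_fullyCentralized hS hEs (centric_fullyCentralized hRc)
    have hNn : ∀ a ∈ normalizerIn S R, f a ∈ normalizerIn S R := fun a ha => by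
      have h1 := hf.apply_mem_normalizerIn hR.1 ha.1 ha.2
      rwa [hfR] at h1
    obtain ⟨g, hg, hgx⟩ := receptive_extend hrec hfE hfR (le_normalizerIn hR.1) fun a ha =>
      ⟨ha.1, ha.2, f a, hf.mem ha.1, fun x hx => hf.map_conj ha.1 (hR.1 hx)⟩
    have hgF : IsMap F (normalizerIn S R) g := by
      obtain ⟨φ, hφ, hφg⟩ := hg
      exact ⟨φ, hEF _ hφ, hφg⟩
    obtain ⟨z, hzR, -, hz⟩ := exists_conj_of_agree hS hF' hR (le_normalizerIn hR.1) hgF
      (hf.mono inf_le_left) hgx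
    have hzN : ∀ a ∈ normalizerIn S R, z * a * z⁻¹ ∈ normalizerIn S R := fun a ha =>
      mul_mem (mul_mem (le_normalizerIn hR.1 hzR) ha) (inv_mem (le_normalizerIn hR.1 hzR))
    have hfN : IsMap E (normalizerIn S R) f :=
      ((isMap_conj E inf_le_left (hR.1 hzR)).comp hg hzN).congr fun a ha => (hz a ha).symm
    haveI := finite_normalizerIn (S := S) (P := R)
    have hlt : Nat.card R < Nat.card (normalizerIn S R) := lt_of_not_ge fun h =>
      (lt_normalizerIn hS hRS).ne (eq_of_le_of_card_le (le_normalizerIn hR.1) h)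
    have hle : Nat.card (normalizerIn S R) ≤ Nat.card S := Subgroup.card_le_of_le inf_le_left
    refine ih _ (by omega) _ (centric_of_le hR (le_normalizerIn hR.1) inf_le_left) ?_ hfN rfl
    refine eq_of_le_of_card_le (fun y hy => ?_) hfN.card_img.ge
    obtain ⟨a, ha, rfl⟩ := hfN.mem_img.1 hy
    exact hNn a ha

/-- If `Aut_E(R)` is invariant under `Aut_F(R)` for `R` fully normalized in `F`, it contains the
`p`-elements of `Aut_F(R)`. -/
theorem closure_pElements_le (hle : E ≤ F) (hRn : F.IsFullyNormalized R)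
    (hnorm : ∀ α ∈ F.autGroup R, ∀ β ∈ E.autGroup R, α * β * α⁻¹ ∈ E.autGroup R) :
    (Subgroup.closure {α : F.autGroup R | ∃ k : ℕ, orderOf α = p ^ k}).map
      (F.autGroup R).subtype ≤ E.autGroup R := by
  haveI := finite_of_le hRn.1
  set K := (E.autGroup R).subgroupOf (F.autGroup R) with hK
  haveI : K.Normal := ⟨fun β hβ α => hnorm α α.2 β hβ⟩
  obtain ⟨T, hT⟩ := (fullyAutomized_of_fullyNormalized hS hF hRn).2
  have hTK : (T : Subgroup (F.autGroup R)) ≤ K := by
    rw [hT]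
    exact Subgroup.comap_mono (autInducedBy_le_autGroup hRn.1)
  rw [Subgroup.map_le_iff_le_comap, Subgroup.closure_le]
  rintro α ⟨k, hk⟩
  obtain ⟨U, hU⟩ := (IsPGroup.of_card (p := p) (G := Subgroup.zpowers α) (n := k)
    ((Nat.card_zpowers α).trans hk)).exists_le_sylow
  obtain ⟨g, rfl⟩ := MulAction.exists_smul_eq (F.autGroup R) T U
  have h1 : α ∈ ((g • T : Sylow p (F.autGroup R)) : Subgroup (F.autGroup R)) :=
    hU (Subgroup.mem_zpowers α)
  rw [Sylow.coe_subgroup_smul, Subgroup.mem_pointwise_smul_iff_inv_smul_mem] at h1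
  have h2 := ‹K.Normal›.conj_mem _ (hTK h1) g
  simpa [mul_assoc] using h2

/-- A subsystem over `S` with invariant automorphism groups and the same automorphisms of `S` is
the whole system. -/
theorem le_of_invariant_of_top (hle : E ≤ F)
    (hnorm : ∀ R, F.IsFullyNormalized R → ∀ α ∈ F.autGroup R, ∀ β ∈ E.autGroup R,
      α * β * α⁻¹ ∈ E.autGroup R)
    (htop : F.autGroup S ≤ E.autGroup S) : F ≤ E := by
  refine alperin_inductive hS hF fun R hR hlarge α hα => ?_
  rcases hR.1.eq_or_lt with rfl | hRS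
  · exact htop hα
  haveI := finite_of_le hR.1
  set K := (E.autGroup R).subgroupOf (F.autGroup R) with hK
  haveI : K.Normal := ⟨fun β hβ α => hnorm R hR α α.2 β hβ⟩
  obtain ⟨T, hT⟩ := (fullyAutomized_of_fullyNormalized hS hF hR).2
  have hTK : (T : Subgroup (F.autGroup R)) ≤ K := by
    rw [hT]
    exact Subgroup.comap_mono (autInducedBy_le_autGroup hR.1)
  have hsup := (T.subtype hTK).normalizer_sup_eq_top
  rw [Sylow.coe_subtype, Subgroup.map_subgroupOf_eq_of_le hTK] at hsup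
  obtain ⟨β, hβ, k, hk, hβk⟩ := (Subgroup.mem_sup_of_normal_right (t := K)).1
    (hsup ▸ Subgroup.mem_top (⟨α, hα⟩ : F.autGroup R))
  suffices hβE : (β : MulAut R) ∈ E.autGroup R by
    have h1 := mul_mem hβE hk
    rwa [Subgroup.coe_subtype, show (β : MulAut R) * (k : MulAut R) = α from
      congrArg Subtype.val hβk] at h1
  have hm := isMap_of_autGroup hR.1 β.2
  obtain ⟨g, hg, hgx⟩ := receptive_extend (receptive_of_fullyNormalized hS hF hR) hm
    (img_toFun_aut _) (le_normalizerIn hR.1) fun a ha => by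
      refine ⟨ha.1, ha.2, ?_⟩
      have hc : R.normalizerMonoidHom ⟨a, ha.2⟩ ∈ autInducedBy S R :=
        mem_autInducedBy_iff.2 ⟨a, ha.1, fun x => rfl⟩
      have hcT : (⟨_, autInducedBy_le_autGroup (F := F) hR.1 hc⟩ : F.autGroup R) ∈
          (T : Subgroup (F.autGroup R)) := hT ▸ hc
      have h1 := (Subgroup.mem_normalizer_iff.1 hβ _).1 hcT
      rw [hT] at h1
      obtain ⟨b, hb, hbx⟩ := mem_autInducedBy_iff.1 h1
      refine ⟨b, hb, fun x hx => ?_⟩
      have h2 := hbx ((β : MulAut R) ⟨x, hx⟩)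
      rw [toFun_aut_apply _ hx, toFun_aut_apply _ ((ha.2 x).1 hx), ← h2]
      simp [MulAut.mul_apply]
      rfl
  haveI := finite_normalizerIn (S := S) (P := R)
  have hlt : Nat.card R < Nat.card (normalizerIn S R) := lt_of_not_ge fun h =>
    (lt_normalizerIn hS hRS).ne (eq_of_le_of_card_le (le_normalizerIn hR.1) h)
  exact (autGroup_iff_isMap hR.1 fun x => (toFun_aut_apply _ x.2).symm).2
    (((hlarge _ g hg hlt).mono (le_normalizerIn hR.1)).congr hgx)

end Saturated

/-! ### Invariant subsystems over `S` -/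

/-- In an invariant subsystem over `S` the automorphism groups are invariant. -/
theorem IsInvariantIn.conj_mem [Finite S] (h : E.IsInvariantIn F) (hR : R ≤ S)
    {α β : MulAut R} (hα : α ∈ F.autGroup R) (hβ : β ∈ E.autGroup R) :
    α * β * α⁻¹ ∈ E.autGroup R := by
  obtain ⟨hsub, hsc, hinv, hfr⟩ := h
  obtain ⟨γ, hγ, φ₀, hφ₀, hφ⟩ := hfr R hR _ ((autGroup_mem_iff hR).1 hα)
  have hm₀ : IsMap E R (toFun φ₀) := isMap_of_hom hφ₀
  obtain ⟨k, hk, hkx, hky, hki⟩ := hm₀.exists_inv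
  have hbm := isMap_of_autGroup hR hβ
  have hμ : IsMap E (img R (toFun φ₀))
      (fun y => toFun φ₀ (toFun (R.subtype.comp β.toMonoidHom) (k y))) :=
    (hk.comp hbm fun y hy => (hky y hy).1).comp hm₀ fun y hy => by
      rw [toFun_aut_apply _ (hky y hy).1]
      exact (β _).2
  obtain ⟨χ, hχ, hχx⟩ := hinv _ hm₀.img_le _ hμ.toHom_mem γ hγ
  have hval : ∀ y : R, ((α y : R) : Ω) = ((γ ⟨φ₀ y, (E.le_of_mem hφ₀).2 y⟩ : S) : Ω) :=
    fun y => hφ y ((E.le_of_mem hφ₀).2 y)
  have hRR : ((img R (toFun φ₀)).subgroupOf S).map (S.subtype.comp γ.toMonoidHom) = R := by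
    ext y
    constructor
    · rintro ⟨s, hs, rfl⟩
      obtain ⟨x, hx, hxs⟩ := hm₀.mem_img.1 hs
      have h1 := hval ⟨x, hx⟩
      have h2 : (⟨φ₀ ⟨x, hx⟩, (E.le_of_mem hφ₀).2 _⟩ : S) = s :=
        Subtype.ext ((toFun_of_mem φ₀ hx).symm.trans hxs)
      rw [h2] at h1
      show ((γ s : S) : Ω) ∈ R
      rw [← h1]
      exact (α _).2
    · intro hy
      obtain ⟨x, hx⟩ := α.surjective ⟨y, hy⟩
      refine ⟨⟨φ₀ x, (E.le_of_mem hφ₀).2 x⟩, ?_, ?_⟩
      · show φ₀ x ∈ img R (toFun φ₀)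
        rw [← toFun_apply φ₀ x]
        exact hm₀.apply_mem_img x.2
      · show ((γ _ : S) : Ω) = y
        rw [← hval, hx]
  refine (autGroup_mem_iff hR).2 ?_
  have hmap : IsMap E R (toFun χ) := (isMap_of_hom hχ).mono hRR.ge
  refine hmap.mem_hom fun y => ?_
  set x := α⁻¹ y with hxdef
  have hxy : α x = y := MulAut.apply_inv_self R α y
  have hzimg : φ₀ x ∈ img R (toFun φ₀) := toFun_apply φ₀ x ▸ hm₀.apply_mem_img x.2
  have hkz : k (φ₀ x) = (x : Ω) := by rw [← toFun_apply φ₀ x, hkx _ x.2]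
  have hμv : hμ.toHom ⟨φ₀ x, hzimg⟩ = φ₀ (β x) := by
    show toFun φ₀ (toFun (R.subtype.comp β.toMonoidHom) (k (φ₀ x))) = _
    rw [hkz, toFun_aut_apply _ x.2, toFun_apply]
  have hμS : hμ.toHom ⟨φ₀ x, hzimg⟩ ∈ S := hμ.mem hzimg
  have hy : ((γ ⟨φ₀ x, hm₀.img_le hzimg⟩ : S) : Ω) = y := by rw [← hval x, hxy]
  have hmem : ((γ ⟨φ₀ x, hm₀.img_le hzimg⟩ : S) : Ω) ∈
      ((img R (toFun φ₀)).subgroupOf S).map (S.subtype.comp γ.toMonoidHom) :=
    ⟨⟨φ₀ x, hm₀.img_le hzimg⟩, hzimg, rfl⟩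
  have h1 := hχx ⟨φ₀ x, hzimg⟩ hμS hmem
  show ((α (β (α⁻¹ y)) : R) : Ω) = toFun χ y
  rw [← hxdef, hval (β x), ← hy, toFun_of_mem χ hmem, h1]
  congr 3
  exact hμv.symm

theorem IsInvariantIn.le_of_top [Fact p.Prime] [Finite S] (hS : IsPGroup p S)
    (h : E.IsInvariantIn F) (htop : F.autGroup S ≤ E.autGroup S) : F ≤ E := by
  intro P φ hφ
  obtain ⟨α, hα, φ₀, hφ₀, hx⟩ := h.2.2.2 P (F.le_of_mem hφ).1 φ hφ
  have hm := isMap_of_autGroup le_rfl (htop hα)
  have h1 := (isMap_of_hom hφ₀).comp hm fun x hxP => (isMap_of_hom hφ₀).mem hxP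
  refine h1.mem_hom fun x => ?_
  rw [hx x ((E.le_of_mem hφ₀).2 x)]
  simp only [toFun_apply, toFun_aut_apply _ ((E.le_of_mem hφ₀).2 x)]

/-- The simplicity criterion: no strongly closed subgroups, and `Aut_F(S)` is generated by inner
automorphisms and automorphisms restricting to products of `p`-elements on normal centric
subgroups. -/
theorem isSimple_of_generated [Fact p.Prime] [Finite S] (hS : IsPGroup p S)
    (hF : F.IsSaturated p) (hS1 : S ≠ ⊥)
    (hsc : ∀ T : Subgroup Ω, F.StronglyClosed T → T = ⊥ ∨ T = S)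
    (hgen : F.autGroup S ≤ Subgroup.closure ((Inn S : Set (MulAut S)) ∪
      {α | ∃ (R : Subgroup Ω) (hR : R ≤ S), F.IsFullyNormalized R ∧ F.IsCentric R ∧
        ∃ γ ∈ (Subgroup.closure {γ : F.autGroup R | ∃ k : ℕ, orderOf γ = p ^ k}).map
          (F.autGroup R).subtype, α ∈ F.autGroup S ∧
            ∀ x : R, ((α ⟨x, hR x.2⟩ : S) : Ω) = ((γ x : R) : Ω)})) :
    F.IsSimple p := by
  refine ⟨hF, hS1, fun T E hE => ?_⟩
  obtain ⟨⟨hEs, -, hinv⟩, -⟩ := hE
  rcases hsc T hinv.2.1 with hT | hT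
  · exact Or.inl hT
  subst hT
  refine Or.inr ⟨rfl, fun P => hom_eq_of_le_le hinv.1 ?_ P⟩
  refine IsInvariantIn.le_of_top hS hinv fun α hα => ?_
  refine ((Subgroup.closure_le _).2 ?_) (hgen hα)
  rintro β (hβ | ⟨R, hR, hRn, hRc, γ, hγ, hβA, hβx⟩)
  · exact inn_le_autGroup le_rfl hβ
  have hγE : γ ∈ E.autGroup R :=
    closure_pElements_le hS hF hinv.1 hRn (fun a ha b hb => IsInvariantIn.conj_mem hinv hR ha hb) hγ
  have hm := isMap_of_autGroup le_rfl hβA
  have hβf : ∀ x (hx : x ∈ R), toFun (T.subtype.comp β.toMonoidHom) x = ((γ ⟨x, hx⟩ : R) : Ω) :=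
    fun x hx => (toFun_aut_apply _ (hR hx)).trans (hβx ⟨x, hx⟩)
  have hfR : img R (toFun (T.subtype.comp β.toMonoidHom)) = R :=
    (img_congr fun x hx => (hβf x hx).trans (toFun_aut_apply γ hx).symm).trans (img_toFun_aut γ)
  have hfE : IsMap E R (toFun (T.subtype.comp β.toMonoidHom)) :=
    (isMap_of_autGroup hR hγE).congr fun x hx => (toFun_aut_apply γ hx).trans (hβf x hx).symm
  exact (autGroup_iff_isMap le_rfl fun x => (toFun_aut_apply _ x.2).symm).2
    (mem_autGroup_of_restrict hS hEs hinv.1 hF hRc hm hfR hfE)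

theorem isSimple_of_autGroup_top_inn [Fact p.Prime] [Finite S] (hS : IsPGroup p S)
    (hF : F.IsSaturated p) (hS1 : S ≠ ⊥) (htop : F.autGroup S ≤ Inn S)
    (hsc : ∀ T : Subgroup Ω, F.StronglyClosed T → T = ⊥ ∨ T = S) : F.IsSimple p :=
  isSimple_of_generated hS hF hS1 hsc fun α hα => Subgroup.subset_closure (Or.inl (htop hα))

end CfsgLib.Fusion
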