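import Cfsg.Agent.Lib.Fusion.TransferDetector
import Cfsg.Agent.Lib.Fusion.Simple
import Cfsg.Agent.Lib.Transfer.Frobenius

/-!
The saturated subsystems of `p`-power index: one over every subgroup containing the hyperfocal
subgroup, and only one.
-/

set_option autoImplicit false
set_option linter.style.haveILetI false
set_option linter.unusedVariables false
set_option linter.unusedSectionVars false

namespace CfsgLib.Fusion

open Cfsg Cfsg.FusionSystem Subgroup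

universe u

variable {Ω : Type u} [Group Ω] {S T : Subgroup Ω} {F : FusionSystem S} {p : ℕ}
  {P Q : Subgroup Ω} {f h : Ω → Ω}

/-- The elements of order prime to `p` and a Sylow `p`-subgroup generate. -/
theorem sylow_sup_pResidual {G : Type*} [Group G] [Finite G] [Fact p.Prime] (W : Sylow p G) :
    (W : Subgroup G) ⊔ Cfsg.pResidual p G = ⊤ := by
  haveI : (Cfsg.pResidual p G).Normal := CfsgLib.Transfer.pResidual_normal
  have hq : IsPGroup p (G ⧸ Cfsg.pResidual p G) := by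
    intro x
    obtain ⟨g, rfl⟩ := QuotientGroup.mk_surjective x
    obtain ⟨a, m, hm, hg⟩ := Nat.exists_eq_pow_mul_and_not_dvd (orderOf_pos g).ne' p
      (Fact.out : p.Prime).ne_one
    refine ⟨a, ?_⟩
    rw [← QuotientGroup.mk_pow, QuotientGroup.eq_one_iff]
    refine CfsgLib.Transfer.mem_pResidual_of_coprime ?_
    rw [orderOf_pow' g (pow_ne_zero a (Fact.out : p.Prime).ne_zero), hg,
      Nat.gcd_mul_right_left, Nat.mul_div_cancel_left _ (pow_pos (Fact.out : p.Prime).pos a)]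
    exact Nat.Coprime.symm ((Fact.out : p.Prime).coprime_iff_not_dvd.2 hm)
  rw [← Subgroup.index_eq_one]
  obtain ⟨n, hn⟩ := IsPGroup.iff_card.1 hq
  have h1 : ((W : Subgroup G) ⊔ Cfsg.pResidual p G).index ∣ p ^ n :=
    hn ▸ Subgroup.index_dvd_of_le le_sup_right
  obtain ⟨i, -, hi⟩ := (Nat.dvd_prime_pow (Fact.out : p.Prime)).1 h1
  rw [hi]
  rcases Nat.eq_zero_or_pos i with rfl | hpos
  · exact pow_zero p
  · exact absurd ((hi ▸ dvd_pow_self p hpos.ne').trans (Subgroup.index_dvd_of_le le_sup_left))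
      W.not_dvd_index

/-- Two saturated subsystems over one subgroup, one of which contains the automorphisms of order
prime to `p` of `F`. -/
theorem le_of_pPowerIndex [Fact p.Prime] [Finite S] (hS : IsPGroup p S) (hTS : T ≤ S)
    {E E' : FusionSystem T} (hE : E.IsSaturated p) (hEF : E.IsSubsystemOf F)
    (hE' : E'.HasPPowerIndexIn F p) : E ≤ E' := by
  haveI := finite_of_le hTS
  refine alperin_inductive (hS.to_le hTS) hE fun R hR _ => ?_
  haveI := finite_of_le hR.1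
  obtain ⟨W, hW⟩ := (fullyAutomized_of_fullyNormalized (hS.to_le hTS) hE hR).2
  intro α hα
  have h1 : (⟨α, hα⟩ : E.autGroup R) ∈ (E'.autGroup R).subgroupOf (E.autGroup R) := by
    have hle : (W : Subgroup (E.autGroup R)) ⊔ Cfsg.pResidual p (E.autGroup R) ≤
        (E'.autGroup R).subgroupOf (E.autGroup R) := by
      refine sup_le (fun w hw => ?_) ((Subgroup.closure_le _).2 fun w hw => ?_)
      · rw [hW] at hw
        exact autInducedBy_le_autGroup hR.1 hw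
      · have hwF : (w : MulAut R) ∈ F.autGroup R :=
          (autGroup_mem_iff (hR.1.trans hTS)).2 (hEF R ((autGroup_mem_iff hR.1).1 w.2))
        refine hE'.2.2 R hR.1 ⟨⟨w, hwF⟩, CfsgLib.Transfer.mem_pResidual_of_coprime ?_, rfl⟩
        rw [Subgroup.orderOf_mk, Subgroup.orderOf_coe]
        exact hw
    exact hle ((sylow_sup_pResidual W).ge (Subgroup.mem_top _))
  exact h1

/-! ### The kernel of a character of a realizing group -/

section Kernel

variable {G : Type*} [Group G] {A : Type*} [CommGroup A] (ι : S →* G) (Λ : G →* A)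

/-- `g` induces `f` on `P`. -/
def Induces (g : G) (P : Subgroup Ω) (f : Ω → Ω) : Prop :=
  ∀ x y : S, (x : Ω) ∈ P → (y : Ω) = f x → g * ι x * g⁻¹ = ι y

theorem Induces.comp {ι : S →* G} {g g' : G} (hg : Induces ι g P f) (hg' : Induces ι g' Q h)
    (hf : ∀ x ∈ P, f x ∈ Q) (hQ : Q ≤ S) : Induces ι (g' * g) P fun a => h (f a) := by
  intro x y hx hy
  have h1 := hg x ⟨f x, hQ (hf _ hx)⟩ hx rfl
  have h2 := hg' ⟨f x, hQ (hf _ hx)⟩ y (hf _ hx) hy
  rw [← h2, ← h1]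
  group

theorem induces_conj (a : S) : Induces ι (ι a) P fun x => (a : Ω) * x * (a : Ω)⁻¹ :=
  fun x y hx hy => by
    rw [show y = a * x * a⁻¹ from Subtype.ext hy, map_mul, map_mul, map_inv]

variable (F T)

/-- The maps on subgroups of `T` induced by elements of the kernel. -/
def kernelSys (hTS : T ≤ S) (hker : ∀ s : S, Λ (ι s) = 1 ↔ (s : Ω) ∈ T) : FusionSystem T where
  Hom P := {φ | φ ∈ F.Hom P ∧ P ≤ T ∧ (∀ x, φ x ∈ T) ∧ ∃ g, Λ g = 1 ∧
    ∀ (x y : S) (hx : (x : Ω) ∈ P), (y : Ω) = φ ⟨x, hx⟩ → g * ι x * g⁻¹ = ι y}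
  le_of_mem h := ⟨h.2.1, h.2.2.1⟩
  injective_of_mem h := F.injective_of_mem h.1
  conj_mem {P a} hP ha := by
    refine ⟨F.conj_mem (hP.trans hTS) (hTS ha), hP,
      fun x => T.mul_mem (T.mul_mem ha (hP x.2)) (T.inv_mem ha), ι ⟨a, hTS ha⟩,
      (hker _).2 ha, fun x y hx hy => ?_⟩
    exact induces_conj ι ⟨a, hTS ha⟩ (P := P) x y hx hy
  comp_mem {P Q φ ψ} hφ hψ h := by
    obtain ⟨hφ, hP, hv, g, hg, hgx⟩ := hφ
    obtain ⟨hψ, hQ, hv', k, hk, hkx⟩ := hψ
    refine ⟨F.comp_mem hφ hψ h, hP, fun x => hv' _, k * g, by rw [map_mul, hk, hg, one_mul],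
      fun x y hx hy => ?_⟩
    have h1 := hgx x ⟨φ ⟨x, hx⟩, hTS (hv _)⟩ hx rfl
    have h2 := hkx ⟨φ ⟨x, hx⟩, hTS (hv _)⟩ y (h _) hy
    rw [← h2, ← h1]
    group
  inv_mem {P φ} hφ := by
    obtain ⟨hφ, hP, hv, g, hg, hgx⟩ := hφ
    obtain ⟨ψ, hψ, hψx⟩ := F.inv_mem hφ
    refine ⟨ψ, ⟨hψ, ?_, ?_, g⁻¹, by rw [map_inv, hg, inv_one], ?_⟩, hψx⟩
    · rintro _ ⟨x, rfl⟩
      exact hv x
    · rintro ⟨_, x, rfl⟩
      rw [hψx]
      exact hP x.2
    · rintro x y ⟨z, hz⟩ hy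
      have e : (⟨(x : Ω), z, hz⟩ : φ.range) = ⟨φ z, z, rfl⟩ := Subtype.ext hz.symm
      rw [e, hψx] at hy
      rw [← hgx y x (hy ▸ z.2) (hz.symm.trans (congrArg φ (Subtype.ext hy.symm)))]
      group

variable {F T}

theorem isMap_kernelSys_iff (hTS : T ≤ S) (hker : ∀ s : S, Λ (ι s) = 1 ↔ (s : Ω) ∈ T) :
    IsMap (kernelSys T F ι Λ hTS hker) P f ↔
      IsMap F P f ∧ P ≤ T ∧ (∀ x ∈ P, f x ∈ T) ∧ ∃ g, Λ g = 1 ∧ Induces ι g P f := by
  constructor
  · rintro ⟨φ, ⟨hφ, hP, hv, g, hg, hgx⟩, hf⟩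
    exact ⟨⟨φ, hφ, hf⟩, hP, fun x hx => hf ⟨x, hx⟩ ▸ hv ⟨x, hx⟩, g, hg,
      fun x y hx hy => hgx x y hx (hy.trans (hf ⟨x, hx⟩).symm)⟩
  · rintro ⟨⟨φ, hφ, hf⟩, hP, hv, g, hg, hgx⟩
    exact ⟨φ, ⟨hφ, hP, fun x => (hf x).symm ▸ hv x x.2, g, hg,
      fun x y hx hy => hgx x y hx (hy.trans (hf ⟨x, hx⟩))⟩, hf⟩

variable [Fact p.Prime] [Finite S] (hS : IsPGroup p S) (hF : F.IsSaturated p)
  (hA : ∀ a : A, a ^ p = 1) (hTS : T ≤ S) (hker : ∀ s : S, Λ (ι s) = 1 ↔ (s : Ω) ∈ T)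
  (hreal : ∀ (P : Subgroup Ω) (f : Ω → Ω), IsMap F P f → ∃ g, Induces ι g P f)
  (hcent : ∀ P : Subgroup Ω, F.IsFullyCentralized P → ∀ g : G,
    (∀ x : S, (x : Ω) ∈ P → g * ι x = ι x * g) →
    ∃ z : S, (z : Ω) ∈ centralizerIn S P ∧ Λ g = Λ (ι z))
  (hsurj : ∀ g : G, ∃ s : S, Λ (ι s) = Λ g)

include hS hF hA hTS hker hreal hcent hsurj

theorem apply_mem_kernelSys (hf : IsMap F P f) (hP : P ≤ T) {x : Ω} (hx : x ∈ P) : f x ∈ T := by
  obtain ⟨g, hg⟩ := hreal P f hf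
  have h1 := congrArg Λ (hg ⟨x, hf.le hx⟩ ⟨f x, hf.mem hx⟩ hx rfl)
  rw [map_mul, map_mul, map_inv, mul_inv_cancel_comm] at h1
  exact (hker _).1 (h1.symm.trans ((hker _).2 (hP hx)))

theorem mem_kernelSys_of_induces (hf : IsMap F P f) (hP : P ≤ T) {g : G} (hg : Λ g = 1)
    (hgf : Induces ι g P f) : IsMap (kernelSys T F ι Λ hTS hker) P f :=
  (isMap_kernelSys_iff ι Λ hTS hker).2
    ⟨hf, hP, fun x hx => apply_mem_kernelSys ι Λ hS hF hA hTS hker hreal hcent hsurj hf hP hx,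
      g, hg, hgf⟩

theorem pPowerIndex_kernelSys (hhyp : F.hyperfocalSubgroup p ≤ T) :
    (kernelSys T F ι Λ hTS hker).HasPPowerIndexIn F p := by
  refine ⟨fun P φ h => h.1, hhyp, fun P hP => ?_⟩
  rw [Subgroup.map_le_iff_le_comap]
  refine (Subgroup.closure_le _).2 ?_
  rintro ⟨α, hα⟩ hc
  have hPS := hP.trans hTS
  haveI := finite_of_le hPS
  set f := toFun (P.subtype.comp α.toMonoidHom)
  have hf : IsMap F P f := isMap_of_autGroup hPS hα
  obtain ⟨g, hg⟩ := hreal P f hf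
  have hc' : (orderOf α).Coprime p := by
    rw [← Subgroup.orderOf_mk α hα]
    exact hc
  obtain ⟨k, hk1, hk0⟩ := Nat.chineseRemainder hc' 1 0
  have hpow : ∀ n : ℕ, ∀ (x y : S) (hx : (x : Ω) ∈ P),
      (y : Ω) = (((α ^ n : MulAut P) ⟨x, hx⟩ : P) : Ω) → g ^ n * ι x * (g ^ n)⁻¹ = ι y := by
    intro n
    induction n with
    | zero =>
      intro x y hx hy
      rw [show y = x from Subtype.ext (by simpa using hy)]
      simp
    | succ n ih =>
      intro x y hx hy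
      rw [pow_succ' α, MulAut.mul_apply] at hy
      set z := ((α ^ n : MulAut P) ⟨x, hx⟩ : P)
      have h1 := ih x ⟨z, hPS z.2⟩ hx rfl
      have h2 := hg ⟨z, hPS z.2⟩ y z.2 (hy.trans (toFun_aut_apply α z.2).symm)
      rw [← h2, ← h1, pow_succ']
      group
  have hαk : α ^ k = α := by
    rw [pow_eq_pow_iff_modEq.2 hk1, pow_one]
  refine (autGroup_iff_isMap hP fun x => (toFun_aut_apply α x.2).symm).2
    (mem_kernelSys_of_induces ι Λ hS hF hA hTS hker hreal hcent hsurj hf hP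
      (g := g ^ k) ?_ fun x y hx hy => hpow k x y hx ?_)
  · obtain ⟨j, rfl⟩ := Nat.modEq_zero_iff_dvd.1 hk0
    rw [map_pow, pow_mul, hA, one_pow]
  · rw [hαk, hy]
    exact toFun_aut_apply α hx

/-- The kernel system is saturated. -/
theorem isSaturated_kernelSys : (kernelSys T F ι Λ hTS hker).IsSaturated p := by
  set E := kernelSys T F ι Λ hTS hker with hE
  intro P hP
  haveI := finite_of_le hTS
  obtain ⟨Q₀, hQ₀, hQ₀n⟩ := exists_fullyNormalized_conj F (hP.trans hTS)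
  obtain ⟨u, hu, rfl⟩ := isConj_iff.1 hQ₀
  obtain ⟨g, hg⟩ := hreal P u hu
  obtain ⟨s, hs⟩ := hsurj g
  have hcs := isMap_conj F (P := S) le_rfl (inv_mem s.2)
  have hf := hu.comp hcs fun x hx => hu.mem hx
  set f : Ω → Ω := fun x => (s : Ω)⁻¹ * u x * ((s : Ω)⁻¹)⁻¹ with hfdef
  set Q := img P f with hQdef
  have hfE : IsMap E P f := mem_kernelSys_of_induces ι Λ hS hF hA hTS hker hreal hcent hsurj hf hP
    (g := ι s⁻¹ * g) (by rw [map_mul, map_inv, map_inv, hs, inv_mul_cancel])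
    (hg.comp (induces_conj ι s⁻¹ (P := S)) (fun x hx => hu.mem hx) le_rfl)
  have hQT : Q ≤ T := hfE.img_le
  have hQS : Q ≤ S := hQT.trans hTS
  haveI := finite_of_le hQS
  have hQconj : F.IsConj (img P u) Q := isConj_trans (isConj_symm hQ₀) hf.isConj
  have hQn : F.IsFullyNormalized Q := by
    refine ⟨hQS, fun R hR => (hQ₀n.2 R (isConj_trans hQconj hR)).trans ?_⟩
    haveI := finite_normalizerIn (S := S) (P := Q)
    have e : normalizerIn S (img P u) ≤ S := inf_le_left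
    rw [← (hcs.mono e).card_img]
    refine Subgroup.card_le_of_le fun y hy => ?_
    obtain ⟨a, ha, rfl⟩ := (hcs.mono e).mem_img.1 hy
    have h1 := hcs.apply_mem_normalizerIn hu.img_le ha.1 ha.2
    rwa [← img_comp_eq hu hcs fun x hx => hu.mem hx] at h1
  have hQc := fullyCentralized_of_fullyNormalized hS hF hQn
  refine ⟨Q, hfE.isConj, ⟨hQT, ?_⟩, receptive_of_extend hQT fun P' v hv hvi R hPR hR => ?_⟩
  · obtain ⟨W, hW⟩ := (fullyAutomized_of_fullyNormalized hS hF hQn).2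
    have hEF : E.autGroup Q ≤ F.autGroup Q := fun γ hγ =>
      (autGroup_mem_iff hQS).2 ((autGroup_mem_iff hQT).1 hγ).1
    have hchar : ∀ γ : MulAut Q, γ ∈ F.autGroup Q → (γ ∈ E.autGroup Q ↔
        ∃ g, Λ g = 1 ∧ Induces ι g Q (toFun (Q.subtype.comp γ.toMonoidHom))) := fun γ hγ => by
      rw [autGroup_iff_isMap hQT fun x => (toFun_aut_apply γ x.2).symm]
      refine ⟨fun h => ((isMap_kernelSys_iff ι Λ hTS hker).1 h).2.2.2, fun ⟨g, h1, h2⟩ => ?_⟩
      exact mem_kernelSys_of_induces ι Λ hS hF hA hTS hker hreal hcent hsurj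
        (isMap_of_autGroup hQS hγ) hQT h1 h2
    haveI : ((E.autGroup Q).subgroupOf (F.autGroup Q)).Normal := by
      refine ⟨fun β hβ γ => ?_⟩
      obtain ⟨g, hg1, hgx⟩ := (hchar _ β.2).1 hβ
      obtain ⟨k, hkx⟩ := hreal Q _ (isMap_of_autGroup hQS γ.2)
      refine (hchar _ (γ * β * γ⁻¹).2).2 ⟨k * g * k⁻¹, ?_, fun x y hx hy => ?_⟩
      · rw [map_mul, map_mul, map_inv, hg1, mul_one, mul_inv_cancel]
      · rw [toFun_aut_apply _ hx, Subgroup.coe_mul, Subgroup.coe_mul, MulAut.mul_apply,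
          MulAut.mul_apply] at hy
        set a := ((γ⁻¹ : F.autGroup Q) : MulAut Q) ⟨x, hx⟩
        have h1 := hkx ⟨a, hQS a.2⟩ x a.2 (by
          rw [toFun_aut_apply _ a.2]
          simp [a])
        have h2 := hgx ⟨a, hQS a.2⟩ ⟨((β : MulAut Q) a : Q), hQS ((β : MulAut Q) a).2⟩ a.2
          (toFun_aut_apply _ a.2).symm
        have h3 := hkx ⟨((β : MulAut Q) a : Q), hQS ((β : MulAut Q) a).2⟩ y ((β : MulAut Q) a).2
          (hy.trans (toFun_aut_apply _ ((β : MulAut Q) a).2).symm)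
        rw [← h3, ← h2, ← h1]
        group
    obtain ⟨V, hV⟩ := CfsgLib.Transfer.exists_sylow_eq_subgroupOf W
      ((E.autGroup Q).subgroupOf (F.autGroup Q))
    have hinf : autInducedBy S Q ⊓ E.autGroup Q ≤ autInducedBy T Q := by
      rintro γ ⟨hγS, hγE⟩
      obtain ⟨a, ha, hax⟩ := mem_autInducedBy_iff.1 hγS
      obtain ⟨g, hg1, hgx⟩ := (hchar _ (hEF hγE)).1 hγE
      obtain ⟨z, hz, hzΛ⟩ := hcent Q hQc ((ι ⟨a, ha⟩)⁻¹ * g) fun x hx => by
        have h1 := hgx x (⟨a, ha⟩ * x * ⟨a, ha⟩⁻¹) hx (by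
          rw [toFun_aut_apply _ hx, hax]
          rfl)
        rw [map_mul, map_mul, map_inv, mul_inv_eq_iff_eq_mul] at h1
        rw [mul_assoc, h1]
        group
      rw [map_mul, map_inv, hg1, mul_one] at hzΛ
      refine mem_autInducedBy_iff.2 ⟨a * z, (hker (⟨a, ha⟩ * z)).1 ?_, fun x => ?_⟩
      · rw [map_mul, map_mul, ← hzΛ, mul_inv_cancel]
      · rw [hax, show a * (z : Ω) * x * (a * z)⁻¹ = a * ((z : Ω) * x * (z : Ω)⁻¹) * a⁻¹ by group,
          ← hz.2 (x : Ω) x.2, mul_inv_cancel_right]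
    have hTE : autInducedBy T Q ≤ E.autGroup Q := autInducedBy_le_autGroup hQT
    have heq : autInducedBy S Q ⊓ E.autGroup Q = autInducedBy T Q :=
      le_antisymm hinf (le_inf (fun γ hγ => by
        obtain ⟨a, ha, hax⟩ := mem_autInducedBy_iff.1 hγ
        exact mem_autInducedBy_iff.2 ⟨a, hTS ha, hax⟩) hTE)
    have hidx : ¬ p ∣ (autInducedBy T Q).relIndex (E.autGroup Q) := by
      rw [← heq, Subgroup.inf_relIndex_right]
      intro hd
      have h1 := V.not_dvd_index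
      rw [hV, hW] at h1
      refine h1 ?_
      show p ∣ ((autInducedBy S Q).subgroupOf (F.autGroup Q)).relIndex _
      rwa [Subgroup.relIndex_subgroupOf hEF]
    exact ⟨IsPGroup.toSylow ((isPGroup_autInducedBy (hS.to_le hTS) Q).comap_of_injective _
      (Subgroup.subtype_injective _)) hidx, rfl⟩
  · obtain ⟨hvF, hP'T, -, g₀, hg₀, hg₀x⟩ := (isMap_kernelSys_iff ι Λ hTS hker).1 hv
    obtain ⟨w, hw, hwx⟩ := receptive_extend (receptive_of_fullyNormalized hS hF hQn) hvF hvi hPR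
      fun a ha => ⟨hTS (hR a ha).1, (hR a ha).2.1, by
        obtain ⟨b, hb, hbx⟩ := (hR a ha).2.2
        exact ⟨b, hTS hb, hbx⟩⟩
    obtain ⟨g₁, hg₁⟩ := hreal R w hw
    obtain ⟨z, hz, hzΛ⟩ := hcent Q hQc (g₁ * g₀⁻¹) fun q hq => by
      obtain ⟨x, hx, hxq⟩ := hvF.mem_img.1 (hvi.symm ▸ hq : (q : Ω) ∈ img P' v)
      have h1 := hg₁ ⟨x, hvF.le hx⟩ q (hPR hx) (hxq.symm.trans (hwx x hx).symm)
      have h2 := hg₀x ⟨x, hvF.le hx⟩ q hx hxq.symm
      conv_lhs => rw [← h2]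
      conv_rhs => rw [← h1]
      group
    rw [map_mul, map_inv, hg₀, inv_one, mul_one] at hzΛ
    refine ⟨fun a => (z : Ω)⁻¹ * w a * ((z : Ω)⁻¹)⁻¹,
      mem_kernelSys_of_induces ι Λ hS hF hA hTS hker hreal hcent hsurj
      (hw.comp (isMap_conj F (P := S) le_rfl (inv_mem z.2)) fun a ha => hw.mem ha)
      (fun a ha => (hR a ha).1) (g := ι z⁻¹ * g₁)
      (by rw [map_mul, map_inv, map_inv, hzΛ, inv_mul_cancel])
      (hg₁.comp (induces_conj ι z⁻¹ (P := S)) (fun a ha => hw.mem ha) le_rfl), fun x hx => ?_⟩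
    show (z : Ω)⁻¹ * w x * ((z : Ω)⁻¹)⁻¹ = v x
    rw [hwx x hx, inv_inv, mul_assoc, hz.2 (v x) (hvi ▸ hvF.apply_mem_img hx), inv_mul_cancel_left]

end Kernel

/-! ### Existence -/

section Existence

variable [Fact p.Prime] [Finite S] (hS : IsPGroup p S) (hF : F.IsSaturated p)

include hS hF

/-- The subsystem over a normal subgroup of index `p` containing the hyperfocal subgroup. -/
theorem exists_index_p (M : Subgroup S) [M.Normal] (hM : M.index = p)
    (hhyp : F.hyperfocalSubgroup p ≤ M.map S.subtype) :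
    ∃ E : FusionSystem (M.map S.subtype), E.IsSaturated p ∧ E.HasPPowerIndexIn F p := by
  have hcard : Nat.card (S ⧸ M) = p := by rw [← Subgroup.index_eq_card, hM]
  let e : S ⧸ M ≃* Multiplicative (ZMod p) :=
    mulEquivOfPrimeCardEq (p := p) hcard (by
      rw [Nat.card_congr Multiplicative.toAdd, Nat.card_zmod])
  set χ : S →* Multiplicative (ZMod p) := e.toMonoidHom.comp (QuotientGroup.mk' M) with hχdef
  have hχker : ∀ s : S, χ s = 1 ↔ s ∈ M := fun s => by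
    show e ((s : S) : S ⧸ M) = 1 ↔ _
    rw [MulEquiv.map_eq_one_iff, QuotientGroup.eq_one_iff]
  have hcomm : ⁅(S : Subgroup Ω), (S : Subgroup Ω)⁆ ≤ M.map S.subtype := by
    refine Subgroup.commutator_le.2 fun a ha b hb => ?_
    refine ⟨(⟨a, ha⟩ : S) * ⟨b, hb⟩ * (⟨a, ha⟩ : S)⁻¹ * (⟨b, hb⟩ : S)⁻¹, (hχker _).1 ?_, ?_⟩
    · simp only [map_mul, map_inv, mul_inv_cancel_comm, mul_inv_cancel]
    · simp [commutatorElement_def]
  have hfoc : F.focalSubgroup ≤ M.map S.subtype := by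
    rw [focal_eq_hyperfocal_sup hS hF]
    exact sup_le hhyp hcomm
  have hχ : ∀ (P : Subgroup Ω) (f : Ω → Ω) (x y : S), IsMap F P f → (x : Ω) ∈ P →
      (y : Ω) = f x → χ y = χ x := by
    intro P f x y hf hx hy
    have h1 : (x : Ω)⁻¹ * y ∈ M.map S.subtype :=
      hfoc (Subgroup.subset_closure ⟨P, hf.toHom, ⟨x, hx⟩, hf.toHom_mem, by rw [hy]; rfl⟩)
    obtain ⟨m, hm, hme⟩ := h1
    have h2 : χ (x⁻¹ * y) = 1 := by
      rw [show x⁻¹ * y = m from Subtype.ext hme.symm]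
      exact (hχker m).2 hm
    rwa [map_mul, map_inv, inv_mul_eq_one, eq_comm] at h2
  have hA : ∀ a : Multiplicative (ZMod p), a ^ p = 1 := fun a => by
    apply Multiplicative.toAdd.injective
    simp
  obtain ⟨G, _, ι, Λ, k, hk, hΛ, hreal, hcent⟩ := exists_detector hS hF hA χ hχ
  have hord : ∀ a : Multiplicative (ZMod p), ∃ j : ℕ, (a ^ j) ^ k = a := fun a => by
    obtain ⟨l, hl, hl0⟩ := Nat.chineseRemainder
      ((Fact.out : p.Prime).coprime_iff_not_dvd.2 hk) 1 0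
    obtain ⟨i, rfl⟩ := Nat.modEq_zero_iff_dvd.1 hl0
    refine ⟨i, ?_⟩
    rw [← pow_mul, mul_comm, pow_eq_pow_of_modEq hl (hA a), pow_one]
  have hker : ∀ s : S, Λ (ι s) = 1 ↔ (s : Ω) ∈ M.map S.subtype := fun s => by
    rw [hΛ]
    refine Iff.trans ?_ ((hχker s).trans
      (Subgroup.mem_map_iff_mem S.subtype_injective (K := M) (x := s)).symm)
    refine ⟨fun h => ?_, fun h => by rw [h, one_pow]⟩
    obtain ⟨j, hj⟩ := hord (χ s)
    rw [← hj, ← pow_mul, mul_comm, pow_mul, h, one_pow]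
  have hcent' : ∀ P : Subgroup Ω, F.IsFullyCentralized P → ∀ g : G,
      (∀ x : S, (x : Ω) ∈ P → g * ι x = ι x * g) →
      ∃ z : S, (z : Ω) ∈ centralizerIn S P ∧ Λ g = Λ (ι z) := fun P hP g hg => by
    obtain ⟨z, hz, hzg⟩ := hcent P hP g hg
    obtain ⟨j, hj⟩ := hord (χ z)
    exact ⟨z ^ j, by rw [Subgroup.coe_pow]; exact Subgroup.pow_mem _ hz j,
      by rw [hΛ, map_pow, hj, hzg]⟩
  have hsurj : ∀ g : G, ∃ s : S, Λ (ι s) = Λ g := fun g => by
    obtain ⟨q, hq⟩ := e.surjective (Λ g)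
    obtain ⟨s, rfl⟩ := QuotientGroup.mk_surjective q
    obtain ⟨j, hj⟩ := hord (χ s)
    exact ⟨s ^ j, by rw [hΛ, map_pow, hj]; exact hq⟩
  have hTS : M.map S.subtype ≤ S := Subgroup.map_subtype_le M
  exact ⟨kernelSys _ F ι Λ hTS hker,
    isSaturated_kernelSys ι Λ hS hF hA hTS hker hreal hcent' hsurj,
    pPowerIndex_kernelSys ι Λ hS hF hA hTS hker hreal hcent' hsurj hhyp⟩

end Existence

/-- A saturated subsystem of `p`-power index over every subgroup above the hyperfocal subgroup. -/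
theorem exists_pPowerIndex [Fact p.Prime] : ∀ (n : ℕ) (S : Subgroup Ω) [Finite S],
    IsPGroup p S → ∀ (F : FusionSystem S), F.IsSaturated p → ∀ T : Subgroup Ω, T ≤ S →
    F.hyperfocalSubgroup p ≤ T → Nat.card S ≤ Nat.card T + n →
    ∃ E : FusionSystem T, E.IsSaturated p ∧ E.HasPPowerIndexIn F p := by
  intro n
  induction n using Nat.strong_induction_on with
  | _ n ih => ?_
  intro S _ hS F hF T hTS hT hn
  haveI := finite_of_le hTS
  rcases eq_or_ne T S with rfl | hne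
  · refine ⟨F, hF, fun P φ h => h, hT, fun P hP => ?_⟩
    rintro _ ⟨α, -, rfl⟩
    exact α.2
  have hlt : Nat.card T < Nat.card S := by
    by_contra hge
    exact hne (eq_of_le_of_card_le hTS (not_lt.1 hge))
  obtain ⟨a, ha⟩ := IsPGroup.iff_card.1 hS
  obtain ⟨b, hb⟩ := IsPGroup.iff_card.1 (hS.to_le hTS)
  have hba : b < a := (Nat.pow_lt_pow_iff_right (Fact.out : p.Prime).one_lt).1 (hb ▸ ha ▸ hlt)
  have hb' : Nat.card (T.subgroupOf S) = p ^ b := by
    rw [Nat.card_congr (Subgroup.subgroupOfEquivOfLe hTS).toEquiv, hb]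
  obtain ⟨M, hMc, hTM⟩ := Sylow.exists_subgroup_card_pow_prime_le p
    (show p ^ (a - 1) ∣ Nat.card S by rw [ha]; exact pow_dvd_pow p (by omega)) _ hb' (by omega)
  have hidx : M.index = p := by
    have h1 := Subgroup.card_mul_index M
    rw [hMc, ha, show a = (a - 1) + 1 by omega, pow_succ, Nat.add_sub_cancel] at h1
    exact Nat.eq_of_mul_eq_mul_left (pow_pos (Fact.out : p.Prime).pos _) h1
  haveI : M.Normal := Subgroup.normal_of_index_eq_minFac_card (by
    rw [hidx, ha, Nat.Prime.pow_minFac Fact.out (by omega)])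
  have hTM' : T ≤ M.map S.subtype := fun x hx =>
    ⟨⟨x, hTS hx⟩, hTM (Subgroup.mem_subgroupOf.2 hx), rfl⟩
  obtain ⟨E₁, hE₁, hE₁F, hhyp₁, hres₁⟩ := exists_index_p hS hF M hidx (hT.trans hTM')
  haveI : Finite (M.map S.subtype) := finite_of_le (Subgroup.map_subtype_le M)
  have hcM : Nat.card (M.map S.subtype) < Nat.card S := by
    rw [Subgroup.card_map_of_injective S.subtype_injective, ← Subgroup.card_mul_index M, hidx]
    exact lt_mul_of_one_lt_right Nat.card_pos (Fact.out : p.Prime).one_lt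
  have hle₁ : E₁.hyperfocalSubgroup p ≤ T := by
    refine le_trans (hyperfocal_le_of _ fun P hP α hα hc x => ?_) hT
    exact sub_mem_hyperfocal_of_coprime (hP.trans (Subgroup.map_subtype_le M))
      ((autGroup_mem_iff (hP.trans (Subgroup.map_subtype_le M))).2
        (hE₁F P ((autGroup_mem_iff hP).1 hα))) hc x
  obtain ⟨E, hE, hEE₁, -, hres⟩ := ih (n - 1) (by omega) (M.map S.subtype)
    (hS.to_le (Subgroup.map_subtype_le M)) E₁ hE₁ T hTM' hle₁ (by omega)
  refine ⟨E, hE, fun P φ h => hE₁F P (hEE₁ P h), hT, fun P hP => ?_⟩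
  rw [Subgroup.map_le_iff_le_comap]
  refine (Subgroup.closure_le _).2 ?_
  rintro ⟨α, hα⟩ hc
  have hα₁ : α ∈ E₁.autGroup P :=
    hres₁ P (hP.trans hTM') ⟨⟨α, hα⟩, CfsgLib.Transfer.mem_pResidual_of_coprime hc, rfl⟩
  refine hres P hP ⟨⟨α, hα₁⟩, CfsgLib.Transfer.mem_pResidual_of_coprime ?_, rfl⟩
  rwa [Subgroup.orderOf_mk, ← Subgroup.orderOf_mk α hα]

/-- The saturated subsystem of `p`-power index over a given subgroup is unique. -/
theorem pPowerIndex_unique [Fact p.Prime] [Finite S] (hS : IsPGroup p S) (hTS : T ≤ S)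
    {E E' : FusionSystem T} (hE : E.IsSaturated p) (hEi : E.HasPPowerIndexIn F p)
    (hE' : E'.IsSaturated p) (hE'i : E'.HasPPowerIndexIn F p) : E = E' := by
  have h : E.Hom = E'.Hom := funext fun P => Set.Subset.antisymm
    (le_of_pPowerIndex hS hTS hE hEi.1 hE'i P) (le_of_pPowerIndex hS hTS hE' hE'i.1 hEi P)
  obtain ⟨h1, _, _, _, _, _⟩ := E
  obtain ⟨h2, _, _, _, _, _⟩ := E'
  subst h
  rfl

end CfsgLib.Fusion
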