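import Cfsg.Agent.Lib.Fusion.SimpleGroupCriterion
import Cfsg.Agent.Lib.Classical.SLTwoSylowTwo
import Cfsg.Agent.Lib.KnownB.SL2Class

/-!
Simplicity of `2`-fusion systems with dihedral Sylow subgroup and one class of involutions;
`PSL_2(q)` for odd `q`.
-/

set_option autoImplicit false
set_option linter.unusedVariables false
set_option linter.unusedSectionVars false

namespace CfsgLib.Fusion

open Cfsg Subgroup

section Dihedral

variable {G : Type*} [Group G] [Finite G]

/-- Dihedral `2`-subgroup of order at least `8` whose involutions are conjugate. -/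
theorem group_isSimple_dihedral (S₀ : Subgroup G) (hp : IsPGroup 2 S₀) (hidx : ¬ 2 ∣ S₀.index)
    (r : G) (hr : r ∈ S₀) {k : ℕ} (hk : 2 ≤ k) (hord : orderOf r = 2 ^ k)
    (hout : ∀ s ∈ S₀, s ∉ Subgroup.zpowers r → s ^ 2 = 1)
    (hne : Subgroup.zpowers r ≠ S₀)
    (hclass : ∀ s t : G, orderOf s = 2 → orderOf t = 2 → IsConj s t)
    (S : Sylow 2 G) : (groupFusionSystem (S : Subgroup G)).IsSimple 2 := by
  haveI : Fact (Nat.Prime 2) := ⟨Nat.prime_two⟩
  have h4 : 4 ≤ orderOf r := by
    rw [hord]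
    exact Nat.pow_le_pow_right (n := 2) two_pos hk
  have hr2 : r ^ 2 ≠ 1 := fun h => by
    have := Nat.le_of_dvd two_pos (orderOf_dvd_of_pow_eq_one h)
    omega
  have hS1 : S₀ ≠ ⊥ := fun h => hr2 (by
    rw [(Subgroup.eq_bot_iff_forall _).1 h r hr, one_pow])
  have hlt : Subgroup.zpowers r < S₀ :=
    lt_of_le_of_ne (Subgroup.zpowers_le.2 hr) hne
  obtain ⟨s, hs, hsC⟩ := SetLike.exists_of_lt hlt
  refine group_isSimple S₀ hp hidx hS1 ?_ ?_ S
  · intro T hT hTc
    refine or_iff_not_imp_left.2 fun hT0 => le_antisymm hT ?_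
    haveI : Finite T := inferInstance
    obtain ⟨x, hxT, hx⟩ : ∃ x ∈ T, orderOf x = 2 := by
      obtain ⟨y, hy⟩ := (Subgroup.ne_bot_iff_exists_ne_one).1 hT0
      haveI : Nontrivial T := ⟨⟨y, 1, hy⟩⟩
      obtain ⟨n, hn, hcard⟩ := (hp.to_le hT).nontrivial_iff_card.1 inferInstance
      obtain ⟨x, hx⟩ := exists_prime_orderOf_dvd_card' (G := T) 2 (hcard ▸ dvd_pow_self 2 hn.ne')
      exact ⟨x, x.2, by rw [Subgroup.orderOf_coe, hx]⟩
    have hinv : ∀ u ∈ S₀, u ∉ Subgroup.zpowers r → u ∈ T := fun u hu huC => by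
      have hu2 : orderOf u = 2 :=
        orderOf_eq_prime (hout u hu huC) fun h => huC (h ▸ one_mem _)
      obtain ⟨g, hg⟩ := _root_.isConj_iff.1 (hclass x u hx hu2)
      exact hg ▸ hTc x hxT g (hg.symm ▸ hu)
    intro u hu
    by_cases huC : u ∈ Subgroup.zpowers r
    · have h1 := hinv s hs hsC
      have h2 := hinv (s * u) (mul_mem hs hu) fun h => hsC (by
        simpa [mul_assoc] using mul_mem h (inv_mem huC))
      simpa using mul_mem (inv_mem h1) h2
    · exact hinv u hu huC
  · intro g hg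
    set H := Subgroup.closure ((Subgroup.centralizer (S₀ : Set G) : Set G) ∪ (S₀ : Set G) ∪
      normalGenSet 2 S₀)
    obtain ⟨n, hn⟩ : ∃ n, n = (orderOf g).factorization 2 := ⟨_, rfl⟩
    set m := orderOf g / 2 ^ n with hm
    have hfin : 0 < orderOf g := orderOf_pos g
    have hmul : 2 ^ n * m = orderOf g := by rw [hm, hn]; exact Nat.ordProj_mul_ordCompl_eq_self _ _
    have hodd : ¬ 2 ∣ m := by rw [hm, hn]; exact Nat.not_dvd_ordCompl Nat.prime_two hfin.ne'
    have hcop : Nat.Coprime (2 ^ n) m :=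
      Nat.Coprime.pow_left _ ((Nat.prime_two.coprime_iff_not_dvd).2 hodd)
    have hp1 : g ^ m ∈ S₀ := by
      obtain ⟨W, hW⟩ : ∃ W : Sylow 2 G, (W : Subgroup G) = S₀ := ⟨hp.toSylow hidx, rfl⟩
      rw [← hW]
      refine (IsPGroup.inf_normalizer_sylow (G := G) (p := 2) (P := Subgroup.zpowers (g ^ m)) ?_ W).le
        ⟨Subgroup.mem_zpowers _, ?_⟩ |>.2
      · refine IsPGroup.of_card (n := n) ?_
        rw [Nat.card_zpowers, orderOf_pow, ← hmul, Nat.gcd_mul_left_left, Nat.mul_div_cancel]
        exact Nat.pos_of_ne_zero fun h => by simp [h] at hodd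
      · show g ^ m ∈ Subgroup.normalizer ((W : Subgroup G) : Set G)
        rw [hW]
        exact pow_mem hg m
    have hp2 : g ^ (2 ^ n) ∈ Subgroup.centralizer (S₀ : Set G) := by
      set h := g ^ (2 ^ n) with hh
      have hhN : h ∈ Subgroup.normalizer (S₀ : Set G) := pow_mem hg _
      have hhm : h ^ m = 1 := by rw [hh, ← pow_mul, hmul, pow_orderOf_eq_one]
      have hC : ∀ (a : G), a ∈ Subgroup.normalizer (S₀ : Set G) → a * r * a⁻¹ ∈ Subgroup.zpowers r :=
        fun a ha => by
          by_contra h1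
          have h2 := hout _ ((Subgroup.mem_normalizer_iff.1 ha r).1 hr) h1
          rw [conj_pow, mul_inv_eq_one, mul_eq_left] at h2
          exact hr2 h2
      obtain ⟨a, ha⟩ := Subgroup.mem_zpowers_iff.1 (hC h hhN)
      have hha : ∀ j : ℕ, h ^ j * r * (h ^ j)⁻¹ = r ^ (a ^ j) := by
        intro j
        induction j with
        | zero => simp
        | succ j ih =>
          rw [pow_succ' h, mul_inv_rev, ← mul_assoc, mul_assoc h (h ^ j) r,
            mul_assoc h (h ^ j * r), ih, ← conj_zpow, ← ha, ← zpow_mul, pow_succ']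
      have h1 := hha m
      rw [hhm, one_mul, inv_one, mul_one] at h1
      have h3 : ((a : ZMod (2 ^ k)) ^ m) = 1 := by
        have h2 : (orderOf r : ℤ) ∣ a ^ m - 1 :=
          orderOf_dvd_sub_iff_zpow_eq_zpow.2 (by rw [← h1, zpow_one])
        rw [hord] at h2
        have h4 := (ZMod.intCast_zmod_eq_zero_iff_dvd _ _).2 h2
        push_cast at h4
        exact sub_eq_zero.1 h4
      have ha1 : (a : ZMod (2 ^ k)) = 1 := by
        have hu : IsUnit (a : ZMod (2 ^ k)) := by
          refine IsUnit.of_mul_eq_one ((a : ZMod (2 ^ k)) ^ (m - 1)) ?_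
          rw [← pow_succ', Nat.sub_add_cancel (Nat.pos_of_ne_zero fun h => by simp [h] at hodd), h3]
        obtain ⟨u, hu⟩ := hu
        have hu1 : u ^ m = 1 := Units.ext (by rw [Units.val_pow_eq_pow_val, hu, h3, Units.val_one])
        have hord2 : orderOf u ∣ 2 ^ (k - 1) := by
          have := orderOf_dvd_natCard u
          rwa [Nat.card_eq_fintype_card, ZMod.card_units_eq_totient,
            Nat.totient_prime_pow Nat.prime_two (by omega), show 2 - 1 = 1 from rfl, mul_one] at this
        have : orderOf u = 1 := Nat.eq_one_of_dvd_coprimes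
          (Nat.Coprime.pow_left _ ((Nat.prime_two.coprime_iff_not_dvd).2 hodd))
          hord2 (orderOf_dvd_of_pow_eq_one hu1)
        rw [← hu, orderOf_eq_one_iff.1 this, Units.val_one]
      have hfix : h * r * h⁻¹ = r := by
        rw [← ha]
        conv_rhs => rw [← zpow_one r]
        rw [← orderOf_dvd_sub_iff_zpow_eq_zpow, hord]
        refine (ZMod.intCast_zmod_eq_zero_iff_dvd _ _).1 ?_
        push_cast
        rw [ha1, sub_self]
      have hfixC : ∀ c ∈ Subgroup.zpowers r, h * c * h⁻¹ = c := fun c hc => by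
        obtain ⟨i, rfl⟩ := Subgroup.mem_zpowers_iff.1 hc
        rw [← conj_zpow, hfix]
      intro u hu
      by_cases huC : u ∈ Subgroup.zpowers r
      · exact (mul_inv_eq_iff_eq_mul.1 (hfixC u huC)).symm
      · -- `h u h⁻¹` lies in the other coset
        have hcoset : ∀ w ∈ S₀, w ∉ Subgroup.zpowers r → u⁻¹ * w ∈ Subgroup.zpowers r := by
          intro w hw hwC
          by_contra h0
          have e1 := hout _ (mul_mem (inv_mem hu) hw) h0
          have e2 := hout u hu huC
          have e3 := hout w hw hwC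
          have e4 := hout _ (mul_mem hu hr) fun h => huC (by
            simpa [mul_assoc] using mul_mem h (inv_mem (Subgroup.mem_zpowers r)))
          have e5 := hout _ (mul_mem hw hr) fun h => hwC (by
            simpa [mul_assoc] using mul_mem h (inv_mem (Subgroup.mem_zpowers r)))
          have e6 := hout _ (mul_mem (mul_mem (inv_mem hu) hw) hr) fun h => h0 (by
            simpa [mul_assoc] using mul_mem h (inv_mem (Subgroup.mem_zpowers r)))
          rw [sq] at e1 e2 e3 e4 e5 e6
          refine hr2 ?_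
          rw [sq]
          have i1 : u⁻¹ = u := inv_eq_of_mul_eq_one_left e2
          rw [i1] at e1 e6
          -- `u`, `w` invert `r` and `uw` inverts `r`
          have f1 : u * r * u = r⁻¹ := eq_inv_of_mul_eq_one_left (by simpa [mul_assoc] using e4)
          have f2 : w * r * w = r⁻¹ := eq_inv_of_mul_eq_one_left (by simpa [mul_assoc] using e5)
          have f3 : (u * w) * r * (u * w) = r⁻¹ :=
            eq_inv_of_mul_eq_one_left (by simpa [mul_assoc] using e6)
          have i2 : (u * w)⁻¹ = u * w := inv_eq_of_mul_eq_one_left e1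
          have i3 : w⁻¹ = w := inv_eq_of_mul_eq_one_left e3
          have f4 : u * r⁻¹ * u = r := by
            have := congrArg (fun z => z⁻¹) f1
            simpa [mul_assoc, i1] using this
          have : r = r⁻¹ := calc
            r = u * r⁻¹ * u := f4.symm
            _ = u * (w * r * w) * u := by rw [f2]
            _ = (u * w) * r * (u * w)⁻¹ := by rw [mul_inv_rev, i1, i3]; simp only [mul_assoc]
            _ = r⁻¹ := by rw [i2, f3]
          nth_rewrite 2 [this]
          exact mul_inv_cancel r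
        obtain ⟨c, hc, hcu⟩ : ∃ c ∈ Subgroup.zpowers r, h * u * h⁻¹ = u * c := by
          refine ⟨u⁻¹ * (h * u * h⁻¹), hcoset _ ((Subgroup.mem_normalizer_iff.1 hhN u).1 hu) ?_, by group⟩
          intro h0
          obtain ⟨i, hi⟩ := Subgroup.mem_zpowers_iff.1 h0
          refine huC ?_
          have h5 := hfixC _ (show r ^ i ∈ Subgroup.zpowers r from zpow_mem (Subgroup.mem_zpowers r) i)
          rw [hi] at h5
          have : h * u * h⁻¹ = u := mul_left_cancel (mul_right_cancel h5)
          exact this ▸ h0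
        have hj : ∀ j : ℕ, h ^ j * u * (h ^ j)⁻¹ = u * c ^ j := by
          intro j
          induction j with
          | zero => simp
          | succ j ih =>
            rw [pow_succ' h, mul_inv_rev, ← mul_assoc, mul_assoc h (h ^ j) u,
              mul_assoc h (h ^ j * u), ih]
            calc h * (u * c ^ j) * h⁻¹ = (h * u * h⁻¹) * (h * c ^ j * h⁻¹) := by group
              _ = u * c ^ (j + 1) := by rw [hcu, hfixC _ (pow_mem hc j), pow_succ']; group
        have h7 := hj m
        rw [hhm, one_mul, inv_one, mul_one] at h7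
        have hc1 : c = 1 := by
          have h8 : orderOf c ∣ m := orderOf_dvd_of_pow_eq_one (mul_left_cancel (h7.symm.trans (mul_one u).symm))
          obtain ⟨i, hi⟩ := (IsPGroup.iff_orderOf.1 hp) ⟨c, Subgroup.zpowers_le.2 hr hc⟩
          rw [Subgroup.orderOf_mk] at hi
          exact orderOf_eq_one_iff.1 (Nat.eq_one_of_dvd_coprimes
            (Nat.Coprime.pow_left _ ((Nat.prime_two.coprime_iff_not_dvd).2 hodd))
            (dvd_of_eq hi) h8)
        rw [hc1, mul_one] at hcu
        exact (mul_inv_eq_iff_eq_mul.1 hcu).symm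
    have hbez := Nat.gcd_eq_gcd_ab (2 ^ n) m
    rw [hcop.gcd_eq_one] at hbez
    have hg' : g = (g ^ (2 ^ n)) ^ Nat.gcdA (2 ^ n) m * (g ^ m) ^ Nat.gcdB (2 ^ n) m := by
      conv_lhs => rw [← zpow_one g]
      rw [← zpow_natCast g (2 ^ n), ← zpow_natCast g m, ← zpow_mul, ← zpow_mul, ← zpow_add]
      exact congrArg (fun z : ℤ => g ^ z) (by exact_mod_cast hbez)
    rw [hg']
    refine H.mul_mem (H.zpow_mem (Subgroup.subset_closure ?_) _)
      (H.zpow_mem (Subgroup.subset_closure ?_) _)
    · exact Or.inl (Or.inl hp2)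
    · exact Or.inl (Or.inr hp1)

end Dihedral

/-! ### `PSL_2(q)`, `q` odd -/

section PSLTwo

open Matrix
open scoped MatrixGroups

variable {F : Type*} [Field F] [Fintype F]

theorem two_ne_zero_of_odd (hodd : Odd (Fintype.card F)) : (2 : F) ≠ 0 := fun h20 => by
  haveI : CharP F 2 := CharTwo.of_one_ne_zero_of_two_eq_zero one_ne_zero h20
  obtain ⟨k, -, hk⟩ := FiniteField.card F 2
  rw [hk] at hodd
  exact Nat.not_even_iff_odd.2 hodd (Nat.even_pow.2 ⟨even_two, k.ne_zero⟩)

theorem mem_center_of_eq_smul (g : SL(2, F)) (a : F)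
    (h : (g : Matrix (Fin 2) (Fin 2) F) = a • 1) : g ∈ Subgroup.center SL(2, F) := by
  refine Matrix.SpecialLinearGroup.mem_center_iff.2 ⟨a, ?_, ?_⟩
  · have hd := g.2
    rw [h, det_smul, det_one, mul_one] at hd
    exact hd
  · rw [h, Matrix.scalar_apply, ← Matrix.diagonal_one, ← Matrix.diagonal_smul]
    congr 1
    funext i
    simp

theorem involution_trace (hodd : Odd (Fintype.card F)) {g : SL(2, F)}
    (h : orderOf (QuotientGroup.mk' (Subgroup.center SL(2, F)) g) = 2) :
    (g : Matrix (Fin 2) (Fin 2) F).trace = 0 ∧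
      CfsgLib.KnownB.GL2.NonScalar (g : Matrix (Fin 2) (Fin 2) F) := by
  have h2 := two_ne_zero_of_odd hodd
  have hns : CfsgLib.KnownB.GL2.NonScalar (g : Matrix (Fin 2) (Fin 2) F) := fun a ha => by
    have : QuotientGroup.mk' (Subgroup.center SL(2, F)) g = 1 :=
      (QuotientGroup.eq_one_iff g).2 (mem_center_of_eq_smul g a ha)
    rw [this, orderOf_one] at h
    omega
  refine ⟨?_, hns⟩
  have hsq : g * g ∈ Subgroup.center SL(2, F) := by
    refine (QuotientGroup.eq_one_iff _).1 ?_
    have := pow_orderOf_eq_one (QuotientGroup.mk' (Subgroup.center SL(2, F)) g)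
    rw [h, sq, ← map_mul] at this
    exact this
  obtain ⟨a, -, ha⟩ := Matrix.SpecialLinearGroup.mem_center_iff.1 hsq
  rw [Matrix.SpecialLinearGroup.coe_mul] at ha
  by_contra ht
  have e01 := congrFun (congrFun ha 0) 1
  have e10 := congrFun (congrFun ha 1) 0
  have e00 := congrFun (congrFun ha 0) 0
  have e11 := congrFun (congrFun ha 1) 1
  simp only [Matrix.scalar_apply, Matrix.mul_apply, Fin.sum_univ_two, Matrix.diagonal] at e01 e10 e00 e11
  simp at e01 e10 e00 e11
  rw [Matrix.trace_fin_two] at ht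
  rcases (CfsgLib.KnownB.GL2.nonScalar_iff _).1 hns with h1 | h1 | h1
  · exact ht ((mul_eq_zero.1 (show (g.1 0 0 + g.1 1 1) * g.1 0 1 = 0 by linear_combination -e01)).resolve_right h1)
  · exact ht ((mul_eq_zero.1 (show (g.1 0 0 + g.1 1 1) * g.1 1 0 = 0 by linear_combination -e10)).resolve_right h1)
  · exact ht ((mul_eq_zero.1 (show (g.1 0 0 + g.1 1 1) * (g.1 0 0 - g.1 1 1) = 0 by
      linear_combination e11 - e00)).resolve_right (sub_ne_zero.2 h1))

theorem psl_two_involutions_conj (hodd : Odd (Fintype.card F))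
    (s t : Matrix.ProjectiveSpecialLinearGroup (Fin 2) F) (hs : orderOf s = 2) (ht : orderOf t = 2) :
    IsConj s t := by
  obtain ⟨g, rfl⟩ := QuotientGroup.mk'_surjective (Subgroup.center SL(2, F)) s
  obtain ⟨g', rfl⟩ := QuotientGroup.mk'_surjective (Subgroup.center SL(2, F)) t
  obtain ⟨h1, h2⟩ := involution_trace hodd hs
  obtain ⟨h1', h2'⟩ := involution_trace hodd ht
  classical
  refine MonoidHom.map_isConj _ (CfsgLib.KnownB.SL2.isConj_of_isConj_gl
    (CfsgLib.KnownB.GL2.isConj_of_trace_det h2 h2' (h1.trans h1'.symm) (g.2.trans g'.2.symm)) ?_)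
  left
  rw [h1, zero_pow two_ne_zero]
  intro h
  have h2 := two_ne_zero_of_odd hodd
  exact mul_ne_zero h2 h2 (by linear_combination -h)

end PSLTwo

section Cover

variable {G G' : Type*} [Group G] [Finite G] [Group G'] [Finite G']

/-- A central double cover with generalized quaternion Sylow subgroup of order at least `16`. -/
theorem group_isSimple_quaternion_cover (π : G' →* G) (hπ : Function.Surjective π)
    (hker : ∀ u, π u = 1 → u ^ 2 = 1 ∧ u ∈ Subgroup.center G') {k : ℕ} (hk2 : 2 ≤ k)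
    [Fact (Nat.Prime 2)] (P : Sylow 2 G') [NeZero (2 ^ k)]
    (e : (P : Subgroup G') ≃* QuaternionGroup (2 ^ k))
    (hz : π (e.symm (QuaternionGroup.a ((2 ^ k : ℕ) : ZMod (2 * 2 ^ k)))).1 = 1)
    (hclass : ∀ s t : G, orderOf s = 2 → orderOf t = 2 → IsConj s t)
    (S : Sylow 2 G) : (groupFusionSystem (S : Subgroup G)).IsSimple 2 := by
  set W := P.mapSurjective hπ
  set r : G' := (e.symm (QuaternionGroup.a 1)).1 with hr
  have hordr : orderOf r = 2 * 2 ^ k := by
    rw [hr, Subgroup.orderOf_coe, MulEquiv.orderOf_eq, QuaternionGroup.orderOf_a_one]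
  have hpow : ∀ i : ℕ, r ^ i = (e.symm (QuaternionGroup.a (i : ZMod (2 * 2 ^ k)))).1 := by
    intro i
    rw [hr, ← SubmonoidClass.coe_pow, ← map_pow, QuaternionGroup.a_one_pow]
  refine group_isSimple_dihedral (W : Subgroup G) W.isPGroup' W.not_dvd_index (π r)
    ⟨r, (e.symm _).2, rfl⟩ hk2 ?_ ?_ ?_ hclass S
  · refine (orderOf_eq_prime_pow (p := 2) (n := k - 1) ?_ ?_).trans (by congr 1; omega)
    · intro h
      rw [← map_pow] at h
      have h2 := orderOf_dvd_of_pow_eq_one (show r ^ (2 ^ (k - 1) * 2) = 1 by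
        rw [pow_mul]; exact (hker _ h).1)
      rw [hordr, mul_comm (2 ^ (k - 1))] at h2
      have h3 := Nat.le_of_dvd (by positivity) h2
      have : 2 ^ (k - 1) < 2 ^ k := Nat.pow_lt_pow_right one_lt_two (by omega)
      omega
    · rw [show k - 1 + 1 = k by omega, ← map_pow, hpow]
      exact hz
  · rintro _ ⟨u, hu, rfl⟩ huC
    obtain ⟨i, hi⟩ | ⟨i, hi⟩ : (∃ i, e ⟨u, hu⟩ = QuaternionGroup.a i) ∨
        ∃ i, e ⟨u, hu⟩ = QuaternionGroup.xa i := by
      cases e ⟨u, hu⟩ with
      | a i => exact Or.inl ⟨i, rfl⟩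
      | xa i => exact Or.inr ⟨i, rfl⟩
    · refine absurd (Subgroup.mem_zpowers_iff.2 ⟨((i.val : ℕ) : ℤ), ?_⟩) huC
      rw [zpow_natCast, ← map_pow, hpow, ZMod.natCast_val, ZMod.cast_id, ← hi,
        MulEquiv.symm_apply_apply]
    · have h2 : (⟨u, hu⟩ : (P : Subgroup G')) ^ 2 =
          e.symm (QuaternionGroup.a ((2 ^ k : ℕ) : ZMod (2 * 2 ^ k))) := by
        rw [MulEquiv.eq_symm_apply, map_pow, hi, QuaternionGroup.xa_sq]
      have h2' := congrArg Subtype.val h2
      rw [SubmonoidClass.coe_pow] at h2'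
      rw [← map_pow, h2']
      exact hz
  · intro h
    have hu : π (e.symm (QuaternionGroup.xa 0)).1 ∈ Subgroup.zpowers (π r) := by
      rw [h]
      exact ⟨_, (e.symm _).2, rfl⟩
    obtain ⟨i, hi⟩ := mem_powers_iff_mem_zpowers.2 hu
    simp only [← map_pow] at hi
    have h4 : Commute r ((r ^ i)⁻¹ * (e.symm (QuaternionGroup.xa 0)).1) :=
      Subgroup.mem_center_iff.1 ((hker _ (by rw [map_mul, map_inv, hi, inv_mul_cancel])).2) r
    have h6 : Commute r ((r ^ i) * ((r ^ i)⁻¹ * (e.symm (QuaternionGroup.xa 0)).1)) :=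
      ((Commute.refl r).pow_right i).mul_right h4
    rw [mul_inv_cancel_left, hr] at h6
    have h7 := congrArg e (Subtype.ext (h6.eq) :
      e.symm (QuaternionGroup.a 1) * e.symm (QuaternionGroup.xa 0) =
        e.symm (QuaternionGroup.xa 0) * e.symm (QuaternionGroup.a 1))
    simp only [map_mul, MulEquiv.apply_symm_apply, QuaternionGroup.xa_mul_a,
      QuaternionGroup.a_mul_xa] at h7
    rw [QuaternionGroup.xa.injEq] at h7
    have h8 : ((2 : ℕ) : ZMod (2 * 2 ^ k)) = 0 := by
      push_cast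
      linear_combination -h7
    rw [ZMod.natCast_eq_zero_iff] at h8
    have h9 := Nat.le_of_dvd two_pos h8
    have : 4 ≤ 2 ^ k := Nat.pow_le_pow_right (n := 2) two_pos hk2
    omega

end Cover

section Main

open Matrix
open scoped MatrixGroups

variable {F : Type*} [Field F] [Fintype F]

/-- The `2`-fusion system of `PSL_2(q)`, `q² ≡ 1` mod `16`, is simple. -/
theorem isSimple_psl_two (hodd : Odd (Fintype.card F)) (h16 : 16 ∣ Fintype.card F ^ 2 - 1)
    (S : Sylow 2 (Matrix.ProjectiveSpecialLinearGroup (Fin 2) F)) :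
    (groupFusionSystem (S : Subgroup (Matrix.ProjectiveSpecialLinearGroup (Fin 2) F))).IsSimple 2 := by
  classical
  haveI : Fact (Nat.Prime 2) := ⟨Nat.prime_two⟩
  obtain ⟨k, -, hk, hQ⟩ := CfsgLib.Classical.sylow_two_sl_two hodd
  have hk2 : 2 ≤ k := by
    have hfac := CfsgLib.Classical.factorization_card_sl_two (F := F) hodd
    rw [hk] at hfac
    have hq : 1 < Fintype.card F := Fintype.one_lt_card
    have hne : Fintype.card F ^ 2 - 1 ≠ 0 := by
      have : 1 < Fintype.card F ^ 2 := Nat.one_lt_pow two_ne_zero hq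
      omega
    have h16' : 4 ≤ (Fintype.card F ^ 2 - 1).factorization 2 :=
      (Nat.prime_two.pow_dvd_iff_le_factorization hne).1 (by norm_num; exact h16)
    rw [show Fintype.card F ^ 2 - 1 = (Fintype.card F + 1) * (Fintype.card F - 1) by
      simpa using Nat.sq_sub_sq (Fintype.card F) 1, Nat.factorization_mul (by omega) (by omega),
      Finsupp.add_apply] at h16'
    omega
  obtain ⟨P, -⟩ : ∃ P : Sylow 2 SL(2, F), True := ⟨default, trivial⟩
  obtain ⟨e⟩ := hQ P
  haveI : NeZero (2 ^ k) := ⟨pow_ne_zero _ two_ne_zero⟩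
  have hord : orderOf (e.symm (QuaternionGroup.a 1)).1 = 2 * 2 ^ k := by
    rw [Subgroup.orderOf_coe, MulEquiv.orderOf_eq, QuaternionGroup.orderOf_a_one]
  refine group_isSimple_quaternion_cover (QuotientGroup.mk' (Subgroup.center SL(2, F)))
    (QuotientGroup.mk'_surjective _) (fun u hu => ?_) hk2 P e ?_ (psl_two_involutions_conj hodd) S
  · have hc := (QuotientGroup.eq_one_iff u).1 hu
    refine ⟨?_, hc⟩
    obtain ⟨a, ha, hau⟩ := Matrix.SpecialLinearGroup.mem_center_iff.1 hc
    refine Subtype.ext ?_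
    rw [Matrix.SpecialLinearGroup.coe_pow, Matrix.SpecialLinearGroup.coe_one, ← hau, ← map_pow]
    rw [Fintype.card_fin] at ha
    rw [ha, map_one]
  · refine (QuotientGroup.eq_one_iff _).2 (mem_center_of_eq_smul _ (-1) ?_)
    rw [← QuaternionGroup.a_one_pow, map_pow, SubmonoidClass.coe_pow,
      CfsgLib.Classical.neg_one_eq_pow hodd hord (by positivity), neg_one_smul]

end Main

end CfsgLib.Fusion
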