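import Mathlib

/-!
Finite `G`-sets with the same numbers of fixed points of all subgroups are isomorphic; a congruence
for two actions with equal fixed point counts away from a subgroup.
-/

set_option autoImplicit false
set_option linter.unusedVariables false
set_option linter.unusedSectionVars false

namespace CfsgLib.Fusion

open MulAction Finset

universe u

variable {G : Type*} {X Y : Type u} [Group G] [MulAction G X] [MulAction G Y]

open Classical in
/-- The finset form of the theorem on marks. -/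
theorem exists_bijOn_of_marks (m : ℕ) : ∀ (s : Finset X) (t : Finset Y),
    (∀ (g : G), ∀ x ∈ s, g • x ∈ s) → (∀ (g : G), ∀ y ∈ t, g • y ∈ t) → s.card = m →
    (∀ H : Subgroup G, (s.filter fun x => H ≤ stabilizer G x).card =
      (t.filter fun y => H ≤ stabilizer G y).card) →
    ∃ f : X → Option Y, (∀ x ∈ s, ∃ y ∈ t, f x = some y) ∧
      (∀ y ∈ t, ∃ x ∈ s, f x = some y) ∧
      (∀ x ∈ s, ∀ x' ∈ s, f x = f x' → x = x') ∧
      ∀ (g : G), ∀ x ∈ s, f (g • x) = (f x).map (g • ·) := by
  induction m using Nat.strong_induction_on with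
  | _ m ih =>
    intro s t hs ht hm hmarks
    rcases s.eq_empty_or_nonempty with rfl | hne
    · have h := hmarks ⊥
      simp at h
      obtain rfl : t = ∅ := Finset.card_eq_zero.1 h.symm
      exact ⟨fun _ => none, by simp, by simp, by simp, by simp⟩
    -- a stabilizer not contained in a larger one
    obtain ⟨H, hH⟩ := Finset.exists_maximal (hne.image (stabilizer G))
    obtain ⟨x₀, hx₀, rfl⟩ := Finset.mem_image.1 hH.1
    have hy : ∃ y ∈ t, stabilizer G x₀ ≤ stabilizer G y := by
      have h1 : 0 < (s.filter fun x => stabilizer G x₀ ≤ stabilizer G x).card :=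
        Finset.card_pos.2 ⟨x₀, Finset.mem_filter.2 ⟨hx₀, le_rfl⟩⟩
      rw [hmarks] at h1
      obtain ⟨y, hy⟩ := Finset.card_pos.1 h1
      exact ⟨y, (Finset.mem_filter.1 hy).1, (Finset.mem_filter.1 hy).2⟩
    obtain ⟨y₀, hy₀, hxy⟩ := hy
    have heq : stabilizer G x₀ = stabilizer G y₀ := by
      refine le_antisymm hxy ?_
      have h1 : 0 < (t.filter fun y => stabilizer G y₀ ≤ stabilizer G y).card :=
        Finset.card_pos.2 ⟨y₀, Finset.mem_filter.2 ⟨hy₀, le_rfl⟩⟩
      rw [← hmarks] at h1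
      obtain ⟨x₁, hx₁⟩ := Finset.card_pos.1 h1
      obtain ⟨hx₁s, hle⟩ := Finset.mem_filter.1 hx₁
      exact hle.trans (hH.2 (Finset.mem_image_of_mem _ hx₁s) (hxy.trans hle))
    have hwd : ∀ g h : G, g • x₀ = h • x₀ ↔ g • y₀ = h • y₀ := fun g h => by
      constructor
      · intro hgh
        have h1 : h⁻¹ * g ∈ stabilizer G x₀ := by
          rw [mem_stabilizer_iff, mul_smul, hgh, inv_smul_smul]
        rw [heq, mem_stabilizer_iff, mul_smul, inv_smul_eq_iff] at h1
        exact h1
      · intro hgh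
        have h1 : h⁻¹ * g ∈ stabilizer G y₀ := by
          rw [mem_stabilizer_iff, mul_smul, hgh, inv_smul_smul]
        rw [← heq, mem_stabilizer_iff, mul_smul, inv_smul_eq_iff] at h1
        exact h1
    set O := s.filter fun x => x ∈ orbit G x₀ with hO
    set O' := t.filter fun y => y ∈ orbit G y₀ with hO'
    set s' := s.filter fun x => x ∉ orbit G x₀ with hs'
    set t' := t.filter fun y => y ∉ orbit G y₀ with ht'
    let φ : X → Y := fun x =>
      if h : ∃ g : G, g • x₀ = x then h.choose • y₀ else y₀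
    have hφ : ∀ g : G, φ (g • x₀) = g • y₀ := fun g => by
      have h : ∃ k : G, k • x₀ = g • x₀ := ⟨g, rfl⟩
      show (if h : ∃ k : G, k • x₀ = g • x₀ then h.choose • y₀ else y₀) = _
      rw [dif_pos h]
      exact (hwd _ _).1 h.choose_spec
    have hcardO : ∀ H : Subgroup G, (O.filter fun x => H ≤ stabilizer G x).card =
        (O'.filter fun y => H ≤ stabilizer G y).card := by
      intro H
      refine Finset.card_bij (fun x _ => φ x) (fun x hx => ?_) (fun x hx x' hx' h => ?_)
        (fun y hy => ?_)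
      · obtain ⟨hxO, hxH⟩ := Finset.mem_filter.1 hx
        obtain ⟨-, g, rfl⟩ := Finset.mem_filter.1 hxO
        simp only [hφ]
        refine Finset.mem_filter.2 ⟨Finset.mem_filter.2 ⟨ht g y₀ hy₀, g, rfl⟩, fun k hk => ?_⟩
        rw [mem_stabilizer_iff, ← mul_smul, ← (hwd _ _), mul_smul]
        exact hxH hk
      · obtain ⟨-, g, rfl⟩ := Finset.mem_filter.1 (Finset.mem_filter.1 hx).1
        obtain ⟨-, g', rfl⟩ := Finset.mem_filter.1 (Finset.mem_filter.1 hx').1
        simp only [hφ] at h
        exact (hwd g g').2 h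
      · obtain ⟨hyO, hyH⟩ := Finset.mem_filter.1 hy
        obtain ⟨-, g, rfl⟩ := Finset.mem_filter.1 hyO
        refine ⟨g • x₀, Finset.mem_filter.2 ⟨Finset.mem_filter.2 ⟨hs g x₀ hx₀, g, rfl⟩,
          fun k hk => ?_⟩, hφ g⟩
        rw [mem_stabilizer_iff, ← mul_smul, (hwd _ _), mul_smul]
        exact hyH hk
    have hsplit : ∀ (Z : Type u) [MulAction G Z] (u : Finset Z) (z₀ : Z) (H : Subgroup G),
        ((u.filter fun z => z ∈ orbit G z₀).filter fun z => H ≤ stabilizer G z).card +
          ((u.filter fun z => z ∉ orbit G z₀).filter fun z => H ≤ stabilizer G z).card =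
        (u.filter fun z => H ≤ stabilizer G z).card := by
      intro Z _ u z₀ H
      rw [Finset.filter_comm, Finset.filter_comm (p := fun z => z ∉ orbit G z₀)]
      exact Finset.card_filter_add_card_filter_not _
    have hmarks' : ∀ H : Subgroup G, (s'.filter fun x => H ≤ stabilizer G x).card =
        (t'.filter fun y => H ≤ stabilizer G y).card := fun H => by
      have h1 := hsplit X s x₀ H
      have h2 := hsplit Y t y₀ H
      have h3 := hcardO H
      have h4 := hmarks H
      simp only [hO, hO'] at h3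
      simp only [hs', ht']
      omega
    have hlt : s'.card < m := hm ▸ Finset.card_lt_card (Finset.filter_ssubset.2
      ⟨x₀, hx₀, not_not.2 (mem_orbit_self x₀)⟩)
    obtain ⟨f, hf1, hf2, hf3, hf4⟩ := ih _ hlt s' t'
      (fun g x hx => by
        obtain ⟨hxs, hxo⟩ := Finset.mem_filter.1 hx
        exact Finset.mem_filter.2 ⟨hs g x hxs, fun h => hxo (by
          obtain ⟨k, hk⟩ := h
          exact ⟨g⁻¹ * k, by simp only [mul_smul] at hk ⊢; rw [hk, inv_smul_smul]⟩)⟩)
      (fun g y hy => by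
        obtain ⟨hyt, hyo⟩ := Finset.mem_filter.1 hy
        exact Finset.mem_filter.2 ⟨ht g y hyt, fun h => hyo (by
          obtain ⟨k, hk⟩ := h
          exact ⟨g⁻¹ * k, by simp only [mul_smul] at hk ⊢; rw [hk, inv_smul_smul]⟩)⟩)
      rfl hmarks'
    refine ⟨fun x => if x ∈ orbit G x₀ then some (φ x) else f x, fun x hx => ?_, fun y hy => ?_,
      fun x hx x' hx' h => ?_, fun g x hx => ?_⟩
    · by_cases hxo : x ∈ orbit G x₀
      · obtain ⟨g, rfl⟩ := hxo
        exact ⟨g • y₀, ht g y₀ hy₀, by simp [hφ]⟩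
      · obtain ⟨y, hy, hfy⟩ := hf1 x (Finset.mem_filter.2 ⟨hx, hxo⟩)
        exact ⟨y, (Finset.mem_filter.1 hy).1, by simp [hxo, hfy]⟩
    · by_cases hyo : y ∈ orbit G y₀
      · obtain ⟨g, rfl⟩ := hyo
        exact ⟨g • x₀, hs g x₀ hx₀, by simp [hφ]⟩
      · obtain ⟨x, hx, hfx⟩ := hf2 y (Finset.mem_filter.2 ⟨hy, hyo⟩)
        obtain ⟨hxs, hxo⟩ := Finset.mem_filter.1 hx
        exact ⟨x, hxs, by simp [hxo, hfx]⟩
    · by_cases hxo : x ∈ orbit G x₀ <;> by_cases hxo' : x' ∈ orbit G x₀
      · obtain ⟨g, rfl⟩ := hxo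
        obtain ⟨g', rfl⟩ := hxo'
        simp [hφ] at h
        exact (hwd g g').2 h
      · obtain ⟨g, rfl⟩ := hxo
        obtain ⟨y, hy, hfy⟩ := hf1 x' (Finset.mem_filter.2 ⟨hx', hxo'⟩)
        simp [hxo', hfy, hφ] at h
        exact absurd ⟨g, h⟩ (Finset.mem_filter.1 hy).2
      · obtain ⟨g', rfl⟩ := hxo'
        obtain ⟨y, hy, hfy⟩ := hf1 x (Finset.mem_filter.2 ⟨hx, hxo⟩)
        simp [hxo, hfy, hφ] at h
        exact absurd ⟨g', h.symm⟩ (Finset.mem_filter.1 hy).2
      · simp [hxo, hxo'] at h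
        exact hf3 x (Finset.mem_filter.2 ⟨hx, hxo⟩) x' (Finset.mem_filter.2 ⟨hx', hxo'⟩) h
    · by_cases hxo : x ∈ orbit G x₀
      · obtain ⟨k, rfl⟩ := hxo
        have : g • k • x₀ = (g * k) • x₀ := (mul_smul g k x₀).symm
        simp only [this, mem_orbit, if_true, hφ, Option.map_some]
        rw [mul_smul]
      · have hgo : g • x ∉ orbit G x₀ := fun h => hxo (by
          obtain ⟨k, hk⟩ := h
          exact ⟨g⁻¹ * k, by simp only [mul_smul] at hk ⊢; rw [hk, inv_smul_smul]⟩)
        simp [hxo, hgo, hf4 g x (Finset.mem_filter.2 ⟨hx, hxo⟩)]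

/-- Finite `G`-sets with the same marks are isomorphic. -/
theorem exists_equiv_of_marks [Finite X] [Finite Y]
    (h : ∀ H : Subgroup G, Nat.card {x : X // H ≤ stabilizer G x} =
      Nat.card {y : Y // H ≤ stabilizer G y}) :
    ∃ e : X ≃ Y, ∀ (g : G) (x : X), e (g • x) = g • e x := by
  classical
  haveI := Fintype.ofFinite X
  haveI := Fintype.ofFinite Y
  obtain ⟨f, hf1, hf2, hf3, hf4⟩ := exists_bijOn_of_marks (G := G) _ (Finset.univ : Finset X)
    (Finset.univ : Finset Y) (fun _ _ _ => Finset.mem_univ _) (fun _ _ _ => Finset.mem_univ _) rfl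
    fun H => by
      have h1 := h H
      rw [Nat.card_eq_fintype_card, Nat.card_eq_fintype_card, Fintype.card_subtype,
        Fintype.card_subtype] at h1
      exact h1
  choose e he hfe using fun x => hf1 x (Finset.mem_univ x)
  refine ⟨Equiv.ofBijective e ⟨fun x x' hx => hf3 x (Finset.mem_univ _) x' (Finset.mem_univ _)
    (by rw [hfe, hfe, hx]), fun y => ?_⟩, fun g x => ?_⟩
  · obtain ⟨x, -, hx⟩ := hf2 y (Finset.mem_univ y)
    exact ⟨x, Option.some.inj ((hfe x).symm.trans hx)⟩
  · have h1 := hf4 g x (Finset.mem_univ x)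
    rw [hfe, hfe] at h1
    exact Option.some.inj h1

/-- Two actions of `G` whose fixed point counts agree outside a subgroup `D` acting trivially have
congruent sizes modulo the index of `D`. -/
theorem card_modEq_of_fixedBy [Finite G] [Finite X] [Finite Y] (D : Subgroup G)
    (hX : ∀ d ∈ D, ∀ x : X, d • x = x) (hY : ∀ d ∈ D, ∀ y : Y, d • y = y)
    (h : ∀ g : G, g ∉ D → Nat.card (fixedBy X g) = Nat.card (fixedBy Y g)) :
    (Nat.card X : ℤ) ≡ Nat.card Y [ZMOD (D.index : ℤ)] := by
  classical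
  haveI := Fintype.ofFinite G
  haveI := Fintype.ofFinite X
  haveI := Fintype.ofFinite Y
  have key : ∀ (Z : Type u) [MulAction G Z] [Fintype Z], (∀ d ∈ D, ∀ z : Z, d • z = z) →
      ∃ k : ℕ, (∑ g ∈ Finset.univ.filter (fun g : G => g ∉ D), Nat.card (fixedBy Z g)) +
        Nat.card D * Nat.card Z = k * (Nat.card D * D.index) := by
    intro Z _ _ hZ
    refine ⟨Fintype.card (Quotient (orbitRel G Z)), ?_⟩
    rw [Subgroup.card_mul_index, Nat.card_eq_fintype_card (α := G),
      ← sum_card_fixedBy_eq_card_orbits_mul_card_group G Z,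
      ← Finset.sum_filter_add_sum_filter_not Finset.univ (fun g : G => g ∉ D)]
    congr 1
    · exact Finset.sum_congr rfl fun g _ => Nat.card_eq_fintype_card
    · have : ∀ g ∈ Finset.univ.filter (fun g : G => ¬ g ∉ D),
          Fintype.card (fixedBy Z g) = Nat.card Z := fun g hg => by
        rw [← Nat.card_eq_fintype_card]
        refine Nat.card_congr (Equiv.subtypeUnivEquiv fun z => ?_)
        exact hZ g (not_not.1 (Finset.mem_filter.1 hg).2) z
      rw [Finset.sum_congr rfl this, Finset.sum_const, smul_eq_mul]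
      congr 1
      rw [Nat.card_eq_fintype_card, Fintype.card_subtype]
      exact congrArg Finset.card (Finset.filter_congr fun g _ => not_not.symm)
  obtain ⟨a, ha⟩ := key X hX
  obtain ⟨b, hb⟩ := key Y hY
  rw [Finset.sum_congr rfl fun g hg => h g (Finset.mem_filter.1 hg).2] at ha
  rw [Int.modEq_iff_dvd]
  refine ⟨(b : ℤ) - a, ?_⟩
  have hD : (Nat.card D : ℤ) ≠ 0 := by exact_mod_cast Nat.card_pos.ne'
  refine mul_left_cancel₀ hD ?_
  zify at ha hb
  linear_combination hb - ha

end CfsgLib.Fusion
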