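import Cfsg.Prelude.Def_EvenType
import Mathlib.GroupTheory.Sylow
import Mathlib.GroupTheory.Nilpotent

/-!
Strongly `p`-embedded subgroups, in the form used for essential subgroups of fusion systems.
-/

set_option autoImplicit false
set_option linter.style.haveILetI false
set_option linter.unusedSectionVars false

namespace CfsgLib.Fusion

open Cfsg Subgroup

variable {X : Type*} [Group X] [Finite X] {p : ℕ} [Fact p.Prime]

/-- `Y` contains the normalizers of all nontrivial subgroups of `T`. -/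
def ContainsLocals (T : Subgroup X) (Y : Subgroup X) : Prop :=
  ∀ U : Subgroup X, U ≤ T → U ≠ ⊥ → Subgroup.normalizer (U : Set X) ≤ Y

theorem not_pRankLE_zero {U : Subgroup X} (hU : IsPGroup p U) (hne : U ≠ ⊥) :
    ¬ PRankLE p 0 U := by
  intro h
  haveI : Nontrivial U := (Subgroup.nontrivial_iff_ne_bot U).2 hne
  obtain ⟨n, hn, hcard⟩ := hU.nontrivial_iff_card.1 inferInstance
  obtain ⟨x, hx⟩ := exists_prime_orderOf_dvd_card' (G := U) p (hcard ▸ dvd_pow_self p hn.ne')
  have h1 := h (Subgroup.zpowers x) inferInstance fun a ha => by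
    obtain ⟨k, rfl⟩ := Subgroup.mem_zpowers_iff.1 ha
    rw [← zpow_natCast, ← zpow_mul, mul_comm, zpow_mul, zpow_natCast, ← hx, pow_orderOf_eq_one,
      one_zpow]
  rw [Nat.card_zpowers, hx, pow_zero] at h1
  exact absurd h1 (not_le.2 (Fact.out : p.Prime).one_lt)

theorem kGeneratedCore_le_iff {T Y : Subgroup X} (hT : IsPGroup p T) :
    kGeneratedCore p 1 T ≤ Y ↔ ContainsLocals T Y := by
  constructor
  · intro h U hUT hU
    refine le_trans ?_ h
    exact le_iSup_of_le ⟨U, hUT, not_pRankLE_zero (hT.to_le hUT) hU⟩ le_rfl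
  · intro h
    refine iSup_le fun U => h U.1 U.2.1 fun hb => U.2.2 ?_
    intro A _ _
    haveI : Subsingleton (U.1 : Subgroup X) := by
      rw [hb]
      infer_instance
    exact (Finite.card_le_one_iff_subsingleton.2 inferInstance).trans (by simp)

theorem isStronglyPEmbedded_of_containsLocals (T : Sylow p X) {Y : Subgroup X}
    (hT : (T : Subgroup X) ≠ ⊥) (hY : Y ≠ ⊤) (h : ContainsLocals (T : Subgroup X) Y) :
    IsStronglyPEmbedded p Y := by
  refine ⟨?_, hY, T, (kGeneratedCore_le_iff T.isPGroup').2 h⟩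
  haveI : Nontrivial T := (Subgroup.nontrivial_iff_ne_bot _).2 hT
  obtain ⟨n, hn, hcard⟩ := T.isPGroup'.nontrivial_iff_card.1 inferInstance
  exact (hcard ▸ dvd_pow_self p hn.ne' : p ∣ Nat.card T).trans
    (Subgroup.card_subgroup_dvd_card (T : Subgroup X))

theorem exists_containsLocals_of_isStronglyPEmbedded {Y : Subgroup X}
    (h : IsStronglyPEmbedded p Y) (T : Sylow p X) :
    ∃ Y' : Subgroup X, Y' ≠ ⊤ ∧ ContainsLocals (T : Subgroup X) Y' := by
  obtain ⟨-, hY, W, hW⟩ := h
  rw [kGeneratedCore_le_iff W.isPGroup'] at hW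
  obtain ⟨g, hg⟩ := MulAction.exists_smul_eq X W T
  refine ⟨Y.map (MulAut.conj g).toMonoidHom, fun htop => hY ?_, fun U hU hne => ?_⟩
  · have h2 := congrArg (Subgroup.comap (MulAut.conj g).toMonoidHom) htop
    rwa [Subgroup.comap_map_eq_self_of_injective (MulAut.conj g).injective,
      Subgroup.comap_top] at h2
  · have hU' : U.comap (MulAut.conj g).toMonoidHom ≤ W := fun y hy => by
      have h1 : g * y * g⁻¹ ∈ (T : Subgroup X) := hU hy
      rw [← hg, Sylow.coe_subgroup_smul, Subgroup.mem_pointwise_smul_iff_inv_smul_mem] at h1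
      simpa [MulAut.smul_def, mul_assoc] using h1
    have hne' : U.comap (MulAut.conj g).toMonoidHom ≠ ⊥ := fun hb => hne <| by
      rw [← Subgroup.map_comap_eq_self_of_surjective
        (f := (MulAut.conj g).toMonoidHom) (MulAut.conj g).surjective U, hb, Subgroup.map_bot]
    intro x hx
    refine ⟨g⁻¹ * x * g, hW _ hU' hne' fun n => ?_, by simp [mul_assoc]⟩
    have h1 := hx (g * n * g⁻¹)
    simpa [mul_assoc] using h1

theorem containsLocals_le {T : Sylow p X} {Y : Subgroup X}
    (h : ContainsLocals (T : Subgroup X) Y) (hT : (T : Subgroup X) ≠ ⊥) : (T : Subgroup X) ≤ Y :=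
  Subgroup.le_normalizer.trans (h _ le_rfl hT)

/-- An element moving some nontrivial element of `T` into `T` lies in `Y`. -/
theorem mem_of_containsLocals {T : Sylow p X} {Y : Subgroup X}
    (h : ContainsLocals (T : Subgroup X) Y) {U : Subgroup X} (hU : U ≤ T) (hne : U ≠ ⊥) {a : X}
    (ha : ∀ u ∈ U, a⁻¹ * u * a ∈ (T : Subgroup X)) : a ∈ Y := by
  suffices H : ∀ n, ∀ (U : Subgroup X) (a : X), U ≤ T → U ≠ ⊥ →
      (∀ u ∈ U, a⁻¹ * u * a ∈ (T : Subgroup X)) →
      Nat.card (T : Subgroup X) - Nat.card U = n → a ∈ Y from H _ U a hU hne ha rfl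
  intro n
  induction n using Nat.strong_induction_on with
  | _ n ih =>
    intro U a hU hne ha hn
    rcases hU.eq_or_lt with rfl | hlt
    · refine inv_mem_iff.1 (h _ le_rfl hne ?_)
      refine Subgroup.mem_normalizer_fintype fun u hu => ?_
      have := ha u hu
      rw [inv_inv]
      exact this
    haveI := T.isPGroup'.isNilpotent
    have hlt' : U.subgroupOf (T : Subgroup X) < ⊤ := by
      rw [lt_top_iff_ne_top, Ne, Subgroup.subgroupOf_eq_top]
      exact hlt.not_ge
    set U₁ := (Subgroup.normalizer (U.subgroupOf (T : Subgroup X) : Set T)).map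
      (T : Subgroup X).subtype with hU₁def
    have hUU₁ : U ≤ U₁ := fun u hu => ⟨⟨u, hU hu⟩, Subgroup.le_normalizer hu, rfl⟩
    have hU₁lt : Nat.card U < Nat.card U₁ := by
      obtain ⟨x, hx1, hx2⟩ :=
        SetLike.exists_of_lt (Group.normalizerCondition_of_isNilpotent _ hlt')
      by_contra hc
      rw [Subgroup.eq_of_le_of_card_ge hUU₁ (not_lt.1 hc)] at hx2
      exact hx2 (Subgroup.mem_map_of_mem _ hx1)
    have hU₁N : U₁ ≤ Subgroup.normalizer (U : Set X) := by
      rintro _ ⟨x, hx, rfl⟩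
      refine Subgroup.mem_normalizer_fintype fun u hu => ?_
      exact (Subgroup.mem_normalizer_iff.1 hx ⟨u, hU hu⟩).1 hu
    set U' := U.map (MulAut.conj a⁻¹).toMonoidHom with hU'def
    have hU'T : U' ≤ T := by
      rintro _ ⟨u, hu, rfl⟩
      simpa [mul_assoc] using ha u hu
    have hU'ne : U' ≠ ⊥ := fun hb => hne <| by
      rwa [hU'def, Subgroup.map_eq_bot_iff_of_injective _ (MulAut.conj a⁻¹).injective] at hb
    set V := U₁.map (MulAut.conj a⁻¹).toMonoidHom with hVdef
    have hVY : V ≤ Y := by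
      refine le_trans ?_ (h U' hU'T hU'ne)
      exact (Subgroup.map_mono hU₁N).trans (Subgroup.le_normalizer_map _)
    have hVp : IsPGroup p V := (T.isPGroup'.to_le (Subgroup.map_subtype_le _)).map _
    have hTY : (T : Subgroup X) ≤ Y := containsLocals_le h fun hb => hne (eq_bot_iff.2 (hb ▸ hU))
    obtain ⟨W, hW⟩ := (hVp.of_equiv (Subgroup.subgroupOfEquivOfLe hVY).symm).exists_le_sylow
    obtain ⟨y, hy⟩ := MulAction.exists_smul_eq Y W (T.subtype hTY)
    have hay : a * (y : X)⁻¹ ∈ Y := by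
      have hc : Nat.card U₁ ≤ Nat.card (T : Subgroup X) :=
        Subgroup.card_le_of_le (Subgroup.map_subtype_le _)
      refine ih _ (by omega) U₁ _ (Subgroup.map_subtype_le _)
        (fun hb => hne (eq_bot_iff.2 (hb ▸ hUU₁))) (fun u hu => ?_) rfl
      have hv : a⁻¹ * u * a ∈ V := ⟨u, hu, by simp [mul_assoc]⟩
      have h1 : (y * ⟨_, hVY hv⟩ * y⁻¹ : Y) ∈ (T.subtype hTY : Subgroup Y) := by
        rw [← hy, Sylow.coe_subgroup_smul, Subgroup.mem_pointwise_smul_iff_inv_smul_mem]
        have h2 : (MulAut.conj y)⁻¹ • (y * ⟨_, hVY hv⟩ * y⁻¹ : Y) = ⟨_, hVY hv⟩ := by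
          rw [MulAut.smul_def, MulAut.conj_inv_apply]
          group
        rw [h2]
        exact hW hv
      have h3 : ((y * ⟨_, hVY hv⟩ * y⁻¹ : Y) : X) ∈ (T : Subgroup X) := h1
      simpa [mul_assoc] using h3
    simpa using Y.mul_mem hay y.2

theorem not_normal_of_containsLocals {T : Sylow p X} {Y : Subgroup X} (hY : Y ≠ ⊤)
    (h : ContainsLocals (T : Subgroup X) Y) {U : Subgroup X} [hUn : U.Normal]
    (hUp : IsPGroup p U) : U = ⊥ := by
  by_contra hne
  refine hY (eq_top_iff.2 ?_)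
  rw [← Subgroup.normalizer_eq_top U]
  exact h U (hUp.le_sylow_of_normal T) hne

end CfsgLib.Fusion
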