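import Cfsg.Agent.Lib.Fusion.Saturation
import Cfsg.Agent.Lib.Fusion.PEmbedded

/-!
Essential subgroups and Alperin's fusion theorem.
-/

set_option autoImplicit false
set_option linter.style.haveILetI false
set_option linter.unusedVariables false

namespace CfsgLib.Fusion

open Cfsg Cfsg.FusionSystem Subgroup

variable {Ω : Type*} [Group Ω] {S : Subgroup Ω} {F E : FusionSystem S}
  {P Q R : Subgroup Ω} {f g : Ω → Ω} {p : ℕ}

theorem fusionSystem_ext (h : ∀ P, F.Hom P = E.Hom P) : F = E := by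
  cases F
  cases E
  congr
  funext P
  exact h P

theorem le_iff_isMap : F ≤ E ↔ ∀ (P : Subgroup Ω) (f : Ω → Ω), IsMap F P f → IsMap E P f :=
  ⟨fun h P f ⟨φ, hφ, hf⟩ => ⟨φ, h P hφ, hf⟩,
    fun h P φ hφ => (h P _ (isMap_of_hom hφ)).mem_hom fun x => (toFun_apply φ x).symm⟩

theorem hom_eq_of_le_le (h₁ : F ≤ E) (h₂ : E ≤ F) (P : Subgroup Ω) : F.Hom P = E.Hom P :=
  Set.Subset.antisymm (h₁ P) (h₂ P)

theorem inner_le (F : FusionSystem S) : innerFusionSystem S ≤ F := by
  rintro P φ ⟨hP, a, ha, hax⟩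
  exact (isMap_conj F hP ha).mem_hom hax

/-- `α` extends to a map of the system defined on a strictly larger subgroup. -/
def IsExtendable (F : FusionSystem S) (P : Subgroup Ω) (α : MulAut P) : Prop :=
  ∃ R : Subgroup Ω, P < R ∧ ∃ g, IsMap F R g ∧ ∀ x : P, g x = ((α x : P) : Ω)

/-- The subgroup generated by the extendable automorphisms. -/
def extAut (F : FusionSystem S) (P : Subgroup Ω) : Subgroup (MulAut P) :=
  Subgroup.closure {α | IsExtendable F P α}

theorem IsExtendable.mem_autGroup {α : MulAut P} (h : IsExtendable F P α) :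
    α ∈ F.autGroup P := by
  obtain ⟨R, hR, g, hg, hgx⟩ := h
  exact (autGroup_iff_isMap (hR.le.trans hg.le) fun x => (hgx x).symm).2 (hg.mono hR.le)

theorem extAut_le : extAut F P ≤ F.autGroup P :=
  (Subgroup.closure_le _).2 fun _ h => h.mem_autGroup

theorem extAut_eq_closure : extAut F P = Subgroup.closure {α : MulAut P |
    ∃ (Q : Subgroup Ω) (hPQ : P < Q) (φ : Q →* Ω), φ ∈ F.Hom Q ∧
      ∀ x : P, φ (Subgroup.inclusion hPQ.le x) = α x} := by
  unfold extAut
  congr 1
  ext α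
  constructor
  · rintro ⟨R, hR, g, hg, hgx⟩
    exact ⟨R, hR, hg.toHom, hg.toHom_mem, fun x => hgx x⟩
  · rintro ⟨R, hR, φ, hφ, hφx⟩
    exact ⟨R, hR, _, isMap_of_hom hφ, fun x =>
      (toFun_of_mem φ (hR.le x.2)).trans (hφx x)⟩

/-- `Out_F(P) = Aut_F(P) / Inn(P)`. -/
abbrev OutGrp (F : FusionSystem S) (P : Subgroup Ω) :=
  ↥(F.autGroup P) ⧸ (Inn P).subgroupOf (F.autGroup P)

section Saturated

variable [Fact p.Prime] [Finite S] (hS : IsPGroup p S) (hF : F.IsSaturated p)

include hS hF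

/-- An automorphism conjugating the action of some element of `N_S(P)` outside `P` into the action
of an element of `S` extends. -/
theorem isExtendable_of_meet (hP : F.IsFullyCentralized P) {α : MulAut P}
    (hα : α ∈ F.autGroup P) {u : Ω} (hu : u ∈ normalizerIn S P) (huP : u ∉ P) {b : Ω} (hb : b ∈ S)
    (hub : ∀ x : P, ((α (P.normalizerMonoidHom ⟨u, hu.2⟩ x) : P) : Ω) = b * (α x : P) * b⁻¹) :
    IsExtendable F P α := by
  have hm := isMap_of_autGroup hP.1 hα
  let K := extender S P hm.toHom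
  have huK : u ∈ K := (mem_extender_iff hm hm.toHom_apply).2 ⟨hu.1, hu.2, b, hb, fun x hx => by
    rw [toFun_aut_apply _ hx, toFun_aut_apply _ ((hu.2 x).1 hx)]
    exact hub ⟨x, hx⟩⟩
  have hPK : P ⊔ Subgroup.zpowers u ≤ K := sup_le (fun a ha =>
    sup_centralizerIn_le_extender hm hm.toHom_apply (Subgroup.mem_sup_left ha))
    (Subgroup.zpowers_le.2 huK)
  obtain ⟨g, hg, hgx⟩ := receptive_extend (receptive_of_fullyCentralized hS hF hP) hm
    (img_toFun_aut α) (le_sup_left : P ≤ P ⊔ Subgroup.zpowers u) fun a ha =>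
      (mem_extender_iff hm hm.toHom_apply).1 (hPK ha)
  refine ⟨_, lt_of_le_of_ne le_sup_left fun he => huP ?_, g, hg, fun x => ?_⟩
  · rw [he]
    exact Subgroup.mem_sup_right (Subgroup.mem_zpowers u)
  · rw [hgx x x.2, toFun_aut_apply _ x.2]

theorem extAut_eq_of_not_centric (hP : F.IsFullyNormalized P) (hC : ¬ F.IsCentric P) :
    extAut F P = F.autGroup P := by
  refine le_antisymm extAut_le fun α hα => Subgroup.subset_closure ?_
  have hFC := fullyCentralized_of_fullyNormalized hS hF hP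
  have : ¬ centralizerIn S P ≤ P := fun h => hC (centric_of_fullyCentralized hS hF hFC h)
  obtain ⟨u, hu, huP⟩ := Set.not_subset.1 this
  refine isExtendable_of_meet hS hF hFC hα (centralizerIn_le_normalizerIn hu) huP S.one_mem
    fun x => ?_
  have h1 : P.normalizerMonoidHom ⟨u, (centralizerIn_le_normalizerIn hu).2⟩ x = x := by
    apply Subtype.ext
    show u * (x : Ω) * u⁻¹ = x
    rw [← hu.2 x x.2, mul_inv_cancel_right]
  rw [h1]
  simp

omit hF hS in
theorem mem_of_normalizerMonoidHom_mem_inn (hP : F.IsCentric P) {u : Ω}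
    (hu : u ∈ normalizerIn S P) (h : P.normalizerMonoidHom ⟨u, hu.2⟩ ∈ Inn P) : u ∈ P := by
  obtain ⟨a, ha⟩ := h
  have h1 : (a : Ω)⁻¹ * u ∈ centralizerIn S P := by
    refine ⟨S.mul_mem (S.inv_mem (hP.1 a.2)) hu.1, fun x hx => ?_⟩
    have h2 : (a : Ω) * x * (a : Ω)⁻¹ = u * x * u⁻¹ := by
      have h3 := congrArg (fun α : MulAut P => ((α ⟨x, hx⟩ : P) : Ω)) ha
      exact h3
    calc x * ((a : Ω)⁻¹ * u) = (a : Ω)⁻¹ * ((a : Ω) * x * (a : Ω)⁻¹) * u := by group
      _ = (a : Ω)⁻¹ * u * x := by rw [h2]; group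
  simpa using P.mul_mem a.2 (hP.2 P (isConj_refl hP.1) h1)

/-- The image of `Aut_S(P)` in `Out_F(P)`, a Sylow subgroup, is nontrivial, and an automorphism
that extends moves one of its nontrivial elements into it. -/
theorem exists_outSylow (hPS : P < S) (hP : F.IsFullyNormalized P) (hC : F.IsCentric P) :
    ∃ W : Sylow p (OutGrp F P),
      (W : Subgroup (OutGrp F P)) ≠ ⊥ ∧
      (W : Subgroup (OutGrp F P)) =
        ((autInducedBy S P).subgroupOf (F.autGroup P)).map (QuotientGroup.mk' _) ∧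
      (∀ a : F.autGroup P, (∃ w ∈ (W : Subgroup (OutGrp F P)), w ≠ 1 ∧
          (a : OutGrp F P) * w * (a : OutGrp F P)⁻¹ ∈
            (W : Subgroup (OutGrp F P))) ↔ IsExtendable F P a) := by
  haveI := finite_of_le hP.1
  obtain ⟨T, hT⟩ := (fullyAutomized_of_fullyNormalized hS hF hP).2
  set π := QuotientGroup.mk' ((Inn P).subgroupOf (F.autGroup P)) with hπ
  let W := T.mapSurjective (f := π) (QuotientGroup.mk'_surjective _)
  have hWeq : (W : Subgroup _) = ((autInducedBy S P).subgroupOf (F.autGroup P)).map π := by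
    rw [← hT]
    rfl
  have hmemW : ∀ a : F.autGroup P, π a ∈ (W : Subgroup _) ↔ (a : MulAut P) ∈ autInducedBy S P := by
    intro a
    rw [hWeq]
    constructor
    · rintro ⟨b, hb, hba⟩
      have h1 : b⁻¹ * a ∈ (Inn P).subgroupOf (F.autGroup P) := QuotientGroup.eq.1 hba
      have h2 : (b : MulAut P)⁻¹ * (a : MulAut P) ∈ autInducedBy S P :=
        inn_le_autInducedBy hP.1 h1
      simpa using (autInducedBy S P).mul_mem hb h2
    · exact fun h => ⟨a, h, rfl⟩
  have hone : ∀ (u : Ω) (hu : u ∈ normalizerIn S P) (a : F.autGroup P),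
      (a : MulAut P) = P.normalizerMonoidHom ⟨u, hu.2⟩ → (π a = 1 ↔ u ∈ P) := by
    intro u hu a ha
    rw [hπ, QuotientGroup.mk'_apply, QuotientGroup.eq_one_iff, Subgroup.mem_subgroupOf, ha]
    refine ⟨mem_of_normalizerMonoidHom_mem_inn hC hu, fun h => ⟨⟨u, h⟩, ?_⟩⟩
    ext x
    rfl
  have hcn : ∀ {u : Ω} (hu : u ∈ normalizerIn S P),
      P.normalizerMonoidHom ⟨u, hu.2⟩ ∈ autInducedBy S P :=
    fun {u} hu => mem_autInducedBy_iff.2 ⟨u, hu.1, fun x => rfl⟩
  refine ⟨W, fun hb => ?_, hWeq, fun a => ⟨?_, ?_⟩⟩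
  · obtain ⟨u, hu, huP⟩ := SetLike.exists_of_lt (lt_normalizerIn hS hPS)
    refine huP ((hone u hu ⟨_, autInducedBy_le_autGroup hP.1 (hcn hu)⟩ rfl).1 ?_)
    have := (hmemW ⟨_, autInducedBy_le_autGroup hP.1 (hcn hu)⟩).2 (hcn hu)
    rw [hb] at this
    exact Subgroup.mem_bot.1 this
  · rintro ⟨w, hw, hw1, hwa⟩
    obtain ⟨c, rfl⟩ := QuotientGroup.mk'_surjective _ w
    obtain ⟨u, hu, hux⟩ := mem_autInducedBy_iff.1 ((hmemW c).1 hw)
    have huN : u ∈ normalizerIn S P := ⟨hu, mem_normalizer_of_aut hux⟩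
    have hce : (c : MulAut P) = P.normalizerMonoidHom ⟨u, huN.2⟩ := by
      ext x
      exact hux x
    have huP : u ∉ P := fun h => hw1 ((hone u huN c hce).2 h)
    have hconj : π (a * c * a⁻¹) ∈ (W : Subgroup _) := hwa
    obtain ⟨b, hb, hbx⟩ := mem_autInducedBy_iff.1 ((hmemW _).1 hconj)
    refine isExtendable_of_meet hS hF (fullyCentralized_of_fullyNormalized hS hF hP) a.2 huN huP hb
      fun x => ?_
    rw [← hbx ((a : MulAut P) x), ← hce]
    simp
  · rintro ⟨R, hR, g, hg, hgx⟩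
    haveI := finite_of_le hg.le
    obtain ⟨u, hu, huP⟩ := SetLike.exists_of_lt (lt_normalizerIn (hS.to_le hg.le) hR)
    have huN : u ∈ normalizerIn S P := ⟨hg.le hu.1, hu.2⟩
    refine ⟨π ⟨_, autInducedBy_le_autGroup hP.1 (hcn huN)⟩, (hmemW _).2 (hcn huN), fun h =>
      huP ((hone u huN _ rfl).1 h), ?_⟩
    show π (a * _ * a⁻¹) ∈ _
    rw [hmemW]
    refine mem_autInducedBy_iff.2 ⟨g u, hg.mem hu.1, fun x => ?_⟩
    let y : P := (a : MulAut P)⁻¹ x
    have h1 : g y = (x : Ω) := by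
      rw [hgx]
      simp [y]
    show (((a : MulAut P) (P.normalizerMonoidHom ⟨u, huN.2⟩ y) : P) : Ω) = _
    rw [← hgx, ← h1]
    exact hg.map_conj hu.1 (hR.le y.2)

theorem not_essential_top : ¬ F.IsEssential p S := by
  rintro ⟨-, -, -, Y, ⟨hp, -⟩⟩
  haveI := finite_of_le (le_refl S)
  obtain ⟨T, hT⟩ := (fullyAutomized_of_fullyNormalized hS hF (fullyNormalized_top F)).2
  have hinn : autInducedBy S S = Inn S := by
    refine le_antisymm ?_ (inn_le_autInducedBy le_rfl)
    intro α hα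
    obtain ⟨a, ha, hax⟩ := mem_autInducedBy_iff.1 hα
    refine ⟨⟨a, ha⟩, ?_⟩
    ext x
    exact (hax x).symm
  rw [hinn] at hT
  have h2 := T.not_dvd_index
  rw [hT] at h2
  exact h2 (by rwa [Subgroup.index_eq_card])

theorem lt_of_essential (hP : F.IsEssential p P) : P < S := by
  refine lt_of_le_of_ne hP.1.1 ?_
  rintro rfl
  exact not_essential_top hS hF hP

theorem exists_locals_of_essential (hP : F.IsEssential p P) :
    ∃ (W : Sylow p (OutGrp F P)) (Y : Subgroup (OutGrp F P)),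
      (W : Subgroup (OutGrp F P)) ≠ ⊥ ∧ Y ≠ ⊤ ∧ ContainsLocals (W : Subgroup (OutGrp F P)) Y ∧
      (∀ a : F.autGroup P, IsExtendable F P a → (a : OutGrp F P) ∈ Y) := by
  haveI := finite_of_le hP.1.1
  obtain ⟨W, hW, -, hWext⟩ := exists_outSylow hS hF (lt_of_essential hS hF hP) hP.2.1 hP.1
  obtain ⟨_, Y, hY⟩ := hP.2.2
  obtain ⟨Y', hY', hloc⟩ := exists_containsLocals_of_isStronglyPEmbedded hY W
  refine ⟨W, Y', hW, hY', hloc, fun a ha => ?_⟩
  obtain ⟨w, hw, hw1, hwa⟩ := (hWext a).2 ha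
  refine inv_mem_iff.1 (mem_of_containsLocals hloc (U := Subgroup.zpowers w)
    (Subgroup.zpowers_le.2 hw) (fun h => hw1 (Subgroup.zpowers_eq_bot.1 h)) fun u hu => ?_)
  obtain ⟨k, rfl⟩ := Subgroup.mem_zpowers_iff.1 hu
  rw [inv_inv, ← conj_zpow]
  exact Subgroup.zpow_mem _ hwa k

theorem extAut_ne_of_essential (hP : F.IsEssential p P) : extAut F P ≠ F.autGroup P := by
  intro he
  haveI := finite_of_le hP.1.1
  obtain ⟨W, Y, -, hY, -, hext⟩ := exists_locals_of_essential hS hF hP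
  refine hY (eq_top_iff.2 fun q _ => ?_)
  obtain ⟨a, rfl⟩ := QuotientGroup.mk'_surjective _ q
  have : extAut F P ≤ (Y.comap (QuotientGroup.mk' _)).map (F.autGroup P).subtype :=
    (Subgroup.closure_le _).2 fun α hα => ⟨⟨α, hα.mem_autGroup⟩, hext _ hα, rfl⟩
  obtain ⟨b, hb, hba⟩ := this (he.ge a.2)
  exact (Subtype.ext hba : b = a) ▸ hb

theorem stronglyEmbedded_extAut (hPS : P < S) (hP : F.IsFullyNormalized P)
    (hne : extAut F P ≠ F.autGroup P) :
    F.IsCentric P ∧ IsStronglyPEmbedded p (((extAut F P).subgroupOf (F.autGroup P)).map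
      (QuotientGroup.mk' ((Inn P).subgroupOf (F.autGroup P)))) := by
  haveI := finite_of_le hP.1
  have hC : F.IsCentric P := by
    by_contra h
    exact hne (extAut_eq_of_not_centric hS hF hP h)
  obtain ⟨W, hW, hWeq, hWext⟩ := exists_outSylow hS hF hPS hP hC
  have hinn : Inn P ≤ extAut F P := by
    rintro _ ⟨a, rfl⟩
    obtain ⟨u, hu, huP⟩ := SetLike.exists_of_lt (lt_normalizerIn hS hPS)
    refine Subgroup.subset_closure ⟨normalizerIn S P, lt_normalizerIn hS hPS, _,
      isMap_conj F (inf_le_left) (hP.1 a.2), fun x => rfl⟩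
  refine ⟨hC, isStronglyPEmbedded_of_containsLocals W hW (fun htop => hne ?_) fun U hU hUne q hq => ?_⟩
  · refine le_antisymm extAut_le fun α hα => ?_
    obtain ⟨b, hb, hba⟩ := htop.symm ▸
      Subgroup.mem_top ((⟨α, hα⟩ : F.autGroup P) :
        ↥(F.autGroup P) ⧸ (Inn P).subgroupOf (F.autGroup P))
    have h1 : b⁻¹ * ⟨α, hα⟩ ∈ (Inn P).subgroupOf (F.autGroup P) := QuotientGroup.eq.1 hba
    have h2 : (b : MulAut P)⁻¹ * α ∈ extAut F P := hinn h1
    simpa using (extAut F P).mul_mem hb h2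
  · obtain ⟨a, rfl⟩ := QuotientGroup.mk'_surjective _ q
    obtain ⟨⟨w, hw⟩, hw1⟩ := (Subgroup.ne_bot_iff_exists_ne_one).1 hUne
    refine ⟨a, Subgroup.subset_closure ((hWext a).1 ⟨w, hU hw, fun h => hw1 (Subtype.ext h), ?_⟩),
      rfl⟩
    exact hU ((hq w).1 hw)

theorem extAut_eq_of_not_essential (hPS : P < S) (hP : F.IsFullyNormalized P)
    (hess : ¬ F.IsEssential p P) : extAut F P = F.autGroup P := by
  by_contra hne
  obtain ⟨hC, hY⟩ := stronglyEmbedded_extAut hS hF hPS hP hne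
  exact hess ⟨hC, hP, inferInstance, _, hY⟩

theorem essential_isRadical (hP : F.IsEssential p P) : F.IsRadical p P := by
  haveI := finite_of_le hP.1.1
  obtain ⟨W, Y, -, hY, hloc, -⟩ := exists_locals_of_essential hS hF hP
  refine ⟨hP.1.1, ?_⟩
  have hpc : IsPGroup p (pCore p (F.autGroup P)) := Sylow.sSup_of_normal _ (fun _ h => h.2)
    fun _ h => h.1
  haveI : ((pCore p (F.autGroup P)).map (QuotientGroup.mk'
      ((Inn P).subgroupOf (F.autGroup P)))).Normal :=
    Subgroup.Normal.map (Subgroup.sSup_normal _ fun _ h => h.1) _ (QuotientGroup.mk'_surjective _)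
  have h1 := not_normal_of_containsLocals hY hloc (hpc.map
    (QuotientGroup.mk' ((Inn P).subgroupOf (F.autGroup P))))
  apply le_antisymm
  · rintro _ ⟨a, ha, rfl⟩
    have h2 := h1.le ⟨a, ha, rfl⟩
    exact ((QuotientGroup.eq_one_iff a).1 (Subgroup.mem_bot.1 h2) :)
  · intro α hα
    refine ⟨⟨α, inn_le_autGroup hP.1.1 hα⟩, ?_, rfl⟩
    refine (le_sSup (α := Subgroup (F.autGroup P)) ⟨inferInstance, ?_⟩ :
      (Inn P).subgroupOf (F.autGroup P) ≤ pCore p (F.autGroup P)) hα
    exact ((hS.to_le hP.1.1).of_surjective _ MulAut.conj.rangeRestrict_surjective).of_equiv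
      (Subgroup.subgroupOfEquivOfLe (inn_le_autGroup hP.1.1)).symm

/-- Alperin's fusion theorem. -/
theorem alperin (hE : ∀ P, (P = S ∨ F.IsEssential p P) → F.autGroup P ≤ E.autGroup P) :
    F ≤ E := by
  rw [le_iff_isMap]
  suffices h : ∀ n, ∀ (P : Subgroup Ω) (f : Ω → Ω), IsMap F P f →
      Nat.card S - Nat.card P = n → IsMap E P f from fun P f hf => h _ P f hf rfl
  intro n
  induction n using Nat.strong_induction_on with
  | _ n ih =>
    intro P f hf hn
    have hlarge : ∀ {Q : Subgroup Ω} {g : Ω → Ω}, IsMap F Q g → Nat.card P < Nat.card Q →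
        IsMap E Q g := fun {Q g} hg hlt => by
      have h1 : Nat.card Q ≤ Nat.card S := Subgroup.card_le_of_le hg.le
      exact ih _ (by omega) Q g hg rfl
    haveI := finite_of_le hf.le
    have hbig : ∀ α : MulAut P, IsExtendable F P α → α ∈ E.autGroup P := fun α ⟨R, hR, g, hg, hgx⟩ => by
      haveI := finite_of_le hg.le
      have hlt : Nat.card P < Nat.card R :=
        lt_of_not_ge fun h => hR.ne (eq_of_le_of_card_le hR.le h)
      exact (autGroup_iff_isMap hf.le fun x => (hgx x).symm).2 ((hlarge hg hlt).mono hR.le)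
    rcases hf.le.eq_or_lt with rfl | hPS
    · have hi : img P f = P := eq_of_le_of_card_le hf.img_le hf.card_img.ge
      exact (autGroup_iff_isMap le_rfl (hf.toAut_apply hi)).1
        (hE _ (Or.inl rfl) (hf.toAut_mem hi))
    · obtain ⟨R, hPR, hR⟩ := exists_fullyNormalized_conj F hf.le
      obtain ⟨ψ₁, hψ₁, hi₁, -⟩ := exists_map_normalizerIn_of_fullyNormalized hS hF hR hPR
      have hQR : F.IsConj (img P f) R := isConj_trans (isConj_symm hf.isConj) hPR
      obtain ⟨ψ₂, hψ₂, hi₂, -⟩ := exists_map_normalizerIn_of_fullyNormalized hS hF hR hQR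
      have hQS : img P f < S := by
        refine lt_of_le_of_ne hf.img_le fun he => ?_
        refine hPS.ne (eq_of_le_of_card_le hf.le ?_)
        rw [← hf.card_img, he]
      have hcard : ∀ {Q : Subgroup Ω}, Q < S → Nat.card Q = Nat.card P →
          Nat.card P < Nat.card (normalizerIn S Q) := fun {Q} hQ hc => by
        haveI := finite_normalizerIn (S := S) (P := Q)
        exact hc ▸ lt_of_not_ge fun h =>
          (lt_normalizerIn hS hQ).ne (eq_of_le_of_card_le (le_normalizerIn hQ.le) h)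
      have e₁ := (hlarge hψ₁ (hcard hPS rfl)).mono (le_normalizerIn hf.le)
      have e₂ := (hlarge hψ₂ (hcard hQS hf.card_img)).mono (le_normalizerIn hf.img_le)
      obtain ⟨g₁, hg₁, hgx₁, hgy₁, hgi₁⟩ := (hψ₁.mono (le_normalizerIn hf.le)).exists_inv
      rw [hi₁] at hg₁ hgy₁ hgi₁
      obtain ⟨k₁, hk₁, hkx₁, hky₁, -⟩ := e₁.exists_inv
      rw [hi₁] at hk₁
      obtain ⟨k₂, hk₂, hkx₂, -, -⟩ := e₂.exists_inv
      rw [hi₂] at hk₂
      have hmem : ∀ y ∈ R, f (g₁ y) ∈ img P f := fun y hy => hf.apply_mem_img (hgy₁ y hy).1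
      have hmap : IsMap F R (fun y => ψ₂ (f (g₁ y))) :=
        (hg₁.comp hf fun y hy => (hgy₁ y hy).1).comp (hψ₂.mono (le_normalizerIn hf.img_le)) hmem
      haveI := finite_of_le hR.1
      have hmapi : img R (fun y => ψ₂ (f (g₁ y))) = R := by
        refine eq_of_le_of_card_le (fun z hz => ?_) hmap.card_img.ge
        obtain ⟨y, hy, rfl⟩ := hmap.mem_img.1 hz
        exact hi₂ ▸ (hψ₂.mono (le_normalizerIn hf.img_le)).apply_mem_img (hmem y hy)
      have hRS : R < S := by
        refine lt_of_le_of_ne hR.1 fun he => ?_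
        refine hPS.ne (eq_of_le_of_card_le hf.le ?_)
        rw [← isConj_card hPR, he]
      have hα : hmap.toAut hmapi ∈ E.autGroup R := by
        by_cases hess : F.IsEssential p R
        · exact hE R (Or.inr hess) (hmap.toAut_mem hmapi)
        · have h1 := extAut_eq_of_not_essential hS hF hRS hR hess
          refine ((Subgroup.closure_le _).2 fun α hα => ?_ : extAut F R ≤ E.autGroup R)
            (h1.ge (hmap.toAut_mem hmapi))
          obtain ⟨Q, hRQ, g, hg, hgx⟩ := hα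
          haveI := finite_of_le hg.le
          have hlt : Nat.card P < Nat.card Q := by
            rw [← isConj_card hPR]
            exact lt_of_not_ge fun h => hRQ.ne (eq_of_le_of_card_le hRQ.le h)
          exact (autGroup_iff_isMap hR.1 fun x => (hgx x).symm).2 ((hlarge hg hlt).mono hRQ.le)
      have hαE : IsMap E R (fun y => ψ₂ (f (g₁ y))) :=
        (autGroup_iff_isMap hR.1 fun x => hmap.toAut_apply hmapi x).1 hα
      have hin : ∀ x ∈ P, ψ₁ x ∈ R := fun x hx =>
        hi₁ ▸ (hψ₁.mono (le_normalizerIn hf.le)).apply_mem_img hx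
      refine ((e₁.comp hαE hin).comp hk₂ fun x hx => ?_).congr fun x hx => ?_
      · exact hmapi ▸ hmap.apply_mem_img (hin x hx)
      · show k₂ (ψ₂ (f (g₁ (ψ₁ x)))) = f x
        rw [hgx₁ x hx, hkx₂ _ (hf.apply_mem_img hx)]

end Saturated

theorem eq_inner_of_pGroup [Fact p.Prime] [Finite S] (hS : IsPGroup p S) (hF : F.IsSaturated p)
    (h : ∀ P, (P = S ∨ F.IsEssential p P) → IsPGroup p (F.autGroup P)) :
    F = innerFusionSystem S := by
  refine fusionSystem_ext (hom_eq_of_le_le (alperin hS hF fun P hP => ?_) (inner_le F))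
  have hFN : F.IsFullyNormalized P := hP.elim (fun he => he ▸ fullyNormalized_top F) fun he => he.2.1
  haveI := finite_of_le hFN.1
  obtain ⟨T, hT⟩ := (fullyAutomized_of_fullyNormalized hS hF hFN).2
  have htop : (T : Subgroup (F.autGroup P)) = ⊤ := by
    obtain ⟨T', hT'⟩ := (IsPGroup.of_equiv (h P hP) Subgroup.topEquiv.symm).exists_le_sylow
    exact T.is_maximal' (h P hP |>.of_equiv Subgroup.topEquiv.symm) le_top |>.symm
  intro α hα
  have : (⟨α, hα⟩ : F.autGroup P) ∈ (T : Subgroup (F.autGroup P)) := htop ▸ Subgroup.mem_top _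
  rw [hT] at this
  exact autInducedBy_le_autGroup hFN.1 this

end CfsgLib.Fusion
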