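import Cfsg.Agent.Lib.Fusion.Normal
import Cfsg.Agent.Lib.Fusion.Alperin

/-!
The centre of a saturated system: the elements fixed by all maps.
-/

set_option autoImplicit false
set_option linter.style.haveILetI false
set_option linter.unusedVariables false
set_option linter.unusedSectionVars false

namespace CfsgLib.Fusion

open Cfsg Cfsg.FusionSystem Subgroup

variable {Ω : Type*} [Group Ω] {S : Subgroup Ω} {F : FusionSystem S}
  {P Q R : Subgroup Ω} {f g : Ω → Ω} {p : ℕ}

/-- A system over `T` read as a system over `T' = T`. -/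
def castSys {T T' : Subgroup Ω} (h : T = T') (E : FusionSystem T) : FusionSystem T' := h ▸ E

theorem castSys_hom {T T' : Subgroup Ω} (h : T = T') (E : FusionSystem T) (P : Subgroup Ω) :
    (castSys h E).Hom P = E.Hom P := by
  subst h
  rfl

theorem isMap_castSys {T T' : Subgroup Ω} (h : T = T') (E : FusionSystem T) :
    IsMap (castSys h E) P f ↔ IsMap E P f := by
  subst h
  rfl

theorem IsCentral.apply_eq (h : F.IsCentral Q) (hf : IsMap F P f) {z : Ω} (hz : z ∈ Q)
    (hzP : z ∈ P) : f z = z := by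
  obtain ⟨g, hg, hgx, hgQ⟩ := (isCentral_iff.1 h).2 P f hf
  rw [← hgx z hzP, hgQ z hz]

theorem le_centralizerIn_of_fixed (hQ : Q ≤ S)
    (h : ∀ (f : Ω → Ω), IsMap F S f → ∀ z ∈ Q, f z = z) : centralizerIn S Q = S := by
  refine inf_eq_left.2 fun a ha z hz => ?_
  have h1 : a * z * a⁻¹ = z := h _ (isMap_conj F le_rfl ha) z hz
  calc z * a = a * z * a⁻¹ * a := by rw [h1]
    _ = a * z := by group

theorem IsCentral.centralizerIn_eq (h : F.IsCentral Q) : centralizerIn S Q = S :=
  le_centralizerIn_of_fixed h.1 fun f hf z hz => IsCentral.apply_eq h hf hz (h.1 hz)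

/-- The system of the maps extending to maps fixing `Q`, when `S` centralizes `Q`. -/
noncomputable def fixingSys (F : FusionSystem S) (Q : Subgroup Ω) (hQ : Q ≤ S)
    (hC : centralizerIn S Q = S) : FusionSystem S :=
  castSys hC (centralizerSys F Q hQ)

theorem isMap_fixingSys_iff (hQ : Q ≤ S) (hC : centralizerIn S Q = S) :
    IsMap (fixingSys F Q hQ hC) P f ↔ P ≤ S ∧ (∀ x ∈ P, f x ∈ S) ∧
      ∃ g, IsMap F (P ⊔ Q) g ∧ (∀ x ∈ P, g x = f x) ∧ ∀ x ∈ Q, g x = x := by
  rw [fixingSys, isMap_castSys,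
    isMap_centralizerSystem_iff (isCentralizerSystem_centralizerSys F Q hQ), hC]

theorem mem_fixingSys_of_fixed (hQ : Q ≤ S) (hC : centralizerIn S Q = S) (hf : IsMap F P f)
    (hQP : Q ≤ P) (h : ∀ x ∈ Q, f x = x) : IsMap (fixingSys F Q hQ hC) P f :=
  (isMap_fixingSys_iff hQ hC).2
    ⟨hf.le, fun x hx => hf.mem hx, f, by rwa [sup_eq_left.2 hQP], fun _ _ => rfl, h⟩

theorem isCentral_of_le_fixingSys (hQ : Q ≤ S) (hC : centralizerIn S Q = S)
    (h : F ≤ fixingSys F Q hQ hC) : F.IsCentral Q :=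
  isCentral_iff.2 ⟨hQ, fun P f hf =>
    ((isMap_fixingSys_iff hQ hC).1 (le_iff_isMap.1 h P f hf)).2.2⟩

/-- Elements fixed by all maps form a central subgroup. -/
theorem isCentral_of_fixed [Fact p.Prime] [Finite S] (hS : IsPGroup p S) (hF : F.IsSaturated p)
    (hQ : Q ≤ S) (h : ∀ (P : Subgroup Ω) (f : Ω → Ω), IsMap F P f → Q ≤ P → ∀ z ∈ Q, f z = z) :
    F.IsCentral Q := by
  have hC := le_centralizerIn_of_fixed (F := F) hQ fun f hf z hz => h S f hf hQ z hz
  refine isCentral_of_le_fixingSys hQ hC (alperin hS hF fun R hR α hα => ?_)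
  have hRS : R ≤ S := hR.elim (fun e => e.le) fun e => e.1.1
  have hQR : Q ≤ R := by
    rcases hR with rfl | hR
    · exact hQ
    · exact fun z hz => hR.1.2 R (isConj_refl hRS) ⟨hQ hz, fun y hy =>
        ((hC.ge (hRS hy)).2 z hz).symm⟩
  exact (autGroup_iff_isMap hRS fun x => (toFun_aut_apply α x.2).symm).2
    (mem_fixingSys_of_fixed hQ hC (isMap_of_autGroup hRS hα) hQR fun x hx =>
      h R _ (isMap_of_autGroup hRS hα) hQR x hx)

theorem mem_center_iff [Fact p.Prime] [Finite S] (hS : IsPGroup p S) (hF : F.IsSaturated p)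
    {z : Ω} : z ∈ F.center ↔
      z ∈ S ∧ ∀ (P : Subgroup Ω) (f : Ω → Ω), IsMap F P f → z ∈ P → f z = z := by
  refine ⟨fun hz => ⟨center_le F hz, fun P f hf hzP =>
    IsCentral.apply_eq center_isCentral hf hz hzP⟩, fun hz => ?_⟩
  have h : F.IsCentral (Subgroup.zpowers z) := by
    refine isCentral_of_fixed hS hF (Subgroup.zpowers_le.2 hz.1) fun P f hf hle w hw => ?_
    have hzK : Subgroup.zpowers z ≤ (hf.toHom.eqLocus P.subtype).map P.subtype :=
      Subgroup.zpowers_le.2 ⟨⟨z, hle (Subgroup.mem_zpowers z)⟩,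
        hz.2 P f hf (hle (Subgroup.mem_zpowers z)), rfl⟩
    obtain ⟨v, hv, rfl⟩ := hzK hw
    exact hv
  exact IsCentral.le_center h (Subgroup.mem_zpowers z)

end CfsgLib.Fusion
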