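import Cfsg.Agent.Lib.Fusion.Simple
import Cfsg.Agent.Lib.Fusion.Center
import Mathlib.GroupTheory.Nilpotent

/-!
Criteria for a subgroup to be normal in a saturated fusion system.
-/

set_option autoImplicit false
set_option linter.style.haveILetI false
set_option linter.unusedVariables false
set_option linter.unusedSectionVars false

namespace CfsgLib.Fusion

open Cfsg Cfsg.FusionSystem Subgroup
open scoped commutatorElement

variable {Ω : Type*} [Group Ω] {S : Subgroup Ω} {F : FusionSystem S} {P Q R : Subgroup Ω} {p : ℕ}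

section Saturated

variable [Fact p.Prime] [Finite S] (hS : IsPGroup p S) (hF : F.IsSaturated p)

include hS hF

/-- A subgroup lying in and preserved by the essential subgroups and `S` is normal. -/
theorem isNormal_of_alperin (hQ : Q ≤ S)
    (h : ∀ P, (P = S ∨ F.IsEssential p P) →
      Q ≤ P ∧ ∀ α ∈ F.autGroup P, ∀ x : P, (x : Ω) ∈ Q → ((α x : P) : Ω) ∈ Q) :
    F.IsNormal Q := by
  have hnS : normalizerIn S Q = S := by
    refine inf_eq_left.2 fun a ha => ?_
    haveI : Finite (Q : Set Ω) := (finite_of_le hQ : Finite Q)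
    refine Subgroup.mem_normalizer_fintype fun y hy => ?_
    have hm := isMap_conj F (le_refl S) ha
    have hi : img S (fun x => a * x * a⁻¹) = S :=
      eq_of_le_of_card_le hm.img_le hm.card_img.ge
    have := (h S (Or.inl rfl)).2 _ (hm.toAut_mem hi) ⟨y, hQ hy⟩ hy
    rwa [IsMap.toAut_apply] at this
  have hNs := isNormalizerSystem_normalizerSys F Q hQ
  have hle : F ≤ castSys hnS (normalizerSys F Q hQ) := by
    refine alperin hS hF fun P hP α hα => ?_
    obtain ⟨hQP, hinv⟩ := h P hP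
    have hPS : P ≤ S := hP.elim (fun e => e.le) fun e => e.1.1
    haveI := finite_of_le hPS
    have hm := isMap_of_autGroup hPS hα
    refine (autGroup_iff_isMap hPS fun x => (toFun_aut_apply α x.2).symm).2
      ((isMap_castSys hnS _).2 ((isMap_normalizerSystem_iff hNs).2
        ⟨hnS.symm ▸ hPS, fun x hx => hnS.symm ▸ hm.mem hx, _,
          by rwa [sup_eq_left.2 hQP], fun x _ => rfl, ?_⟩))
    haveI := finite_of_le hQ
    refine eq_of_le_of_card_le (fun y hy => ?_) ((hm.mono hQP).card_img.ge)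
    obtain ⟨x, hx, rfl⟩ := (hm.mono hQP).mem_img.1 hy
    rw [toFun_aut_apply α (hQP hx)]
    exact hinv α hα ⟨x, hQP hx⟩ hx
  refine isNormal_iff.2 ⟨hQ, fun P f hf => ?_⟩
  exact ((isMap_normalizerSystem_iff hNs).1
    ((isMap_castSys hnS _).1 (le_iff_isMap.1 hle P f hf))).2.2

/-- A strongly closed subgroup inside every centric radical subgroup is normal. -/
theorem isNormal_of_le_centricRadical (hQ : F.StronglyClosed Q)
    (h : ∀ P, F.IsCentric P → F.IsRadical p P → Q ≤ P) : F.IsNormal Q := by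
  refine isNormal_of_alperin hS hF hQ.1 fun P hP => ⟨?_, fun α hα x hx => ?_⟩
  · rcases hP with rfl | hP
    · exact hQ.1
    · exact h P hP.1 (essential_isRadical hS hF hP)
  · have hPS : P ≤ S := hP.elim (fun e => e.le) fun e => e.1.1
    have := StronglyClosed.apply_mem hQ (isMap_of_autGroup hPS hα) x.2 hx
    rwa [toFun_aut_apply _ x.2] at this

end Saturated

/-- An element inducing an automorphism inside `O_p` of a centric radical subgroup lies in it. -/
theorem mem_of_aut_mem_pGroup [Fact p.Prime] [Finite S] (hc : F.IsCentric P) (hr : F.IsRadical p P)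
    (K : Subgroup (F.autGroup P)) [K.Normal] (hK : IsPGroup p K) {a : Ω}
    (ha : a ∈ normalizerIn S P)
    (haK : ∀ α : F.autGroup P, (α : MulAut P) = P.normalizerMonoidHom ⟨a, ha.2⟩ → α ∈ K) :
    a ∈ P := by
  have hmem : P.normalizerMonoidHom ⟨a, ha.2⟩ ∈ F.autGroup P :=
    autInducedBy_le_autGroup hr.1 (mem_autInducedBy_iff.2 ⟨a, ha.1, fun x => rfl⟩)
  have h1 : (⟨_, hmem⟩ : F.autGroup P) ∈ pCore p (F.autGroup P) :=
    (le_sSup (α := Subgroup (F.autGroup P)) ⟨inferInstance, hK⟩ : K ≤ pCore p (F.autGroup P))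
      (haK _ rfl)
  refine mem_of_normalizerMonoidHom_mem_inn hc ha ?_
  rw [← hr.2]
  exact ⟨_, h1, rfl⟩

/-- If the part of `Q` normalizing `P` lies in `P`, so does `Q`. -/
theorem le_of_normalizer_inf_le [Fact p.Prime] [Finite S] (hS : IsPGroup p S) (hP : P ≤ S)
    (hQ : Q ≤ S) (hn : ∀ a ∈ P, a ∈ Subgroup.normalizer (Q : Set Ω))
    (h : ∀ a ∈ Q, a ∈ Subgroup.normalizer (P : Set Ω) → a ∈ P) : Q ≤ P := by
  by_contra hle
  have hlt : P < P ⊔ Q := left_lt_sup.2 hle
  have hPQ : P ⊔ Q ≤ S := sup_le hP hQ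
  haveI := finite_of_le hPQ
  obtain ⟨a, ha, haP⟩ := SetLike.exists_of_lt (lt_normalizerIn (hS.to_le hPQ) hlt)
  obtain ⟨x, hx, y, hy, rfl⟩ : ∃ x ∈ P, ∃ y ∈ Q, x * y = a := by
    have h1 : a ∈ ((P ⊔ Q : Subgroup Ω) : Set Ω) := ha.1
    rw [Subgroup.coe_mul_of_left_le_normalizer_right P Q hn] at h1
    exact Set.mem_mul.1 h1
  have hyn : y ∈ Subgroup.normalizer (P : Set Ω) := by
    have h1 := Subgroup.mul_mem _ (Subgroup.inv_mem _ (Subgroup.le_normalizer hx :
      x ∈ Subgroup.normalizer (P : Set Ω))) ha.2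
    rwa [inv_mul_cancel_left] at h1
  exact haP (P.mul_mem hx (h y hy hyn))

theorem pow_apply_of_fixed {G : Type*} [Group G] {β : MulAut G} {x z : G} (hx : β x = x * z)
    (hz : β z = z) (j : ℕ) : (β ^ j) x = x * z ^ j := by
  induction j with
  | zero => simp
  | succ j ih => rw [pow_succ', MulAut.mul_apply, ih, map_mul, map_pow, hx, hz, mul_assoc, ← pow_succ']

/-- The stabilizer of an invariant series in a subgroup `K₀` of `Aut_F(P)`. -/
def seriesStab (K₀ : Subgroup (F.autGroup P)) (n : ℕ) (C : ℕ → Subgroup Ω)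
    (hmono : Monotone C)
    (hinv : ∀ i, ∀ α ∈ F.autGroup P, ∀ x : P, (x : Ω) ∈ C i → ((α x : P) : Ω) ∈ C i) :
    Subgroup (F.autGroup P) where
  carrier := {α | α ∈ K₀ ∧ ∀ i < n, ∀ x : P, (x : Ω) ∈ C (i + 1) →
    (x : Ω)⁻¹ * (((α : MulAut P) x : P) : Ω) ∈ C i}
  one_mem' := ⟨K₀.one_mem, fun i _ x _ => by simp⟩
  mul_mem' {α β} hα hβ := ⟨K₀.mul_mem hα.1 hβ.1, fun i hi x hx => by
    have h1 := (C i).mul_mem (hβ.2 i hi x hx)
      (hα.2 i hi ((β : MulAut P) x) (hinv _ β β.2 x hx))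
    simpa [MulAut.mul_apply, mul_assoc] using h1⟩
  inv_mem' {α} hα := ⟨K₀.inv_mem hα.1, fun i hi x hx => by
    have h0 : (((α : MulAut P)⁻¹ x : P) : Ω) ∈ C (i + 1) := hinv _ _ (α⁻¹).2 x hx
    have h1 := (C i).inv_mem (hα.2 i hi ((α : MulAut P)⁻¹ x) h0)
    rw [MulAut.apply_inv_self] at h1
    simpa using h1⟩

theorem seriesStab_normal (K₀ : Subgroup (F.autGroup P)) [K₀.Normal] (n : ℕ)
    (C : ℕ → Subgroup Ω) (hmono : Monotone C)
    (hinv : ∀ i, ∀ α ∈ F.autGroup P, ∀ x : P, (x : Ω) ∈ C i → ((α x : P) : Ω) ∈ C i) :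
    (seriesStab K₀ n C hmono hinv).Normal := ⟨fun β hβ γ => by
  refine ⟨Subgroup.Normal.conj_mem inferInstance β hβ.1 γ, fun i hi x hx => ?_⟩
  have h0 : (((γ : MulAut P)⁻¹ x : P) : Ω) ∈ C (i + 1) := hinv _ _ (γ⁻¹).2 x hx
  have h1 := hinv i γ γ.2 (((γ : MulAut P)⁻¹ x)⁻¹ * (β : MulAut P) ((γ : MulAut P)⁻¹ x))
    (hβ.2 i hi _ h0)
  rw [map_mul, map_inv, MulAut.apply_inv_self] at h1
  exact h1⟩

theorem isPGroup_seriesStab [Fact p.Prime] (hP : IsPGroup p P) [Finite P]
    (K₀ : Subgroup (F.autGroup P)) (n : ℕ) (C : ℕ → Subgroup Ω) (hmono : Monotone C)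
    (hinv : ∀ i, ∀ α ∈ F.autGroup P, ∀ x : P, (x : Ω) ∈ C i → ((α x : P) : Ω) ∈ C i)
    (hn : P ≤ C n)
    (hinit : ∀ α ∈ K₀, ∃ k, ∀ x : P, (x : Ω) ∈ C 0 → (((α : MulAut P) ^ p ^ k) x) = x) :
    IsPGroup p (seriesStab K₀ n C hmono hinv) := by
  rintro ⟨γ, hγ⟩
  obtain ⟨e, he⟩ := hP.exists_card_eq
  have hstep : ∀ i ≤ n, ∃ m, ∀ x : P, (x : Ω) ∈ C i → (((γ : MulAut P) ^ p ^ m) x) = x := by
    intro i hi
    induction i with
    | zero => exact hinit γ hγ.1
    | succ i ih =>
      obtain ⟨m, hm⟩ := ih (by omega)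
      refine ⟨m + e, fun x hx => ?_⟩
      have hK : γ ^ p ^ m ∈ seriesStab K₀ n C hmono hinv := Subgroup.pow_mem _ hγ _
      set β := (γ : MulAut P) ^ p ^ m with hβ
      have hz : ((x⁻¹ * β x : P) : Ω) ∈ C i := by
        have := hK.2 i (by omega) x hx
        rwa [Subgroup.coe_pow] at this
      have h1 := pow_apply_of_fixed (β := β) (x := x) (z := x⁻¹ * β x) (by simp) (hm _ hz) (p ^ e)
      rw [← he, pow_card_eq_one', mul_one, he] at h1
      rw [pow_add, pow_mul]
      exact h1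
  obtain ⟨m, hm⟩ := hstep n le_rfl
  refine ⟨m, Subtype.ext (Subtype.ext (MulEquiv.ext fun x => ?_))⟩
  simp only [Subgroup.coe_pow, Subgroup.coe_one, MulAut.one_apply]
  exact hm x (hn x.2)

/-- An element stabilizing an invariant series of a centric radical subgroup lies in it. -/
theorem mem_of_stabilizes [Fact p.Prime] [Finite S] (hS : IsPGroup p S) (hc : F.IsCentric P)
    (hr : F.IsRadical p P) (K₀ : Subgroup (F.autGroup P)) [K₀.Normal] (n : ℕ)
    (C : ℕ → Subgroup Ω) (hmono : Monotone C)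
    (hinv : ∀ i, ∀ α ∈ F.autGroup P, ∀ x : P, (x : Ω) ∈ C i → ((α x : P) : Ω) ∈ C i)
    (hn : P ≤ C n)
    (hinit : ∀ α ∈ K₀, ∃ k, ∀ x : P, (x : Ω) ∈ C 0 → (((α : MulAut P) ^ p ^ k) x) = x)
    {a : Ω} (ha : a ∈ normalizerIn S P)
    (haK : ∀ α : F.autGroup P, (α : MulAut P) = P.normalizerMonoidHom ⟨a, ha.2⟩ → α ∈ K₀)
    (has : ∀ i < n, ∀ x ∈ P, x ∈ C (i + 1) → x⁻¹ * (a * x * a⁻¹) ∈ C i) : a ∈ P := by
  haveI := finite_of_le hc.1
  haveI := seriesStab_normal K₀ n C hmono hinv
  refine mem_of_aut_mem_pGroup hc hr (seriesStab K₀ n C hmono hinv)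
    (isPGroup_seriesStab (hS.to_le hc.1) K₀ n C hmono hinv hn hinit) ha fun α hα => ⟨haK α hα, ?_⟩
  intro i hi x hx
  rw [hα]
  exact has i hi x x.2 hx

/-- A normal subgroup lies in every centric radical subgroup. -/
theorem IsNormal.le_centricRadical [Fact p.Prime] [Finite S] (hS : IsPGroup p S) (hQ : F.IsNormal Q)
    (hc : F.IsCentric P) (hr : F.IsRadical p P) : Q ≤ P := by
  refine le_of_normalizer_inf_le hS hc.1 hQ.1 (fun a ha => ?_) fun a haQ haP => ?_
  · exact (StronglyClosed.le_normalizer (IsNormal.stronglyClosed hQ)) (hc.1 ha)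
  · haveI : ((autInducedBy Q P).subgroupOf (F.autGroup P)).Normal := ⟨fun β hβ γ => by
      rw [Subgroup.mem_subgroupOf, mem_autInducedBy_iff] at hβ ⊢
      obtain ⟨b, hb, hbx⟩ := hβ
      have hg := isMap_of_autGroup hc.1 γ.2
      obtain ⟨-, hext⟩ := isNormal_iff.1 hQ
      obtain ⟨g, hgm, hgx, hgQ⟩ := hext P _ hg
      refine ⟨g b, hgQ ▸ (hgm.mono le_sup_right).apply_mem_img hb, fun x => ?_⟩
      set y := ((γ : MulAut P)⁻¹ x) with hy
      have hx : x = (γ : MulAut P) y := (MulAut.apply_inv_self _ _ _).symm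
      simp only [Subgroup.coe_mul, Subgroup.coe_inv, MulAut.mul_apply]
      rw [← hy, hx, ← toFun_aut_apply (γ : MulAut P) y.2, ← hgx _ y.2,
        ← toFun_aut_apply (γ : MulAut P) (SetLike.coe_mem ((β : MulAut P) y)),
        ← hgx _ (SetLike.coe_mem _), hbx y,
        hgm.map_conj (Subgroup.mem_sup_right hb) (Subgroup.mem_sup_left y.2)]⟩
    haveI := finite_of_le hc.1
    refine mem_of_aut_mem_pGroup hc hr ((autInducedBy Q P).subgroupOf (F.autGroup P)) ?_
      ⟨hQ.1 haQ, haP⟩ fun α hα => ?_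
    · exact (isPGroup_autInducedBy (hS.to_le hQ.1) P).comap_of_injective _
        (Subgroup.subtype_injective (F.autGroup P))
    · rw [Subgroup.mem_subgroupOf, hα]
      exact mem_autInducedBy_iff.2 ⟨a, haQ, fun x => rfl⟩

/-- A strongly closed subgroup with a series, central in it, of weakly closed subgroups lies in
every centric radical subgroup. -/
theorem le_centricRadical_of_series [Fact p.Prime] [Finite S] (hS : IsPGroup p S)
    (hQ : F.StronglyClosed Q) (n : ℕ) (C : ℕ → Subgroup Ω) (h0 : C 0 = ⊥) (hn : C n = Q)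
    (hmono : ∀ i < n, C i ≤ C (i + 1)) (hcomm : ∀ i < n, ⁅C (i + 1), Q⁆ ≤ C i)
    (hw : ∀ i < n, F.WeaklyClosed (C i)) (hc : F.IsCentric P) (hr : F.IsRadical p P) : Q ≤ P := by
  haveI := finite_of_le hc.1
  have hCQ : ∀ i ≤ n, C i ≤ Q := by
    intro i hi
    induction hi using Nat.decreasingInduction with
    | self => exact hn.le
    | of_succ j hj ih => exact (hmono j hj).trans ih
  suffices h : ∀ i ≤ n, C i ≤ P from hn ▸ h n le_rfl
  intro i
  induction i using Nat.strong_induction_on with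
  | _ i ih =>
    intro hi
    rcases Nat.eq_zero_or_pos i with rfl | hpos
    · rw [h0]; exact bot_le
    obtain ⟨j, rfl⟩ : ∃ j, i = j + 1 := ⟨i - 1, by omega⟩
    refine le_of_normalizer_inf_le hS hc.1 ((hCQ _ hi).trans hQ.1) (fun b hb => ?_)
      fun a haC haP => ?_
    · rcases hi.eq_or_lt with he | he
      · rw [he, hn]
        exact (StronglyClosed.le_normalizer hQ) (hc.1 hb)
      · have hw' := hw _ he
        have hi' := hw'.2 _ (F.conj_mem hw'.1 (hc.1 hb))
        rw [Subgroup.mem_normalizer_iff_map_conj_eq]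
        conv_rhs => rw [← hi']
        rw [Cfsg.conjHom, MonoidHom.range_comp, Subgroup.range_subtype]
        rfl
    · let C' : ℕ → Subgroup Ω := fun k => if k ≤ j then C k else if k = j + 1 then Q else ⊤
      have hle : ∀ k ≤ j, C' k = C k := fun k hk => by simp [C', hk]
      have hj1 : C' (j + 1) = Q := by simp [C']
      have hj2 : ∀ k, j + 1 < k → C' k = ⊤ := fun k hk => by
        simp [C', show ¬ k ≤ j by omega, show k ≠ j + 1 by omega]
      have hmono' : Monotone C' := monotone_nat_of_le_succ fun k => by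
        rcases lt_trichotomy k j with hk | hk | hk
        · rw [hle k hk.le, hle (k + 1) hk]
          exact hmono k (by omega)
        · rw [hle k hk.le, hk, hj1]
          exact hCQ j (by omega)
        · rw [hj2 (k + 1) (by omega)]
          exact le_top
      refine mem_of_stabilizes hS hc hr (⊤ : Subgroup (F.autGroup P)) (j + 2) C' hmono'
        (fun k α hα x hx => ?_) (by rw [hj2 _ (by omega)]; exact le_top)
        (fun α _ => ⟨0, fun x hx => ?_⟩) ⟨hQ.1 (hCQ _ hi haC), haP⟩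
        (fun α _ => Subgroup.mem_top _) fun k hk x hxP hx => ?_
      · rcases lt_trichotomy k (j + 1) with hk | hk | hk
        · rw [hle k (by omega)] at hx ⊢
          have hkP : C k ≤ P := ih k hk (by omega)
          have hm := (isMap_of_autGroup hc.1 hα).mono hkP
          have hwk := hw k (by omega)
          have e := hwk.2 _ hm.toHom_mem
          rw [hm.range_toHom] at e
          have := hm.apply_mem_img hx
          rw [e, toFun_aut_apply α x.2] at this
          exact this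
        · rw [hk, hj1] at hx ⊢
          have := StronglyClosed.apply_mem hQ (isMap_of_autGroup hc.1 hα) x.2 hx
          rwa [toFun_aut_apply _ x.2] at this
        · rw [hj2 k hk]
          exact Subgroup.mem_top _
      · rw [hle 0 (by omega), h0, Subgroup.mem_bot] at hx
        have : x = 1 := Subtype.ext hx
        rw [this, map_one]
      · have haQ : a ∈ Q := hCQ _ hi haC
        rcases lt_trichotomy k j with hk' | hk' | hk'
        · rw [hle k hk'.le]
          rw [hle (k + 1) hk'] at hx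
          have := hcomm k (by omega) (Subgroup.commutator_mem_commutator ((C _).inv_mem hx) haQ)
          simpa [commutatorElement_def, mul_assoc] using this
        · subst hk'
          rw [hle k le_rfl]
          rw [hj1] at hx
          have h1 : ⁅x⁻¹, a⁆ ∈ C k := by
            rw [← inv_mem_iff, commutatorElement_inv]
            exact hcomm k (by omega) (Subgroup.commutator_mem_commutator haC (Q.inv_mem hx))
          simpa [commutatorElement_def, mul_assoc] using h1
        · obtain rfl : k = j + 1 := by omega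
          rw [hj1]
          have h1 := Q.mul_mem (StronglyClosed.conj_mem hQ (S.inv_mem (hc.1 hxP)) haQ)
            (Q.inv_mem haQ)
          simpa [mul_assoc] using h1

/-- The upper central series of a normal subgroup. -/
theorem IsNormal.exists_series [Fact p.Prime] [Finite S] (hS : IsPGroup p S) (hQ : F.IsNormal Q) :
    ∃ (n : ℕ) (C : ℕ → Subgroup Ω), C 0 = ⊥ ∧ C n = Q ∧ Monotone C ∧
      (∀ i, ⁅C (i + 1), Q⁆ ≤ C i) ∧ ∀ i, F.IsNormal (C i) := by
  haveI := finite_of_le hQ.1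
  haveI : Group.IsNilpotent Q := (hS.to_le hQ.1).isNilpotent
  refine ⟨Group.nilpotencyClass Q, fun i => (Subgroup.upperCentralSeries Q i).map Q.subtype,
    by simp, ?_, fun i j hij => Subgroup.map_mono (Subgroup.upperCentralSeries_mono Q hij),
    fun i => ?_, fun i => ?_⟩
  · simp [← MonoidHom.range_eq_map, Subgroup.range_subtype]
  · refine Subgroup.commutator_le.2 ?_
    rintro _ ⟨x, hx, rfl⟩ y hy
    exact ⟨⁅x, ⟨y, hy⟩⁆, hx ⟨y, hy⟩, rfl⟩
  · refine isNormal_characteristic hQ (Subgroup.map_subtype_le _) ?_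
    rw [Subgroup.subgroupOf, Subgroup.comap_map_eq_self_of_injective Q.subtype_injective]
    infer_instance

/-- A subgroup whose maps are restrictions of its automorphisms is normal. -/
theorem isNormal_of_maps_extend [Fact p.Prime] [Finite S] (hS : IsPGroup p S)
    (hF : F.IsSaturated p) (hRS : R ≤ S)
    (h : ∀ (P : Subgroup Ω) (f : Ω → Ω), IsMap F P f → P ≤ R →
      ∃ α ∈ F.autGroup R, ∀ x ∈ P, ∀ hx : x ∈ R, ((α ⟨x, hx⟩ : R) : Ω) = f x) :
    F.IsNormal R := by
  have hsc : F.StronglyClosed R := by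
    refine stronglyClosed_iff.2 ⟨hRS, fun X f hX hf x hx => ?_⟩
    obtain ⟨α, -, hαx⟩ := h X f hf hX
    rw [← hαx x hx (hX hx)]
    exact (α _).2
  refine isNormal_of_le_centricRadical hS hF hsc fun P hc hr => ?_
  haveI := finite_of_le hc.1
  refine le_of_normalizer_inf_le hS hc.1 hRS
    (fun a ha => StronglyClosed.le_normalizer hsc (hc.1 ha)) fun a haR haP => ?_
  have hinvR : ∀ α ∈ F.autGroup P, ∀ x : P, (x : Ω) ∈ R → ((α x : P) : Ω) ∈ R := fun α hα x hx => by
    have := StronglyClosed.apply_mem hsc (isMap_of_autGroup hc.1 hα) x.2 hx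
    rwa [toFun_aut_apply _ x.2] at this
  let K₀ : Subgroup (F.autGroup P) :=
    { carrier := {γ | ∃ b ∈ R, ∀ x : P, (x : Ω) ∈ R →
        (((γ : MulAut P) x : P) : Ω) = b * x * b⁻¹}
      one_mem' := ⟨1, R.one_mem, fun x _ => by simp⟩
      mul_mem' := by
        rintro γ δ ⟨b, hb, hγ⟩ ⟨b', hb', hδ⟩
        refine ⟨b * b', R.mul_mem hb hb', fun x hx => ?_⟩
        rw [Subgroup.coe_mul, MulAut.mul_apply, hγ _ (hinvR _ δ.2 x hx), hδ x hx]
        group
      inv_mem' := by
        rintro γ ⟨b, hb, hγ⟩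
        refine ⟨b⁻¹, R.inv_mem hb, fun x hx => ?_⟩
        have h1 := hγ _ (hinvR _ (γ⁻¹).2 x hx)
        rw [Subgroup.coe_inv, MulAut.apply_inv_self] at h1
        rw [Subgroup.coe_inv, h1]
        group }
  haveI : K₀.Normal := ⟨fun β ⟨b, hb, hβ⟩ γ => by
    have hg := (isMap_of_autGroup hc.1 γ.2).mono (inf_le_left : P ⊓ R ≤ P)
    obtain ⟨α, -, hαx⟩ := h _ _ hg inf_le_right
    refine ⟨α ⟨b, hb⟩, SetLike.coe_mem _, fun x hx => ?_⟩
    simp only [Subgroup.coe_mul, Subgroup.coe_inv, MulAut.mul_apply]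
    set y := ((γ : MulAut P)⁻¹ x) with hy
    have hyR : (y : Ω) ∈ R := hinvR _ (γ⁻¹).2 x hx
    have hzR : (((β : MulAut P) y : P) : Ω) ∈ R := hinvR _ β.2 y hyR
    have hxy : x = (γ : MulAut P) y := (MulAut.apply_inv_self _ _ _).symm
    rw [hxy, ← toFun_aut_apply (γ : MulAut P) y.2, ← hαx _ ⟨y.2, hyR⟩ hyR,
      ← toFun_aut_apply (γ : MulAut P) (SetLike.coe_mem ((β : MulAut P) y)),
      ← hαx _ ⟨SetLike.coe_mem _, hzR⟩ hzR]
    have e : (⟨_, hzR⟩ : R) = ⟨b, hb⟩ * ⟨y, hyR⟩ * ⟨b, hb⟩⁻¹ := Subtype.ext (hβ y hyR)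
    rw [e, map_mul, map_mul, map_inv, Subgroup.coe_mul, Subgroup.coe_mul, Subgroup.coe_inv]⟩
  refine mem_of_stabilizes hS hc hr K₀ 1 (fun k => if k = 0 then R else ⊤)
    (monotone_nat_of_le_succ fun k => by simp) (fun k α hα x hx => ?_) (by simp)
    (fun γ hγ => ?_) ⟨hRS haR, haP⟩ (fun α hα => ⟨a, haR, fun x _ => by rw [hα]; rfl⟩)
    fun k hk x hxP hx => ?_
  · split_ifs with h0
    · rw [if_pos h0] at hx
      exact hinvR α hα x hx
    · exact Subgroup.mem_top _
  · obtain ⟨b, hb, hγb⟩ := hγ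
    obtain ⟨k, hk⟩ := (hS.to_le hRS) ⟨b, hb⟩
    refine ⟨k, fun x hx => ?_⟩
    have hpow : ∀ (j : ℕ), ((((γ : MulAut P) ^ j) x : P) : Ω) = b ^ j * x * (b ^ j)⁻¹ ∧
        ((((γ : MulAut P) ^ j) x : P) : Ω) ∈ R := by
      intro j
      induction j with
      | zero => simpa using hx
      | succ j ih =>
        rw [pow_succ', MulAut.mul_apply]
        refine ⟨?_, hinvR _ γ.2 _ ih.2⟩
        rw [hγb _ ih.2, ih.1, pow_succ', mul_inv_rev]
        simp only [mul_assoc]
    refine Subtype.ext ?_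
    have hk' : b ^ p ^ k = 1 := congrArg Subtype.val hk
    rw [(hpow (p ^ k)).1, hk']
    simp
  · obtain rfl : k = 0 := by omega
    rw [if_pos rfl]
    have h1 := R.mul_mem (StronglyClosed.conj_mem hsc (S.inv_mem (hc.1 hxP)) haR) (R.inv_mem haR)
    simpa [mul_assoc] using h1

end CfsgLib.Fusion
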