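import Cfsg.Agent.Lib.Fusion.Transfer
import Cfsg.Agent.Lib.StructC.BurnsideBasis

/-!
Consequences of Tate's theorem: comparison of focal subgroups; Frattini subgroup strongly closed.
-/

set_option autoImplicit false
set_option linter.style.haveILetI false
set_option linter.unusedVariables false
set_option linter.unusedSectionVars false

namespace CfsgLib.Fusion

open Cfsg Cfsg.FusionSystem Subgroup
open scoped commutatorElement

universe u

variable {Ω : Type u} [Group Ω] {S : Subgroup Ω} {F H : FusionSystem S} {Q R : Subgroup Ω} {p : ℕ}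
  [Finite S] [Fact p.Prime]

theorem hyperfocal_mono (hHF : H.IsSubsystemOf F) :
    H.hyperfocalSubgroup p ≤ F.hyperfocalSubgroup p :=
  hyperfocal_le_of _ fun P hP α hα hc x =>
    sub_mem_hyperfocal_of_coprime hP
      ((autGroup_mem_iff hP).2 (hHF P ((autGroup_mem_iff hP).1 hα))) hc x

theorem commutator_le_frattini_map (hS : IsPGroup p S) :
    ⁅(S : Subgroup Ω), (S : Subgroup Ω)⁆ ≤ (frattini S).map S.subtype := by
  have h : commutator S ≤ frattini S := by
    rw [_root_.commutator_def, Subgroup.commutator_le]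
    intro a _ b _
    have h1 := CfsgLib.StructC.comm_mem_frattini hS a⁻¹ b⁻¹
    simpa [commutatorElement_def] using h1
  have h2 := Subgroup.map_mono (f := S.subtype) h
  rwa [_root_.commutator_def, Subgroup.map_commutator, ← MonoidHom.range_eq_map,
    Subgroup.range_subtype] at h2

variable (hS : IsPGroup p S) (hF : F.IsSaturated p)

include hS hF

/-- Tate's theorem. -/
theorem hyperfocal_eq_of_elementary_eq (hH : H.IsSaturated p) (hHF : H.IsSubsystemOf F)
    (h : (frattini S).map S.subtype ⊔ F.focalSubgroup = (frattini S).map S.subtype ⊔ H.focalSubgroup) :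
    F.hyperfocalSubgroup p = H.hyperfocalSubgroup p := by
  have hle := hyperfocal_mono (p := p) hHF
  haveI := hyperfocal_subgroupOf_normal H p
  have h1 := hyperfocal_eq_of_le_sup_frattini hS hF ((H.hyperfocalSubgroup p).subgroupOf S)
    (Subgroup.comap_mono hle) ?_
  · have h2 := Subgroup.subgroupOf_inj.1 h1
    rw [inf_eq_left.2 (hyperfocal_le H p), inf_eq_left.2 (hyperfocal_le F p)] at h2
    exact h2.symm
  · rw [← Subgroup.map_le_map_iff_of_injective S.subtype_injective, Subgroup.map_sup,
      Subgroup.map_subgroupOf_eq_of_le (hyperfocal_le F p),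
      Subgroup.map_subgroupOf_eq_of_le (hyperfocal_le H p)]
    refine ((hyperfocal_le_focal F p).trans (h ▸ le_sup_right)).trans ?_
    rw [focal_eq_hyperfocal_sup hS hH]
    exact sup_le le_sup_right (sup_le le_sup_left
      ((commutator_le_frattini_map hS).trans le_sup_right))

/-- `Φ(S)` strongly closed and `Aut_F(S)` without `p'`-elements give the inner system. -/
theorem eq_inner_of_frattini_stronglyClosed
    (htop : ∀ α ∈ F.autGroup S, (orderOf α).Coprime p → α = 1)
    (hΦ : F.StronglyClosed ((frattini S).map S.subtype)) (P : Subgroup Ω) :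
    F.Hom P = (innerFusionSystem S).Hom P := by
  set T := (frattini S).map S.subtype with hT
  have hcomm : ∀ a ∈ S, ∀ b ∈ S, ⁅a, b⁆ ∈ T := fun a ha b hb =>
    commutator_le_frattini_map hS (Subgroup.commutator_mem_commutator ha hb)
  have hN : ∀ a ∈ S, ∀ y ∈ T, a * y * a⁻¹ ∈ T := fun a ha y hy =>
    StronglyClosed.conj_mem hΦ ha hy
  have hmod : ∀ (P : Subgroup Ω) (f : Ω → Ω), IsMap F P f → ∀ x ∈ P, x⁻¹ * f x ∈ T := by
    suffices h : F ≤ conjModSys F T hN by
      intro P f hf x hx
      obtain ⟨-, a, ha, hax⟩ := (isMap_conjModSys_iff hN).1 (le_iff_isMap.1 h P f hf)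
      have h1 := T.mul_mem (hcomm x⁻¹ (S.inv_mem (hf.le hx)) a ha) (hax x hx)
      simpa [commutatorElement_def, mul_assoc] using h1
    refine alperin_inductive hS hF fun R hR hlarge α hα => ?_
    haveI := finite_of_le hR.1
    refine (autGroup_iff_isMap hR.1 fun x => (toFun_aut_apply α x.2).symm).2
      ((isMap_conjModSys_iff hN).2 ⟨isMap_of_autGroup hR.1 hα, 1, S.one_mem, fun x hx => ?_⟩)
    rw [one_mul, inv_one, mul_one, toFun_aut_apply α hx]
    -- the automorphisms of `R` trivial modulo `T`
    have hconjT : ∀ β ∈ F.autGroup R, ∀ y : R, (y : Ω) ∈ T → ((β y : R) : Ω) ∈ T :=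
      fun β hβ y hy => by
        have := StronglyClosed.apply_mem hΦ (isMap_of_autGroup hR.1 hβ) y.2 hy
        rwa [toFun_aut_apply _ y.2] at this
    let K : Subgroup (F.autGroup R) :=
      { carrier := {β | ∀ y : R, (y : Ω)⁻¹ * (((β : MulAut R) y : R) : Ω) ∈ T}
        one_mem' := fun y => by simp
        mul_mem' := fun {β γ} hb hc y => by
          have h1 := T.mul_mem (hc y) (hb ((γ : MulAut R) y))
          simpa [MulAut.mul_apply, mul_assoc] using h1
        inv_mem' := fun {β} hb y => by
          have h1 := T.inv_mem (hb ((β : MulAut R)⁻¹ y))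
          rw [MulAut.apply_inv_self] at h1
          simpa using h1 }
    haveI : K.Normal := ⟨fun β hβ γ y => by
      have h1 := hconjT γ γ.2 (((γ : MulAut R)⁻¹ y)⁻¹ * (β : MulAut R) ((γ : MulAut R)⁻¹ y))
        (hβ ((γ : MulAut R)⁻¹ y))
      rw [map_mul, map_inv, MulAut.apply_inv_self] at h1
      exact h1⟩
    obtain ⟨W, hW⟩ := (fullyAutomized_of_fullyNormalized hS hF hR).2
    have hWK : (W : Subgroup (F.autGroup R)) ≤ K := by
      intro β hβ y
      rw [hW, Subgroup.mem_subgroupOf, mem_autInducedBy_iff] at hβ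
      obtain ⟨a, ha, hax⟩ := hβ
      rw [hax y]
      simpa [commutatorElement_def, mul_assoc] using hcomm _ (S.inv_mem (hR.1 y.2)) a ha
    suffices hK : (⟨α, hα⟩ : F.autGroup R) ∈ K from hK ⟨x, hx⟩
    rcases hR.1.eq_or_lt with hRS | hRS
    · subst hRS
      have hp : IsPGroup p (F.autGroup R) := isPGroup_of_coprime_trivial fun β hβ =>
        Subtype.ext (htop β β.2 (by rwa [Subgroup.orderOf_coe]))
      exact hWK ((W.is_maximal' (hp.to_subgroup ⊤) le_top) ▸ Subgroup.mem_top _)
    have hsup := (W.subtype hWK).normalizer_sup_eq_top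
    rw [Sylow.coe_subtype, Subgroup.map_subgroupOf_eq_of_le hWK] at hsup
    obtain ⟨β, hβ, k, hk, hβk⟩ := (Subgroup.mem_sup_of_normal_right (t := K)).1
      (hsup ▸ Subgroup.mem_top (⟨α, hα⟩ : F.autGroup R))
    rw [← hβk]
    refine K.mul_mem (fun y => ?_) hk
    have hm := isMap_of_autGroup hR.1 β.2
    obtain ⟨g, hg, hgx⟩ := receptive_extend (receptive_of_fullyNormalized hS hF hR) hm
      (img_toFun_aut _) (le_normalizerIn hR.1) fun a ha => by
        refine ⟨ha.1, ha.2, ?_⟩
        have hc : R.normalizerMonoidHom ⟨a, ha.2⟩ ∈ autInducedBy S R :=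
          mem_autInducedBy_iff.2 ⟨a, ha.1, fun x => rfl⟩
        have hcW : (⟨_, autInducedBy_le_autGroup (F := F) hR.1 hc⟩ : F.autGroup R) ∈
            (W : Subgroup (F.autGroup R)) := hW ▸ hc
        have h1 := (Subgroup.mem_normalizer_iff.1 hβ _).1 hcW
        rw [hW] at h1
        obtain ⟨b, hb, hbx⟩ := mem_autInducedBy_iff.1 h1
        refine ⟨b, hb, fun x hx => ?_⟩
        have h2 := hbx ((β : MulAut R) ⟨x, hx⟩)
        rw [toFun_aut_apply _ hx, toFun_aut_apply _ ((ha.2 x).1 hx), ← h2]
        simp [MulAut.mul_apply]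
        rfl
    haveI := finite_normalizerIn (S := S) (P := R)
    have hlt : Nat.card R < Nat.card (normalizerIn S R) := lt_of_not_ge fun h =>
      (lt_normalizerIn hS hRS).ne (eq_of_le_of_card_le (le_normalizerIn hR.1) h)
    obtain ⟨-, a, ha, hax⟩ := (isMap_conjModSys_iff hN).1 (hlarge _ g hg hlt)
    have h2 := hax y (le_normalizerIn hR.1 y.2)
    rw [hgx y y.2, toFun_aut_apply _ y.2] at h2
    have h3 := T.mul_mem (hcomm _ (S.inv_mem (hR.1 y.2)) a ha) h2
    simpa [commutatorElement_def, mul_assoc] using h3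
  refine eq_inner_of_hyperfocal_eq_bot hS hF (hyperfocal_eq_bot_of_le_frattini hS hF ?_) P
  rw [← Subgroup.map_le_map_iff_of_injective S.subtype_injective,
    Subgroup.map_subgroupOf_eq_of_le (hyperfocal_le F p)]
  refine hyperfocal_le_of _ fun P hP α hα _ x => ?_
  have := hmod P _ (isMap_of_autGroup hP hα) x x.2
  rwa [toFun_aut_apply _ x.2] at this

end CfsgLib.Fusion
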