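import Cfsg.Agent.Lib.Fusion.ModelBasic
import Mathlib.GroupTheory.SemidirectProduct

/-!
The saturated system of `S` extended by a group of automorphisms of order prime to `p`.
-/

set_option autoImplicit false
set_option linter.unusedVariables false
set_option linter.unusedSectionVars false
set_option linter.style.haveILetI false

namespace CfsgLib.Fusion

open Cfsg Cfsg.FusionSystem Subgroup

universe u v

variable {Ω : Type u} [Group Ω] {S : Subgroup Ω} {G : Type v} [Group G]

/-- The system induced by a group along an injective homomorphism of `S`. -/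
def pullSys (ι : S →* G) (hι : Function.Injective ι) : FusionSystem S where
  Hom P := {φ | ∃ (hP : P ≤ S) (hφ : ∀ x : P, φ x ∈ S), ∃ g : G,
    ∀ x : P, ι ⟨φ x, hφ x⟩ = g * ι ⟨x, hP x.2⟩ * g⁻¹}
  le_of_mem := fun ⟨hP, hφ, _⟩ => ⟨hP, hφ⟩
  injective_of_mem := by
    rintro P φ ⟨hP, hφ, g, hg⟩ a b hab
    have h : g * ι ⟨a, hP a.2⟩ * g⁻¹ = g * ι ⟨b, hP b.2⟩ * g⁻¹ := by
      rw [← hg a, ← hg b]
      simp only [hab]
    exact Subtype.ext (congrArg (fun z : S => (z : Ω)) (hι (mul_left_cancel (mul_right_cancel h))))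
  conj_mem := by
    intro P a hP ha
    refine ⟨hP, fun x => S.mul_mem (S.mul_mem ha (hP x.2)) (S.inv_mem ha), ι ⟨a, ha⟩, fun x => ?_⟩
    rw [← map_inv, ← map_mul, ← map_mul]
    rfl
  comp_mem := by
    rintro P Q φ ψ ⟨hP, hφ, g, hg⟩ ⟨hQ, hψ, k, hk⟩ h
    refine ⟨hP, fun x => hψ _, k * g, fun x => ?_⟩
    refine (hk ⟨φ x, h x⟩).trans ?_
    rw [hg x]
    group
  inv_mem := by
    rintro P φ ⟨hP, hφ, g, hg⟩
    have hinj : Function.Injective φ := fun a b hab => by
      have h : g * ι ⟨a, hP a.2⟩ * g⁻¹ = g * ι ⟨b, hP b.2⟩ * g⁻¹ := by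
        rw [← hg a, ← hg b]
        simp only [hab]
      exact Subtype.ext (congrArg (fun z : S => (z : Ω))
        (hι (mul_left_cancel (mul_right_cancel h))))
    refine ⟨P.subtype.comp (MonoidHom.ofInjective hinj).symm.toMonoidHom,
      ⟨fun y hy => ?_, fun y => hP ((MonoidHom.ofInjective hinj).symm y).2, g⁻¹, fun y => ?_⟩,
      fun x => ?_⟩
    · obtain ⟨x, rfl⟩ := hy
      exact hφ x
    · obtain ⟨x, rfl⟩ := (MonoidHom.ofInjective hinj).surjective y
      simp only [MonoidHom.coe_comp, Subgroup.coe_subtype, MulEquiv.coe_toMonoidHom,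
        Function.comp_apply, MulEquiv.symm_apply_apply, MonoidHom.ofInjective_apply]
      rw [hg x]
      group
    · have : (⟨φ x, ⟨x, rfl⟩⟩ : φ.range) = MonoidHom.ofInjective hinj x := rfl
      rw [this]
      simp

theorem isRealizedBy_pullSys (ι : S →* G) (hι : Function.Injective ι) :
    (pullSys ι hι).IsRealizedBy ι :=
  ⟨hι, fun P hP φ hφ => ⟨fun ⟨_, _, h⟩ => h, fun h => ⟨hP, hφ, h⟩⟩⟩

variable {p : ℕ} [Fact p.Prime] [Finite S]

/-- A group of automorphisms of order prime to `p` lies in the automizer of some saturated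
system. -/
theorem exists_saturated_of_coprime_aut (hS : IsPGroup p S) (L : Subgroup (MulAut S))
    (hL : (Nat.card L).Coprime p) :
    ∃ F : FusionSystem S, F.IsSaturated p ∧
      ∀ α ∈ L, S.subtype.comp (α : MulAut S).toMonoidHom ∈ F.Hom S := by
  haveI : Finite L := inferInstance
  let G := SemidirectProduct S L L.subtype
  haveI : Finite G := Finite.of_equiv _ (SemidirectProduct.equivProd (φ := L.subtype)).symm
  let ι : S →* G := SemidirectProduct.inl
  have hι : Function.Injective ι := SemidirectProduct.inl_injective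
  obtain ⟨e, he⟩ := hS.exists_card_eq
  have hcard : Nat.card ι.range = p ^ (Nat.card G).factorization p := by
    have h1 : Nat.card ι.range = p ^ e := by
      rw [← he]
      exact (Nat.card_congr (MonoidHom.ofInjective hι).toEquiv).symm
    have h2 : Nat.card G = p ^ e * Nat.card L := by
      rw [Nat.card_congr (SemidirectProduct.equivProd (φ := L.subtype)), Nat.card_prod, he]
    have hp : p.Prime := Fact.out
    rw [h1, h2, Nat.factorization_mul (pow_ne_zero _ hp.ne_zero) Nat.card_pos.ne',
      Finsupp.add_apply, Nat.factorization_eq_zero_of_not_dvd (hp.coprime_iff_not_dvd.1 hL.symm),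
      hp.factorization_pow, Finsupp.single_eq_same, add_zero]
  refine ⟨pullSys ι hι, isSaturated_of_realized (isRealizedBy_pullSys ι hι)
    ⟨Sylow.ofCard ι.range hcard, rfl⟩, fun α hα => ⟨le_rfl, fun x => (α x).2,
      SemidirectProduct.inr ⟨α, hα⟩, fun x => ?_⟩⟩
  rw [← map_inv]
  exact SemidirectProduct.inl_aut (φ := L.subtype) ⟨α, hα⟩ x

end CfsgLib.Fusion
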