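import Cfsg.Agent.Lib.Fusion.Alperin
import Mathlib.GroupTheory.SpecificGroups.Dihedral
import Mathlib.GroupTheory.SpecificGroups.Quaternion

/-!
The automorphism group of a dihedral or quaternion group of order at least 16 is a 2-group.
-/

set_option autoImplicit false
set_option linter.unusedVariables false
set_option linter.unusedSectionVars false
set_option linter.style.haveILetI false

namespace CfsgLib.Fusion

open Cfsg Cfsg.FusionSystem Subgroup

/-- A group with a cyclic subgroup of index two holding all elements of its order has a 2-group of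
automorphisms. -/
theorem isPGroup_two_mulAut {G : Type*} [Group G] [Finite G] {g x : G} {m : ℕ}
    (hg : orderOf g = 2 ^ m) (huniq : ∀ y : G, orderOf y = 2 ^ m → y ∈ zpowers g)
    (hcover : ∀ y : G, y ∈ zpowers g ∨ y * x⁻¹ ∈ zpowers g) (hx : x ∉ zpowers g) :
    IsPGroup 2 (MulAut G) := by
  classical
  haveI : Finite (MulAut G) := inferInstance
  have hodd : ∀ α : MulAut G, Odd (orderOf α) → α = 1 := by
    intro α hα
    obtain ⟨k, hk⟩ := mem_powers_iff_mem_zpowers.2 (huniq (α g) (by rw [MulEquiv.orderOf_eq, hg]))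
    have hk' : g ^ k = α g := hk
    have hit : ∀ n, (α ^ n) g = g ^ (k ^ n) := by
      intro n
      induction n with
      | zero => simp
      | succ n ih => rw [pow_succ', MulAut.mul_apply, ih, map_pow, ← hk', ← pow_mul, pow_succ']
    have hcop : k.Coprime (2 ^ m) := by
      have h1 : orderOf (g ^ k) = 2 ^ m := by rw [hk', MulEquiv.orderOf_eq, hg]
      rcases Nat.eq_zero_or_pos m with rfl | hm
      · simp
      refine Nat.Coprime.pow_right m ((Nat.prime_two.coprime_iff_not_dvd.2 fun h2 => ?_).symm)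
      rw [orderOf_pow, hg] at h1
      have h3 : 2 ∣ Nat.gcd (2 ^ m) k := Nat.dvd_gcd (dvd_pow_self 2 hm.ne') h2
      exact absurd h1 (Nat.div_lt_self (pow_pos two_pos m)
        (Nat.le_of_dvd (Nat.gcd_pos_of_pos_left _ (pow_pos two_pos m)) h3)).ne
    have hfix : α g = g := by
      have h1 : (α ^ Nat.totient (2 ^ m)) g = g := by
        rw [hit, ← pow_mod_orderOf, hg, Nat.ModEq.pow_totient hcop, ← hg, pow_mod_orderOf, pow_one]
      have hstab : α ∈ MulAction.stabilizer (MulAut G) g := by
        have h2 : α ^ Nat.totient (2 ^ m) ∈ MulAction.stabilizer (MulAut G) g := h1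
        have hc : (orderOf α).Coprime (Nat.totient (2 ^ m)) := by
          rcases Nat.eq_zero_or_pos m with rfl | hm
          · simp
          rw [Nat.totient_prime_pow Nat.prime_two hm]
          simpa using (Nat.coprime_two_right.2 hα).pow_right (m - 1)
        obtain ⟨i, hi⟩ := exists_pow_eq_self_of_coprime hc.symm
        rw [← hi]
        exact Subgroup.pow_mem _ h2 i
      exact hstab
    have hxα : α x * x⁻¹ ∈ zpowers g := (hcover (α x)).resolve_left fun h => by
      obtain ⟨j, hj⟩ := h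
      refine hx ⟨j, α.injective ?_⟩
      rw [map_zpow, hfix]
      exact hj
    obtain ⟨j, hj⟩ := mem_powers_iff_mem_zpowers.2 hxα
    have hj' : g ^ j = α x * x⁻¹ := hj
    have hit2 : ∀ n, (α ^ n) x = g ^ (n * j) * x := by
      intro n
      induction n with
      | zero => simp
      | succ n ih =>
        rw [pow_succ', MulAut.mul_apply, ih, map_mul, map_pow, hfix,
          show α x = g ^ j * x by rw [hj', inv_mul_cancel_right], ← mul_assoc, ← pow_add]
        congr 2
        ring
    have hgj : g ^ j = 1 := by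
      have h := hit2 (orderOf α)
      rw [pow_orderOf_eq_one, MulAut.one_apply, eq_comm, mul_eq_right,
        ← orderOf_dvd_iff_pow_eq_one, hg] at h
      rw [← orderOf_dvd_iff_pow_eq_one, hg]
      exact ((Nat.coprime_two_left.2 hα).pow_left m).dvd_of_dvd_mul_left h
    have hxfix : α x = x := by
      rw [hgj, eq_comm, mul_inv_eq_one] at hj'
      exact hj'
    refine MulEquiv.ext fun y => ?_
    rcases hcover y with ⟨i, hi⟩ | ⟨i, hi⟩
    · rw [MulAut.one_apply, ← hi, map_zpow, hfix]
    · have h1 : y = g ^ i * x := by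
        rw [show g ^ i = y * x⁻¹ from hi, inv_mul_cancel_right]
      rw [MulAut.one_apply, h1, map_mul, map_zpow, hfix, hxfix]
  intro α
  obtain ⟨e, o, ho, he⟩ := Nat.exists_eq_two_pow_mul_odd (orderOf_pos α).ne'
  refine ⟨e, hodd _ ?_⟩
  rw [orderOf_pow_of_dvd (pow_ne_zero _ two_ne_zero) (he ▸ dvd_mul_right _ _), he,
    Nat.mul_div_cancel_left _ (pow_pos two_pos e)]
  exact ho

theorem isPGroup_mulAut_dihedral {k : ℕ} (hk : 2 ≤ k) :
    IsPGroup 2 (MulAut (DihedralGroup (2 ^ k))) := by
  haveI : NeZero (2 ^ k) := ⟨pow_ne_zero _ two_ne_zero⟩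
  have h1 : ∀ i : ZMod (2 ^ k), DihedralGroup.r i ∈ zpowers (DihedralGroup.r 1) := fun i =>
    ⟨(i.val : ℤ), by
      show DihedralGroup.r 1 ^ (i.val : ℤ) = _
      rw [zpow_natCast, DihedralGroup.r_pow, one_mul, ZMod.natCast_zmod_val]⟩
  refine isPGroup_two_mulAut (g := DihedralGroup.r 1) (x := DihedralGroup.sr 0) (m := k)
    DihedralGroup.orderOf_r_one (fun y hy => ?_) (fun y => ?_) ?_
  · rcases y with i | i
    · exact h1 i
    · rw [DihedralGroup.orderOf_sr] at hy
      have := Nat.pow_le_pow_right two_pos hk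
      omega
  · rcases y with i | i
    · exact Or.inl (h1 i)
    · exact Or.inr (h1 _)
  · rintro ⟨j, hj⟩
    obtain ⟨n, hn⟩ := mem_powers_iff_mem_zpowers.2
      (⟨j, hj⟩ : DihedralGroup.sr 0 ∈ zpowers (DihedralGroup.r 1 : DihedralGroup (2 ^ k)))
    have hn' : (DihedralGroup.r 1 : DihedralGroup (2 ^ k)) ^ n = DihedralGroup.sr 0 := hn
    rw [DihedralGroup.r_pow] at hn'
    cases hn'

theorem isPGroup_mulAut_quaternion {k : ℕ} (hk : 2 ≤ k) :
    IsPGroup 2 (MulAut (QuaternionGroup (2 ^ k))) := by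
  haveI : NeZero (2 ^ k) := ⟨pow_ne_zero _ two_ne_zero⟩
  haveI : NeZero (2 * 2 ^ k) := ⟨mul_ne_zero two_ne_zero (pow_ne_zero _ two_ne_zero)⟩
  have h1 : ∀ i : ZMod (2 * 2 ^ k), QuaternionGroup.a i ∈ zpowers (QuaternionGroup.a 1) := fun i =>
    ⟨(i.val : ℤ), by
      show QuaternionGroup.a 1 ^ (i.val : ℤ) = _
      rw [zpow_natCast, QuaternionGroup.a_one_pow, ZMod.natCast_zmod_val]⟩
  refine isPGroup_two_mulAut (g := QuaternionGroup.a 1) (x := QuaternionGroup.xa 0) (m := k + 1)
    (by rw [QuaternionGroup.orderOf_a_one, pow_succ']) (fun y hy => ?_) (fun y => ?_) ?_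
  · rcases y with i | i
    · exact h1 i
    · rw [QuaternionGroup.orderOf_xa] at hy
      have := Nat.pow_le_pow_right two_pos (show 3 ≤ k + 1 by omega)
      omega
  · rcases y with i | i
    · exact Or.inl (h1 i)
    · exact Or.inr (h1 _)
  · intro h
    obtain ⟨n, hn⟩ := mem_powers_iff_mem_zpowers.2 h
    have hn' : (QuaternionGroup.a 1 : QuaternionGroup (2 ^ k)) ^ n = QuaternionGroup.xa 0 := hn
    rw [QuaternionGroup.a_one_pow] at hn'
    cases hn'

variable {Ω : Type*} [Group Ω] {S : Subgroup Ω} [Finite S] {F : FusionSystem S}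

/-- With a 2-group of automorphisms of `S` the automizer is inner. -/
theorem autGroup_eq_inn_of_isPGroup {p : ℕ} [Fact p.Prime] (hS : IsPGroup p S)
    (hF : F.IsSaturated p) (hA : IsPGroup p (MulAut S)) : F.autGroup S = Inn S := by
  refine le_antisymm (fun α hα => ?_) (inn_le_autGroup le_rfl)
  obtain ⟨T, hT⟩ := (fullyAutomized_of_fullyNormalized hS hF (fullyNormalized_top F)).2
  have htop : (T : Subgroup (F.autGroup S)) = ⊤ :=
    (T.is_maximal' ((hA.to_subgroup (F.autGroup S)).to_subgroup ⊤) le_top).symm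
  have h1 : (⟨α, hα⟩ : F.autGroup S) ∈ (autInducedBy S S).subgroupOf (F.autGroup S) := by
    rw [← hT, htop]; trivial
  obtain ⟨a, ha, hax⟩ := mem_autInducedBy_iff.1 h1
  exact ⟨⟨a, ha⟩, MulEquiv.ext fun x => Subtype.ext (hax x).symm⟩

end CfsgLib.Fusion
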