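/-
Comparing saturated fusion systems whose essential subgroups are among the `S`-conjugates of a
given family of candidates, and elements which can only be fused through an automizer of a
candidate.
-/
import Cfsg.Agent.Lib.Fusion.Alperin
import Cfsg.Agent.Lib.Fusion.GroupSystem
import Cfsg.Agent.Lib.Fusion.CoprimeExtension
import Cfsg.Agent.Lib.Fusion.DihedralAut

set_option autoImplicit false
set_option linter.unusedSectionVars false
set_option linter.style.haveILetI false

namespace CfsgLib.Fusion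

open Cfsg Cfsg.FusionSystem Subgroup

universe u

variable {Ω : Type u} [Group Ω] {S : Subgroup Ω} [Finite S] {F : FusionSystem S} {p : ℕ}
  [Fact p.Prime]

/-- The automizer of an essential subgroup is not a `p`-group. -/
theorem not_isPGroup_autGroup_of_essential (hS : IsPGroup p S) (hF : F.IsSaturated p)
    {P : Subgroup Ω} (hP : F.IsEssential p P) : ¬ IsPGroup p (F.autGroup P) := fun h => by
  haveI := finite_of_le hP.1.1
  obtain ⟨W, Y, hW, hY, hloc, -⟩ := exists_locals_of_essential hS hF hP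
  have hq : IsPGroup p (OutGrp F P) :=
    h.of_surjective (QuotientGroup.mk' _) (QuotientGroup.mk'_surjective _)
  have htop : (W : Subgroup (OutGrp F P)) = ⊤ :=
    (W.is_maximal' (hq.of_equiv Subgroup.topEquiv.symm) le_top).symm
  refine hY (eq_top_iff.2 (le_trans ?_ (hloc _ le_rfl hW)))
  rw [htop]
  exact Subgroup.le_normalizer

/-- An essential subgroup is proper, self-centralizing and its automorphism group is not a
`p`-group. -/
theorem shape_of_essential (hS : IsPGroup p S) (hF : F.IsSaturated p) {P : Subgroup Ω}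
    (hP : F.IsEssential p P) :
    P < S ∧ S ⊓ Subgroup.centralizer (P : Set Ω) ≤ P ∧ ¬ IsPGroup p (MulAut P) :=
  ⟨lt_of_essential hS hF hP, hP.1.2 P (isConj_refl hP.1.1),
    fun h => not_isPGroup_autGroup_of_essential hS hF hP (h.to_subgroup _)⟩

/-- `E` is one of the candidates for `F`, up to `S`-conjugacy. -/
def HasCandidates (F : FusionSystem S) (p : ℕ) {I : Type*} (E : I → Subgroup Ω) : Prop :=
  ∀ P, F.IsEssential p P → ∃ i, ∃ s ∈ S, P = conjSub s (E i)

theorem conjSub_inv_le {P : Subgroup Ω} {s : Ω} (hs : s ∈ S) (h : conjSub s P ≤ S) : P ≤ S := by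
  intro x hx
  have h1 := h (conj_mem_conjSub (g := s) hx)
  simpa [mul_assoc] using S.mul_mem (S.mul_mem (S.inv_mem hs) h1) hs

theorem isPGroup_autGroup_conj {P : Subgroup Ω} {s : Ω} (hP : P ≤ S) (hs : s ∈ S) :
    IsPGroup p (F.autGroup P) → IsPGroup p (F.autGroup (conjSub s P)) := fun h => by
  have hm := isMap_conj F hP hs
  rw [← img_conj, ← hm.map_autGroup]
  exact h.map _

theorem fullyNormalized_conj {P : Subgroup Ω} {s : Ω} (hP : P ≤ S) (hs : s ∈ S)
    (h : F.IsFullyNormalized (conjSub s P)) : F.IsFullyNormalized P := by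
  refine ⟨hP, fun Q hQ => ?_⟩
  have hc : F.IsConj (conjSub s P) P := by
    have := (isMap_conj F hP hs).isConj
    rw [img_conj] at this
    exact isConj_symm this
  have h1 := h.2 Q (isConj_trans hc hQ)
  have h2 : Nat.card (normalizerIn S (conjSub s P)) = Nat.card (normalizerIn S P) := by
    have h3 : conjSub s (S ⊓ Subgroup.normalizer (P : Set Ω)) =
        S ⊓ Subgroup.normalizer (conjSub s P : Set Ω) := conjSub_normalizer hs
    show Nat.card (S ⊓ Subgroup.normalizer (conjSub s P : Set Ω) : Subgroup Ω) = _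
    rw [← h3, card_conjSub]
    rfl
  omega

variable {I : Type*} {E : I → Subgroup Ω}

/-- **Comparison**: a saturated system is contained in another one as soon as this holds for the
automizers of `S` and of the fully normalized candidates with automizer not a `p`-group. -/
theorem le_of_candidates (hS : IsPGroup p S) (hF : F.IsSaturated p) (F' : FusionSystem S)
    (hSS : F.autGroup S ≤ F'.autGroup S) (hcand : HasCandidates F p E)
    (h : ∀ i, F.IsFullyNormalized (E i) → ¬ IsPGroup p (F.autGroup (E i)) →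
      F.autGroup (E i) ≤ F'.autGroup (E i)) : F ≤ F' := by
  refine alperin hS hF fun P hP => ?_
  rcases hP with rfl | hP
  · exact hSS
  obtain ⟨i, s, hs, rfl⟩ := hcand P hP
  have hE : E i ≤ S := conjSub_inv_le hs hP.1.1
  have hm := isMap_conj F hE hs
  have hm' := isMap_conj F' hE hs
  have hle := h i (fullyNormalized_conj hE hs hP.2.1)
    (fun hp => not_isPGroup_autGroup_of_essential hS hF hP (isPGroup_autGroup_conj hE hs hp))
  rw [← img_conj, ← hm.map_autGroup]
  rw [← hm'.map_autGroup]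
  exact Subgroup.map_mono hle

/-- The maps of `F` which preserve membership in `U`. -/
def invSys (F : FusionSystem S) (U : Set Ω)
    (hU : ∀ s ∈ S, ∀ x ∈ S, s * x * s⁻¹ ∈ U ↔ x ∈ U) : FusionSystem S where
  Hom P := {φ | φ ∈ F.Hom P ∧ ∀ x : P, φ x ∈ U ↔ (x : Ω) ∈ U}
  le_of_mem h := F.le_of_mem h.1
  injective_of_mem h := F.injective_of_mem h.1
  conj_mem hP hg := ⟨F.conj_mem hP hg, fun x => hU _ hg _ (hP x.2)⟩
  comp_mem := fun {P Q φ ψ} hφ hψ h => ⟨F.comp_mem hφ.1 hψ.1 h, fun x =>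
    (hψ.2 ⟨φ x, h x⟩).trans (hφ.2 x)⟩
  inv_mem := fun {P φ} hφ => by
    obtain ⟨ψ, hψ, hψx⟩ := F.inv_mem hφ.1
    refine ⟨ψ, ⟨hψ, ?_⟩, hψx⟩
    rintro ⟨_, x, rfl⟩
    rw [hψx x]
    exact (hφ.2 x).symm

/-- **Invariance**: a subset invariant under `S` and the relevant automizers is invariant. -/
theorem invariant_of_candidates (hS : IsPGroup p S) (hF : F.IsSaturated p) (U : Set Ω)
    (hU : ∀ s ∈ S, ∀ x ∈ S, s * x * s⁻¹ ∈ U ↔ x ∈ U) (hcand : HasCandidates F p E)
    (hSS : ∀ α ∈ F.autGroup S, ∀ x : S, ((α x : S) : Ω) ∈ U ↔ (x : Ω) ∈ U)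
    (h : ∀ i, F.IsFullyNormalized (E i) → ¬ IsPGroup p (F.autGroup (E i)) →
      ∀ α ∈ F.autGroup (E i), ∀ x : E i, ((α x : E i) : Ω) ∈ U ↔ (x : Ω) ∈ U)
    {P : Subgroup Ω} {f : Ω → Ω} (hf : IsMap F P f) {x : Ω} (hx : x ∈ P) :
    f x ∈ U ↔ x ∈ U := by
  have key : ∀ Q : Subgroup Ω, Q ≤ S →
      (∀ α ∈ F.autGroup Q, ∀ y : Q, ((α y : Q) : Ω) ∈ U ↔ (y : Ω) ∈ U) →
      F.autGroup Q ≤ (invSys F U hU).autGroup Q := by
    intro Q hQ hα α hmem
    refine (autGroup_mem_iff hQ).2 ?_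
    exact ⟨(autGroup_mem_iff hQ).1 hmem, fun y => hα α hmem y⟩
  have hle := le_of_candidates hS hF (invSys F U hU) (key S le_rfl hSS) hcand
    fun i hn hp => key _ hn.1 (h i hn hp)
  have h1 := (hle P) hf.toHom_mem
  exact h1.2 ⟨x, hx⟩

/-- If `Aut(S)` is a `p`-group the automizer of `S` is contained in every other one. -/
theorem autGroup_top_le (hS : IsPGroup p S) (hF : F.IsSaturated p) (hA : IsPGroup p (MulAut S))
    (F' : FusionSystem S) : F.autGroup S ≤ F'.autGroup S := by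
  rw [autGroup_eq_inn_of_isPGroup hS hF hA]
  exact inn_le_autGroup le_rfl

theorem autGroup_top_invariant (hS : IsPGroup p S) (hF : F.IsSaturated p)
    (hA : IsPGroup p (MulAut S)) (U : Set Ω)
    (hU : ∀ s ∈ S, ∀ x ∈ S, s * x * s⁻¹ ∈ U ↔ x ∈ U) :
    ∀ α ∈ F.autGroup S, ∀ x : S, ((α x : S) : Ω) ∈ U ↔ (x : Ω) ∈ U := by
  intro α hα x
  rw [autGroup_eq_inn_of_isPGroup hS hF hA] at hα
  obtain ⟨a, rfl⟩ := hα
  exact hU a a.2 x x.2

/-- A group above `A` with an element of a group `T` of size three times `|A|` outside `A`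
contains `T`. -/
theorem le_of_card_three {M : Type*} [Group M] [Finite M] {A T X : Subgroup M} (hAT : A ≤ T)
    (hAX : A ≤ X) (hcard : Nat.card T = 3 * Nat.card A) {a : M} (haX : a ∈ X) (haT : a ∈ T)
    (ha : a ∉ A) : T ≤ X := by
  have h1 : A ≤ T ⊓ X := le_inf hAT hAX
  have h2 : Nat.card A ∣ Nat.card (T ⊓ X : Subgroup M) := Subgroup.card_dvd_of_le h1
  have h3 : Nat.card (T ⊓ X : Subgroup M) ∣ 3 * Nat.card A :=
    hcard ▸ Subgroup.card_dvd_of_le inf_le_left
  have h4 : Nat.card A ≠ Nat.card (T ⊓ X : Subgroup M) := fun he => by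
    have h5 := eq_of_le_of_card_le h1 he.ge
    exact ha (h5 ▸ ⟨haT, haX⟩)
  obtain ⟨c, hc⟩ := h2
  rw [hc, mul_comm 3] at h3
  have h6 : c ∣ 3 := Nat.dvd_of_mul_dvd_mul_left Nat.card_pos h3
  rcases (Nat.dvd_prime Nat.prime_three).1 h6 with rfl | rfl
  · exact absurd (by rw [hc, mul_one]) h4
  · have h7 : (T ⊓ X : Subgroup M) = T :=
      eq_of_le_of_card_le inf_le_left (by rw [hcard, hc, mul_comm])
    exact h7 ▸ inf_le_right

/-- A subgroup that is not a `2`-group has a nontrivial element of odd order. -/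
theorem exists_odd_of_not_isPGroup {M : Type*} [Group M] [Finite M] {X : Subgroup M}
    (h : ¬ IsPGroup 2 X) : ∃ a ∈ X, a ≠ 1 ∧ Odd (orderOf a) := by
  simp only [IsPGroup, not_forall, not_exists] at h
  obtain ⟨⟨a, ha⟩, h⟩ := h
  obtain ⟨e, o, ho, he⟩ := Nat.exists_eq_two_pow_mul_odd (orderOf_pos a).ne'
  refine ⟨a ^ 2 ^ e, X.pow_mem ha _, fun h1 => h e (Subtype.ext h1), ?_⟩
  rw [orderOf_pow_of_dvd (pow_ne_zero _ two_ne_zero) (he ▸ dvd_mul_right _ _), he,
    Nat.mul_div_cancel_left _ (pow_pos two_pos e)]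
  exact ho

theorem notMem_of_odd {M : Type*} [Group M] [Finite M] {A : Subgroup M} (hA : IsPGroup 2 A)
    {a : M} (hne : a ≠ 1) (hodd : Odd (orderOf a)) : a ∉ A := fun ha => by
  obtain ⟨k, hk⟩ := hA ⟨a, ha⟩
  have h1 : a ^ 2 ^ k = 1 := congrArg Subtype.val hk
  have h2 := orderOf_dvd_of_pow_eq_one h1
  have h3 : orderOf a = 1 :=
    ((Nat.coprime_two_right.2 hodd).pow_right k).eq_one_of_dvd h2
  exact hne (orderOf_eq_one_iff.1 h3)

/-- A group with Sylow `2`-subgroup `A` lies in every normal subgroup containing `A` and all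
elements of odd order. -/
theorem le_of_odd_index {M : Type*} [Group M] [Finite M] {A T X : Subgroup M} [T.Normal]
    (hT : ∀ a : M, Odd (orderOf a) → a ∈ T) (hAX : A ≤ X) (hAT : A ≤ T)
    (hodd : ¬ 2 ∣ A.relIndex X) : X ≤ T := by
  intro x hx
  have h1 : ¬ 2 ∣ T.relIndex X := fun hd =>
    hodd (hd.trans (Subgroup.relIndex_dvd_of_le_left X hAT))
  have h2 : x ^ T.relIndex X ∈ T := by
    have h3 := Subgroup.pow_index_mem (T.subgroupOf X) ⟨x, hx⟩
    exact h3
  obtain ⟨e, o, ho, he⟩ := Nat.exists_eq_two_pow_mul_odd (orderOf_pos x).ne'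
  have h4 : x ^ 2 ^ e ∈ T := hT _ (by
    rw [orderOf_pow_of_dvd (pow_ne_zero _ two_ne_zero) (he ▸ dvd_mul_right _ _), he,
      Nat.mul_div_cancel_left _ (pow_pos two_pos e)]
    exact ho)
  have hcop : (T.relIndex X).Coprime (2 ^ e) :=
    (Nat.prime_two.coprime_iff_not_dvd.2 h1).symm.pow_right e
  have h5 : x ^ Nat.gcd (T.relIndex X) (2 ^ e) ∈ T := by
    rw [← zpow_natCast, Nat.gcd_eq_gcd_ab, zpow_add, zpow_mul, zpow_mul, zpow_natCast, zpow_natCast]
    exact T.mul_mem (T.zpow_mem h2 _) (T.zpow_mem h4 _)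
  rwa [hcop, pow_one] at h5

/-- A model in `Type` realizes. -/
theorem isRealizable_of_model {G : Type} [Group G] [Finite G] {ι : S →* G}
    (hr : F.IsRealizedBy ι) (hT : ∃ T : Sylow p G, (T : Subgroup G) = ι.range) :
    F.IsRealizable p := by
  let e : G ≃* ULift.{u} G := MulEquiv.ulift.symm
  haveI : Finite (ULift.{u} G) := Finite.of_equiv G e.toEquiv
  refine ⟨ULift.{u} G, inferInstance, inferInstance, e.toMonoidHom.comp ι,
    ⟨e.injective.comp hr.1, fun P hP φ hφ => ?_⟩, ?_⟩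
  · rw [hr.2 P hP φ hφ]
    constructor
    · rintro ⟨g, hg⟩
      exact ⟨e g, fun x => by
        simp only [MonoidHom.comp_apply, MulEquiv.coe_toMonoidHom, hg x, map_mul, map_inv]⟩
    · rintro ⟨g, hg⟩
      refine ⟨e.symm g, fun x => e.injective ?_⟩
      have := hg x
      simp only [MonoidHom.comp_apply, MulEquiv.coe_toMonoidHom] at this
      rw [this, map_mul, map_mul, map_inv, MulEquiv.apply_symm_apply]
  · obtain ⟨T, hT⟩ := hT
    have he : Function.Surjective e.toMonoidHom := e.surjective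
    refine ⟨T.mapSurjective he, ?_⟩
    show (T : Subgroup G).map e.toMonoidHom = _
    rw [hT, MonoidHom.map_range]

end CfsgLib.Fusion

namespace CfsgLib.Fusion

open Cfsg Cfsg.FusionSystem Subgroup

universe u

variable {Ω : Type u} [Group Ω] {S : Subgroup Ω} [Finite S] {F : FusionSystem S} {p : ℕ}

/-- With two candidates, two of any three essential subgroups are conjugate. -/
theorem pair_classes {E : Fin 2 → Subgroup Ω} (hcand : HasCandidates F p E)
    {E₁ E₂ E₃ : Subgroup Ω} (h₁ : F.IsEssential p E₁) (h₂ : F.IsEssential p E₂)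
    (h₃ : F.IsEssential p E₃) : F.IsConj E₁ E₂ ∨ F.IsConj E₁ E₃ ∨ F.IsConj E₂ E₃ := by
  have key : ∀ {P Q : Subgroup Ω} (i j : Fin 2) (s t : Ω), P ≤ S → Q ≤ S → s ∈ S → t ∈ S →
      P = conjSub s (E i) → Q = conjSub t (E j) → i = j → F.IsConj P Q := by
    intro P Q i j s t hP _ hs ht hPe hQe hij
    subst hij
    have he : Q = conjSub (t * s⁻¹) P := by
      rw [hPe, ← conjSub_mul, inv_mul_cancel_right, hQe]
    rw [he, ← img_conj]
    exact (isMap_conj F hP (S.mul_mem ht (S.inv_mem hs))).isConj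
  obtain ⟨i, s, hs, e1⟩ := hcand E₁ h₁
  obtain ⟨j, t, ht, e2⟩ := hcand E₂ h₂
  obtain ⟨k, v, hv, e3⟩ := hcand E₃ h₃
  by_cases hij : i = j
  · exact Or.inl (key i j s t h₁.1.1 h₂.1.1 hs ht e1 e2 hij)
  by_cases hik : i = k
  · exact Or.inr (Or.inl (key i k s v h₁.1.1 h₃.1.1 hs hv e1 e3 hik))
  exact Or.inr (Or.inr (key j k t v h₂.1.1 h₃.1.1 ht hv e2 e3 (by omega)))

end CfsgLib.Fusion
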