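import Cfsg.Agent.Lib.Fusion.SimpleGroupCriterion
import Mathlib.GroupTheory.QuotientGroup.Basic

/-!
The simplicity criterion in a central quotient, checked in the covering group; tools to feed it.
-/

set_option autoImplicit false
set_option linter.style.haveILetI false
set_option linter.unusedVariables false
set_option linter.unusedSectionVars false

namespace CfsgLib.Fusion

open Cfsg Subgroup

variable {G : Type*} [Group G] {p : ℕ} [Fact p.Prime]

/-- A `p`-subgroup containing the `p`-elements of its normalizer has index prime to `p`. -/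
theorem not_dvd_index_of_pElements [Finite G] {U : Subgroup G} (hU : IsPGroup p U)
    (h : ∀ g ∈ Subgroup.normalizer (U : Set G), ∀ k : ℕ, g ^ p ^ k = 1 → g ∈ U) :
    ¬ p ∣ U.index := by
  obtain ⟨W, hW⟩ := hU.exists_le_sylow
  have heq : U = (W : Subgroup G) := by
    by_contra hne
    have hnorm : NormalizerCondition W := by
      haveI := W.isPGroup'.isNilpotent
      exact Group.normalizerCondition_of_isNilpotent
    have hlt : U.subgroupOf W < ⊤ := by
      refine lt_of_le_of_ne le_top fun he => hne (le_antisymm hW fun x hx => ?_)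
      have : (⟨x, hx⟩ : W) ∈ U.subgroupOf W := he ▸ Subgroup.mem_top _
      exact this
    obtain ⟨x, hx, hxU⟩ := SetLike.exists_of_lt (hnorm _ hlt)
    obtain ⟨k, hk⟩ := W.isPGroup' x
    refine hxU (h x.1 (fun n => ?_) k (by exact_mod_cast congrArg Subtype.val hk))
    have hxn := Subgroup.mem_normalizer_iff.1 hx
    constructor
    · intro hn
      exact (hxn ⟨n, hW hn⟩).1 hn
    · intro hn
      have hnW : n ∈ (W : Subgroup G) := by
        have h0 := W.toSubgroup.mul_mem (W.toSubgroup.mul_mem (W.toSubgroup.inv_mem x.2) (hW hn)) x.2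
        simpa [mul_assoc] using h0
      exact (hxn ⟨n, hnW⟩).2 hn
  rw [heq]
  exact W.not_dvd_index

/-- An element of `U` times a central element is in `U` if it is a `p`-element. -/
theorem mem_of_mk_mem {Z : Subgroup G} [Z.Normal] (hZc : Z ≤ Subgroup.center G)
    (hZp : ∀ z ∈ Z, ∀ k : ℕ, z ^ p ^ k = 1 → z = 1) {U : Subgroup G} (hU : IsPGroup p U) {x : G}
    (hx : ∃ k : ℕ, x ^ p ^ k = 1) (hmem : (QuotientGroup.mk' Z) x ∈ U.map (QuotientGroup.mk' Z)) :
    x ∈ U := by
  obtain ⟨u, hu, hux⟩ := hmem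
  have hz : u⁻¹ * x ∈ Z := QuotientGroup.eq.1 hux
  obtain ⟨k, hk⟩ := hx
  obtain ⟨j, hj⟩ := hU ⟨u, hu⟩
  have hj' : u ^ p ^ j = 1 := by simpa using congrArg (Subtype.val : U → G) hj
  have hcomm : Commute u⁻¹ x := by
    have h1 : Commute u⁻¹ (u⁻¹ * x) := Subgroup.mem_center_iff.1 (hZc hz) u⁻¹
    simpa using ((Commute.refl u⁻¹).inv_right).mul_right h1
  have h2 : u⁻¹ * x = 1 := hZp _ hz (j + k) (by
    rw [hcomm.mul_pow, pow_add]
    rw [show x ^ (p ^ j * p ^ k) = 1 by rw [mul_comm, pow_mul, hk, one_pow],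
      show u⁻¹ ^ (p ^ j * p ^ k) = 1 by rw [pow_mul, inv_pow, hj', inv_one, one_pow], one_mul])
  rwa [← inv_mul_eq_one.1 h2]

theorem isPGroup_of_mk {Z : Subgroup G} [Z.Normal] {U : Subgroup G} (hU : IsPGroup p U) :
    IsPGroup p (U.map (QuotientGroup.mk' Z)) :=
  hU.map _

/-- The criterion in a central quotient without `p`-torsion in the kernel. -/
theorem group_isSimple_quotient [Finite G] (Z : Subgroup G) [Z.Normal] (hZc : Z ≤ Subgroup.center G)
    (hZp : ∀ z ∈ Z, ∀ k : ℕ, z ^ p ^ k = 1 → z = 1) (U : Subgroup G) (hU : IsPGroup p U)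
    (hidx : ¬ p ∣ U.index) (h1 : U ≠ ⊥) (hsc : NoStronglyClosed U) (hgen : NormalizerGenerated p U)
    (S : Sylow p (G ⧸ Z)) : (groupFusionSystem (S : Subgroup (G ⧸ Z))).IsSimple p := by
  have hpel : ∀ {x : G}, x ∈ U → ∃ k : ℕ, x ^ p ^ k = 1 := fun {x} hx => by
    obtain ⟨k, hk⟩ := hU ⟨x, hx⟩
    exact ⟨k, by simpa using congrArg (Subtype.val : U → G) hk⟩
  have hback : ∀ {x : G}, x ∈ U → ∀ (g : G), g * x * g⁻¹ ∈ U ∨
      (QuotientGroup.mk' Z) (g * x * g⁻¹) ∉ U.map (QuotientGroup.mk' Z) := fun {x} hx g => by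
    refine or_iff_not_imp_right.2 fun h => mem_of_mk_mem hZc hZp hU ?_ (not_not.1 h)
    obtain ⟨k, hk⟩ := hpel hx
    exact ⟨k, by rw [conj_pow, hk, mul_one, mul_inv_cancel]⟩
  refine group_isSimple (U.map (QuotientGroup.mk' Z)) (isPGroup_of_mk hU) (fun hd => hidx
    (hd.trans ?_)) ?_ ?_ ?_ S
  · rw [Subgroup.index_map]
    rw [(QuotientGroup.mk' Z).range_eq_top_of_surjective (QuotientGroup.mk'_surjective Z),
      Subgroup.index_top, mul_one]
    exact Subgroup.index_dvd_of_le le_sup_left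
  · intro h
    refine h1 ((Subgroup.eq_bot_iff_forall _).2 fun x hx => ?_)
    have h2 : (QuotientGroup.mk' Z) x = 1 :=
      (Subgroup.eq_bot_iff_forall _).1 h _ ⟨x, hx, rfl⟩
    obtain ⟨k, hk⟩ := hpel hx
    exact hZp x ((QuotientGroup.eq_one_iff x).1 h2) k hk
  · intro T hT hTc
    rcases hsc (U ⊓ T.comap (QuotientGroup.mk' Z)) inf_le_left fun x hx h hh => ⟨hh, by
        show (QuotientGroup.mk' Z) (h * x * h⁻¹) ∈ T
        rw [map_mul, map_mul, map_inv]
        refine hTc _ hx.2 _ ?_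
        rw [← map_inv, ← map_mul, ← map_mul]
        exact ⟨_, hh, rfl⟩⟩ with h0 | h0
    · refine Or.inl ((Subgroup.eq_bot_iff_forall _).2 fun y hy => ?_)
      obtain ⟨x, hx, rfl⟩ := hT hy
      rw [(Subgroup.eq_bot_iff_forall _).1 h0 x ⟨hx, hy⟩, map_one]
    · refine Or.inr (le_antisymm hT ?_)
      rintro _ ⟨x, hx, rfl⟩
      exact (h0.symm ▸ hx : x ∈ U ⊓ T.comap (QuotientGroup.mk' Z)).2
  · intro y hy
    obtain ⟨g, rfl⟩ := QuotientGroup.mk'_surjective Z y
    have hg : g ∈ Subgroup.normalizer (U : Set G) := by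
      intro n
      constructor
      · intro hn
        refine (hback hn g).resolve_right (not_not.2 ?_)
        rw [map_mul, map_mul, map_inv]
        exact (Subgroup.mem_normalizer_iff.1 hy _).1 ⟨n, hn, rfl⟩
      · intro hn
        have h2 := (hback hn g⁻¹).resolve_right (not_not.2 (by
          have h3 := (Subgroup.mem_normalizer_iff''.1 hy _).1
            (Subgroup.mem_map_of_mem (QuotientGroup.mk' Z) hn)
          simpa using h3))
        simpa [mul_assoc] using h2
    have hg' := Subgroup.mem_map_of_mem (QuotientGroup.mk' Z) (hgen hg)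
    rw [MonoidHom.map_closure] at hg'
    refine Subgroup.closure_mono ?_ hg'
    have hnorm : ∀ (R : Subgroup G) (z : G), z ∈ Subgroup.normalizer (R : Set G) →
        (QuotientGroup.mk' Z) z ∈
          Subgroup.normalizer (R.map (QuotientGroup.mk' Z) : Set (G ⧸ Z)) := fun R z hz =>
      Subgroup.le_normalizer_map (QuotientGroup.mk' Z) (Subgroup.mem_map_of_mem _ hz)
    rintro _ ⟨x, (hx | hx) | ⟨hxN, R, hR, hSR, hC, hx⟩, rfl⟩
    · refine Or.inl (Or.inl fun u hu => ?_)
      obtain ⟨v, hv, rfl⟩ := hu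
      rw [← map_mul, ← map_mul, hx v hv]
    · exact Or.inl (Or.inr ⟨x, hx, rfl⟩)
    · refine Or.inr ⟨hnorm U x hxN, R.map (QuotientGroup.mk' Z), Subgroup.map_mono hR, ?_, ?_, ?_⟩
      · rintro _ ⟨u, hu, rfl⟩
        exact hnorm R u (hSR hu)
      · rintro _ ⟨⟨u, hu, rfl⟩, huc⟩
        refine Subgroup.mem_map_of_mem _ (hC ⟨hu, fun r hr => ?_⟩)
        have h2 := huc _ (Subgroup.mem_map_of_mem (QuotientGroup.mk' Z) hr)
        rw [← map_mul, ← map_mul] at h2
        have hU' : (u * r)⁻¹ * (r * u) ∈ U :=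
          U.mul_mem (U.inv_mem (U.mul_mem hu (hR hr))) (U.mul_mem (hR hr) hu)
        obtain ⟨k, hk⟩ := hpel hU'
        exact (inv_mul_eq_one.1 (hZp _ (QuotientGroup.eq.1 h2.symm) k hk)).symm
      · have h1 := Subgroup.mem_map_of_mem (QuotientGroup.mk' Z) hx
        rw [MonoidHom.map_closure] at h1
        refine Subgroup.closure_mono ?_ h1
        rintro _ ⟨z, ⟨hz, k, hk⟩, rfl⟩
        obtain ⟨j, -, hj⟩ := (Nat.dvd_prime_pow Fact.out).1
          (hk ▸ orderOf_map_dvd (QuotientGroup.mk' Z) z)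
        exact ⟨hnorm R z hz, j, hj⟩

end CfsgLib.Fusion
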