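import Cfsg.Agent.Lib.Fusion.FormGroupBasic
import Cfsg.Agent.Lib.Fusion.SimpleGroupQuotient
import Cfsg.Agent.Lib.Classical.SemiNorm
import Mathlib.LinearAlgebra.Matrix.CharP

/-!
The upper unitriangular subgroup of the isometry group of an antidiagonal form: it is generated by
root elements, is a Sylow subgroup, and its normaliser is upper triangular.
-/

set_option autoImplicit false
set_option linter.unusedVariables false
set_option linter.unusedSectionVars false
set_option linter.style.haveILetI false

namespace CfsgLib.Fusion.FormGroup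

open Matrix Fin Subgroup

variable {K : Type*} [Field K] {N : ℕ} {D : Dat K N}

/-- The matrix of an element. -/
def mat (g : D.group) : Matrix (Fin N) (Fin N) K := ((g : GL (Fin N) K) : Matrix (Fin N) (Fin N) K)

theorem mat_inj {g h : D.group} (e : mat g = mat h) : g = h := Subtype.ext (Units.ext e)

theorem mat_mul (g h : D.group) : mat (g * h) = mat g * mat h := rfl

theorem mat_one : mat (1 : D.group) = 1 := rfl

theorem mat_mul_inv (g : D.group) : mat g * mat g⁻¹ = 1 := by
  rw [← mat_mul, mul_inv_cancel, mat_one]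

theorem mat_isom (g : D.group) : D.IsIsom (mat g) := g.2.1

theorem mat_det (g : D.group) : (mat g).det = 1 := g.2.2

theorem row_rel (hD : D.Good) (g : D.group) (a b : Fin N) :
    ∑ i, mat g a i * D.e i * D.σ (mat g b (rev i)) = if b = rev a then D.e a else 0 :=
  (mat_isom g).row_apply hD a b

theorem col_rel (g : D.group) (a b : Fin N) :
    ∑ i, mat g i a * D.e i * D.σ (mat g (rev i) b) = if b = rev a then D.e a else 0 :=
  (mat_isom g).col_apply a b

theorem single_mul_apply' (i j : Fin N) (c : K) (A : Matrix (Fin N) (Fin N) K) (a b : Fin N) :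
    (single i j c * A) a b = if a = i then c * A j b else 0 := by
  split_ifs with h
  · subst h; exact Matrix.single_mul_apply_same ..
  · exact Matrix.single_mul_apply_of_ne c i j a b h A

theorem mul_single_apply' (i j : Fin N) (c : K) (A : Matrix (Fin N) (Fin N) K) (a b : Fin N) :
    (A * single i j c) a b = if b = j then A a i * c else 0 := by
  split_ifs with h
  · subst h; exact Matrix.mul_single_apply_same ..
  · exact Matrix.mul_single_apply_of_ne c i j a b h A

/-! ### Chosen root elements -/

variable (p : ℕ) [Fact p.Prime] [CharP K p]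

theorem exists_shG (hD : D.Good) {i j : Fin N} (h : Adm i j) (c : K) :
    ∃ g : D.group, mat g = 1 + shM D i j c ∧ g ^ p ^ 2 = 1 := by
  obtain ⟨g, hg, h1, h2⟩ := exists_sh p hD h c
  exact ⟨⟨g, hg⟩, h1, Subtype.ext (by simpa using h2)⟩

theorem exists_lgG (hD : D.Good) {i : Fin N} (h : i ≠ rev i) {c : K} (hc : c + D.η * D.σ c = 0) :
    ∃ g : D.group, mat g = 1 + lgM i c ∧ g ^ p ^ 2 = 1 := by
  obtain ⟨g, hg, h1, h2⟩ := exists_lg p hD h hc
  exact ⟨⟨g, hg⟩, h1, Subtype.ext (by simpa using h2)⟩

theorem exists_mdG (hD : D.Good) {i j : Fin N} (hj : rev j = j) (h : i ≠ j) (h' : i ≠ rev i)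
    {a b : K} (hb : b + D.σ b + a * D.σ a = 0) :
    ∃ g : D.group, mat g = 1 + mdM D i j a b ∧ g ^ p ^ 2 = 1 := by
  obtain ⟨g, hg, h1, h2⟩ := exists_md p hD hj h h' hb
  exact ⟨⟨g, hg⟩, h1, Subtype.ext (by simpa using h2)⟩

variable {p}

theorem orderOf_pow_two {g : D.group} (h : g ^ p ^ 2 = 1) : ∃ k, orderOf g = p ^ k := by
  obtain ⟨k, -, hk⟩ := (Nat.dvd_prime_pow (Fact.out : p.Prime)).1 (orderOf_dvd_of_pow_eq_one h)
  exact ⟨k, hk⟩

/-! ### Recognising root elements -/

theorem sh_partner (hD : D.Good) {i j : Fin N} (h : Adm i j) {g : D.group} {c d : K}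
    (hg : mat g = 1 + (single i j c + single (rev j) (rev i) d)) : mat g = 1 + shM D i j c := by
  obtain ⟨h1, h2, h3, h4⟩ := h
  have h2' : rev i ≠ j := fun h' => h2 (by rw [← h', Fin.rev_rev])
  have h1' : rev i ≠ rev j := fun h' => h1 (Fin.rev_injective h')
  have h := col_rel g j (rev i)
  rw [if_neg h1', Fintype.sum_eq_add i j h1 (by
    rintro x ⟨hxi, hxj⟩
    simp [hg, Matrix.single_apply, hxi, hxj, Ne.symm hxi, Ne.symm hxj, h2'])] at h
  simp [hg, Matrix.single_apply, h1, h1.symm, h1', h1'.symm, h2', h2'.symm, h3, h3.symm, h4, h4.symm]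
    at h
  have hd : D.σ d = -(c * D.e i * D.e j) := by
    linear_combination D.e j * h - D.σ d * hD.e_mul_self j
  have hd' : d = -(D.σ c * D.e i * D.e j) := by
    rw [← hD.hσ d, hd, map_neg, map_mul, map_mul, hD.σ_e, hD.σ_e]
  rw [hg, hd', shM]

theorem lg_cond (hD : D.Good) {i : Fin N} (h : i ≠ rev i) {g : D.group} {c : K}
    (hg : mat g = 1 + lgM i c) : c + D.η * D.σ c = 0 := by
  have h1 := col_rel g (rev i) (rev i)
  rw [if_neg (by rw [Fin.rev_rev]; exact h.symm), Fintype.sum_eq_add i (rev i) h (by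
    rintro x ⟨hxi, hxi'⟩
    simp [hg, lgM, Matrix.single_apply, hxi', hxi, Ne.symm hxi, Ne.symm hxi'])] at h1
  simp [hg, lgM, Matrix.single_apply, h, h.symm, hD.heta] at h1
  linear_combination D.e i * h1 - (c + D.η * D.σ c) * hD.e_mul_self i

theorem md_partner (hD : D.Good) {i j : Fin N} (hj : rev j = j) (h : i ≠ j) (h' : i ≠ rev i)
    {g : D.group} {a b d : K}
    (hg : mat g = 1 + (single i j a + single i (rev i) b + single j (rev i) d)) :
    (b + D.σ b + a * D.σ a = 0) ∧ mat g = 1 + mdM D i j a b := by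
  have he := (hD.mid j hj).1
  have h2 : rev i ≠ j := fun hh => h (by rw [← Fin.rev_rev i, hh, hj])
  have e1 := col_rel g j (rev i)
  rw [hj, if_neg h2, Fintype.sum_eq_add i j h (by
    rintro x ⟨hxi, hxj⟩
    simp [hg, Matrix.single_apply, hxi, hxj, Ne.symm hxi, Ne.symm hxj, h2, h2.symm])] at e1
  simp [hg, Matrix.single_apply, h, h.symm, h2, h2.symm, h', h'.symm, hj, he] at e1
  have hd : d = -D.σ a := by
    have : D.σ d = -a := by linear_combination e1
    rw [← hD.hσ d, this, map_neg]
  have e2 := col_rel g (rev i) (rev i)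
  rw [if_neg (by rw [Fin.rev_rev]; exact h'.symm),
    show (∑ x, mat g x (rev i) * D.e x * D.σ (mat g (rev x) (rev i))) =
      ∑ x ∈ ({i, j, rev i} : Finset (Fin N)), mat g x (rev i) * D.e x * D.σ (mat g (rev x) (rev i)) from
      (Finset.sum_subset (Finset.subset_univ _) fun x _ hx => by
        simp only [Finset.mem_insert, Finset.mem_singleton, not_or] at hx
        simp [hg, Matrix.single_apply, hx.1, hx.2.1, hx.2.2, Ne.symm hx.1, Ne.symm hx.2.1,
          Ne.symm hx.2.2]).symm,
    Finset.sum_insert (by simp [h, h']), Finset.sum_insert (by simp [h2.symm]),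
    Finset.sum_singleton] at e2
  simp [hg, Matrix.single_apply, h, h.symm, h2, h2.symm, h', h'.symm, hj, he] at e2
  refine ⟨?_, by rw [hg, hd, mdM]⟩
  rw [hd, map_neg, hD.hσ] at e2
  linear_combination e2

/-! ### The unitriangular subgroup -/

/-- Upper unitriangular. -/
def IsUni (A : Matrix (Fin N) (Fin N) K) : Prop :=
  ∀ a b : Fin N, b ≤ a → A a b = if a = b then 1 else 0

theorem isUni_one : IsUni (1 : Matrix (Fin N) (Fin N) K) := fun a b _ => Matrix.one_apply

theorem mul_apply_diag {A B : Matrix (Fin N) (Fin N) K} (hA : ∀ a b, b < a → A a b = 0)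
    (hB : ∀ a b, b < a → B a b = 0) (a b : Fin N) (h : b ≤ a) :
    (A * B) a b = if a = b then A a a * B a a else 0 := by
  rw [Matrix.mul_apply]
  split_ifs with hab
  · subst hab
    refine Finset.sum_eq_single a (fun c _ hc => ?_) (fun h => absurd (Finset.mem_univ a) h)
    rcases lt_or_gt_of_ne hc with h1 | h1
    · rw [hA a c h1, zero_mul]
    · rw [hB c a h1, mul_zero]
  · refine Finset.sum_eq_zero fun c _ => ?_
    rcases lt_or_ge c a with h1 | h1
    · rw [hA a c h1, zero_mul]
    · rw [hB c b (lt_of_lt_of_le (lt_of_le_of_ne h (Ne.symm hab)) h1), mul_zero]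

theorem IsUni.lower {A : Matrix (Fin N) (Fin N) K} (h : IsUni A) (a b : Fin N) (hba : b < a) :
    A a b = 0 := by rw [h a b hba.le, if_neg hba.ne']

theorem IsUni.diag {A : Matrix (Fin N) (Fin N) K} (h : IsUni A) (a : Fin N) : A a a = 1 := by
  rw [h a a le_rfl, if_pos rfl]

theorem IsUni.mul {A B : Matrix (Fin N) (Fin N) K} (hA : IsUni A) (hB : IsUni B) :
    IsUni (A * B) := fun a b h => by
  rw [mul_apply_diag hA.lower hB.lower a b h, hA.diag, hB.diag, mul_one]

theorem IsUni.one_add_single {i j : Fin N} {c : K} (h : i < j) {A : Matrix (Fin N) (Fin N) K}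
    (hA : ∀ a b : Fin N, b ≤ a → A a b = 0) (a b : Fin N) (hba : b ≤ a) :
    (single i j c + A) a b = 0 := by
  rw [Matrix.add_apply, hA a b hba, add_zero, Matrix.single_apply]
  rw [if_neg (fun e => absurd h (not_lt.2 (by rw [← e.1, ← e.2] at hba; exact hba)))]

variable [Fintype K]

variable (D) in
/-- The upper unitriangular subgroup. -/
def U : Subgroup D.group where
  carrier := {A | IsUni (mat A)}
  one_mem' := isUni_one
  mul_mem' := fun {A B} ha hb => by
    show IsUni (mat (A * B))
    rw [mat_mul]; exact IsUni.mul ha hb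
  inv_mem' := fun {A} hA => by
    have h : A⁻¹ = A ^ (orderOf A - 1) := by
      refine inv_eq_of_mul_eq_one_left ?_
      rw [← pow_succ, Nat.sub_add_cancel (orderOf_pos A), pow_orderOf_eq_one]
    rw [Set.mem_ofPred_eq] at hA ⊢
    rw [h]
    induction orderOf A - 1 with
    | zero => exact isUni_one
    | succ m ih =>
      rw [pow_succ, mat_mul]
      exact IsUni.mul ih hA

theorem mem_U {A : D.group} : A ∈ U D ↔ IsUni (mat A) := Iff.rfl

theorem mem_U_of_strict {g : D.group} {M : Matrix (Fin N) (Fin N) K} (hg : mat g = 1 + M)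
    (h : ∀ a b : Fin N, b ≤ a → M a b = 0) : g ∈ U D := fun a b hba => by
  rw [hg, Matrix.add_apply, h a b hba, add_zero, Matrix.one_apply]

theorem sh_mem_U {i j : Fin N} (h : i < j) {g : D.group} {c : K}
    (hg : mat g = 1 + shM D i j c) : g ∈ U D := by
  refine mem_U_of_strict hg fun a b hba => ?_
  simp only [shM, Matrix.add_apply, Matrix.single_apply]
  have h' : rev j < rev i := Fin.rev_lt_rev.2 h
  rw [if_neg (fun e => absurd h (not_lt.2 (by rw [← e.1, ← e.2] at hba; exact hba))),
    if_neg (fun e => absurd h' (not_lt.2 (by rw [← e.1, ← e.2] at hba; exact hba))), add_zero]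

theorem lg_mem_U {i : Fin N} (h : i < rev i) {g : D.group} {c : K}
    (hg : mat g = 1 + lgM i c) : g ∈ U D := by
  refine mem_U_of_strict hg fun a b hba => ?_
  rw [lgM, Matrix.single_apply, if_neg (fun e => absurd h (not_lt.2 (by rw [← e.1, ← e.2] at hba; exact hba)))]

theorem md_mem_U {i j : Fin N} (hj : rev j = j) (h : i < j) {g : D.group} {a b : K}
    (hg : mat g = 1 + mdM D i j a b) : g ∈ U D := by
  refine mem_U_of_strict hg fun x y hba => ?_
  have h' : j < rev i := by rw [← hj]; exact Fin.rev_lt_rev.2 h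
  simp only [mdM, Matrix.add_apply, Matrix.single_apply]
  rw [if_neg (fun e => absurd h (not_lt.2 (by rw [← e.1, ← e.2] at hba; exact hba))),
    if_neg (fun e => absurd (h.trans h') (not_lt.2 (by rw [← e.1, ← e.2] at hba; exact hba))),
    if_neg (fun e => absurd h' (not_lt.2 (by rw [← e.1, ← e.2] at hba; exact hba)))]
  simp

theorem sub_one_pow_apply {A : Matrix (Fin N) (Fin N) K} (hA : IsUni A) (m : ℕ) :
    ∀ a b : Fin N, (b : ℕ) < (a : ℕ) + m → ((A - 1) ^ m) a b = 0 := by
  induction m with
  | zero =>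
    intro a b h
    rw [pow_zero, Matrix.one_apply, if_neg (Fin.ne_of_val_ne (by omega))]
  | succ m ih =>
    intro a b h
    rw [pow_succ, Matrix.mul_apply]
    refine Finset.sum_eq_zero fun c _ => ?_
    rcases lt_or_ge (c : ℕ) ((a : ℕ) + m) with h1 | h1
    · rw [ih a c h1, zero_mul]
    · have hbc : b ≤ c := Fin.le_def.2 (by omega)
      rw [Matrix.sub_apply, hA c b hbc, Matrix.one_apply, sub_self, mul_zero]

theorem mat_pow (g : D.group) : ∀ m : ℕ, mat (g ^ m) = mat g ^ m
  | 0 => by rw [pow_zero, pow_zero, mat_one]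
  | m + 1 => by rw [pow_succ, pow_succ, mat_mul, mat_pow g m]

theorem isPGroup_U (hD : D.Good) : IsPGroup p (U D) := fun A => by
  haveI : NeZero N := ⟨by have := hD.three; omega⟩
  refine ⟨N, Subtype.ext (mat_inj ?_)⟩
  have h1 : (mat A.1 - 1) ^ p ^ N = 0 := by
    ext a b
    refine sub_one_pow_apply A.2 _ a b ?_
    have := Nat.lt_pow_self (n := N) (Fact.out : p.Prime).one_lt
    omega
  have h2 : mat A.1 ^ p ^ N = 1 := by
    rw [sub_pow_char_pow_of_commute _ _ (Commute.one_right _), one_pow, sub_eq_zero] at h1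
    exact h1
  show mat ((A ^ p ^ N : U D) : D.group) = mat ((1 : U D) : D.group)
  rw [SubmonoidClass.coe_pow, mat_pow, h2, OneMemClass.coe_one, mat_one]

/-! ### Linking elements and the normaliser -/

theorem rev_val (a : Fin N) : (rev a : ℕ) = N - 1 - a := by rw [Fin.val_rev]; omega

theorem exists_link (p : ℕ) [Fact p.Prime] [CharP K p] (hD : D.Good) {a a' : Fin N} (h : (a' : ℕ) = a + 1) :
    ∃ u ∈ U D, mat u a a' ≠ 0 := by
  have hN := hD.three
  have haa : a < a' := Fin.lt_def.2 (by omega)
  by_cases h1 : a' = rev a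
  · subst h1
    obtain ⟨th, hth0, hth⟩ := hD.theta
    obtain ⟨g, hg, -⟩ := exists_lgG p hD haa.ne hth
    refine ⟨g, lg_mem_U haa hg, ?_⟩
    rw [hg, Matrix.add_apply, Matrix.one_apply_ne haa.ne, lgM, Matrix.single_apply_same, zero_add]
    exact hth0
  by_cases h2 : rev a' = a'
  · obtain ⟨-, hb⟩ := hD.mid a' h2
    obtain ⟨b, hb⟩ := hb 1
    have hne : a ≠ rev a := fun e => by
      have := congrArg Fin.val e; have := congrArg Fin.val h2; rw [rev_val] at *; omega
    obtain ⟨g, hg, -⟩ := exists_mdG p hD h2 haa.ne hne hb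
    refine ⟨g, md_mem_U h2 haa hg, ?_⟩
    have : rev a ≠ a' := Ne.symm h1
    simp [hg, mdM, Matrix.single_apply, haa.ne, haa.ne', this]
  by_cases h3 : rev a = a
  · obtain ⟨-, hb⟩ := hD.mid a h3
    obtain ⟨b, hb⟩ := hb 1
    have hlt : rev a' < a := by rw [← h3]; exact Fin.rev_lt_rev.2 haa
    obtain ⟨g, hg, -⟩ := exists_mdG p hD h3 hlt.ne (by rw [Fin.rev_rev]; exact h2) hb
    refine ⟨g, md_mem_U h3 hlt hg, ?_⟩
    simp [hg, mdM, Matrix.single_apply, haa.ne, haa.ne', hlt.ne, hlt.ne']
  obtain ⟨g, hg, -⟩ := exists_shG p hD (i := a) (j := a')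
    ⟨haa.ne, fun e => h1 (by rw [e, Fin.rev_rev]), Ne.symm h3, Ne.symm h2⟩ 1
  refine ⟨g, sh_mem_U haa hg, ?_⟩
  have : ¬(rev a' = a ∧ rev a = a') := fun e => h1 e.2.symm
  simp [hg, shM, Matrix.single_apply, haa.ne, this]

theorem eq_zero_of_link (p : ℕ) [Fact p.Prime] [CharP K p] (hD : D.Good) {w : Fin N → K} {k : ℕ}
    (h : ∀ u ∈ U D, ∀ a : Fin N, k ≤ (a : ℕ) → (mat u *ᵥ w - w) a = 0) :
    ∀ b : Fin N, k + 1 ≤ (b : ℕ) → w b = 0 := by
  suffices hh : ∀ m : ℕ, ∀ b : Fin N, N ≤ (b : ℕ) + m → k + 1 ≤ (b : ℕ) → w b = 0 from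
    fun b => hh N b (by omega)
  intro m
  induction m with
  | zero => intro b hb; omega
  | succ m ih =>
    intro b hb hk
    obtain ⟨a, ha⟩ : ∃ a : Fin N, (b : ℕ) = a + 1 := ⟨⟨b - 1, by omega⟩, by simp; omega⟩
    obtain ⟨u, hu, hne⟩ := exists_link p hD ha
    have h1 := h u hu a (by omega)
    have hab : a < b := Fin.lt_def.2 (by omega)
    rw [Pi.sub_apply, Matrix.mulVec, dotProduct, Fintype.sum_eq_add a b hab.ne (by
      rintro x ⟨hxa, hxb⟩
      rcases lt_or_gt_of_ne hxa with hx | hx
      · rw [IsUni.lower hu a x hx, zero_mul]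
      · have := Fin.val_ne_of_ne hxb
        have := Fin.lt_def.1 hx
        rw [ih x (by omega) (by omega), mul_zero])] at h1
    rw [IsUni.diag hu, one_mul] at h1
    have h2 : mat u a b * w b = 0 := by linear_combination h1
    exact (mul_eq_zero.1 h2).resolve_left hne

theorem normalizer_upper (p : ℕ) [Fact p.Prime] [CharP K p] (hD : D.Good) {g : D.group}
    (hg : g ∈ Subgroup.normalizer (U D : Set D.group)) :
    ∀ a b : Fin N, b < a → mat g a b = 0 := by
  suffices h : ∀ k : ℕ, ∀ v : Fin N → K, (∀ b : Fin N, k ≤ (b : ℕ) → v b = 0) →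
      ∀ b : Fin N, k ≤ (b : ℕ) → (mat g *ᵥ v) b = 0 by
    intro a b hba
    have h1 := h ((b : ℕ) + 1) (Pi.single b 1) (fun x hx => Pi.single_eq_of_ne
      (Fin.ne_of_val_ne (by omega)) _) a (Fin.lt_def.1 hba)
    rwa [Matrix.mulVec_single_one] at h1
  intro k
  induction k with
  | zero =>
    intro v hv b _
    rw [show v = 0 from funext fun x => hv x (Nat.zero_le _), Matrix.mulVec_zero]; rfl
  | succ k ih =>
    intro v hv
    refine eq_zero_of_link p hD fun u hu a ha => ?_
    have hu' : g⁻¹ * u * g ∈ U D := (Subgroup.mem_normalizer_iff''.1 hg u).1 hu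
    have h1 : mat u * mat g = mat g * mat (g⁻¹ * u * g) := by
      rw [← mat_mul, ← mat_mul]; congr 1; group
    rw [Matrix.mulVec_mulVec, h1, ← Matrix.mulVec_mulVec, ← Matrix.mulVec_sub]
    refine ih _ (fun b hb => ?_) a ha
    rw [Pi.sub_apply, Matrix.mulVec, dotProduct, Finset.sum_eq_single b, IsUni.diag hu', one_mul,
      sub_self]
    · intro x _ hx
      rcases lt_or_gt_of_ne hx with h | h
      · rw [IsUni.lower hu' b x h, zero_mul]
      · rw [hv x (by have := Fin.lt_def.1 h; omega), mul_zero]
    · exact fun h => absurd (Finset.mem_univ b) h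

theorem pElement_mem (hD : D.Good) {g : D.group}
    (hg : g ∈ Subgroup.normalizer (U D : Set D.group)) (k : ℕ) (hk : g ^ p ^ k = 1) : g ∈ U D := by
  have hup := normalizer_upper p hD hg
  have hpow : ∀ m : ℕ, ∀ a b : Fin N, b ≤ a →
      mat (g ^ m) a b = if a = b then mat g a a ^ m else 0 := by
    intro m
    induction m with
    | zero =>
      intro a b h
      simp [mat_one, Matrix.one_apply]
    | succ m ih =>
      intro a b h
      rw [pow_succ g m, mat_mul, mul_apply_diag
        (fun x y hxy => by rw [ih x y hxy.le, if_neg hxy.ne']) hup a b h, ih a a le_rfl, if_pos rfl,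
        pow_succ]
  intro a b h
  rcases eq_or_ne a b with rfl | hab
  · rw [if_pos rfl]
    refine eq_one_of_pow (p := p) (k := k) ?_
    have := hpow (p ^ k) a a le_rfl
    rw [if_pos rfl, hk, mat_one, Matrix.one_apply_eq] at this
    exact this.symm
  · rw [if_neg hab, hup a b (lt_of_le_of_ne h hab.symm)]

/-- A central `p`-element is trivial. -/
theorem center_pFree (hD : D.Good) {z : D.group} (hz : z ∈ Subgroup.center D.group) (k : ℕ)
    (hk : z ^ p ^ k = 1) : z = 1 := by
  have hzU : z ∈ U D := pElement_mem hD (k := k) (fun n => by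
    rw [← Subgroup.mem_center_iff.1 hz n, mul_inv_cancel_right]) hk
  obtain ⟨g, hg, w, hw, hgv⟩ := exists_weyl hD Fin.revPerm fun i => by simp
  refine mat_inj (Matrix.ext fun a b => ?_)
  rw [mat_one]
  rcases le_or_gt b a with h | h
  · rw [hzU a b h, Matrix.one_apply]
  have h1 := congrArg (fun y : D.group => mat y (Fin.revPerm a) b)
    (Subgroup.mem_center_iff.1 hz ⟨g, hg⟩)
  simp only [mat_mul, Matrix.mul_apply] at h1
  rw [Finset.sum_eq_single a (fun x _ hx => by
      simp [mat, hgv, mono, Ne.symm hx]) (by simp),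
    Finset.sum_eq_single (Fin.revPerm b) (fun x _ hx => by
      simp [mat, hgv, mono, show x ≠ rev b from hx]) (by simp),
    show mat z (Fin.revPerm a) (Fin.revPerm b) = 0 from
      IsUni.lower hzU _ _ (by simpa using h), zero_mul] at h1
  rw [Matrix.one_apply_ne h.ne]
  refine (mul_eq_zero.1 h1).resolve_left ?_
  simp [mat, hgv, mono, hw a]

/-! ### Generation by root elements -/

/-- The unitriangular subgroup is generated by its root elements. -/
theorem U_le_of_roots (p : ℕ) [Fact p.Prime] [CharP K p] (hD : D.Good) (T : Subgroup D.group)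
    (hS : ∀ (i j : Fin N) (g : D.group) (c : K), Adm i j → i < j → mat g = 1 + shM D i j c → g ∈ T)
    (hL : ∀ (i : Fin N) (g : D.group) (c : K), i < rev i → mat g = 1 + lgM i c → g ∈ T)
    (hM : ∀ (i j : Fin N) (g : D.group) (a b : K), rev j = j → i < j →
      mat g = 1 + mdM D i j a b → g ∈ T) :
    U D ≤ T := by
  -- rows before `k` and columns from `N - k` on are trivial
  suffices h : ∀ s k : ℕ, N ≤ 2 * k + s → ∀ g ∈ U D, (∀ a b : Fin N,
      ((a : ℕ) < k ∨ N ≤ (b : ℕ) + k) → mat g a b = if a = b then 1 else 0) → g ∈ T from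
    fun g hg => h N 0 (by omega) g hg fun a b hab => by omega
  intro s
  induction s using Nat.strong_induction_on with
  | _ s ihs =>
  intro k hs g hgU hgk
  rcases Nat.lt_or_ge (2 * k + 1) N with hlt | hge
  swap
  · suffices g = 1 by rw [this]; exact one_mem T
    refine mat_inj (Matrix.ext fun a b => ?_)
    rw [mat_one, Matrix.one_apply]
    by_cases hab : (a : ℕ) < k ∨ N ≤ (b : ℕ) + k
    · exact hgk a b hab
    · exact hgU a b (Fin.le_def.2 (by omega))
  set k0 : Fin N := ⟨k, by omega⟩ with hk0
  have hk0v : (k0 : ℕ) = k := rfl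
  -- clear the row `k` up to `m`
  have hclear : ∀ m : ℕ, m + k < N → ∃ t ∈ T, t * g ∈ U D ∧ (∀ a b : Fin N,
      ((a : ℕ) < k ∨ N ≤ (b : ℕ) + k) → mat (t * g) a b = if a = b then 1 else 0) ∧
      ∀ b : Fin N, k < (b : ℕ) → (b : ℕ) < m → mat (t * g) k0 b = 0 := by
    intro m
    induction m with
    | zero =>
      exact fun _ => ⟨1, one_mem T, by rwa [one_mul], by simpa using hgk, fun b _ hb => by omega⟩
    | succ m ih =>
      intro hm
      obtain ⟨t, ht, htU, htk, htb⟩ := ih (by omega)
      by_cases hmk : m ≤ k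
      · exact ⟨t, ht, htU, htk, fun b h1 h2 => by omega⟩
      set j : Fin N := ⟨m, by omega⟩ with hj
      have hjv : (j : ℕ) = m := rfl
      set A := mat (t * g) with hA
      have htU' : IsUni A := htU
      have hkj : k0 < j := Fin.lt_def.2 (by omega)
      have hjk' : (j : ℕ) < (rev k0 : ℕ) := by rw [rev_val]; omega
      have hne1 : k0 ≠ rev j := fun e => by have := congrArg Fin.val e; rw [rev_val] at this; omega
      have hk0' : k0 ≠ rev k0 := fun e => by have := congrArg Fin.val e; rw [rev_val] at this; omega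
      -- the rows used
      have hrowk' : ∀ b : Fin N, (b : ℕ) + k ≥ N ∨ (b : ℕ) ≤ (rev k0 : ℕ) →
          A (rev k0) b = if rev k0 = b then 1 else 0 := fun b hb => by
        rcases hb with hb | hb
        · exact htk _ b (Or.inr hb)
        · exact htU _ b (Fin.le_def.2 hb)
      by_cases hmid : rev j = j
      · obtain ⟨-, hex⟩ := hD.mid j hmid
        obtain ⟨b0, hb0⟩ := hex (-A k0 j)
        obtain ⟨u, hu, -⟩ := exists_mdG p hD hmid hkj.ne hk0' hb0
        refine ⟨u * t, mul_mem (hM _ _ u _ _ hmid hkj hu) ht,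
          by rw [mul_assoc]; exact mul_mem (md_mem_U hmid hkj hu) htU, fun a b hab => ?_, ?_⟩
        · rw [mul_assoc, mat_mul, hu, ← hA, add_mul, one_mul, mdM]
          simp only [add_mul, Matrix.add_apply, single_mul_apply']
          rw [htk a b hab]
          rcases hab with hab | hab
          · rw [if_neg (show a ≠ k0 from fun e => by subst e; omega),
              if_neg (show a ≠ j from fun e => by subst e; omega)]
            simp [show a ≠ k0 from fun e => by subst e; omega]
          · rw [htk j b (Or.inr hab), hrowk' b (Or.inl hab),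
              if_neg (show ¬ j = b from fun e => by subst e; omega),
              if_neg (show ¬ rev k0 = b from fun e => by rw [← e, rev_val] at hab; omega)]
            simp
        · intro b h1 h2
          rw [mul_assoc, mat_mul, hu, ← hA, add_mul, one_mul, mdM]
          simp only [add_mul, Matrix.add_apply, single_mul_apply']
          simp only [if_true]
          rw [if_neg hkj.ne, hrowk' b (Or.inr (by omega)),
            if_neg (show ¬ rev k0 = b from fun e => by rw [← e] at h2; omega), mul_zero, add_zero,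
            add_zero]
          rcases Nat.lt_or_ge (b : ℕ) m with h3 | h3
          · rw [htb b h1 h3, htU' j b (Fin.le_def.2 (by omega)),
              if_neg (fun e => by rw [← e] at h3; omega)]
            simp
          · obtain rfl : b = j := Fin.ext (by omega)
            rw [htU'.diag j]
            ring
      · have hadm : Adm k0 j := ⟨hkj.ne, hne1, hk0', Ne.symm hmid⟩
        obtain ⟨u, hu, -⟩ := exists_shG p hD hadm (-A k0 j)
        refine ⟨u * t, mul_mem (hS _ _ u _ hadm hkj hu) ht,
          by rw [mul_assoc]; exact mul_mem (sh_mem_U hkj hu) htU, fun a b hab => ?_, ?_⟩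
        · rw [mul_assoc, mat_mul, hu, ← hA, add_mul, one_mul, shM]
          simp only [add_mul, Matrix.add_apply, single_mul_apply']
          rw [htk a b hab]
          rcases hab with hab | hab
          · simp [show a ≠ k0 from fun e => by subst e; omega,
              show a ≠ rev j from fun e => by subst e; rw [rev_val] at hab; omega]
          · rw [htk j b (Or.inr hab), hrowk' b (Or.inl hab),
              if_neg (show ¬ j = b from fun e => by subst e; omega),
              if_neg (show ¬ rev k0 = b from fun e => by rw [← e, rev_val] at hab; omega)]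
            simp
        · intro b h1 h2
          rw [mul_assoc, mat_mul, hu, ← hA, add_mul, one_mul, shM]
          simp only [add_mul, Matrix.add_apply, single_mul_apply']
          simp only [if_true]
          rw [if_neg hne1, add_zero]
          rcases Nat.lt_or_ge (b : ℕ) m with h3 | h3
          · rw [htb b h1 h3, htU' j b (Fin.le_def.2 (by omega)),
              if_neg (fun e => by rw [← e] at h3; omega)]
            simp
          · obtain rfl : b = j := Fin.ext (by omega)
            rw [htU'.diag j]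
            ring
  obtain ⟨t, ht, htU, htk, htb⟩ := hclear (N - 1 - k) (by omega)
  set A := mat (t * g) with hA
  have hk0' : k0 < rev k0 := Fin.lt_def.2 (by rw [rev_val]; omega)
  have hrow : ∀ b : Fin N, b ≠ k0 → b ≠ rev k0 → A k0 b = 0 := by
    intro b h1 h2
    have := Fin.val_ne_of_ne h1
    have := Fin.val_ne_of_ne h2
    rw [rev_val] at this
    rcases Nat.lt_or_ge (b : ℕ) k with h | h
    · exact IsUni.lower htU _ _ (Fin.lt_def.2 (by omega))
    rcases Nat.lt_or_ge (b : ℕ) (N - 1 - k) with h' | h'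
    · exact htb b (by omega) h'
    · rw [htk k0 b (Or.inr (by omega)), if_neg h1.symm]
  have hrel : ∀ b : Fin N, D.e k0 * D.σ (A b (rev k0)) + A k0 (rev k0) * D.e (rev k0) * D.σ (A b k0) =
      if b = rev k0 then D.e k0 else 0 := by
    intro b
    have h := row_rel hD (t * g) k0 b
    rw [← hA] at h
    rw [Fintype.sum_eq_add k0 (rev k0) hk0'.ne (by
      rintro x ⟨h1, h2⟩; rw [hrow x h1 h2, zero_mul, zero_mul]),
      show A k0 k0 = 1 from IsUni.diag htU k0, one_mul,
      Fin.rev_rev] at h
    exact h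
  have hAU : IsUni A := htU
  set c := A k0 (rev k0) with hc
  have hcond : c + D.η * D.σ c = 0 := by
    have h := hrel k0
    rw [if_neg hk0'.ne, IsUni.diag hAU k0, map_one, mul_one, hD.heta] at h
    linear_combination (D.η * D.e k0) * h - (c * D.η * D.η) * hD.e_mul_self k0
      - (D.η * D.σ c) * hD.e_mul_self k0 - c * hD.eta_mul_self
  have hcol : ∀ b : Fin N, k0 < b → A b (rev k0) = if b = rev k0 then 1 else 0 := by
    intro b hb
    have h := hrel b
    rw [IsUni.lower hAU b k0 hb, map_zero, mul_zero, add_zero] at h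
    apply D.σ.injective
    refine mul_left_cancel₀ (hD.e_ne k0) (h.trans ?_)
    split_ifs <;> simp
  have hcneg : -c + D.η * D.σ (-c) = 0 := by rw [map_neg]; linear_combination -hcond
  obtain ⟨u, hu, -⟩ := exists_lgG p hD hk0'.ne hcneg
  have huU := lg_mem_U hk0' hu
  have hkey : u * (t * g) ∈ T := by
    refine ihs (s - 2) (by omega) (k + 1) (by omega) _ (mul_mem huU htU) fun a b hab => ?_
    rw [mat_mul, hu, ← hA, add_mul, one_mul, lgM, Matrix.add_apply, single_mul_apply']
    by_cases ha : a = k0
    · subst ha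
      rw [if_pos rfl]
      by_cases hb : b = rev k0
      · subst hb
        rw [IsUni.diag hAU, if_neg hk0'.ne]
        ring
      · have h2 : A (rev k0) b = 0 := by
          rcases lt_or_gt_of_ne hb with h | h
          · exact IsUni.lower hAU _ _ h
          · have := Fin.lt_def.1 h
            rw [rev_val] at this
            rw [htk _ b (Or.inr (by omega)), if_neg (Ne.symm hb)]
        rw [h2, mul_zero, add_zero]
        by_cases hb' : b = k0
        · subst hb'; rw [IsUni.diag hAU, if_pos rfl]
        · rw [hrow b hb' hb, if_neg (Ne.symm hb')]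
    · rw [if_neg ha, add_zero]
      have hav := Fin.val_ne_of_ne ha
      rcases hab with hab | hab
      · exact htk a b (Or.inl (by omega))
      · rcases Nat.lt_or_ge ((b : ℕ) + k) N with h | h
        · obtain rfl : b = rev k0 := Fin.ext (by rw [rev_val]; omega)
          rcases lt_or_gt_of_ne ha with h' | h'
          · exact htk a _ (Or.inl (Fin.lt_def.1 h'))
          · exact hcol a h'
        · exact htk a b (Or.inr h)
  have h1 := mul_mem (inv_mem (mul_mem (hL _ u _ hk0' hu) ht)) hkey
  rwa [show (u * t)⁻¹ * (u * (t * g)) = g by group] at h1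

end CfsgLib.Fusion.FormGroup
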