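import Cfsg.Agent.Lib.Fusion.Simple

/-!
The simplicity criterion for the fusion system of a finite group, stated inside the group.
-/

set_option autoImplicit false
set_option linter.style.haveILetI false
set_option linter.unusedVariables false
set_option linter.unusedSectionVars false

namespace CfsgLib.Fusion

open Cfsg Cfsg.FusionSystem Subgroup

variable {G : Type*} [Group G] {p : ℕ}

/-- The elements that are products of `p`-elements normalizing a subgroup of `S` normal in `S` and
containing its centralizer in `S`. -/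
def normalGenSet (p : ℕ) (S : Subgroup G) : Set G :=
  {x | x ∈ Subgroup.normalizer (S : Set G) ∧ ∃ R : Subgroup G, R ≤ S ∧
    S ≤ Subgroup.normalizer (R : Set G) ∧ S ⊓ Subgroup.centralizer (R : Set G) ≤ R ∧
    x ∈ Subgroup.closure {g : G | g ∈ Subgroup.normalizer (R : Set G) ∧ ∃ k, orderOf g = p ^ k}}

/-- No proper nontrivial subgroup of `S` is strongly closed in `G`. -/
def NoStronglyClosed (S : Subgroup G) : Prop :=
  ∀ T : Subgroup G, T ≤ S → (∀ x ∈ T, ∀ h : G, h * x * h⁻¹ ∈ S → h * x * h⁻¹ ∈ T) →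
    T = ⊥ ∨ T = S

/-- The normalizer of `S` is generated by `S`, its centralizer and `normalGenSet`. -/
def NormalizerGenerated (p : ℕ) (S : Subgroup G) : Prop :=
  Subgroup.normalizer (S : Set G) ≤ Subgroup.closure
    ((Subgroup.centralizer (S : Set G) : Set G) ∪ (S : Set G) ∪ normalGenSet p S)

theorem group_isSimple_self [Finite G] [Fact p.Prime] (S : Sylow p G)
    (h1 : (S : Subgroup G) ≠ ⊥) (hsc : NoStronglyClosed (S : Subgroup G))
    (hgen : NormalizerGenerated p (S : Subgroup G)) :
    (groupFusionSystem (S : Subgroup G)).IsSimple p := by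
  set F := groupFusionSystem (S : Subgroup G)
  have hS : IsPGroup p (S : Subgroup G) := S.isPGroup'
  have hF : F.IsSaturated p := group_isSaturated S
  refine isSimple_of_generated hS hF h1 (fun T hT => hsc T hT.1 fun x hx h hxS => ?_) ?_
  · have hm : IsMap F (Subgroup.zpowers x) (fun y => h * y * h⁻¹) := by
      refine ((isSystemOf_group _).2 _ _).2
        ⟨Subgroup.zpowers_le.2 (hT.1 hx), fun y hy => ?_, h, Subgroup.mem_top h, fun y _ => rfl⟩
      obtain ⟨k, rfl⟩ := Subgroup.mem_zpowers_iff.1 hy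
      show h * x ^ k * h⁻¹ ∈ (S : Subgroup G)
      rw [← conj_zpow]
      exact Subgroup.zpow_mem _ hxS k
    exact StronglyClosed.apply_mem hT hm (Subgroup.mem_zpowers x) hx
  intro α hα
  rw [group_autGroup_eq S le_rfl, mem_autInducedBy_iff] at hα
  obtain ⟨g, -, hgx⟩ := hα
  have hgN : g ∈ Subgroup.normalizer ((S : Subgroup G) : Set G) := mem_normalizer_of_aut hgx
  have hα' : α = (S : Subgroup G).normalizerMonoidHom ⟨g, hgN⟩ :=
    MulEquiv.ext fun x => Subtype.ext (hgx x)
  rw [hα']
  set C := Subgroup.closure ((Inn (S : Subgroup G) : Set (MulAut (S : Subgroup G))) ∪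
      {α | ∃ (R : Subgroup G) (hR : R ≤ S), F.IsFullyNormalized R ∧ F.IsCentric R ∧
        ∃ γ ∈ (Subgroup.closure {γ : F.autGroup R | ∃ k : ℕ, orderOf γ = p ^ k}).map
          (F.autGroup R).subtype, α ∈ F.autGroup S ∧
            ∀ x : R, ((α ⟨x, hR x.2⟩ : (S : Subgroup G)) : G) = ((γ x : R) : G)})
  suffices h : ∀ x ∈ Subgroup.closure ((Subgroup.centralizer ((S : Subgroup G) : Set G) : Set G) ∪
      ((S : Subgroup G) : Set G) ∪ normalGenSet p (S : Subgroup G)),
      ∀ hx : x ∈ Subgroup.normalizer ((S : Subgroup G) : Set G),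
        (S : Subgroup G).normalizerMonoidHom ⟨x, hx⟩ ∈ C from h g (hgen hgN) hgN
  intro x hx
  suffices h : x ∈ Subgroup.normalizer ((S : Subgroup G) : Set G) ∧
      ∀ hx : x ∈ Subgroup.normalizer ((S : Subgroup G) : Set G),
        (S : Subgroup G).normalizerMonoidHom ⟨x, hx⟩ ∈ C from h.2
  induction hx using Subgroup.closure_induction with
  | mem y hy =>
    rcases hy with (hy | hy) | ⟨hyN, R, hR, hSR, hC, hy⟩
    · refine ⟨Subgroup.centralizer_le_normalizer (s := ((S : Subgroup G) : Set G)) hy,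
        fun hyN => ?_⟩
      suffices h : (S : Subgroup G).normalizerMonoidHom ⟨y, hyN⟩ = 1 by
        rw [h]
        exact one_mem _
      refine MulEquiv.ext fun u => Subtype.ext ?_
      show y * (u : G) * y⁻¹ = u
      rw [← hy u u.2, mul_inv_cancel_right]
    · refine ⟨Subgroup.le_normalizer hy, fun hyN => Subgroup.subset_closure (Or.inl ?_)⟩
      exact ⟨⟨y, hy⟩, MulEquiv.ext fun u => Subtype.ext rfl⟩
    · refine ⟨hyN, fun hyN => Subgroup.subset_closure (Or.inr ?_)⟩
      have hNR : normalizerIn (S : Subgroup G) R = (S : Subgroup G) := inf_eq_left.2 hSR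
      have hRn : F.IsFullyNormalized R := ⟨hR, fun Q hQ => by
        rw [hNR]
        exact Subgroup.card_le_of_le inf_le_left⟩
      have hRc : F.IsCentric R :=
        centric_of_fullyCentralized hS hF (fullyCentralized_of_fullyNormalized hS hF hRn) hC
      set T := (Subgroup.closure {γ : F.autGroup R | ∃ k : ℕ, orderOf γ = p ^ k}).map
          (F.autGroup R).subtype
      have hauto : ∀ z : Subgroup.normalizer (R : Set G),
          R.normalizerMonoidHom z ∈ F.autGroup R := fun z => by
        rw [group_autGroup_eq S hR, mem_autInducedBy_iff]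
        exact ⟨z, Subgroup.mem_top _, fun u => rfl⟩
      suffices key : ∀ c ∈ Subgroup.closure
          {g : G | g ∈ Subgroup.normalizer (R : Set G) ∧ ∃ k, orderOf g = p ^ k},
          c ∈ Subgroup.normalizer (R : Set G) ∧
          ∀ hz : c ∈ Subgroup.normalizer (R : Set G), R.normalizerMonoidHom ⟨c, hz⟩ ∈ T by
        have h := key y hy
        refine ⟨R, hR, hRn, hRc, _, h.2 h.1, ?_, fun u => rfl⟩
        rw [group_autGroup_eq S le_rfl, mem_autInducedBy_iff]
        exact ⟨y, Subgroup.mem_top _, fun u => rfl⟩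
      intro c hc
      induction hc using Subgroup.closure_induction with
      | mem z hz =>
        obtain ⟨hzR, k, hk⟩ := hz
        refine ⟨hzR, fun hzR => ⟨⟨_, hauto ⟨z, hzR⟩⟩, Subgroup.subset_closure ?_, rfl⟩⟩
        have h0 : orderOf (⟨_, hauto ⟨z, hzR⟩⟩ : F.autGroup R) ∣ p ^ k := by
          rw [Subgroup.orderOf_mk, ← hk, ← Subgroup.orderOf_mk z hzR]
          exact orderOf_map_dvd R.normalizerMonoidHom _
        obtain ⟨j, -, hj⟩ := (Nat.dvd_prime_pow Fact.out).1 h0
        exact ⟨j, hj⟩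
      | one => exact ⟨one_mem _, fun hz => by rw [show (⟨1, hz⟩ : Subgroup.normalizer (R : Set G)) = 1 from rfl, map_one]; exact one_mem _⟩
      | mul a b _ _ ha hb =>
        refine ⟨mul_mem ha.1 hb.1, fun hz => ?_⟩
        rw [show (⟨a * b, hz⟩ : Subgroup.normalizer (R : Set G)) = ⟨a, ha.1⟩ * ⟨b, hb.1⟩ from rfl,
          map_mul]
        exact mul_mem (ha.2 ha.1) (hb.2 hb.1)
      | inv a _ ha =>
        refine ⟨inv_mem ha.1, fun hz => ?_⟩
        rw [show (⟨a⁻¹, hz⟩ : Subgroup.normalizer (R : Set G)) = ⟨a, ha.1⟩⁻¹ from rfl, map_inv]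
        exact inv_mem (ha.2 ha.1)
  | one =>
    refine ⟨one_mem _, fun hx => ?_⟩
    rw [show (⟨1, hx⟩ : Subgroup.normalizer ((S : Subgroup G) : Set G)) = 1 from rfl, map_one]
    exact one_mem _
  | mul a b _ _ ha hb =>
    refine ⟨mul_mem ha.1 hb.1, fun hx => ?_⟩
    rw [show (⟨a * b, hx⟩ : Subgroup.normalizer ((S : Subgroup G) : Set G)) =
      ⟨a, ha.1⟩ * ⟨b, hb.1⟩ from rfl, map_mul]
    exact mul_mem (ha.2 ha.1) (hb.2 hb.1)
  | inv a _ ha =>
    refine ⟨inv_mem ha.1, fun hx => ?_⟩
    rw [show (⟨a⁻¹, hx⟩ : Subgroup.normalizer ((S : Subgroup G) : Set G)) = ⟨a, ha.1⟩⁻¹ from rfl,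
      map_inv]
    exact inv_mem (ha.2 ha.1)

/-! ### Transport along an automorphism -/

variable {G' : Type*} [Group G'] (e : G ≃* G') {S : Subgroup G}

theorem map_normalizer_equiv (H : Subgroup G) :
    (Subgroup.normalizer (H : Set G)).map e.toMonoidHom =
      Subgroup.normalizer ((H.map e.toMonoidHom : Subgroup G') : Set G') :=
  Subgroup.map_equiv_normalizer_eq H e

theorem NoStronglyClosed.map (h : NoStronglyClosed S) :
    NoStronglyClosed (S.map e.toMonoidHom) := by
  intro T hT hTc
  have hT' : T.comap e.toMonoidHom ≤ S := fun x hx => by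
    obtain ⟨y, hy, hyx⟩ := hT hx
    exact e.injective hyx ▸ hy
  rcases h (T.comap e.toMonoidHom) hT' fun x hx k hk => by
      show e (k * x * k⁻¹) ∈ T
      simpa using hTc (e x) hx (e k) (by simpa using Subgroup.mem_map_of_mem e.toMonoidHom hk)
    with h0 | h0
  · left
    rw [← Subgroup.map_comap_eq_self_of_surjective (f := e.toMonoidHom) e.surjective T, h0,
      Subgroup.map_bot]
  · right
    rw [← Subgroup.map_comap_eq_self_of_surjective (f := e.toMonoidHom) e.surjective T, h0]

theorem NormalizerGenerated.map (h : NormalizerGenerated p S) :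
    NormalizerGenerated p (S.map e.toMonoidHom) := by
  intro x hx
  rw [← map_normalizer_equiv e] at hx
  obtain ⟨g, hg, rfl⟩ := hx
  have hg' := Subgroup.mem_map_of_mem e.toMonoidHom (h hg)
  rw [MonoidHom.map_closure] at hg'
  refine Subgroup.closure_mono ?_ hg'
  rintro _ ⟨y, (hy | hy) | ⟨hyN, R, hR, hSR, hC, hy⟩, rfl⟩
  · refine Or.inl (Or.inl fun u hu => ?_)
    obtain ⟨v, hv, rfl⟩ := hu
    show e v * e y = e y * e v
    rw [← map_mul, ← map_mul, hy v hv]
  · exact Or.inl (Or.inr ⟨y, hy, rfl⟩)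
  · refine Or.inr ⟨?_, R.map e.toMonoidHom, Subgroup.map_mono hR, ?_, ?_, ?_⟩
    · rw [← map_normalizer_equiv e]
      exact Subgroup.mem_map_of_mem _ hyN
    · rw [← map_normalizer_equiv e]
      exact Subgroup.map_mono hSR
    · rintro u ⟨⟨v, hv, rfl⟩, hu⟩
      refine Subgroup.mem_map_of_mem _ (hC ⟨hv, fun r hr => e.injective ?_⟩)
      rw [map_mul, map_mul]
      exact hu (e r) (Subgroup.mem_map_of_mem _ hr)
    · have h1 := Subgroup.mem_map_of_mem e.toMonoidHom hy
      rw [MonoidHom.map_closure] at h1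
      refine Subgroup.closure_mono ?_ h1
      rintro _ ⟨z, ⟨hz, k, hk⟩, rfl⟩
      refine ⟨?_, k, (MulEquiv.orderOf_eq e z).trans hk⟩
      rw [← map_normalizer_equiv e]
      exact Subgroup.mem_map_of_mem _ hz

/-- The criterion checked at one Sylow subgroup gives simplicity at every one. -/
theorem group_isSimple [Finite G] [Fact p.Prime] (S₀ : Subgroup G) (hp : IsPGroup p S₀)
    (hidx : ¬ p ∣ S₀.index) (h1 : S₀ ≠ ⊥) (hsc : NoStronglyClosed S₀)
    (hgen : NormalizerGenerated p S₀) (S : Sylow p G) :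
    (groupFusionSystem (S : Subgroup G)).IsSimple p := by
  obtain ⟨g, hg⟩ := MulAction.exists_smul_eq G (hp.toSylow hidx) S
  have hS : (S : Subgroup G) = S₀.map (MulAut.conj g).toMonoidHom := by
    rw [← hg]
    rfl
  refine group_isSimple_self S (fun h => h1 ?_) (hS ▸ hsc.map (MulAut.conj g))
    (hS ▸ hgen.map (MulAut.conj g))
  rwa [hS, Subgroup.map_eq_bot_iff_of_injective _ (MulAut.conj g).injective] at h

end CfsgLib.Fusion
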