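import Cfsg.Agent.Lib.Fusion.AlternatingNormalForm
import Cfsg.Agent.Lib.Fusion.SimpleGroupCriterion

/-!
Sylow 2-subgroups of symmetric groups are self-normalizing, and so are those of alternating groups
of degree at least 6.
-/

set_option autoImplicit false
set_option linter.unusedSectionVars false
set_option linter.unusedVariables false
set_option linter.style.haveILetI false

namespace CfsgLib.Fusion.AltModel

open Equiv CfsgLib.BlockA.SylowSymGen

theorem outside_subsingleton {n p k : ℕ} [hp : Fact p.Prime] (ι : Fin k × ZMod p ↪ Fin n)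
    (hn : n ≤ k * p + 1) : ∀ y z, y ∉ Set.range ι → z ∉ Set.range ι → y = z := by
  classical
  haveI : NeZero p := ⟨hp.out.ne_zero⟩
  intro y z hy hz
  by_contra hne
  have hd : Disjoint ((Finset.univ : Finset (Fin k × ZMod p)).map ι) {y, z} := by
    rw [Finset.disjoint_left]
    intro a ha ha'
    obtain ⟨x, -, rfl⟩ := Finset.mem_map.1 ha
    simp only [Finset.mem_insert, Finset.mem_singleton] at ha'
    rcases ha' with h | h
    · exact hy ⟨x, h⟩
    · exact hz ⟨x, h⟩
  have h1 := Finset.card_le_univ (((Finset.univ : Finset (Fin k × ZMod p)).map ι) ∪ {y, z})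
  rw [Finset.card_union_of_disjoint hd, Finset.card_map, Finset.card_pair hne, Finset.card_univ,
    Fintype.card_prod, Fintype.card_fin, ZMod.card, Fintype.card_fin] at h1
  omega

theorem eq_of_support_eq_two {α : Type*} [Fintype α] [DecidableEq α] {f g : Perm α}
    (hf : f.support.card = 2) (h : f.support = g.support) : f = g := by
  refine Equiv.ext fun z => ?_
  by_cases hz : z ∈ f.support
  · have hfz : f z ∈ f.support.erase z :=
      Finset.mem_erase.2 ⟨Perm.mem_support.1 hz, Perm.apply_mem_support.2 hz⟩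
    have hgz : g z ∈ f.support.erase z :=
      Finset.mem_erase.2 ⟨Perm.mem_support.1 (h ▸ hz), h ▸ Perm.apply_mem_support.2 (h ▸ hz)⟩
    exact Finset.card_le_one.1 (by rw [Finset.card_erase_of_mem hz, hf]) _ hfz _ hgz
  · rw [Perm.notMem_support.1 hz, Perm.notMem_support.1 (h ▸ hz)]

variable {n k : ℕ} (ι : Fin k × ZMod 2 ↪ Fin n) {W : Subgroup (Perm (Fin k))}

theorem mem_of_li_mem {σ : Perm (Fin k)} (h : li ι σ ∈ sylowSub ι W) : σ ∈ W := by
  obtain ⟨τ, hτ, c, hc⟩ := (mem_sylowSub ι).1 h
  suffices hs : σ = τ from hs ▸ hτ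
  refine Equiv.ext fun i => ?_
  have h1 := congrArg (fun f : Perm (Fin n) => f (ι (i, 0))) hc
  simp only [Perm.mul_apply, sh_apply, li_apply] at h1
  exact congrArg Prod.fst (ι.injective h1)

theorem map_li_normalizes {g : Perm (Fin k)}
    (h : ∀ τ ∈ W, li ι g * li ι τ * (li ι g)⁻¹ ∈ sylowSub ι W) :
    g ∈ Subgroup.normalizer (W : Set (Perm (Fin k))) := by
  have hle : W.map (MulAut.conj g).toMonoidHom ≤ W := by
    rintro _ ⟨τ, hτ, rfl⟩
    refine mem_of_li_mem ι ?_
    show li ι (g * τ * g⁻¹) ∈ sylowSub ι W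
    rw [map_mul, map_mul, map_inv]
    exact h τ hτ
  have heq := Subgroup.eq_of_le_of_card_ge hle
    (Subgroup.card_map_of_injective (MulAut.conj g).injective).ge
  intro x
  constructor
  · exact fun hx => hle ⟨x, hx, rfl⟩
  · intro hx
    rw [← heq] at hx
    obtain ⟨y, hy, hyx⟩ := hx
    rwa [← (MulAut.conj g).injective (show MulAut.conj g y = MulAut.conj g x from hyx)]

/-- A permutation normalizing the base group and conjugating the lift of `W` into `C_2 ≀ W` lies in
it, if the normalizer of `W` is `W`. -/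
theorem mem_sylowSub_of_conj (hout : ∀ y z, y ∉ Set.range ι → z ∉ Set.range ι → y = z)
    (hW : Subgroup.normalizer (W : Set (Perm (Fin k))) ≤ W) {g : Perm (Fin n)}
    (hb : ∀ i, g * sh ι (Pi.single i 1) * g⁻¹ ∈ baseSub ι)
    (hl : ∀ τ ∈ W, g * li ι τ * g⁻¹ ∈ sylowSub ι W) : g ∈ sylowSub ι W := by
  obtain ⟨v, π, μ, hg⟩ := exists_normalForm ι hout hb
  rw [Subsingleton.elim μ 1, map_one, mul_one] at hg
  have hv : sh ι v ∈ sylowSub ι W := baseSub_le ι (sh_mem_baseSub ι v)
  have hπ : π ∈ W := hW (map_li_normalizes ι fun τ hτ => by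
    have h1 := mul_mem (mul_mem (inv_mem hv) (hl τ hτ)) hv
    rw [hg] at h1
    convert h1 using 1
    group)
  rw [hg]
  exact mul_mem hv (li_mem_sylowSub ι hπ)

/-- Sylow 2-subgroups of symmetric groups are self-normalizing. -/
theorem normalizer_sylow_perm_two (n : ℕ) (P : Sylow 2 (Perm (Fin n))) :
    Subgroup.normalizer ((P : Subgroup (Perm (Fin n))) : Set (Perm (Fin n))) ≤
      (P : Subgroup (Perm (Fin n))) := by
  induction n using Nat.strong_induction_on with
  | _ n ih =>
  rcases lt_or_ge n 2 with hn | hn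
  · haveI : Subsingleton (Fin n) := Fin.subsingleton_iff_le_one.2 (by omega)
    intro g _
    rw [Subsingleton.elim g 1]
    exact one_mem _
  obtain ⟨ι⟩ : Nonempty (Fin (n / 2) × ZMod 2 ↪ Fin n) :=
    Function.Embedding.nonempty_of_card_le (by
      rw [Fintype.card_prod, Fintype.card_fin, Fintype.card_fin, ZMod.card]
      exact Nat.div_mul_le_self n 2)
  let W : Sylow 2 (Perm (Fin (n / 2))) := default
  have hW := ih (n / 2) (by omega) W
  set S := sylowSub ι (W : Subgroup (Perm (Fin (n / 2)))) with hS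
  have hN : Subgroup.normalizer (S : Set (Perm (Fin n))) ≤ S := fun g hg =>
    mem_sylowSub_of_conj ι (outside_subsingleton ι (by omega)) hW
      (fun i => conj_single_mem ι i
        ((Subgroup.mem_normalizer_iff.1 hg _).1 (baseSub_le ι (sh_mem_baseSub ι _))))
      fun τ hτ => (Subgroup.mem_normalizer_iff.1 hg _).1 (li_mem_sylowSub ι hτ)
  obtain ⟨x, hx⟩ := MulAction.exists_smul_eq (Perm (Fin n)) (sylowPerm ι rfl W) P
  have hP : (P : Subgroup (Perm (Fin n))) = S.map (MulAut.conj x).toMonoidHom := by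
    rw [← hx]
    rfl
  rw [hP, ← Subgroup.map_equiv_normalizer_eq S (MulAut.conj x)]
  exact Subgroup.map_mono hN

theorem cols_subset_support (σ : Perm (Fin k)) (c : Fin k → ZMod 2) :
    (σ.support ×ˢ (Finset.univ : Finset (ZMod 2))).map ι ⊆ (li ι σ * sh ι c).support := by
  intro y hy
  obtain ⟨x, hx, rfl⟩ := Finset.mem_map.1 hy
  rw [Perm.mem_support, Perm.mul_apply, sh_apply, li_apply]
  intro h
  exact Perm.mem_support.1 (Finset.mem_product.1 hx).1 (congrArg Prod.fst (ι.injective h))

theorem two_mul_card_support_le (σ : Perm (Fin k)) (c : Fin k → ZMod 2) :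
    2 * σ.support.card ≤ (li ι σ * sh ι c).support.card := by
  have h := Finset.card_le_card (cols_subset_support ι σ c)
  rw [Finset.card_map, Finset.card_product, Finset.card_univ, ZMod.card] at h
  omega

theorem support_eq_cols {σ : Perm (Fin k)} {c : Fin k → ZMod 2} (hσ : σ.support.card = 2)
    (h : (li ι σ * sh ι c).support.card = 4) :
    (li ι σ * sh ι c).support = (σ.support ×ˢ (Finset.univ : Finset (ZMod 2))).map ι :=
  (Finset.eq_of_subset_of_card_le (cols_subset_support ι σ c) (by
    rw [h, Finset.card_map, Finset.card_product, Finset.card_univ, ZMod.card, hσ])).symm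

/-- An element moving four points with a companion moving the same number lies in the base. -/
theorem mem_baseSub_of_companion {y y' : Perm (Fin n)} (hy : y ∈ sylowSub ι W)
    (hy' : y' ∈ sylowSub ι W) (h1 : y.support.card = 4) (h2 : y'.support.card = 4)
    (h3 : (y * y').support.card = 4) (h4 : (y * y').support ≠ y.support) : y ∈ baseSub ι := by
  obtain ⟨σ, -, c, rfl⟩ := (mem_sylowSub ι).1 hy
  obtain ⟨σ', -, c', rfl⟩ := (mem_sylowSub ι).1 hy'
  rcases eq_or_ne σ 1 with rfl | hσ
  · rw [map_one, one_mul]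
    exact sh_mem_baseSub ι c
  exfalso
  have hcard : ∀ {τ : Perm (Fin k)} {d : Fin k → ZMod 2}, (li ι τ * sh ι d).support.card = 4 →
      τ ≠ 1 → τ.support.card = 2 := fun {τ d} h hτ => by
    have := two_mul_card_support_le ι τ d
    have := Perm.two_le_card_support_of_ne_one hτ
    omega
  have hσ2 := hcard h1 hσ
  rcases eq_or_ne σ' 1 with rfl | hσ'
  · rw [map_one, one_mul, mul_assoc, sh_add] at h3 h4
    exact h4 ((support_eq_cols ι hσ2 h3).trans (support_eq_cols ι hσ2 h1).symm)
  have hσ'2 := hcard h2 hσ'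
  have hprod : li ι σ * sh ι c * (li ι σ' * sh ι c') =
      li ι (σ * σ') * sh ι ((fun i => c (σ' i)) + c') := by
    have h5 := li_sh ι σ'⁻¹ c
    rw [inv_inv, map_inv, inv_inv] at h5
    rw [map_mul, ← sh_add, ← h5]
    group
  rcases eq_or_ne (σ * σ') 1 with hone | hne
  · have hσσ : σ'.support = σ.support := by
      rw [eq_inv_of_mul_eq_one_right hone, Perm.support_inv]
    have hsub := Perm.support_mul_le (li ι σ * sh ι c) (li ι σ' * sh ι c')
    rw [support_eq_cols ι hσ2 h1, support_eq_cols ι hσ'2 h2, hσσ, Finset.sup_eq_union,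
      Finset.union_self] at hsub
    refine h4 ((Finset.eq_of_subset_of_card_le hsub ?_).trans (support_eq_cols ι hσ2 h1).symm)
    rw [h3, ← support_eq_cols ι hσ2 h1, h1]
  · have h6 : (σ * σ').support.card ≠ 2 := fun h => by
      have e := (Perm.card_support_eq_two.1 h).sign_eq
      rw [map_mul, (Perm.card_support_eq_two.1 hσ2).sign_eq,
        (Perm.card_support_eq_two.1 hσ'2).sign_eq] at e
      exact absurd e (by decide)
    have h7 := two_mul_card_support_le ι (σ * σ') ((fun i => c (σ' i)) + c')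
    rw [← hprod, h3] at h7
    have := Perm.two_le_card_support_of_ne_one hne
    omega

theorem card_support_pair {a b : Fin k} (hab : a ≠ b) :
    (sh ι (Pi.single a 1 + Pi.single b 1)).support.card = 4 := by
  rw [card_support_sh, show (Finset.univ.filter fun x =>
    (Pi.single a (1 : ZMod 2) + Pi.single b 1 : Fin k → ZMod 2) x ≠ 0) = {a, b} from ?_,
    Finset.card_pair hab]
  ext x
  rcases eq_or_ne x a with rfl | hxa
  · simp [hab]
  rcases eq_or_ne x b with rfl | hxb
  · simp [hxa]
  simp [hxa, hxb]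

theorem pair_mul_pair {a b l : Fin k} :
    sh ι (Pi.single a 1 + Pi.single b 1) * sh ι (Pi.single b 1 + Pi.single l 1) =
      sh ι (Pi.single a 1 + Pi.single l 1) := by
  rw [sh_add]
  congr 1
  funext x
  simp only [Pi.add_apply]
  linear_combination CharTwo.add_self_eq_zero ((Pi.single b 1 : Fin k → ZMod 2) x)

theorem support_sh_inter (c c' : Fin k → ZMod 2) :
    (sh ι c).support ∩ (sh ι c').support = (sh ι (c * c')).support := by
  ext y
  rw [Finset.mem_inter, mem_support_sh, mem_support_sh, mem_support_sh]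
  constructor
  · rintro ⟨⟨x, rfl, hx⟩, ⟨x', hxx, hx'⟩⟩
    rw [ι.injective hxx] at hx'
    exact ⟨x, rfl, mul_ne_zero hx hx'⟩
  · rintro ⟨x, rfl, hx⟩
    exact ⟨⟨x, rfl, left_ne_zero_of_mul hx⟩, ⟨x, rfl, right_ne_zero_of_mul hx⟩⟩

/-- The Sylow 2-subgroup `(C_2 ≀ W) ∩ A_n` is self-normalizing. -/
theorem normalizer_alt_two (hk : 3 ≤ k)
    (hout : ∀ y z, y ∉ Set.range ι → z ∉ Set.range ι → y = z) (W : Sylow 2 (Perm (Fin k))) :
    Subgroup.normalizer (((sylowSub ι (W : Subgroup (Perm (Fin k)))).subgroupOf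
        (alternatingGroup (Fin n))) : Set (alternatingGroup (Fin n))) ≤
      (sylowSub ι (W : Subgroup (Perm (Fin k)))).subgroupOf (alternatingGroup (Fin n)) := by
  intro g hg
  have hconj : ∀ x : Perm (Fin n), x ∈ sylowSub ι (W : Subgroup (Perm (Fin k))) →
      Perm.sign x = 1 →
      (g : Perm (Fin n)) * x * (g : Perm (Fin n))⁻¹ ∈
        sylowSub ι (W : Subgroup (Perm (Fin k))) := fun x hx hs =>
    (Subgroup.mem_normalizer_iff.1 hg ⟨x, hs⟩).1 hx
  set γ : Perm (Fin n) := (g : Perm (Fin n)) with hγ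
  set d : Fin k → Fin k → Perm (Fin n) := fun a b => sh ι (Pi.single a 1 + Pi.single b 1) with hd
  have hdS : ∀ a b, γ * d a b * γ⁻¹ ∈ sylowSub ι (W : Subgroup (Perm (Fin k))) := fun a b =>
    hconj _ (baseSub_le ι (sh_mem_baseSub ι _)) (sign_sh_two_pair ι a b)
  have hpair : ∀ a b, a ≠ b → γ * d a b * γ⁻¹ ∈ baseSub ι := fun a b hab => by
    obtain ⟨l, hla, hlb⟩ := exists_third hk a b
    have hmul : γ * d a b * γ⁻¹ * (γ * d b l * γ⁻¹) = γ * d a l * γ⁻¹ := by
      rw [hd]
      simp only
      rw [← pair_mul_pair ι (a := a) (b := b) (l := l)]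
      group
    refine mem_baseSub_of_companion ι (hdS a b) (hdS b l) ?_ ?_ ?_ ?_
    · rw [Perm.card_support_conj]
      exact card_support_pair ι hab
    · rw [Perm.card_support_conj]
      exact card_support_pair ι hlb.symm
    · rw [hmul, Perm.card_support_conj]
      exact card_support_pair ι hla.symm
    · rw [hmul, Perm.support_conj, Perm.support_conj, Ne, Finset.map_inj]
      intro he
      have hb : ι (b, 0) ∈ (d a b).support :=
        (mem_support_sh ι).2 ⟨_, rfl, by simp [hab.symm]⟩
      rw [← he] at hb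
      obtain ⟨x, hx, hx'⟩ := (mem_support_sh ι).1 hb
      rw [ι.injective hx] at hx'
      exact hx' (by simp [hab.symm, hlb.symm])
  have hbase : ∀ i, γ * sh ι (Pi.single i 1) * γ⁻¹ ∈ baseSub ι := fun i => by
    obtain ⟨j, hji, -⟩ := exists_third hk i i
    obtain ⟨l, hli, hlj⟩ := exists_third hk i j
    obtain ⟨c, hc⟩ := hpair i j hji.symm
    obtain ⟨c', hc'⟩ := hpair i l hli.symm
    refine ⟨c * c', eq_of_support_eq_two ?_ ?_⟩ <;>
      rw [← support_sh_inter, hc, hc', Perm.support_conj, Perm.support_conj, ← Finset.map_inter,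
        hd, support_sh_inter,
        show ((Pi.single i 1 + Pi.single j 1) * (Pi.single i 1 + Pi.single l 1) : Fin k → ZMod 2) =
          Pi.single i 1 from funext fun x => by
          rcases eq_or_ne x i with rfl | hxi
          · simp [hji.symm, hli.symm]
          rcases eq_or_ne x j with rfl | hxj
          · simp [hxi, hlj.symm]
          simp [hxi, hxj]]
    · rw [Finset.card_map, card_support_sh_single]
    · rw [Perm.support_conj]
  exact mem_sylowSub_of_conj ι hout (normalizer_sylow_perm_two k W) hbase fun τ hτ =>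
    hconj _ (li_mem_sylowSub ι hτ) (sign_li_eq_one ι W.isPGroup' hτ)

theorem normalizerGenerated_two (hk : 3 ≤ k)
    (hout : ∀ y z, y ∉ Set.range ι → z ∉ Set.range ι → y = z) (W : Sylow 2 (Perm (Fin k))) :
    NormalizerGenerated 2 ((sylowSub ι (W : Subgroup (Perm (Fin k)))).subgroupOf
      (alternatingGroup (Fin n))) := fun _ hx =>
  Subgroup.subset_closure (Or.inl (Or.inr (normalizer_alt_two ι hk hout W hx)))

end CfsgLib.Fusion.AltModel
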