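import Cfsg.Agent.Lib.Fusion.FormGroupNormalizer
import Cfsg.Agent.Lib.Classical.SUCenter
import Cfsg.Agent.Lib.Classical.SemiUnitary
import Cfsg.Prelude.Def_Classical

/-!
Symplectic and special unitary groups as isometry groups of an antidiagonal form, and the simplicity
of the defining-characteristic fusion systems of their central quotients.
-/

set_option autoImplicit false
set_option linter.unusedVariables false
set_option linter.unusedSectionVars false
set_option linter.style.haveILetI false

namespace CfsgLib.Fusion.FormGroup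

open Matrix Fin Subgroup

variable {K : Type*} [Field K]

/-! ### Symplectic groups -/

variable (K) in
/-- The symplectic form in a hyperbolic basis. -/
def spDat (m : ℕ) : Dat K (2 * m) where
  σ := RingEquiv.refl K
  e := fun x => if (x : ℕ) < m then -1 else 1
  η := -1

/-- The reindexing to a hyperbolic basis. -/
def spIdx (m : ℕ) : Fin m ⊕ Fin m ≃ Fin (2 * m) where
  toFun := Sum.elim (fun i => ⟨i, by omega⟩) fun i => ⟨2 * m - 1 - i, by omega⟩
  invFun x := if h : (x : ℕ) < m then Sum.inl ⟨x, h⟩ else Sum.inr ⟨2 * m - 1 - x, by omega⟩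
  left_inv := by
    rintro (i | i)
    · simp
    · have := i.2
      refine (dif_neg (show ¬ 2 * m - 1 - (i : ℕ) < m by omega)).trans ?_
      exact congrArg Sum.inr (Fin.ext (show 2 * m - 1 - (2 * m - 1 - (i : ℕ)) = i by omega))
  right_inv := fun x => by
    have := x.2
    by_cases h : (x : ℕ) < m
    · simp [h]
    · simp only [dif_neg h, Sum.elim_inr]
      exact Fin.ext (show 2 * m - 1 - (2 * m - 1 - (x : ℕ)) = x by omega)

theorem spIdx_inl (m : ℕ) (i : Fin m) : (spIdx m (Sum.inl i) : ℕ) = i := rfl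

theorem spIdx_inr (m : ℕ) (i : Fin m) : (spIdx m (Sum.inr i) : ℕ) = 2 * m - 1 - i := rfl

theorem spJ (m : ℕ) : (spDat K m).J = Matrix.reindex (spIdx m) (spIdx m) (Matrix.J (Fin m) K) := by
  ext x y
  obtain ⟨a, rfl⟩ := (spIdx m).surjective x
  obtain ⟨b, rfl⟩ := (spIdx m).surjective y
  rw [Matrix.reindex_apply, Matrix.submatrix_apply, Equiv.symm_apply_apply, Equiv.symm_apply_apply]
  simp only [Dat.J, Matrix.of_apply]
  rcases a with i | i <;> rcases b with j | j <;> have hi := i.2 <;> have hj := j.2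
  · rw [if_neg (fun e => by
      have := congrArg Fin.val e; rw [rev_val, spIdx_inl, spIdx_inl] at this; omega)]
    simp [Matrix.J]
  · rcases eq_or_ne i j with rfl | h
    · rw [if_pos (Fin.ext (by rw [rev_val, spIdx_inl, spIdx_inr]))]
      simp [Matrix.J, spDat, spIdx_inl]
    · rw [if_neg (fun e => h (Fin.ext (by
        have := congrArg Fin.val e; rw [rev_val, spIdx_inl, spIdx_inr] at this; omega)))]
      simp [Matrix.J, Matrix.one_apply_ne h]
  · rcases eq_or_ne i j with rfl | h
    · rw [if_pos (Fin.ext (by rw [rev_val, spIdx_inl, spIdx_inr]; omega))]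
      simp only [spDat]
      rw [if_neg (show ¬ (spIdx m (Sum.inr i) : ℕ) < m by rw [spIdx_inr]; omega)]
      simp [Matrix.J]
    · rw [if_neg (fun e => h (Fin.ext (by
        have := congrArg Fin.val e; rw [rev_val, spIdx_inl, spIdx_inr] at this; omega)))]
      simp [Matrix.J, Matrix.one_apply_ne h]
  · rw [if_neg (fun e => by
      have := congrArg Fin.val e; rw [rev_val, spIdx_inr, spIdx_inr] at this; omega)]
    simp [Matrix.J]

theorem spIsIsom_iff (m : ℕ) (A : Matrix (Fin m ⊕ Fin m) (Fin m ⊕ Fin m) K) :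
    (spDat K m).IsIsom (Matrix.reindex (spIdx m) (spIdx m) A) ↔
      A ∈ Matrix.symplecticGroup (Fin m) K := by
  have hmap : ∀ X : Matrix (Fin (2 * m)) (Fin (2 * m)) K, X.map (spDat K m).σ = X := fun X => by
    ext; rfl
  rw [Dat.IsIsom, hmap, spJ, SymplecticGroup.mem_iff', Matrix.transpose_reindex]
  simp only [Matrix.reindex_apply, Matrix.submatrix_mul_equiv]
  exact (Matrix.reindex (α := K) (spIdx m) (spIdx m)).injective.eq_iff
    (a := Aᵀ * Matrix.J (Fin m) K * A) (b := Matrix.J (Fin m) K)

theorem spDet (m : ℕ) (A : Matrix (Fin (2 * m)) (Fin (2 * m)) K) (h : (spDat K m).IsIsom A) :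
    A.det = 1 := by
  obtain ⟨B, rfl⟩ := (Matrix.reindex (spIdx m) (spIdx m)).surjective A
  rw [Matrix.det_reindex_self]
  exact SymplecticGroup.det_eq_one ((spIsIsom_iff m B).1 h)

theorem spGood [Fintype K] {m : ℕ} (hm : 2 ≤ m) (hex : m = 2 → 3 ≤ Fintype.card K) :
    (spDat K m).Good where
  hσ := fun x => rfl
  he := fun i => by
    simp only [spDat]
    split_ifs <;> simp
  heta := fun i => by
    simp only [spDat, rev_val]
    split_ifs <;> first | omega | simp
  hη := Or.inr rfl
  three := by omega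
  adj := fun A hA => ⟨1, one_ne_zero, by simp [spDet m A hA]⟩
  norm := fun x _ => exists_sq_add K x
  theta := ⟨1, one_ne_zero, by simp [spDat]⟩
  kind := Or.inr ⟨rfl, fun c => rfl⟩
  mid := fun j hj => by
    have := congrArg Fin.val hj
    rw [rev_val] at this
    omega
  small := by
    rcases eq_or_lt_of_le hm with h | h
    · refine Or.inr (Or.inr (Or.inl ?_))
      classical
      by_contra hcon
      push Not at hcon
      have hsub : (Finset.univ : Finset K) ⊆ {0, 1} := fun t _ => by
        simp only [Finset.mem_insert, Finset.mem_singleton]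
        exact or_iff_not_imp_left.2 (hcon t)
      have := (Finset.card_le_card hsub).trans Finset.card_le_two
      have := hex h.symm
      simp only [Finset.card_univ] at *
      omega
    · exact Or.inr (Or.inr (Or.inr (by omega)))

/-- The symplectic group as an isometry group. -/
noncomputable def spEquiv (m : ℕ) :
    Matrix.symplecticGroup (Fin m) K ≃* (spDat K m).group :=
  MulEquiv.ofBijective
    ({ toFun := fun A => ⟨Matrix.GeneralLinearGroup.mkOfDetNeZero
          (Matrix.reindex (spIdx m) (spIdx m) A.1)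
          (by rw [spDet m _ ((spIsIsom_iff m A.1).2 A.2)]; exact one_ne_zero),
          (spIsIsom_iff m A.1).2 A.2, spDet m _ ((spIsIsom_iff m A.1).2 A.2)⟩
       map_one' := Subtype.ext (Units.ext (by
         show Matrix.reindex (spIdx m) (spIdx m) 1 = 1
         simp))
       map_mul' := fun A B => Subtype.ext (Units.ext (by
         show Matrix.reindex (spIdx m) (spIdx m) (A.1 * B.1) =
           Matrix.reindex (spIdx m) (spIdx m) A.1 * Matrix.reindex (spIdx m) (spIdx m) B.1
         simp [Matrix.submatrix_mul_equiv])) } :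
      Matrix.symplecticGroup (Fin m) K →* (spDat K m).group)
    ⟨fun A B h => Subtype.ext ((Matrix.reindex (spIdx m) (spIdx m)).injective
        (congrArg (fun g : (spDat K m).group => mat g) h)),
      fun g => by
        obtain ⟨B, hB⟩ := (Matrix.reindex (spIdx m) (spIdx m)).surjective (mat g)
        exact ⟨⟨B, (spIsIsom_iff m B).1 (hB ▸ mat_isom g)⟩, Subtype.ext (Units.ext hB)⟩⟩

theorem psp_isSimple [Fintype K] (p : ℕ) [Fact p.Prime] [CharP K p] {m : ℕ} (hm : 2 ≤ m)
    (hex : m = 2 → 3 ≤ Fintype.card K) (S : Sylow p (Cfsg.PSp m K)) :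
    (Cfsg.groupFusionSystem (S : Subgroup (Cfsg.PSp m K))).IsSimple p :=
  isSimple_quotient p (spGood hm hex) (by omega) (fun j hj => by
    have := congrArg Fin.val hj
    rw [rev_val] at this
    omega) (spEquiv m) S

/-! ### Unitary groups -/

/-- The Hermitian form in a hyperbolic basis. -/
def suDat (σ : K ≃+* K) (n : ℕ) : Dat K n where
  σ := σ
  e := fun _ => 1
  η := 1

theorem suJ_map (σ : K ≃+* K) (n : ℕ) : ((suDat σ n).J.map σ)ᵀ = (suDat σ n).J := by
  ext i j
  simp only [suDat, Dat.J, Matrix.transpose_apply, Matrix.map_apply, Matrix.of_apply]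
  rw [apply_ite σ, map_one, map_zero]
  exact if_congr ⟨fun h => by rw [h, Fin.rev_rev], fun h => by rw [h, Fin.rev_rev]⟩ rfl rfl

theorem suGood [Fintype K] {σ : K ≃+* K} (hσ : orderOf σ = 2) {n : ℕ} (hn : 3 ≤ n) :
    (suDat σ n).Good := by
  have hσσ : ∀ x, σ (σ x) = x := fun x => by
    have h := pow_orderOf_eq_one σ
    rw [hσ, sq] at h
    exact RingEquiv.congr_fun h x
  obtain ⟨c0, hc0⟩ : ∃ c, σ c ≠ c := by
    by_contra h
    simp only [not_exists, not_not] at h
    rw [show σ = 1 from RingEquiv.ext h, orderOf_one] at hσ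
    omega
  have hr : ∃ c, c + σ c ≠ 0 := by
    by_contra h
    simp only [not_exists, not_not] at h
    refine hc0 ?_
    have h1 := h 1
    rw [map_one] at h1
    linear_combination h c0 - c0 * h1
  have hnorm : ∀ x, σ x = x → ∃ a, x = a * σ a := fun x hx => by
    rcases eq_or_ne x 0 with rfl | h0
    · exact ⟨0, by simp⟩
    · obtain ⟨c, -, hc⟩ := CfsgLib.KnownC.exists_mul_apply_eq σ hσ h0 hx
      exact ⟨c, hc.symm⟩
  exact
  { hσ := hσσ
    he := fun i => Or.inl rfl
    heta := fun i => (one_mul (1 : K)).symm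
    hη := Or.inl rfl
    three := hn
    adj := fun A hA => by
      change ∃ t : K, t ≠ 0 ∧ A.det * (t * (σ t)⁻¹) = 1
      have hJ : (suDat σ n).J.det ≠ 0 := by
        intro h0
        have h2 : (suDat σ n).J * (suDat σ n).J = 1 := by
          ext a c
          rw [Matrix.mul_apply, Finset.sum_eq_single (rev a) (fun b _ hb => by
            simp [Dat.J, hb]) (by simp)]
          simp [Dat.J, suDat, Matrix.one_apply, eq_comm]
        have := congrArg Matrix.det h2
        rw [det_mul, h0, det_one, zero_mul] at this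
        exact zero_ne_one this
      have hδ : A.det * σ A.det = 1 := by
        have h := congrArg Matrix.det (show Aᵀ * (suDat σ n).J * A.map σ = (suDat σ n).J from hA)
        rw [det_mul, det_mul, det_transpose,
          show (A.map σ).det = σ A.det from (RingEquiv.map_det σ A).symm] at h
        exact mul_left_cancel₀ hJ (by linear_combination h)
      obtain ⟨c, hc⟩ : ∃ c, c + σ A.det * σ c ≠ 0 := by
        by_contra h
        simp only [not_exists, not_not] at h
        refine hc0 ?_
        have h1 := h 1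
        rw [map_one, mul_one] at h1
        have h2 := h c0
        linear_combination (σ c0) * h1 - h2
      refine ⟨_, hc, ?_⟩
      have hs : σ (c + σ A.det * σ c) ≠ 0 := fun h0 => hc (by rw [← hσσ (c + _), h0, map_zero])
      field_simp
      rw [map_add, map_mul, hσσ, hσσ]
      linear_combination σ c * hδ
    norm := fun x hx => by
      obtain ⟨a, ha⟩ := hnorm x hx
      exact ⟨a, 0, by rw [ha]; simp [suDat]⟩
    theta := ⟨c0 - σ c0, sub_ne_zero.2 hc0.symm, by
      show c0 - σ c0 + 1 * σ (c0 - σ c0) = 0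
      rw [map_sub, hσσ]
      ring⟩
    kind := Or.inl ⟨rfl, c0, hc0⟩
    mid := fun j hj => ⟨fun i => rfl, fun a => by
      obtain ⟨c, hc⟩ := hr
      refine ⟨-(a * σ a) * c / (c + σ c), ?_⟩
      show _ + σ _ + a * σ a = 0
      rw [map_div₀, map_mul, map_neg, map_mul, map_add, hσσ, hσσ, add_comm (σ c) c,
        mul_comm (σ a) a]
      field_simp
      ring⟩
    small := Or.inr (Or.inl ⟨c0, hc0⟩) }

theorem psu_isSimple [Fintype K] (p q : ℕ) [Fact p.Prime] [CharP K p]
    (hK : Fintype.card K = q ^ 2) {n : ℕ} (hn : 4 ≤ n) (S : Sylow p (Cfsg.PSU n K q)) :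
    (Cfsg.groupFusionSystem (S : Subgroup (Cfsg.PSU n K q))).IsSimple p := by
  obtain ⟨σ, hσq, hσ⟩ := CfsgLib.Classical.SemiUnitary.exists_qFrobEquiv hK
  have hD := suGood hσ (show 3 ≤ n by omega)
  set D := suDat σ n with hDd
  have hJJ : D.J * D.J = 1 := by
    rw [hD.J_mul_J]
    exact one_smul K _
  obtain ⟨h, hh⟩ := CfsgLib.KnownC.exists_congr_one σ hσ ⟨D.J, D.J, hJJ, hJJ⟩ (suJ_map σ n)
  set P : Matrix (Fin n) (Fin n) K := (h : Matrix (Fin n) (Fin n) K)ᵀ with hP
  set Q : Matrix (Fin n) (Fin n) K := ((h⁻¹ : GL (Fin n) K) : Matrix (Fin n) (Fin n) K)ᵀ with hQ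
  have hPQ : P * Q = 1 := by rw [hP, hQ, ← transpose_mul, Units.inv_mul, transpose_one]
  have hQP : Q * P = 1 := by rw [hP, hQ, ← transpose_mul, Units.mul_inv, transpose_one]
  have hJ : D.J = Pᵀ * P.map σ := by
    rw [hP, transpose_transpose]
    exact hh.trans (by rw [Matrix.transpose_map])
  have hQ' : Qᵀ * D.J * Q.map σ = 1 := by
    rw [hJ, ← mul_assoc, ← transpose_mul, hPQ, transpose_one, one_mul, ← Matrix.map_mul, hPQ,
      Matrix.map_one _ (map_zero σ) (map_one σ)]
  have hdet : ∀ A : Matrix (Fin n) (Fin n) K, (Q * A * P).det = A.det := fun A => by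
    rw [det_mul, det_mul, mul_right_comm, ← det_mul, hQP, det_one, one_mul]
  have hmap : ∀ X : Matrix (Fin n) (Fin n) K,
      X.map σ = X.map (CfsgLib.Classical.qFrob hK) := fun X => by ext i j; exact hσq _
  have hiso : ∀ s : Cfsg.SU n K q, D.IsIsom (Q * s.1.1 * P) := fun s => by
    show (Q * s.1.1 * P)ᵀ * D.J * (Q * s.1.1 * P).map σ = D.J
    have hs := (CfsgLib.Classical.mem_su_iff hK s.1).1 s.2
    rw [← hmap] at hs
    rw [transpose_mul, transpose_mul, Matrix.map_mul, Matrix.map_mul]
    calc Pᵀ * (s.1.1ᵀ * Qᵀ) * D.J * (Q.map σ * s.1.1.map σ * P.map σ)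
        = Pᵀ * (s.1.1ᵀ * (Qᵀ * D.J * Q.map σ) * s.1.1.map σ) * P.map σ := by
          simp only [mul_assoc]
      _ = _ := by rw [hQ', mul_one, hs, mul_one, hJ]
  let φ : Cfsg.SU n K q →* D.group :=
    { toFun := fun s => ⟨Matrix.GeneralLinearGroup.mkOfDetNeZero (Q * s.1.1 * P)
          (by rw [hdet, s.1.2]; exact one_ne_zero),
        hiso s, by
          show (Q * s.1.1 * P).det = 1
          rw [hdet, s.1.2]⟩
      map_one' := Subtype.ext (Units.ext (by
        show Q * 1 * P = 1
        rw [mul_one, hQP]))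
      map_mul' := fun s t => Subtype.ext (Units.ext (by
        show Q * (s.1.1 * t.1.1) * P = Q * s.1.1 * P * (Q * t.1.1 * P)
        calc Q * (s.1.1 * t.1.1) * P = Q * s.1.1 * 1 * t.1.1 * P := by
              simp only [mul_one, mul_assoc]
          _ = _ := by rw [← hPQ]; simp only [mul_assoc])) }
  have hbij : Function.Bijective φ := by
    refine ⟨fun s t hst => ?_, fun g => ?_⟩
    · have h1 : Q * s.1.1 * P = Q * t.1.1 * P := congrArg (fun g : D.group => mat g) hst
      have h2 := congrArg (fun X => P * X * Q) h1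
      simp only [← mul_assoc, hPQ, one_mul] at h2
      simp only [mul_assoc, hPQ, mul_one] at h2
      exact Subtype.ext (Subtype.ext h2)
    · have hd : (P * mat g * Q).det = 1 := by
        rw [det_mul, det_mul, mul_right_comm, ← det_mul, hPQ, det_one, one_mul, mat_det]
      refine ⟨⟨⟨P * mat g * Q, hd⟩, (CfsgLib.Classical.mem_su_iff hK _).2 ?_⟩,
        Subtype.ext (Units.ext ?_)⟩
      · show (P * mat g * Q)ᵀ * (P * mat g * Q).map (CfsgLib.Classical.qFrob hK) = 1
        rw [← hmap, transpose_mul, transpose_mul, Matrix.map_mul, Matrix.map_mul]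
        calc Qᵀ * ((mat g)ᵀ * Pᵀ) * (P.map σ * (mat g).map σ * Q.map σ)
            = Qᵀ * ((mat g)ᵀ * (Pᵀ * P.map σ) * (mat g).map σ) * Q.map σ := by
              simp only [mul_assoc]
          _ = _ := by rw [← hJ, show (mat g)ᵀ * D.J * (mat g).map σ = D.J from mat_isom g, hQ']
      · show Q * (P * mat g * Q) * P = mat g
        rw [← mul_assoc, ← mul_assoc, hQP, one_mul, mul_assoc, hQP, mul_one]
  exact isSimple_quotient p hD hn (fun j _ b => by
    have hfix : σ (-(b + σ b)) = -(b + σ b) := by
      have hσσ : σ (σ b) = b := hD.hσ b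
      rw [map_neg, map_add, hσσ, add_comm]
    rcases eq_or_ne (-(b + σ b)) 0 with h0 | h0
    · refine ⟨0, ?_⟩
      show b + σ b + 0 * σ 0 = 0
      linear_combination -h0
    · obtain ⟨c, -, hc⟩ := CfsgLib.KnownC.exists_mul_apply_eq σ hσ h0 hfix
      refine ⟨c, ?_⟩
      show b + σ b + c * σ c = 0
      linear_combination hc) (MulEquiv.ofBijective φ hbij) S

end CfsgLib.Fusion.FormGroup
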