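import Cfsg.Agent.Lib.Fusion.QuotientLift
import Cfsg.Agent.Lib.Fusion.ModelBasic
import Cfsg.Agent.Lib.PLength.Constrained
import Cfsg.Agent.Lib.StructC.PSolvableQuot

/-!
Realizations through the quotient by `O_{p'}`, and the automorphism groups of normal subgroups as
quotients of the realizing group.
-/

set_option autoImplicit false
set_option linter.unusedVariables false
set_option linter.unusedSectionVars false
set_option linter.style.haveILetI false

namespace CfsgLib.Fusion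

open Cfsg Cfsg.FusionSystem Subgroup

universe u v

variable {Ω : Type u} [Group Ω] {S Q : Subgroup Ω} {F : FusionSystem S} {G : Type v} [Group G]
  {ι : S →* G} {p : ℕ} [Fact p.Prime]

/-- A system realized by `G` on a Sylow subgroup is realized by the quotient by a normal subgroup
of order prime to `p`. -/
theorem realized_quotient [Finite G] (hr : F.IsRealizedBy ι)
    (hT : ∃ T : Sylow p G, (T : Subgroup G) = ι.range) (N : Subgroup G) [N.Normal]
    (hN : (Nat.card N).Coprime p) :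
    F.IsRealizedBy ((QuotientGroup.mk' N).comp ι) ∧
      ∃ T : Sylow p (G ⧸ N), (T : Subgroup (G ⧸ N)) = ((QuotientGroup.mk' N).comp ι).range := by
  obtain ⟨T, hT⟩ := hT
  set π := QuotientGroup.mk' N with hπ
  have hdis : ∀ g : G, g ∈ ι.range → π g = 1 → g = 1 := fun g hg h1 => by
    rw [← hT] at hg
    obtain ⟨k, hk⟩ := T.2 ⟨g, hg⟩
    have hk' : g ^ p ^ k = 1 := congrArg Subtype.val hk
    have h2 : orderOf g ∣ Nat.card N :=
      orderOf_dvd_natCard N ((QuotientGroup.eq_one_iff g).1 h1)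
    exact orderOf_eq_one_iff.1 (Nat.eq_one_of_dvd_coprimes (hN.symm.pow_left k)
      (orderOf_dvd_of_pow_eq_one hk') h2)
  have hinj : Function.Injective (π.comp ι) := (injective_iff_map_eq_one _).2 fun s hs =>
    hr.1 ((hdis _ ⟨s, rfl⟩ hs).trans (map_one ι).symm)
  refine ⟨⟨hinj, fun P hP φ hφ => ?_⟩, ⟨T.mapSurjective (QuotientGroup.mk'_surjective N), ?_⟩⟩
  · rw [hr.2 P hP φ hφ]
    constructor
    · rintro ⟨g, hg⟩
      exact ⟨π g, fun x => by
        rw [MonoidHom.comp_apply, MonoidHom.comp_apply, hg x, map_mul, map_mul, map_inv]⟩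
    · rintro ⟨γ, hγ⟩
      have hQ : (P.subgroupOf S).map ι ≤ (T : Subgroup G) := hT ▸ Subgroup.map_le_range _ _
      have hmem : ∀ x ∈ (P.subgroupOf S).map ι, γ * π x * γ⁻¹ ∈ (T : Subgroup G).map π := by
        rintro _ ⟨s, hs, rfl⟩
        have h1 := hγ ⟨s, hs⟩
        rw [MonoidHom.comp_apply, MonoidHom.comp_apply] at h1
        exact ⟨_, hT.ge ⟨_, rfl⟩, h1⟩
      obtain ⟨g, hgγ, hg⟩ := exists_lift_conj_quotient T N hQ γ hmem
      refine ⟨g, fun x => ?_⟩
      obtain ⟨t, ht⟩ := hT.le (hg _ ⟨⟨x, hP x.2⟩, x.2, rfl⟩)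
      rw [← ht]
      congr 1
      refine hinj ?_
      rw [hγ x, MonoidHom.comp_apply, MonoidHom.comp_apply, ht, map_mul, map_mul, map_inv,
        ← hgγ]
  · rw [Sylow.coe_mapSurjective, MonoidHom.range_comp, hT]

/-- A system realized by a `p`-solvable group is constrained. -/
theorem isConstrained_of_pSolvable [Finite G] (hF : F.IsSaturated p) (hr : F.IsRealizedBy ι)
    (hT : ∃ T : Sylow p G, (T : Subgroup G) = ι.range) (hs : Cfsg.IsPSolvable p G) :
    F.IsConstrained p := by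
  haveI := CfsgLib.Solvable.pPrimeCore_normal p G
  set N := Cfsg.pPrimeCore p G with hN
  obtain ⟨hr', T, hT'⟩ := realized_quotient hr hT N (CfsgLib.Solvable.pPrimeCore_coprime p)
  set ι' := (QuotientGroup.mk' N).comp ι
  have hc := CfsgLib.PLength.centralizer_pCore_le_of_isPSolvable (p := p)
    (CfsgLib.StructC.isPSolvable_quotient N hs)
    (CfsgLib.Solvable.pPrimeCore_quotient_eq_bot p)
  haveI : (Cfsg.pCore p (G ⧸ N)).Normal := CfsgLib.Solvable.pCore_normal p _
  have hM : Cfsg.pCore p (G ⧸ N) ≤ ι'.range := hT' ▸ pCore_le_sylow T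
  exact ⟨hF, _, preimage_isNormal hr' inferInstance hM,
    preimage_isCentric hr' inferInstance hM hc⟩

/-- The automorphisms of a normal subgroup are the conjugations by its normalizer. -/
theorem exists_autGroup_hom (hr : F.IsRealizedBy ι) (hQ : F.IsNormal Q) :
    ∃ ρ : Subgroup.normalizer (((Q.subgroupOf S).map ι : Subgroup G) : Set G) →* F.autGroup Q,
      Function.Surjective ρ ∧
        ρ.ker.map (Subgroup.normalizer (((Q.subgroupOf S).map ι : Subgroup G) : Set G)).subtype ≤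
          Subgroup.centralizer (((Q.subgroupOf S).map ι : Subgroup G) : Set G) := by
  set M := (Q.subgroupOf S).map ι with hM
  set e : Q ≃* M := (Subgroup.subgroupOfEquivOfLe hQ.1).symm.trans
    (Subgroup.equivMapOfInjective _ ι hr.1)
  have he : ∀ x : Q, ((e x : M) : G) = ι ⟨x, hQ.1 x.2⟩ := fun x => rfl
  set ρ₀ : Subgroup.normalizer (M : Set G) →* MulAut Q :=
    (MulAut.congr e.symm).toMonoidHom.comp M.normalizerMonoidHom with hρ
  have hρx : ∀ (g : Subgroup.normalizer (M : Set G)) (x : Q),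
      ι ⟨(ρ₀ g x : Q), hQ.1 (ρ₀ g x).2⟩ = (g : G) * ι ⟨x, hQ.1 x.2⟩ * (g : G)⁻¹ := by
    intro g x
    rw [← he, ← he]
    show ((e (e.symm (M.normalizerMonoidHom g (e x))) : M) : G) = _
    rw [MulEquiv.apply_symm_apply]
    rfl
  have hmem : ∀ g, ρ₀ g ∈ F.autGroup Q := fun g => by
    refine (autGroup_mem_iff hQ.1).2 ((hr.2 Q hQ.1 _ fun x => hQ.1 (ρ₀ g x).2).2 ⟨g, hρx g⟩)
  refine ⟨ρ₀.codRestrict _ hmem, ?_, ?_⟩
  · rintro ⟨α, hα⟩
    obtain ⟨g, hg⟩ := (hr.2 Q hQ.1 _ fun x => hQ.1 (α x).2).1 ((autGroup_mem_iff hQ.1).1 hα)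
    have hgN : g ∈ Subgroup.normalizer (M : Set G) := fun m => by
      constructor
      · rintro ⟨s, hs, rfl⟩
        exact ⟨⟨(α ⟨s, hs⟩ : Q), hQ.1 (α _).2⟩, (α ⟨s, hs⟩).2, hg ⟨s, hs⟩⟩
      · rintro ⟨s, hs, hsm⟩
        have h1 := hg (α.symm ⟨s, hs⟩)
        refine ⟨⟨(α.symm ⟨s, hs⟩ : Q), hQ.1 (α.symm ⟨s, hs⟩).2⟩, (α.symm ⟨s, hs⟩).2, ?_⟩
        simp only [MonoidHom.coe_comp, Subgroup.coe_subtype, MulEquiv.coe_toMonoidHom,
          Function.comp_apply, MulEquiv.apply_symm_apply] at h1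
        rw [hsm] at h1
        exact (mul_left_cancel (mul_right_cancel h1)).symm
    refine ⟨⟨g, hgN⟩, Subtype.ext (MulEquiv.ext fun x => Subtype.ext ?_)⟩
    have := hr.1 ((hρx ⟨g, hgN⟩ x).trans (hg x).symm)
    exact congrArg (fun z : S => (z : Ω)) this
  · rintro _ ⟨g, hg, rfl⟩ m ⟨s, hs, rfl⟩
    have h1 : ρ₀ g = 1 := congrArg Subtype.val hg
    have h2 := hρx g ⟨s, hs⟩
    simp only [h1, MulAut.one_apply] at h2
    have h3 : (g : G) * ι s * (g : G)⁻¹ = ι s := h2.symm
    exact (mul_inv_eq_iff_eq_mul.1 h3).symm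

/-- In a `p`-solvable realization the automorphisms of a normal subgroup form a `p`-solvable
group. -/
theorem isPSolvable_autGroup [Finite G] (hr : F.IsRealizedBy ι) (hQ : F.IsNormal Q)
    (hs : Cfsg.IsPSolvable p G) : Cfsg.IsPSolvable p (F.autGroup Q) := by
  obtain ⟨ρ, hρ, -⟩ := exists_autGroup_hom hr hQ
  obtain ⟨k, hk⟩ := CfsgLib.PLength.exists_pSeriesLE_of_isPSolvable hs
  haveI : Finite (F.autGroup Q) := Finite.of_surjective ρ hρ
  exact ((hk.subgroup _).of_surjective ρ hρ).isPSolvable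

/-- A model is `p`-solvable if the automorphism group of the core is. -/
theorem isPSolvable_model [Finite S] (h : F.IsModel p G ι)
    (hs : Cfsg.IsPSolvable p (F.autGroup F.core)) : Cfsg.IsPSolvable p G := by
  obtain ⟨hfin, hr, hT, hc⟩ := h
  haveI := hfin
  have hn := normal_of_model hr hT hc (core_isNormal (F := F))
  haveI : (Cfsg.pCore p G).Normal := CfsgLib.Solvable.pCore_normal p G
  obtain ⟨T, hT⟩ := hT
  have hpM : Cfsg.pCore p G ≤ (F.core.subgroupOf S).map ι := by
    have hM : Cfsg.pCore p G ≤ ι.range := hT ▸ pCore_le_sylow T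
    rw [← map_subgroupOf_preimage hM]
    exact Subgroup.map_mono (Subgroup.comap_mono
      (IsNormal.le_core (preimage_isNormal hr inferInstance hM)))
  set N := Subgroup.normalizer (((F.core.subgroupOf S).map ι : Subgroup G) : Set G) with hN
  obtain ⟨ρ, hρ, hker⟩ := exists_autGroup_hom hr (core_isNormal (F := F))
  have hkp : IsPGroup p ρ.ker :=
    ((CfsgLib.Solvable.pCore_isPGroup (G := G) p).to_le
      ((hker.trans (Subgroup.centralizer_le hpM)).trans hc)).of_equiv
      (Subgroup.equivMapOfInjective _ _ N.subtype_injective).symm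
  obtain ⟨k, hk⟩ := CfsgLib.PLength.exists_pSeriesLE_of_isPSolvable hs
  have h1 : CfsgLib.PLength.PSeriesLE p (k + 1) N :=
    CfsgLib.PLength.PSeriesLE.of_quotient_pgroup ρ.ker hkp
      (hk.of_equiv (QuotientGroup.quotientKerEquivOfSurjective ρ hρ).symm)
  exact (h1.of_equiv ((MulEquiv.subgroupCongr (Subgroup.normalizer_eq_top_iff.2 hn)).trans
    Subgroup.topEquiv)).isPSolvable

end CfsgLib.Fusion
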