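import Cfsg.Agent.Lib.Fusion.ConstrainedSubnormal
import Cfsg.Agent.Lib.Fusion.RealizedPSolvable
import Cfsg.Agent.Lib.Fusion.PPowerIndex

/-!
`p`-solvability of automorphism groups in constrained systems: coprime automorphisms trivial on a
centric normal subgroup are trivial.
-/

set_option autoImplicit false
set_option linter.unusedVariables false
set_option linter.unusedSectionVars false
set_option linter.style.haveILetI false

namespace CfsgLib.Fusion

open Cfsg Cfsg.FusionSystem Subgroup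

universe u

section Groups

variable {A : Type*} [Group A] {p : ℕ} [Fact p.Prime]

/-- A homomorphism injective on elements of order prime to `p` into a `p`-solvable group. -/
theorem isPSolvable_of_hom [Finite A] {B : Type*} [Group B] [Finite B] (f : A →* B)
    (hB : Cfsg.IsPSolvable p B) (hker : ∀ a, f a = 1 → (orderOf a).Coprime p → a = 1) :
    Cfsg.IsPSolvable p A := by
  have hp : IsPGroup p f.ker := by
    intro a
    obtain ⟨k, m, hm, ha⟩ := Nat.exists_eq_pow_mul_and_not_dvd (orderOf_pos (a : A)).ne' p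
      (Fact.out : p.Prime).ne_one
    refine ⟨k, Subtype.ext ?_⟩
    rw [Subgroup.coe_pow, Subgroup.coe_one]
    refine hker _ (by rw [map_pow, a.2, one_pow]) ?_
    rw [orderOf_pow' _ (pow_ne_zero k (Fact.out : p.Prime).ne_zero), ha, Nat.gcd_mul_right_left,
      Nat.mul_div_cancel_left _ (pow_pos (Fact.out : p.Prime).pos k)]
    exact Nat.Coprime.symm ((Fact.out : p.Prime).coprime_iff_not_dvd.2 hm)
  obtain ⟨k, hk⟩ := CfsgLib.PLength.exists_pSeriesLE_of_isPSolvable hB
  exact (CfsgLib.PLength.PSeriesLE.of_quotient_pgroup f.ker hp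
    ((hk.subgroup f.range).of_equiv (QuotientGroup.quotientKerEquivRange f).symm)).isPSolvable

/-- A normal `p`-solvable subgroup with all elements of order prime to `p`. -/
theorem isPSolvable_of_coprime_mem [Finite A] (N : Subgroup A) [N.Normal]
    (hN : Cfsg.IsPSolvable p N) (h : ∀ a : A, (orderOf a).Coprime p → a ∈ N) :
    Cfsg.IsPSolvable p A := by
  have hp : IsPGroup p (A ⧸ N) := by
    intro x
    obtain ⟨g, rfl⟩ := QuotientGroup.mk_surjective x
    obtain ⟨k, m, hm, hg⟩ := Nat.exists_eq_pow_mul_and_not_dvd (orderOf_pos g).ne' p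
      (Fact.out : p.Prime).ne_one
    refine ⟨k, ?_⟩
    rw [← QuotientGroup.mk_pow, QuotientGroup.eq_one_iff]
    refine h _ ?_
    rw [orderOf_pow' g (pow_ne_zero k (Fact.out : p.Prime).ne_zero), hg,
      Nat.gcd_mul_right_left, Nat.mul_div_cancel_left _ (pow_pos (Fact.out : p.Prime).pos k)]
    exact Nat.Coprime.symm ((Fact.out : p.Prime).coprime_iff_not_dvd.2 hm)
  obtain ⟨a, ha⟩ := CfsgLib.PLength.exists_pSeriesLE_of_isPSolvable hN
  exact (CfsgLib.PLength.PSeriesLE.of_normal N ha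
    (CfsgLib.PLength.pSeriesLE_one_of_isPGroup hp)).isPSolvable

/-- A normal `p`-solvable subgroup with all elements of `p`-power order. -/
theorem isPSolvable_of_pElements_mem [Finite A] (N : Subgroup A) [N.Normal]
    (hN : Cfsg.IsPSolvable p N) (h : ∀ a : A, (∃ k : ℕ, orderOf a = p ^ k) → a ∈ N) :
    Cfsg.IsPSolvable p A := by
  obtain ⟨W⟩ := (inferInstance : Nonempty (Sylow p A))
  have hW : (W : Subgroup A) ≤ N := fun w hw => by
    obtain ⟨k, hk⟩ := IsPGroup.iff_orderOf.1 W.isPGroup' ⟨w, hw⟩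
    exact h w ⟨k, by rwa [← Subgroup.orderOf_coe] at hk⟩
  have hco : (Nat.card (A ⧸ N)).Coprime p := by
    rw [← Subgroup.index_eq_card]
    exact ((Fact.out : p.Prime).coprime_iff_not_dvd.2 fun hd =>
      W.not_dvd_index (hd.trans (Subgroup.index_dvd_of_le hW))).symm
  obtain ⟨a, ha⟩ := CfsgLib.PLength.exists_pSeriesLE_of_isPSolvable hN
  exact (CfsgLib.PLength.PSeriesLE.of_normal N ha
    (CfsgLib.PLength.pSeriesLE_zero.2 hco)).isPSolvable

/-- A nontrivial `p`-solvable group generated by `p`-elements is not generated by elements of order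
prime to `p`. -/
theorem pResidual_ne_top [Finite A] [Nontrivial A] (hA : Cfsg.IsPSolvable p A)
    (hgen : Subgroup.closure {a : A | ∃ k : ℕ, orderOf a = p ^ k} = ⊤) :
    Cfsg.pResidual p A ≠ ⊤ := by
  obtain ⟨n, H, h0, h1, hmono, hn, hstep⟩ := hA
  intro htop
  suffices h : ∀ i : Fin (n + 1), H i = ⊤ from bot_ne_top (h0.symm.trans (h 0))
  intro i
  induction i using Fin.reverseInduction with
  | last => exact h1
  | cast j ih =>
    haveI := hn j.castSucc
    have hidx : (H j.castSucc).index = (H j.castSucc).relIndex (H j.succ) := by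
      rw [ih, Subgroup.relIndex_top_right]
    have hmem : ∀ a : A, (orderOf a).Coprime (H j.castSucc).index → a ∈ H j.castSucc := fun a ha => by
      have h2 : orderOf (a : A ⧸ H j.castSucc) ∣ (H j.castSucc).index := by
        rw [Subgroup.index_eq_card]
        exact orderOf_dvd_natCard _
      exact (QuotientGroup.eq_one_iff a).1 (orderOf_eq_one_iff.1 (Nat.eq_one_of_dvd_coprimes ha
        (orderOf_map_dvd (QuotientGroup.mk' (H j.castSucc)) a) h2))
    rcases hstep j with ⟨m, hm⟩ | hm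
    · rw [eq_top_iff, ← htop]
      refine (Subgroup.closure_le _).2 fun a ha => hmem a ?_
      rw [hidx, hm]
      exact Nat.Coprime.pow_right m ha
    · rw [eq_top_iff, ← hgen]
      refine (Subgroup.closure_le _).2 ?_
      rintro a ⟨k, hk⟩
      refine hmem a ?_
      rw [hidx, hk]
      exact Nat.Coprime.pow_left k hm.symm

end Groups

/-- A coprime automorphism of a finite `p`-group trivial on `Y` and modulo `Y` is trivial. -/
theorem eq_one_of_coprime_stab {X : Type*} [Group X] [Finite X] {p : ℕ} (hX : IsPGroup p X)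
    (Y : Subgroup X) {β : MulAut X} (hc : (orderOf β).Coprime p) (hfix : ∀ y ∈ Y, β y = y)
    (hmod : ∀ x : X, x⁻¹ * β x ∈ Y) : β = 1 := by
  refine MulEquiv.ext fun x => ?_
  set d := x⁻¹ * β x with hd
  have h1 : (β ^ orderOf β) x = x * d ^ orderOf β :=
    pow_apply_of_fixed (mul_inv_cancel_left x (β x)).symm (hfix _ (hmod x)) _
  rw [pow_orderOf_eq_one, MulAut.one_apply, left_eq_mul] at h1
  obtain ⟨k, hk⟩ := hX d
  have h2 : d = 1 := orderOf_eq_one_iff.1 (Nat.eq_one_of_dvd_coprimes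
    ((hc.pow_right k).symm) (orderOf_dvd_of_pow_eq_one hk) (orderOf_dvd_of_pow_eq_one h1))
  rw [MulAut.one_apply]
  exact (inv_mul_eq_one.1 (hd ▸ h2)).symm

variable {Ω : Type u} [Group Ω] {S : Subgroup Ω} {F : FusionSystem S} {p : ℕ} [Fact p.Prime]
  [Finite S] {P Q W X : Subgroup Ω}

/-- An automorphism of `X` as a map, and the subgroup it induces on an invariant `Y`. -/
theorem exists_restrict_hom {R : Subgroup Ω} (hR : R ≤ S) (hQR : Q ≤ R) (K : Subgroup (MulAut R))
    (hK : K ≤ F.autGroup R) (hinv : ∀ α ∈ K, ∀ x : R, (x : Ω) ∈ Q → ((α x : R) : Ω) ∈ Q) :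
    ∃ ρ : K →* F.autGroup Q, ∀ (α : K) (y : Q),
      (((ρ α : MulAut Q) y : Q) : Ω) = (((α : MulAut R) ⟨y, hQR y.2⟩ : R) : Ω) := by
  haveI := finite_of_le hR
  haveI : Finite Q := finite_of_le (hQR.trans hR)
  have hQS := hQR.trans hR
  have key : ∀ α : K, ∃ β : F.autGroup Q, ∀ y : Q,
      (((β : MulAut Q) y : Q) : Ω) = (((α : MulAut R) ⟨y, hQR y.2⟩ : R) : Ω) := fun α => by
    have hm := (isMap_of_autGroup hR (hK α.2)).mono hQR
    have hi : img Q (toFun (R.subtype.comp (α : MulAut R).toMonoidHom)) = Q := by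
      refine eq_of_le_of_card_le (fun y hy => ?_) hm.card_img.ge
      obtain ⟨x, hx, rfl⟩ := hm.mem_img.1 hy
      rw [toFun_aut_apply _ (hQR hx)]
      exact hinv _ α.2 ⟨x, hQR hx⟩ hx
    refine ⟨⟨hm.toAut hi, hm.toAut_mem hi⟩, fun y => ?_⟩
    rw [IsMap.toAut_apply, toFun_aut_apply _ (hQR y.2)]
  choose ρ hρ using key
  refine ⟨MonoidHom.mk' ρ fun α β => Subtype.ext (MulEquiv.ext fun y => Subtype.ext ?_), hρ⟩
  rw [hρ, Subgroup.coe_mul, Subgroup.coe_mul, MulAut.mul_apply, MulAut.mul_apply, hρ]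
  congr 2
  exact Subtype.ext (hρ β y).symm

/-- Extensions of automorphisms through a normal subgroup. -/
theorem exists_sup_aut (hQ : F.IsNormal Q) (hP : P ≤ S) {α : MulAut P} (hα : α ∈ F.autGroup P) :
    ∃ β ∈ F.autGroup (P ⊔ Q), (∀ x : P, ((β ⟨x, mem_sup_left x.2⟩ : ↥(P ⊔ Q)) : Ω) = α x) ∧
      ∀ y : ↥(P ⊔ Q), (y : Ω) ∈ Q → ((β y : ↥(P ⊔ Q)) : Ω) ∈ Q := by
  obtain ⟨g, hg, hgx, hgQ⟩ := (isNormal_iff.1 hQ).2 P _ (isMap_of_autGroup hP hα)
  have hi : img (P ⊔ Q) g = P ⊔ Q := by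
    rw [hg.img_sup le_sup_left le_sup_right, hgQ]
    congr 1
    exact (img_congr hgx).trans (img_toFun_aut α)
  refine ⟨hg.toAut hi, hg.toAut_mem hi, fun x => ?_, fun y hy => ?_⟩
  · rw [IsMap.toAut_apply, hgx x x.2, toFun_aut_apply _ x.2]
  · rw [IsMap.toAut_apply]
    exact hgQ.le ((hg.mono le_sup_right).apply_mem_img hy)

variable (hS : IsPGroup p S)

include hS

/-- With a centric normal `Q`: if `Aut_F(Q)` is `p`-solvable, so is every `Aut_F(P)`. -/
theorem isPSolvable_autGroup_of_normal (hQ : F.IsNormal Q) (hCQ : centralizerIn S Q ≤ Q)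
    (hs : Cfsg.IsPSolvable p (F.autGroup Q)) (hP : P ≤ S) : Cfsg.IsPSolvable p (F.autGroup P) := by
  set R := P ⊔ Q with hR
  have hRS : R ≤ S := sup_le hP hQ.1
  haveI := finite_of_le hRS
  haveI := finite_of_le hQ.1
  haveI := finite_of_le hP
  have hsc := IsNormal.stronglyClosed hQ
  have hQinv : ∀ α ∈ F.autGroup R, ∀ x : R, (x : Ω) ∈ Q → ((α x : R) : Ω) ∈ Q := fun α hα x hx => by
    have := StronglyClosed.apply_mem hsc (isMap_of_autGroup hRS hα) x.2 hx
    rwa [toFun_aut_apply _ x.2] at this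
  let K : Subgroup (MulAut R) :=
    { carrier := {α | α ∈ F.autGroup R ∧ ∀ x : R, (x : Ω) ∈ P ↔ ((α x : R) : Ω) ∈ P}
      one_mem' := ⟨one_mem _, fun x => Iff.rfl⟩
      mul_mem' := fun {α β} hα hβ => ⟨mul_mem hα.1 hβ.1, fun x => (hβ.2 x).trans (hα.2 _)⟩
      inv_mem' := fun {α} hα => ⟨inv_mem hα.1, fun x => by
        rw [hα.2 (α⁻¹ x), MulAut.apply_inv_self]⟩ }
  obtain ⟨ρ, hρ⟩ := exists_restrict_hom hRS le_sup_right K (fun α hα => hα.1)
    fun α hα => hQinv α hα.1
  obtain ⟨σ, hσ⟩ := exists_restrict_hom hRS le_sup_left K (fun α hα => hα.1)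
    fun α hα x hx => (hα.2 x).1 hx
  have hK : Cfsg.IsPSolvable p K := isPSolvable_of_hom ρ hs fun α hα hc => by
    refine Subtype.ext (eq_one_of_coprime_stab (hS.to_le hRS) (Q.subgroupOf R)
      (by rw [Subgroup.orderOf_coe]; exact hc) (fun y hy => Subtype.ext ?_) fun x => ?_)
    · have := hρ α ⟨y, hy⟩
      rw [hα] at this
      exact this.symm
    · have hm := isMap_of_autGroup hRS α.2.1
      have hval : ∀ z : R, toFun (R.subtype.comp (α : MulAut R).toMonoidHom) z =
          (((α : MulAut R) z : R) : Ω) := fun z => toFun_aut_apply _ z.2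
      show (x : Ω)⁻¹ * (((α : MulAut R) x : R) : Ω) ∈ Q
      refine hCQ ⟨S.mul_mem (S.inv_mem (hRS x.2)) (hRS ((α : MulAut R) x).2), fun q hq => ?_⟩
      have hfixQ : ∀ z ∈ Q, ∀ hz : z ∈ R, (((α : MulAut R) ⟨z, hz⟩ : R) : Ω) = z := fun z hz hzR => by
        have := hρ α ⟨z, hz⟩
        rw [hα] at this
        exact this.symm
      have hxq : (x : Ω) * q * (x : Ω)⁻¹ ∈ Q := StronglyClosed.conj_mem hsc (hRS x.2) hq
      have e : (⟨_, mem_sup_right hxq⟩ : R) = x * ⟨q, mem_sup_right hq⟩ * x⁻¹ := Subtype.ext rfl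
      have h3 : ((((α : MulAut R) x : R) : Ω)) * q * (((α : MulAut R) x : R) : Ω)⁻¹ =
          (x : Ω) * q * (x : Ω)⁻¹ := by
        have h2 := hfixQ _ hxq (mem_sup_right hxq)
        rw [e, map_mul, map_mul, map_inv, Subgroup.coe_mul, Subgroup.coe_mul, Subgroup.coe_inv,
          hfixQ q hq] at h2
        exact h2
      calc q * ((x : Ω)⁻¹ * (((α : MulAut R) x : R) : Ω))
          = (x : Ω)⁻¹ * ((x : Ω) * q * (x : Ω)⁻¹) * (((α : MulAut R) x : R) : Ω) := by group
        _ = (x : Ω)⁻¹ * ((((α : MulAut R) x : R) : Ω) * q * (((α : MulAut R) x : R) : Ω)⁻¹) *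
            (((α : MulAut R) x : R) : Ω) := by rw [h3]
        _ = (x : Ω)⁻¹ * (((α : MulAut R) x : R) : Ω) * q := by group
  have hσsurj : Function.Surjective σ := fun γ => by
    obtain ⟨β, hβ, hβx, -⟩ := exists_sup_aut hQ hP γ.2
    refine ⟨⟨β, hβ, fun x => ⟨fun hx => ?_, fun hx => ?_⟩⟩, Subtype.ext (MulEquiv.ext fun y =>
      Subtype.ext ?_)⟩
    · rw [show x = ⟨(x : Ω), mem_sup_left hx⟩ from rfl, hβx ⟨x, hx⟩]
      exact ((γ : MulAut P) _).2
    · obtain ⟨y, hy⟩ := (γ : MulAut P).surjective ⟨_, hx⟩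
      have h1 := hβx y
      rw [hy] at h1
      rw [← β.injective (Subtype.ext h1)]
      exact y.2
    · rw [hσ]
      exact hβx y
  obtain ⟨k, hk⟩ := CfsgLib.PLength.exists_pSeriesLE_of_isPSolvable hK
  exact (hk.of_surjective σ hσsurj).isPSolvable

end CfsgLib.Fusion
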