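import Cfsg.Agent.Lib.Fusion.Basic
import Mathlib.GroupTheory.Sylow
import Mathlib.GroupTheory.Nilpotent
import Mathlib.Data.Nat.ChineseRemainder

/-!
Saturated fusion systems: the theorem of Roberts and Shpectorov (fully automized + receptive versus
the Sylow and extension axioms).
-/

set_option autoImplicit false
set_option linter.style.haveILetI false
set_option linter.unusedVariables false

namespace CfsgLib.Fusion

open Cfsg Cfsg.FusionSystem Subgroup

variable {Ω : Type*} [Group Ω] {S : Subgroup Ω} {F : FusionSystem S}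
  {P Q R N : Subgroup Ω} {f g : Ω → Ω} {p : ℕ}

theorem le_normalizerIn (hP : P ≤ S) : P ≤ normalizerIn S P :=
  le_inf hP Subgroup.le_normalizer

theorem centralizerIn_le_normalizerIn : centralizerIn S P ≤ normalizerIn S P :=
  le_inf inf_le_left
    (inf_le_right.trans (Subgroup.centralizer_le_normalizer (s := (P : Set Ω))))

theorem finite_normalizerIn [Finite S] : Finite (normalizerIn S P) := finite_of_le inf_le_left

theorem finite_centralizerIn [Finite S] : Finite (centralizerIn S P) := finite_of_le inf_le_left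

theorem isPGroup_autInducedBy (hS : IsPGroup p S) (P : Subgroup Ω) :
    IsPGroup p (autInducedBy S P) := by
  rw [autInducedBy_eq_map]
  refine IsPGroup.map ?_ _
  exact (hS.to_le (inf_le_left (b := Subgroup.normalizer (P : Set Ω)))).of_equiv
    (Subgroup.subgroupOfEquivOfLe inf_le_right).symm

theorem lt_normalizerIn [Fact p.Prime] [Finite S] (hS : IsPGroup p S) (hPS : P < S) :
    P < normalizerIn S P := by
  haveI := hS.isNilpotent
  have h : P.subgroupOf S < ⊤ := by
    rw [lt_top_iff_ne_top, Ne, Subgroup.subgroupOf_eq_top]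
    exact hPS.not_ge
  obtain ⟨x, hx1, hx2⟩ := SetLike.exists_of_lt (Group.normalizerCondition_of_isNilpotent _ h)
  refine lt_of_le_of_ne (le_normalizerIn hPS.le) fun he => hx2 ?_
  have : (x : Ω) ∈ normalizerIn S P := by
    refine ⟨x.2, fun n => ⟨fun hn => ?_, fun hn => ?_⟩⟩
    · exact ((Subgroup.mem_normalizer_iff.1 hx1) ⟨n, hPS.le hn⟩).1 hn
    · have hnS : n ∈ S := by
        have := S.mul_mem (S.mul_mem (S.inv_mem x.2) (hPS.le hn)) x.2
        simpa [mul_assoc] using this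
      exact ((Subgroup.mem_normalizer_iff.1 hx1) ⟨n, hnS⟩).2 hn
  rw [← he] at this
  exact this

theorem finite_isConj [Finite S] (F : FusionSystem S) (P : Subgroup Ω) :
    {Q : Subgroup Ω | F.IsConj P Q}.Finite :=
  (finite_subgroups_le S).subset fun _ hQ => isConj_le_right hQ

theorem exists_fullyNormalized_conj [Finite S] (F : FusionSystem S) (hP : P ≤ S) :
    ∃ Q, F.IsConj P Q ∧ F.IsFullyNormalized Q := by
  obtain ⟨Q, hQ, hmax⟩ := Set.exists_max_image _ (fun Q => Nat.card (normalizerIn S Q))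
    (finite_isConj F P) ⟨P, isConj_refl hP⟩
  exact ⟨Q, hQ, isConj_le_right hQ, fun R hR => hmax R (isConj_trans hQ hR)⟩

theorem exists_fullyCentralized_conj [Finite S] (F : FusionSystem S) (hP : P ≤ S) :
    ∃ Q, F.IsConj P Q ∧ F.IsFullyCentralized Q := by
  obtain ⟨Q, hQ, hmax⟩ := Set.exists_max_image _ (fun Q => Nat.card (centralizerIn S Q))
    (finite_isConj F P) ⟨P, isConj_refl hP⟩
  exact ⟨Q, hQ, isConj_le_right hQ, fun R hR => hmax R (isConj_trans hQ hR)⟩

/-! ### Images of normalizing and centralizing elements -/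

theorem IsMap.apply_mem_normalizerIn (h : IsMap F N f) (hP : P ≤ N) {a : Ω} (ha : a ∈ N)
    (han : a ∈ Subgroup.normalizer (P : Set Ω)) :
    f a ∈ normalizerIn S (img P f) := by
  refine ⟨h.mem ha, fun y => ⟨fun hy => ?_, fun hy => ?_⟩⟩
  · obtain ⟨x, hx, rfl⟩ := (h.mono hP).mem_img.1 hy
    rw [← h.map_conj ha (hP hx)]
    exact (h.mono hP).apply_mem_img ((han x).1 hx)
  · obtain ⟨x, hx, hxy⟩ := (h.mono hP).mem_img.1 hy
    have hx' : a⁻¹ * x * a ∈ P := (Subgroup.mem_normalizer_iff''.1 han x).1 hx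
    have : f (a⁻¹ * x * a) = y := by
      have h1 := h.map_conj (N.inv_mem ha) (hP hx)
      rw [inv_inv, h.map_inv ha, inv_inv, hxy] at h1
      rw [h1]
      group
    exact this ▸ (h.mono hP).apply_mem_img hx'

theorem IsMap.apply_mem_centralizerIn (h : IsMap F N f) (hP : P ≤ N) {a : Ω} (ha : a ∈ N)
    (hac : a ∈ Subgroup.centralizer (P : Set Ω)) :
    f a ∈ centralizerIn S (img P f) := by
  refine ⟨h.mem ha, fun y hy => ?_⟩
  obtain ⟨x, hx, rfl⟩ := (h.mono hP).mem_img.1 hy
  rw [← h.map_mul (hP hx) ha, ← h.map_mul ha (hP hx), hac x hx]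

theorem IsMap.mem_centralizer_of_apply (h : IsMap F N f) (hP : P ≤ N) {a : Ω} (ha : a ∈ N)
    (hac : f a ∈ Subgroup.centralizer (img P f : Set Ω)) :
    a ∈ Subgroup.centralizer (P : Set Ω) := by
  intro x hx
  apply h.inj (N.mul_mem (hP hx) ha) (N.mul_mem ha (hP hx))
  rw [h.map_mul (hP hx) ha, h.map_mul ha (hP hx)]
  exact hac (f x) ((h.mono hP).apply_mem_img hx)

theorem sup_centralizerIn_le_extender (h : IsMap F P f) {φ : P →* Ω} (hφ : ∀ x : P, φ x = f x) :
    P ⊔ centralizerIn S P ≤ extender S P φ := by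
  refine sup_le (fun a ha => ?_) (fun a ha => ?_)
  · exact (mem_extender_iff h hφ).2
      ⟨h.le ha, Subgroup.le_normalizer ha, _, h.mem ha, fun x hx => h.map_conj ha hx⟩
  · refine (mem_extender_iff h hφ).2
      ⟨ha.1, (centralizerIn_le_normalizerIn ha).2, 1, S.one_mem, fun x hx => ?_⟩
    rw [← ha.2 x hx, mul_inv_cancel_right]
    simp

/-- Extension to `P C_S(P)` of a map onto a receptive subgroup. -/
theorem receptive_extend_centralizer (hQ : F.IsReceptive Q) (h : IsMap F P f) (hi : img P f = Q) :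
    ∃ g, IsMap F (P ⊔ centralizerIn S P) g ∧ (∀ x ∈ P, g x = f x) :=
  receptive_extend hQ h hi le_sup_left fun _ ha =>
    (mem_extender_iff h fun _ => rfl).1
      (sup_centralizerIn_le_extender h (φ := h.toHom) (fun _ => rfl) ha)

theorem receptive_fullyCentralized [Finite S] (hQ : F.IsReceptive Q) : F.IsFullyCentralized Q := by
  refine ⟨hQ.1, fun R hR => ?_⟩
  obtain ⟨f, hf, hi⟩ := isConj_iff.1 (isConj_symm hR)
  obtain ⟨g, hg, hgx⟩ := receptive_extend_centralizer hQ hf hi
  have hgi : img R g = Q := (img_congr hgx).trans hi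
  haveI := finite_centralizerIn (S := S) (P := Q)
  refine Nat.card_le_card_of_injective (fun a : centralizerIn S R => (⟨g a, hgi ▸
    hg.apply_mem_centralizerIn le_sup_left (Subgroup.mem_sup_right a.2) a.2.2⟩ :
      centralizerIn S Q)) fun a b hab => ?_
  exact Subtype.ext (hg.inj (Subgroup.mem_sup_right a.2) (Subgroup.mem_sup_right b.2)
    (congrArg Subtype.val hab))

/-! ### Sylow conjugation inside an automorphism group -/

theorem exists_conj_le_autInducedBy [Fact p.Prime] [Finite S] (hQ : F.IsFullyAutomized p Q)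
    (K : Subgroup (MulAut Q)) (hK : IsPGroup p K) (hle : K ≤ F.autGroup Q) :
    ∃ β ∈ F.autGroup Q, ∀ κ ∈ K, β * κ * β⁻¹ ∈ autInducedBy S Q := by
  haveI := finite_of_le hQ.1
  obtain ⟨T, hT⟩ := hQ.2
  obtain ⟨T', hT'⟩ := (hK.of_equiv (Subgroup.subgroupOfEquivOfLe hle).symm).exists_le_sylow
  obtain ⟨b, hb⟩ := MulAction.exists_smul_eq (F.autGroup Q) T' T
  refine ⟨b, b.2, fun κ hκ => ?_⟩
  have h1 : b * ⟨κ, hle hκ⟩ * b⁻¹ ∈ (T : Subgroup (F.autGroup Q)) := by
    rw [← hb, Sylow.coe_subgroup_smul, Subgroup.mem_pointwise_smul_iff_inv_smul_mem]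
    have h2 : (MulAut.conj b)⁻¹ • (b * ⟨κ, hle hκ⟩ * b⁻¹) = ⟨κ, hle hκ⟩ := by
      rw [MulAut.smul_def, MulAut.conj_inv_apply]
      group
    rw [h2]
    exact hT' hκ
  rw [hT] at h1
  exact h1

theorem exists_sylow_eq [Fact p.Prime] {G : Type*} [Group G] [Finite G] {H : Subgroup G}
    {T : Sylow p G} (h : Nat.card H = Nat.card (T : Subgroup G)) :
    ∃ T' : Sylow p G, (T' : Subgroup G) = H :=
  ⟨Sylow.ofCard H (h.trans T.card_eq_multiplicity), Sylow.coe_ofCard _ _⟩

/-- A conjugate of a fully automized receptive subgroup maps into it together with its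
normalizer. -/
theorem exists_map_normalizerIn [Fact p.Prime] [Finite S] (hS : IsPGroup p S)
    (ha : F.IsFullyAutomized p Q) (hr : F.IsReceptive Q) (hf : IsMap F R f) (hi : img R f = Q) :
    ∃ ψ, IsMap F (normalizerIn S R) ψ ∧ img R ψ = Q ∧
      (∀ a ∈ normalizerIn S R, ψ a ∈ normalizerIn S Q) ∧
      ∃ β ∈ F.autGroup Q, ∀ x ∈ R, ∀ hx : f x ∈ Q, ψ x = ((β ⟨f x, hx⟩ : Q) : Ω) := by
  subst hi
  obtain ⟨β, hβ, hconj⟩ := exists_conj_le_autInducedBy ha
    ((autInducedBy S R).map (MulAut.congr hf.equivImg).toMonoidHom)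
    ((isPGroup_autInducedBy hS R).map _)
    (hf.map_autGroup ▸ Subgroup.map_mono (autInducedBy_le_autGroup hf.le))
  have hb := isMap_of_autGroup ha.1 hβ
  have hmem : ∀ x ∈ R, f x ∈ img R f := fun x hx => hf.apply_mem_img hx
  have hcomp := hf.comp hb hmem
  have hci : img R (fun x => toFun ((img R f).subtype.comp β.toMonoidHom) (f x)) = img R f := by
    rw [img_comp_eq hf hb hmem, img_toFun_aut]
  obtain ⟨ψ, hψ, hψx⟩ := receptive_extend hr hcomp hci (le_normalizerIn hf.le) fun a ha' => by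
    refine ⟨ha'.1, ha'.2, ?_⟩
    let κ : MulAut R := R.normalizerMonoidHom ⟨a, ha'.2⟩
    have hκ : κ ∈ autInducedBy S R := mem_autInducedBy_iff.2 ⟨a, ha'.1, fun x => rfl⟩
    obtain ⟨b, hbS, hbx⟩ := mem_autInducedBy_iff.1 (hconj _ ⟨κ, hκ, rfl⟩)
    refine ⟨b, hbS, fun x hx => ?_⟩
    have h1 := hbx (β ⟨f x, hmem x hx⟩)
    rw [toFun_aut_apply _ (hmem x hx), toFun_aut_apply _ (hmem _ ((ha'.2 x).1 hx)), ← h1]
    rw [MulAut.mul_apply, MulAut.mul_apply, MulAut.inv_apply_self]
    congr 2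
    apply Subtype.ext
    show f (a * x * a⁻¹) = f ((κ (hf.equivImg.symm ⟨f x, hmem x hx⟩) : R) : Ω)
    have h3 : hf.equivImg.symm ⟨f x, hmem x hx⟩ = ⟨x, hx⟩ := by
      rw [MulEquiv.symm_apply_eq]
      exact Subtype.ext (hf.coe_equivImg ⟨x, hx⟩).symm
    rw [h3]
    rfl
  have hψi : img R ψ = img R f := (img_congr hψx).trans hci
  refine ⟨ψ, hψ, hψi, fun a ha' => ?_, β, hβ, fun x hx hx' => ?_⟩
  · rw [← hψi]
    exact hψ.apply_mem_normalizerIn (le_normalizerIn hf.le) ha' ha'.2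
  · rw [hψx x hx, toFun_aut_apply _ hx']

theorem fullyNormalized_of_automized_receptive [Fact p.Prime] [Finite S] (hS : IsPGroup p S)
    (ha : F.IsFullyAutomized p Q) (hr : F.IsReceptive Q) : F.IsFullyNormalized Q := by
  refine ⟨hr.1, fun R hR => ?_⟩
  obtain ⟨f, hf, hi⟩ := isConj_iff.1 (isConj_symm hR)
  obtain ⟨ψ, hψ, -, hψN, -⟩ := exists_map_normalizerIn hS ha hr hf hi
  haveI := finite_normalizerIn (S := S) (P := Q)
  refine Nat.card_le_card_of_injective (fun a : normalizerIn S R =>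
    (⟨ψ a, hψN a a.2⟩ : normalizerIn S Q)) fun a b hab => ?_
  exact Subtype.ext (hψ.inj a.2 b.2 (congrArg Subtype.val hab))

/-! ### Consequences of saturation -/

section Saturated

variable [Fact p.Prime] [Finite S] (hS : IsPGroup p S) (hF : F.IsSaturated p)
include hS hF

theorem fullyCentralized_of_fullyNormalized (hQ : F.IsFullyNormalized Q) :
    F.IsFullyCentralized Q := by
  obtain ⟨R, hQR, ha, hr⟩ := hF Q hQ.1
  obtain ⟨f, hf, hi⟩ := isConj_iff.1 hQR
  obtain ⟨ψ, hψ, hψi, hψN, -⟩ := exists_map_normalizerIn hS ha hr hf hi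
  haveI := finite_normalizerIn (S := S) (P := R)
  haveI := finite_centralizerIn (S := S) (P := Q)
  have hN : img (normalizerIn S Q) ψ = normalizerIn S R := by
    refine eq_of_le_of_card_le (fun y hy => ?_) ?_
    · obtain ⟨x, hx, rfl⟩ := hψ.mem_img.1 hy
      exact hψN x hx
    · rw [hψ.card_img]
      exact hQ.2 R hQR
  refine ⟨hQ.1, fun T hT => le_trans
    ((receptive_fullyCentralized hr).2 T (isConj_trans (isConj_symm hQR) hT)) ?_⟩
  have hC : ∀ c : centralizerIn S R, ∃ a : centralizerIn S Q, ψ a = c := fun c => by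
    have hc : (c : Ω) ∈ img (normalizerIn S Q) ψ := hN ▸ centralizerIn_le_normalizerIn c.2
    obtain ⟨a, ha', hac⟩ := hψ.mem_img.1 hc
    refine ⟨⟨a, ha'.1, hψ.mem_centralizer_of_apply (le_normalizerIn hQ.1) ha' ?_⟩, hac⟩
    rw [hψi, hac]
    exact c.2.2
  choose m hm using hC
  refine Nat.card_le_card_of_injective m fun c d hcd => ?_
  exact Subtype.ext ((hm c).symm.trans ((congrArg (fun a => ψ (Subtype.val a)) hcd).trans (hm d)))

theorem fullyAutomized_of_fullyNormalized (hQ : F.IsFullyNormalized Q) :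
    F.IsFullyAutomized p Q := by
  obtain ⟨R, hQR, ha, hr⟩ := hF Q hQ.1
  haveI := finite_of_le hQ.1
  obtain ⟨T, hT⟩ := ha.2
  haveI := finite_of_le (isConj_le_right hQR)
  have hcC : Nat.card (centralizerIn S Q) = Nat.card (centralizerIn S R) :=
    le_antisymm ((receptive_fullyCentralized hr).2 Q (isConj_symm hQR))
      ((fullyCentralized_of_fullyNormalized hS hF hQ).2 R hQR)
  have hcN : Nat.card (normalizerIn S Q) = Nat.card (normalizerIn S R) :=
    le_antisymm ((fullyNormalized_of_automized_receptive hS ha hr).2 Q (isConj_symm hQR))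
      (hQ.2 R hQR)
  have hcA : Nat.card (autInducedBy S Q) = Nat.card (autInducedBy S R) := by
    rw [card_normalizerIn_eq, card_normalizerIn_eq, hcC] at hcN
    haveI := finite_centralizerIn (S := S) (P := R)
    exact Nat.eq_of_mul_eq_mul_left Nat.card_pos hcN
  obtain ⟨T₀⟩ := (inferInstance : Nonempty (Sylow p (F.autGroup Q)))
  refine ⟨hQ.1, exists_sylow_eq (T := T₀) ?_⟩
  rw [Nat.card_congr (Subgroup.subgroupOfEquivOfLe (autInducedBy_le_autGroup hQ.1)).toEquiv, hcA,
    T₀.card_eq_multiplicity, ← isConj_card_autGroup hQR, ← T.card_eq_multiplicity, hT,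
    Nat.card_congr (Subgroup.subgroupOfEquivOfLe
      (autInducedBy_le_autGroup (isConj_le_right hQR))).toEquiv]

theorem receptive_of_fullyCentralized (hQ : F.IsFullyCentralized Q) : F.IsReceptive Q := by
  obtain ⟨R, hQR, ha, hr⟩ := hF Q hQ.1
  obtain ⟨f₀, hf₀, hi₀⟩ := isConj_iff.1 hQR
  obtain ⟨ψ, hψ, hψi, hψN, -⟩ := exists_map_normalizerIn hS ha hr hf₀ hi₀
  have hQN := le_normalizerIn hQ.1
  haveI := finite_centralizerIn (S := S) (P := R)
  haveI := finite_of_le hQ.1
  have hCimg : img (centralizerIn S Q) ψ = centralizerIn S R := by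
    refine eq_of_le_of_card_le (fun y hy => ?_) ?_
    · obtain ⟨x, hx, rfl⟩ := (hψ.mono centralizerIn_le_normalizerIn).mem_img.1 hy
      exact hψi ▸ hψ.apply_mem_centralizerIn hQN (centralizerIn_le_normalizerIn hx) hx.2
    · rw [(hψ.mono centralizerIn_le_normalizerIn).card_img]
      exact hQ.2 R hQR
  refine receptive_of_extend hQ.1 fun P f hf hi N hPN hN => ?_
  have hmem : ∀ x ∈ P, f x ∈ Q := fun x hx => hi ▸ hf.apply_mem_img hx
  have hmemN : ∀ x ∈ P, f x ∈ normalizerIn S Q := fun x hx => hQN (hmem x hx)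
  have hcomp := hf.comp hψ hmemN
  have hci : img P (fun x => ψ (f x)) = R := by
    rw [img_comp_eq hf hψ hmemN, hi, hψi]
  have hb : ∀ a ∈ N, ∃ b ∈ normalizerIn S Q, ∀ x ∈ P, f (a * x * a⁻¹) = b * f x * b⁻¹ :=
    fun a haN => by
      obtain ⟨-, han, b, hbS, hbx⟩ := hN a haN
      haveI : Finite (Q : Set Ω) := inferInstanceAs (Finite Q)
      refine ⟨b, ⟨hbS, Subgroup.mem_normalizer_fintype fun y hy => ?_⟩, hbx⟩
      obtain ⟨x, hx, rfl⟩ := hf.mem_img.1 (hi.symm ▸ hy : y ∈ img P f)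
      rw [← hbx x hx]
      exact hmem _ ((han x).1 hx)
  obtain ⟨χ, hχ, hχx⟩ := receptive_extend hr hcomp hci hPN fun a haN => by
    obtain ⟨haS, han, -⟩ := hN a haN
    obtain ⟨b, hbN, hbx⟩ := hb a haN
    refine ⟨haS, han, ψ b, hψ.mem hbN, fun x hx => ?_⟩
    rw [hbx x hx, hψ.map_conj hbN (hmemN x hx)]
  have hmem2 : ∀ a ∈ N, χ a ∈ img (normalizerIn S Q) ψ := fun a haN => by
    obtain ⟨haS, han, -⟩ := hN a haN
    obtain ⟨b, hbN, hbx⟩ := hb a haN
    have hc : (ψ b)⁻¹ * χ a ∈ centralizerIn S R := by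
      refine ⟨S.mul_mem (S.inv_mem (hψ.mem hbN)) (hχ.mem haN), fun y hy => ?_⟩
      obtain ⟨x, hx, rfl⟩ := hcomp.mem_img.1 (hci.symm ▸ hy)
      show ψ (f x) * ((ψ b)⁻¹ * χ a) = (ψ b)⁻¹ * χ a * ψ (f x)
      have h1 : χ a * ψ (f x) * (χ a)⁻¹ = ψ b * ψ (f x) * (ψ b)⁻¹ := by
        rw [← hχx x hx, ← hχ.map_conj haN (hPN hx), hχx _ ((han x).1 hx), hbx x hx,
          hψ.map_conj hbN (hmemN x hx), hχx x hx]
      have h2 : χ a * ψ (f x) = ψ b * ψ (f x) * (ψ b)⁻¹ * χ a := by
        rw [← h1, inv_mul_cancel_right]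
      rw [mul_assoc (ψ b)⁻¹ (χ a), h2]
      group
    rw [← hCimg] at hc
    have hc' := img_mono centralizerIn_le_normalizerIn hc
    simpa using mul_mem (hψ.apply_mem_img hbN) hc'
  obtain ⟨g, hg, hgx, -, -⟩ := hψ.exists_inv
  exact ⟨_, hχ.comp hg hmem2, fun x hx => by rw [hχx x hx, hgx _ (hmemN x hx)]⟩

theorem receptive_of_fullyNormalized (hQ : F.IsFullyNormalized Q) : F.IsReceptive Q :=
  receptive_of_fullyCentralized hS hF (fullyCentralized_of_fullyNormalized hS hF hQ)

/-- A map onto a fully normalized subgroup, defined on the normalizer of the source. -/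
theorem exists_map_normalizerIn_of_fullyNormalized (hQ : F.IsFullyNormalized Q)
    (hR : F.IsConj R Q) :
    ∃ ψ, IsMap F (normalizerIn S R) ψ ∧ img R ψ = Q ∧
      ∀ a ∈ normalizerIn S R, ψ a ∈ normalizerIn S Q := by
  obtain ⟨f, hf, hi⟩ := isConj_iff.1 hR
  obtain ⟨ψ, h1, h2, h3, -⟩ := exists_map_normalizerIn hS
    (fullyAutomized_of_fullyNormalized hS hF hQ) (receptive_of_fullyNormalized hS hF hQ) hf hi
  exact ⟨ψ, h1, h2, h3⟩

theorem centric_of_fullyCentralized (hQ : F.IsFullyCentralized Q) (hC : centralizerIn S Q ≤ Q) :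
    F.IsCentric Q := by
  refine ⟨hQ.1, fun R hR a ha => ?_⟩
  obtain ⟨f, hf, hi⟩ := isConj_iff.1 (isConj_symm hR)
  obtain ⟨g, hg, hgx⟩ := receptive_extend_centralizer (receptive_of_fullyCentralized hS hF hQ) hf hi
  have hgi : img R g = Q := (img_congr hgx).trans hi
  have h1 := hC (hgi ▸ hg.apply_mem_centralizerIn le_sup_left (Subgroup.mem_sup_right ha) ha.2)
  rw [← hgi] at h1
  obtain ⟨x, hx, hxa⟩ := (hg.mono le_sup_left).mem_img.1 h1
  exact hg.inj (Subgroup.mem_sup_left hx) (Subgroup.mem_sup_right ha) hxa ▸ hx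

end Saturated

theorem centric_fullyCentralized [Finite S] (hQ : F.IsCentric Q) : F.IsFullyCentralized Q := by
  refine ⟨hQ.1, fun R hR => ?_⟩
  obtain ⟨f, hf, rfl⟩ := isConj_iff.1 hR
  haveI := finite_centralizerIn (S := S) (P := Q)
  have h : ∀ c : centralizerIn S (img Q f), ∃ x : centralizerIn S Q, f x = c := fun c => by
    obtain ⟨x, hx, hxc⟩ := hf.mem_img.1 (hQ.2 _ hR c.2)
    exact ⟨⟨x, hQ.1 hx, hf.mem_centralizer_of_apply le_rfl hx (hxc ▸ c.2.2)⟩, hxc⟩
  choose m hm using h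
  refine Nat.card_le_card_of_injective m fun c d hcd => ?_
  exact Subtype.ext ((hm c).symm.trans ((congrArg (fun a => f (Subtype.val a)) hcd).trans (hm d)))

theorem centric_of_isConj (hQ : F.IsCentric Q) (h : F.IsConj Q R) : F.IsCentric R :=
  ⟨isConj_le_right h, fun T hT => hQ.2 T (isConj_trans h hT)⟩

theorem centric_of_le (hQ : F.IsCentric Q) (hQP : Q ≤ P) (hP : P ≤ S) : F.IsCentric P := by
  refine ⟨hP, fun R hR => ?_⟩
  obtain ⟨f, hf, rfl⟩ := isConj_iff.1 hR
  intro a ha
  exact img_mono hQP (hQ.2 _ (hf.mono hQP).isConj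
    ⟨ha.1, fun y hy => ha.2 y (img_mono hQP hy)⟩)

/-! ### Saturation from the two special axioms -/

theorem exists_pow_pElement [Fact p.Prime] {G : Type*} [Group G] [Finite G] (a : G) (k : ℕ) :
    ∃ e : ℕ, e % p ^ k = 1 % p ^ k ∧ ∃ j, (a ^ e) ^ p ^ j = 1 := by
  obtain ⟨j, m, hm, hjm⟩ := Nat.exists_eq_pow_mul_and_not_dvd (orderOf_pos a).ne' p
    (Fact.out : p.Prime).ne_one
  have hco : Nat.Coprime (p ^ k) m :=
    Nat.Coprime.pow_left k ((Fact.out : p.Prime).coprime_iff_not_dvd.2 hm)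
  refine ⟨Nat.chineseRemainder hco 1 0, (Nat.chineseRemainder hco 1 0).2.1, j, ?_⟩
  obtain ⟨c, hc⟩ := Nat.modEq_zero_iff_dvd.1 (Nat.chineseRemainder hco 1 0).2.2
  rw [← pow_mul, hc, show m * c * p ^ j = orderOf a * c by rw [hjm]; ring, pow_mul,
    pow_orderOf_eq_one, one_pow]

theorem saturated_of_top_automized_normalized_receptive [Fact p.Prime] [Finite S]
    (hS : IsPGroup p S) (htop : F.IsFullyAutomized p S)
    (hrec : ∀ P, F.IsFullyNormalized P → F.IsReceptive P) :
    ∀ P, F.IsFullyNormalized P → F.IsFullyAutomized p P := by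
  suffices h : ∀ n : ℕ, ∀ P, F.IsFullyNormalized P → Nat.card S - Nat.card P = n →
      F.IsFullyAutomized p P from fun P hP => h _ P hP rfl
  intro n
  induction n using Nat.strong_induction_on with
  | _ n ih =>
    intro P hP hn
    rcases hP.1.eq_or_lt with rfl | hPS
    · exact htop
    haveI := finite_of_le hP.1
    obtain ⟨T₁, hT₁⟩ := ((isPGroup_autInducedBy hS P).of_equiv
      (Subgroup.subgroupOfEquivOfLe (autInducedBy_le_autGroup (F := F) hP.1)).symm).exists_le_sylow
    refine ⟨hP.1, T₁, (le_antisymm hT₁ ?_).symm⟩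
    by_contra hne
    haveI := T₁.isPGroup'.isNilpotent
    have hlt : ((autInducedBy S P).subgroupOf (F.autGroup P)).subgroupOf T₁ < ⊤ := by
      rw [lt_top_iff_ne_top, Ne, Subgroup.subgroupOf_eq_top]
      exact hne
    obtain ⟨a, ha1, ha2⟩ :=
      SetLike.exists_of_lt (Group.normalizerCondition_of_isNilpotent _ hlt)
    set α : MulAut P := ((a : F.autGroup P) : MulAut P) with hαdef
    have hαA : α ∈ F.autGroup P := (a : F.autGroup P).2
    have hαn : α ∉ autInducedBy S P := ha2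
    obtain ⟨k, hk⟩ := T₁.isPGroup' a
    have hαk : α ^ p ^ k = 1 := by
      have := congrArg (fun b : T₁ => ((b : F.autGroup P) : MulAut P)) hk
      simpa [hαdef] using this
    have hm := isMap_of_autGroup hP.1 hαA
    obtain ⟨ψ, hψ, hψx⟩ := receptive_extend (hrec P hP) hm (img_toFun_aut α)
      (le_normalizerIn hP.1) fun u hu => by
        refine ⟨hu.1, hu.2, ?_⟩
        let κ : MulAut P := P.normalizerMonoidHom ⟨u, hu.2⟩
        have hκ : κ ∈ autInducedBy S P := mem_autInducedBy_iff.2 ⟨u, hu.1, fun x => rfl⟩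
        have hκT : (⟨κ, autInducedBy_le_autGroup hP.1 hκ⟩ : F.autGroup P) ∈
            (T₁ : Subgroup (F.autGroup P)) := hT₁ hκ
        have h1 := (Subgroup.mem_normalizer_iff.1 ha1 ⟨_, hκT⟩).1 hκ
        have h2 : α * κ * α⁻¹ ∈ autInducedBy S P := h1
        obtain ⟨b, hb, hbx⟩ := mem_autInducedBy_iff.1 h2
        refine ⟨b, hb, fun x hx => ?_⟩
        have h3 := hbx (α ⟨x, hx⟩)
        rw [MulAut.mul_apply, MulAut.mul_apply, MulAut.inv_apply_self] at h3
        rw [toFun_aut_apply _ hx, toFun_aut_apply _ ((hu.2 x).1 hx)]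
        exact h3
    have hPN := le_normalizerIn (S := S) hP.1
    have hψP : img P ψ = P := (img_congr hψx).trans (img_toFun_aut α)
    haveI := finite_normalizerIn (S := S) (P := P)
    have hψN : img (normalizerIn S P) ψ = normalizerIn S P := by
      refine eq_of_le_of_card_le (fun y hy => ?_) hψ.card_img.ge
      obtain ⟨x, hx, rfl⟩ := hψ.mem_img.1 hy
      have := hψ.apply_mem_normalizerIn hPN hx hx.2
      rwa [hψP] at this
    let Ψ := hψ.toAut hψN
    have hΨ : Ψ ∈ F.autGroup (normalizerIn S P) := hψ.toAut_mem hψN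
    have hres : ∀ (e : ℕ) (x : Ω) (hx : x ∈ P),
        (((Ψ ^ e) ⟨x, hPN hx⟩ : normalizerIn S P) : Ω) = (((α ^ e) ⟨x, hx⟩ : P) : Ω) := by
      intro e
      induction e with
      | zero => intro x hx; rfl
      | succ e ihe =>
        intro x hx
        have h1 : Ψ ⟨x, hPN hx⟩ = ⟨((α ⟨x, hx⟩ : P) : Ω), hPN (α ⟨x, hx⟩).2⟩ := by
          apply Subtype.ext
          rw [hψ.toAut_apply hψN, hψx x hx, toFun_aut_apply _ hx]
        rw [pow_succ, pow_succ, MulAut.mul_apply, MulAut.mul_apply, h1]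
        exact ihe _ (α ⟨x, hx⟩).2
    obtain ⟨e, he, j, hj⟩ := exists_pow_pElement (p := p) Ψ k
    have hαe : α ^ e = α := by
      conv_rhs => rw [← pow_one α]
      exact pow_eq_pow_iff_modEq.2 (Nat.ModEq.of_dvd (orderOf_dvd_of_pow_eq_one hαk) he)
    obtain ⟨R, hNR, hR⟩ := exists_fullyNormalized_conj F (P := normalizerIn S P) inf_le_left
    obtain ⟨f, hf, rfl⟩ := isConj_iff.1 hNR
    haveI := finite_of_le hf.img_le
    have hlarge : Nat.card P < Nat.card (normalizerIn S P) := by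
      by_contra h
      exact (lt_normalizerIn hS hPS).ne (eq_of_le_of_card_le hPN (not_lt.1 h))
    have hRA : F.IsFullyAutomized p (img (normalizerIn S P) f) := by
      have h1 : Nat.card (normalizerIn S P) ≤ Nat.card S := Subgroup.card_le_of_le inf_le_left
      exact ih _ (by rw [hf.card_img]; omega) _ hR rfl
    let Ψ' := MulAut.congr hf.equivImg (Ψ ^ e)
    obtain ⟨β, hβ, hβc⟩ := exists_conj_le_autInducedBy hRA (Subgroup.zpowers Ψ') (by
        rintro ⟨_, n, rfl⟩
        refine ⟨j, Subtype.ext ?_⟩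
        show (Ψ' ^ n) ^ p ^ j = 1
        rw [← zpow_natCast, ← zpow_mul, mul_comm, zpow_mul, zpow_natCast]
        simp only [Ψ', ← _root_.map_pow, hj, _root_.map_one, one_zpow])
      (Subgroup.zpowers_le.2 (hf.congr_mem_autGroup (pow_mem hΨ e)))
    obtain ⟨b, hb, hbx⟩ := mem_autInducedBy_iff.1 (hβc _ (Subgroup.mem_zpowers Ψ'))
    -- `f'` is `β ∘ f`
    have hmemf : ∀ x ∈ normalizerIn S P, f x ∈ img (normalizerIn S P) f :=
      fun x hx => hf.apply_mem_img hx
    have hb' := isMap_of_autGroup hf.img_le hβ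
    set f' : Ω → Ω := fun x =>
      toFun ((img (normalizerIn S P) f).subtype.comp β.toMonoidHom) (f x) with hf'def
    have hf' : IsMap F (normalizerIn S P) f' := hf.comp hb' hmemf
    have hf'i : img (normalizerIn S P) f' = img (normalizerIn S P) f := by
      rw [hf'def, img_comp_eq hf hb' hmemf, img_toFun_aut]
    have hkey : ∀ (x : Ω) (hx : x ∈ normalizerIn S P),
        f' (((Ψ ^ e) ⟨x, hx⟩ : normalizerIn S P) : Ω) = b * f' x * b⁻¹ := fun x hx => by
      have h1 := hbx (β ⟨f x, hmemf x hx⟩)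
      rw [MulAut.mul_apply, MulAut.mul_apply, MulAut.inv_apply_self] at h1
      simp only [hf'def]
      rw [toFun_aut_apply _ (hmemf x hx),
        toFun_aut_apply _ (hmemf _ ((Ψ ^ e) ⟨x, hx⟩).2), ← h1]
      congr 2
      apply Subtype.ext
      show f _ = f (((Ψ ^ e) (hf.equivImg.symm ⟨f x, hmemf x hx⟩) : normalizerIn S P) : Ω)
      have h3 : hf.equivImg.symm ⟨f x, hmemf x hx⟩ = ⟨x, hx⟩ := by
        rw [MulEquiv.symm_apply_eq]
        exact Subtype.ext (hf.coe_equivImg ⟨x, hx⟩).symm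
      rw [h3]
    haveI : Finite (img P f') := finite_of_le (hf'.mono hPN).img_le
    have hbN : b ∈ Subgroup.normalizer (img P f' : Set Ω) := by
      haveI : Finite ((img P f' : Subgroup Ω) : Set Ω) := inferInstanceAs (Finite (img P f'))
      refine Subgroup.mem_normalizer_fintype fun y hy => ?_
      obtain ⟨x, hx, rfl⟩ := (hf'.mono hPN).mem_img.1 hy
      rw [← hkey x (hPN hx), hres e x hx]
      exact (hf'.mono hPN).apply_mem_img (SetLike.coe_mem _)
    haveI := finite_normalizerIn (S := S) (P := img P f')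
    have hR' : img (normalizerIn S P) f' = normalizerIn S (img P f') := by
      refine eq_of_le_of_card_le (fun y hy => ?_) ?_
      · obtain ⟨x, hx, rfl⟩ := hf'.mem_img.1 hy
        exact hf'.apply_mem_normalizerIn hPN hx hx.2
      · rw [hf'.card_img]
        exact hP.2 _ (hf'.mono hPN).isConj
    have hbR : b ∈ normalizerIn S (img P f') := ⟨hb, hbN⟩
    rw [← hR'] at hbR
    obtain ⟨u, hu, hub⟩ := hf'.mem_img.1 hbR
    refine hαn (mem_autInducedBy_iff.2 ⟨u, hu.1, fun x => ?_⟩)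
    have h1 := hkey x (hPN x.2)
    rw [hres e x x.2, hαe, ← hub, ← hf'.map_conj hu (hPN x.2)] at h1
    exact hf'.inj (hPN (α x).2)
      ((normalizerIn S P).mul_mem ((normalizerIn S P).mul_mem hu (hPN x.2))
        ((normalizerIn S P).inv_mem hu)) h1

theorem isSaturated_of_top_automized_normalized_receptive [Fact p.Prime] [Finite S]
    (hS : IsPGroup p S) (htop : F.IsFullyAutomized p S)
    (hrec : ∀ P, F.IsFullyNormalized P → F.IsReceptive P) : F.IsSaturated p := fun P hP => by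
  obtain ⟨Q, hPQ, hQ⟩ := exists_fullyNormalized_conj F hP
  exact ⟨Q, hPQ, saturated_of_top_automized_normalized_receptive hS htop hrec Q hQ, hrec Q hQ⟩

theorem fullyNormalized_top (F : FusionSystem S) [Finite S] : F.IsFullyNormalized S := by
  refine ⟨le_rfl, fun Q hQ => ?_⟩
  haveI := finite_normalizerIn (S := S) (P := S)
  refine Nat.card_le_card_of_injective
    (Subgroup.inclusion (le_inf inf_le_left ?_)) (Subgroup.inclusion_injective _)
  exact (inf_le_left : normalizerIn S Q ≤ S).trans Subgroup.le_normalizer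

end CfsgLib.Fusion
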