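import Cfsg.Agent.Lib.Fusion.InvariantTransport
import Cfsg.Agent.Lib.Fusion.Saturation
import Cfsg.Agent.Lib.Transfer.Frobenius

/-!
Invariance and strong invariance of a subsystem over a strongly closed subgroup.
-/

set_option autoImplicit false
set_option linter.unusedVariables false
set_option linter.unusedSectionVars false
set_option linter.style.haveILetI false

namespace CfsgLib.Fusion

open Cfsg Cfsg.FusionSystem Subgroup

variable {Ω : Type*} [Group Ω] {S T : Subgroup Ω} {F : FusionSystem S} {E : FusionSystem T}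
  {P Q R : Subgroup Ω} {f : Ω → Ω} {p : ℕ}

/-- The strong invariance condition, in terms of functions. -/
def StrongInv (E : FusionSystem T) (F : FusionSystem S) : Prop :=
  ∀ (P Q : Subgroup Ω) (f g : Ω → Ω), P ≤ Q → Q ≤ T → IsMap E P f → (∀ x ∈ P, f x ∈ Q) →
    IsMap F Q g → ∃ k, IsMap E (img P g) k ∧ ∀ x ∈ P, k (g x) = g (f x)

/-- An automorphism of `T` composed with a map of the subsystem. -/
def Decomposes (E : FusionSystem T) (F : FusionSystem S) (P : Subgroup Ω) (f : Ω → Ω) : Prop :=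
  ∃ α ∈ F.autGroup T, ∃ g, IsMap E P g ∧ ∀ x ∈ P, f x = autFun α (g x)

theorem Decomposes.mono (h : Decomposes E F P f) (hQ : Q ≤ P) : Decomposes E F Q f := by
  obtain ⟨α, hα, g, hg, hgx⟩ := h
  exact ⟨α, hα, g, hg.mono hQ, fun x hx => hgx x (hQ hx)⟩

theorem Decomposes.congr (h : Decomposes E F P f) {f' : Ω → Ω} (he : ∀ x ∈ P, f x = f' x) :
    Decomposes E F P f' := by
  obtain ⟨α, hα, g, hg, hgx⟩ := h
  exact ⟨α, hα, g, hg, fun x hx => (he x hx).symm.trans (hgx x hx)⟩

theorem decomposes_of_isMap (h : IsMap E P f) : Decomposes E F P f :=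
  ⟨1, one_mem _, f, h, fun x hx => (autFun_one (h.mem hx)).symm⟩

theorem Decomposes.comp (hinv : StrongInv E F) (hTS : T ≤ S) (h : Decomposes E F P f)
    {f' : Ω → Ω} (h' : Decomposes E F Q f') (hmem : ∀ x ∈ P, f x ∈ Q) :
    Decomposes E F P (fun x => f' (f x)) := by
  obtain ⟨α, hα, g, hg, hgx⟩ := h
  obtain ⟨β, hβ, k, hk, hkx⟩ := h'
  have hm := isMap_autFun hTS (inv_mem hα)
  obtain ⟨k', hk', hk'x⟩ := hinv Q T k _ hk.le le_rfl hk (fun x hx => hk.mem hx) hm
  have hback : ∀ x ∈ P, autFun α⁻¹ (f x) = g x := fun x hx => by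
    rw [hgx x hx, autFun_inv_apply α (hg.mem hx)]
  refine ⟨β * α, mul_mem hβ hα, _, hg.comp hk' fun x hx => ?_, fun x hx => ?_⟩
  · rw [← hback x hx]
    exact (hm.mono hk.le).apply_mem_img (hmem x hx)
  · rw [← hback x hx, hk'x _ (hmem x hx), autFun_mul_apply _ _ (autFun_mem _ (hk.mem (hmem x hx))),
      autFun_apply_inv α (hk.mem (hmem x hx))]
    exact hkx _ (hmem x hx)

theorem Decomposes.exists_inv (hinv : StrongInv E F) (hTS : T ≤ S) (h : Decomposes E F P f)
    (hf : IsMap F P f) :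
    ∃ g, Decomposes E F (img P f) g ∧ ∀ x ∈ P, g (f x) = x := by
  obtain ⟨α, hα, g, hg, hgx⟩ := h
  obtain ⟨k, hk, hkx, hky, -⟩ := hg.exists_inv
  obtain ⟨k', hk', hk'x⟩ := hinv _ T k _ hk.le le_rfl hk (fun x hx => hk.mem hx)
    (isMap_autFun hTS hα)
  have hle : img P f ≤ img (img P g) (autFun α) := fun y hy => by
    obtain ⟨x, hx, rfl⟩ := hf.mem_img.1 hy
    rw [hgx x hx]
    exact ((isMap_autFun hTS hα).mono hg.img_le).apply_mem_img (hg.apply_mem_img hx)
  refine ⟨fun y => autFun α⁻¹ (k' y),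
    ⟨α⁻¹, inv_mem hα, k', hk'.mono hle, fun _ _ => rfl⟩, fun x hx => ?_⟩
  show autFun α⁻¹ (k' (f x)) = x
  rw [hgx x hx, hk'x _ (hg.apply_mem_img hx), hkx x hx, autFun_inv_apply α (hg.le hx)]

variable [Fact p.Prime] [Finite S] (hS : IsPGroup p S) (hF : F.IsSaturated p)
  (hsub : E.IsSubsystemOf F) (hT : F.StronglyClosed T) (hinv : StrongInv E F)

include hS hF hsub hT hinv

/-- Strong invariance gives the Frattini condition. -/
theorem decomposes_of_strongInv :
    ∀ (n : ℕ) (P : Subgroup Ω) (f : Ω → Ω), P ≤ T → IsMap F P f →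
      Nat.card T - Nat.card P ≤ n → Decomposes E F P f := by
  have hTS : T ≤ S := hT.1
  haveI := finite_of_le hTS
  have htop : ∀ f, IsMap F T f → Decomposes E F T f := fun f hf => by
    have hi := StronglyClosed.img_eq hT hf le_rfl
    refine ⟨hf.toAut hi, hf.toAut_mem hi, id, isMap_id E le_rfl, fun x hx => ?_⟩
    rw [show autFun (hf.toAut hi) (id x) = _ from autFun_apply _ hx, IsMap.toAut_apply]
  intro n
  induction n with
  | zero =>
    intro P f hP hf hn
    obtain rfl : P = T := eq_of_le_of_card_le hP (by omega)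
    exact htop f hf
  | succ n ih =>
    intro P f hP hf hn
    rcases eq_or_ne P T with rfl | hPT
    · exact htop f hf
    haveI := finite_of_le (hP.trans hTS)
    -- larger subgroups
    have grow : ∀ U, U ≤ T → U ≠ T → Nat.card U = Nat.card P →
        U < normalizerIn T U ∧ ∀ g, IsMap F (normalizerIn T U) g →
          Decomposes E F (normalizerIn T U) g := by
      intro U hU hne hc
      have hlt := lt_normalizerIn (hS.to_le hTS) (lt_of_le_of_ne hU hne)
      refine ⟨hlt, fun g hg => ih _ g inf_le_left hg ?_⟩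
      haveI := finite_normalizerIn (S := T) (P := U)
      have h1 : Nat.card U < Nat.card (normalizerIn T U) := lt_of_not_ge fun h =>
        hlt.ne (eq_of_le_of_card_le hlt.le h)
      omega
    obtain ⟨R, hconj, hR⟩ := exists_fullyNormalized_conj F (hP.trans hTS)
    have hPf : img P f ≤ T := fun y hy => by
      obtain ⟨x, hx, rfl⟩ := hf.mem_img.1 hy
      exact StronglyClosed.apply_mem hT hf hx (hP hx)
    obtain ⟨f₀, hf₀, hi₀⟩ := isConj_iff.1 hconj
    have hRT : R ≤ T := hi₀ ▸ fun y hy => by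
      obtain ⟨x, hx, rfl⟩ := hf₀.mem_img.1 hy
      exact StronglyClosed.apply_mem hT hf₀ hx (hP hx)
    obtain ⟨g₁, hg₁, hg₁i, -⟩ := exists_map_normalizerIn_of_fullyNormalized hS hF hR hconj
    obtain ⟨g₂, hg₂, hg₂i, -⟩ := exists_map_normalizerIn_of_fullyNormalized hS hF hR
      (isConj_trans (isConj_symm hf.isConj) hconj)
    have hNN : ∀ U, normalizerIn T U ≤ normalizerIn S U := fun U => inf_le_inf_right _ hTS
    have hne' : img P f ≠ T := fun h => hPT (eq_of_le_of_card_le hP (by
      rw [← hf.card_img, h]))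
    obtain ⟨hlt₁, hdec₁⟩ := grow P hP hPT rfl
    obtain ⟨hlt₂, hdec₂⟩ := grow (img P f) hPf hne' hf.card_img
    have hd₁ : Decomposes E F P g₁ := (hdec₁ g₁ (hg₁.mono (hNN P))).mono hlt₁.le
    have hd₂ : Decomposes E F (img P f) g₂ := (hdec₂ g₂ (hg₂.mono (hNN _))).mono hlt₂.le
    have hm₁ : IsMap F P g₁ := hg₁.mono (hlt₁.le.trans (hNN P))
    have hm₂ : IsMap F (img P f) g₂ := hg₂.mono (hlt₂.le.trans (hNN _))
    obtain ⟨k₁, hk₁, hk₁x, hk₁y, -⟩ := hm₁.exists_inv
    rw [hg₁i] at hk₁ hk₁y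
    -- the automorphism in the middle
    have hβm := (hk₁.comp hf fun y hy => (hk₁y y hy).1).comp hm₂
      fun y hy => hf.apply_mem_img (hk₁y y hy).1
    have hβi : img R (fun y => g₂ (f (k₁ y))) = R := by
      haveI := finite_of_le hR.1
      refine eq_of_le_of_card_le (fun y hy => ?_) hβm.card_img.ge
      obtain ⟨x, hx, rfl⟩ := hβm.mem_img.1 hy
      exact hg₂i.le (hm₂.apply_mem_img (hf.apply_mem_img (hk₁y x hx).1))
    suffices hmid : Decomposes E F R (fun y => g₂ (f (k₁ y))) by
      obtain ⟨k₂, hk₂, hk₂x⟩ := Decomposes.exists_inv hinv hTS hd₂ hm₂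
      rw [hg₂i] at hk₂
      have h1 := Decomposes.comp hinv hTS hd₁ hmid fun x hx => hg₁i.le (hm₁.apply_mem_img hx)
      have h2 := Decomposes.comp hinv hTS h1 hk₂ fun x hx => by
        show g₂ (f (k₁ (g₁ x))) ∈ R
        rw [hk₁x x hx]
        exact hg₂i.le (hm₂.apply_mem_img (hf.apply_mem_img hx))
      refine h2.congr fun x hx => ?_
      show k₂ (g₂ (f (k₁ (g₁ x)))) = f x
      rw [hk₁x x hx, hk₂x _ (hf.apply_mem_img hx)]
    set b := fun y => g₂ (f (k₁ y)) with hbdef
    haveI := finite_of_le hR.1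
    have hRne : R ≠ T := fun h => hPT (eq_of_le_of_card_le hP (by rw [← h, isConj_card hconj]))
    obtain ⟨hltR, hdecR⟩ := grow R hRT hRne (isConj_card hconj)
    have hEaut : ∀ γ ∈ E.autGroup R, γ ∈ F.autGroup R := fun γ hγ =>
      (autGroup_mem_iff hR.1).2 (hsub R ((autGroup_mem_iff hRT).1 hγ))
    -- the normal closure of the automorphisms induced by `T`
    set V := (autInducedBy T R).subgroupOf (F.autGroup R) with hV
    set K : Subgroup (F.autGroup R) := Subgroup.normalClosure (V : Set (F.autGroup R)) with hK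
    have hKE : ∀ k ∈ K, (k : MulAut R) ∈ E.autGroup R := by
      let M : Subgroup (F.autGroup R) := (E.autGroup R).subgroupOf (F.autGroup R)
      haveI : M.Normal := ⟨fun k hk δ => by
        have hδm := isMap_of_autGroup hR.1 δ.2
        obtain ⟨k', hk', hk'x⟩ := hinv R R _ _ le_rfl hRT
          (isMap_of_autGroup hRT (show (k : MulAut R) ∈ E.autGroup R from hk))
          (fun x hx => by rw [toFun_aut_apply _ hx]; exact (_ : R).2) hδm
        rw [img_toFun_aut] at hk'
        show ((δ * k * δ⁻¹ : F.autGroup R) : MulAut R) ∈ E.autGroup R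
        refine (autGroup_iff_isMap hRT fun x => ?_).2 hk'
        have h1 := hk'x (((δ : MulAut R)⁻¹ x : R) : Ω) (_ : R).2
        rw [toFun_aut_apply _ (_ : R).2, toFun_aut_apply _ (_ : R).2] at h1
        simp only [Subtype.coe_eta, MulAut.apply_inv_self] at h1
        rw [h1, toFun_aut_apply _ (_ : R).2]
        rfl⟩
      have hle : K ≤ M := Subgroup.normalClosure_le_normal fun c hc => by
        obtain ⟨t, ht, htx⟩ := mem_autInducedBy_iff.1 hc
        exact autInducedBy_le_autGroup hRT (mem_autInducedBy_iff.2 ⟨t, ht, htx⟩)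
      exact fun k hk => hle hk
    obtain ⟨W, hW⟩ := (fullyAutomized_of_fullyNormalized hS hF hR).2
    have hVW : V ≤ (W : Subgroup (F.autGroup R)) := by
      rw [hW]
      intro c hc
      obtain ⟨t, ht, htx⟩ := mem_autInducedBy_iff.1 hc
      exact mem_autInducedBy_iff.2 ⟨t, hTS ht, htx⟩
    obtain ⟨W', hW'⟩ := CfsgLib.Transfer.exists_sylow_eq_subgroupOf W K
    have hsup := W'.normalizer_sup_eq_top
    rw [hW', Subgroup.subgroupOf_map_subtype] at hsup
    obtain ⟨ν, hν, k, hk, hνk⟩ := (Subgroup.mem_sup_of_normal_right (t := K)).1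
      (hsup ▸ Subgroup.mem_top (⟨_, hβm.toAut_mem hβi⟩ : F.autGroup R))
    have hbν : ∀ x : R, b x = (((ν : MulAut R) ((k : MulAut R) x) : R) : Ω) := fun x => by
      rw [← hβm.toAut_apply hβi x]
      exact congrArg (fun γ : F.autGroup R => (((γ : MulAut R) x : R) : Ω)) hνk.symm
    -- `ν` extends inside `T`
    have hνm := isMap_of_autGroup hR.1 ν.2
    obtain ⟨g, hg, hgx⟩ := receptive_extend (receptive_of_fullyNormalized hS hF hR) hνm
      (img_toFun_aut _) (R := normalizerIn T R) hltR.le (fun a ha => by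
        refine ⟨hTS ha.1, ha.2, ?_⟩
        have hcT : R.normalizerMonoidHom ⟨a, ha.2⟩ ∈ autInducedBy T R :=
          mem_autInducedBy_iff.2 ⟨a, ha.1, fun x => rfl⟩
        set c : F.autGroup R := ⟨_, autInducedBy_le_autGroup hR.1
          (mem_autInducedBy_iff.2 ⟨a, hTS ha.1, fun x => rfl⟩ :
            R.normalizerMonoidHom ⟨a, ha.2⟩ ∈ autInducedBy S R)⟩ with hcdef
        have hcV : c ∈ V := hcT
        have h1 := ((Subgroup.mem_normalizer_iff.1 hν c).1
          ⟨hVW hcV, Subgroup.subset_normalClosure hcV⟩).1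
        rw [SetLike.mem_coe, hW] at h1
        obtain ⟨b', hb', hbx⟩ := mem_autInducedBy_iff.1 h1
        refine ⟨b', hb', fun x hx => ?_⟩
        have h2 := hbx ((ν : MulAut R) ⟨x, hx⟩)
        rw [toFun_aut_apply _ hx, toFun_aut_apply _ ((ha.2 x).1 hx), ← h2]
        simp [hcdef, MulAut.mul_apply]
        rfl)
    have hd3 : Decomposes E F R (toFun (R.subtype.comp (ν : MulAut R).toMonoidHom)) :=
      ((hdecR g hg).mono hltR.le).congr hgx
    have hd4 := decomposes_of_isMap (F := F) (isMap_of_autGroup hRT (hKE k hk))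
    refine (Decomposes.comp hinv hTS hd4 hd3 fun x hx => ?_).congr fun x hx => ?_
    · rw [toFun_aut_apply _ hx]; exact (_ : R).2
    · show toFun _ (toFun _ x) = b x
      rw [toFun_aut_apply _ hx, toFun_aut_apply _ (_ : R).2]
      exact (hbν ⟨x, hx⟩).symm

end CfsgLib.Fusion
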