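import Cfsg.Agent.Lib.Fusion.Saturation
import Cfsg.Agent.Lib.Fusion.Normal

/-!
Saturation of the normalizer and centralizer systems of a subgroup (Puig's theorem).
-/

set_option autoImplicit false
set_option linter.style.haveILetI false
set_option linter.unusedVariables false
set_option linter.unusedSectionVars false

namespace CfsgLib.Fusion

open Cfsg Cfsg.FusionSystem Subgroup

variable {Ω : Type*} [Group Ω] {S : Subgroup Ω} {F : FusionSystem S}
  {U U' V P Q R : Subgroup Ω} {f g h : Ω → Ω} {p : ℕ} {c : Prop}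

/-- The isomorphism onto a given image. -/
noncomputable def IsMap.equivTo (h : IsMap F U f) (hi : img U f = U') : U ≃* U' :=
  h.equivImg.trans (MulEquiv.subgroupCongr hi)

theorem IsMap.coe_equivTo (h : IsMap F U f) (hi : img U f = U') (x : U) :
    ((h.equivTo hi x : U') : Ω) = f x := rfl

theorem IsMap.congr_equivTo_apply (h : IsMap F U f) (hi : img U f = U') (α : MulAut U) (x : U) :
    MulAut.congr (h.equivTo hi) α (h.equivTo hi x) = h.equivTo hi (α x) := by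
  show h.equivTo hi (α ((h.equivTo hi).symm (h.equivTo hi x))) = _
  rw [MulEquiv.symm_apply_apply]

theorem IsMap.congr_equivTo_autGroup (h : IsMap F U f) (hi : img U f = U') {α : MulAut U} :
    MulAut.congr (h.equivTo hi) α ∈ F.autGroup U' ↔ α ∈ F.autGroup U := by
  subst hi
  have e : h.equivTo rfl = h.equivImg := MulEquiv.ext fun x => Subtype.ext rfl
  rw [e]
  refine ⟨fun hα => ?_, h.congr_mem_autGroup⟩
  have := h.congr_symm_mem_autGroup hα
  rwa [MulEquiv.symm_apply_apply] at this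

theorem mem_normalizer_sup {A B : Subgroup Ω} {a : Ω}
    (h : a ∈ Subgroup.normalizer (A : Set Ω) ∧ a ∈ Subgroup.normalizer (B : Set Ω)) :
    a ∈ Subgroup.normalizer ((A ⊔ B : Subgroup Ω) : Set Ω) := by
  obtain ⟨h1, h2⟩ := h
  rw [Subgroup.mem_normalizer_iff_map_conj_eq] at h1 h2 ⊢
  rw [Subgroup.map_sup, h1, h2]

/-- The automorphisms of `U` carrying `P` and `Q` onto themselves, and fixing `Q` if `c`. -/
def stabAut (U P Q : Subgroup Ω) (c : Prop) : Subgroup (MulAut U) where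
  carrier := {α | (∀ x : U, (x : Ω) ∈ P ↔ ((α x : U) : Ω) ∈ P) ∧
    (∀ x : U, (x : Ω) ∈ Q ↔ ((α x : U) : Ω) ∈ Q) ∧ (c → ∀ x : U, (x : Ω) ∈ Q → α x = x)}
  one_mem' := ⟨fun _ => Iff.rfl, fun _ => Iff.rfl, fun _ _ _ => rfl⟩
  mul_mem' := fun {a b} ha hb => ⟨fun x => (hb.1 x).trans (ha.1 (b x)),
    fun x => (hb.2.1 x).trans (ha.2.1 (b x)), fun hc x hx => by
      rw [MulAut.mul_apply, hb.2.2 hc x hx, ha.2.2 hc x hx]⟩
  inv_mem' := fun {a} ha => ⟨fun x => by rw [ha.1 (a⁻¹ x), MulAut.apply_inv_self],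
    fun x => by rw [ha.2.1 (a⁻¹ x), MulAut.apply_inv_self], fun hc x hx => by
      conv_lhs => rw [← ha.2.2 hc x hx]
      rw [MulAut.inv_apply_self]⟩

theorem IsMap.apply_mem_img_iff (h : IsMap F U f) (hP : P ≤ U) {x : Ω} (hx : x ∈ U) :
    f x ∈ img P f ↔ x ∈ P := by
  refine ⟨fun hy => ?_, fun hy => (h.mono hP).apply_mem_img hy⟩
  obtain ⟨y, hy', hyx⟩ := (h.mono hP).mem_img.1 hy
  exact h.inj (hP hy') hx hyx ▸ hy'

theorem IsMap.congr_equivTo_stab (h : IsMap F U f) (hi : img U f = U') (hP : P ≤ U) (hQ : Q ≤ U)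
    {α : MulAut U} (hα : α ∈ stabAut U P Q c) :
    MulAut.congr (h.equivTo hi) α ∈ stabAut U' (img P f) (img Q f) c := by
  refine ⟨fun y => ?_, fun y => ?_, fun hc y hy => ?_⟩
  all_goals obtain ⟨x, rfl⟩ := (h.equivTo hi).surjective y
  all_goals rw [h.congr_equivTo_apply]
  · simp only [h.coe_equivTo, h.apply_mem_img_iff hP (SetLike.coe_mem _)]
    exact hα.1 x
  · simp only [h.coe_equivTo, h.apply_mem_img_iff hQ (SetLike.coe_mem _)]
    exact hα.2.1 x
  · simp only [h.coe_equivTo, h.apply_mem_img_iff hQ (SetLike.coe_mem _)] at hy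
    rw [hα.2.2 hc x hy]

theorem IsMap.card_stab (h : IsMap F U f) (hi : img U f = U') (hP : P ≤ U) (hQ : Q ≤ U) :
    Nat.card ↥(F.autGroup U' ⊓ stabAut U' (img P f) (img Q f) c) =
      Nat.card ↥(F.autGroup U ⊓ stabAut U P Q c) := by
  have hmap : (F.autGroup U ⊓ stabAut U P Q c).map (MulAut.congr (h.equivTo hi)).toMonoidHom =
      F.autGroup U' ⊓ stabAut U' (img P f) (img Q f) c := by
    ext β
    refine ⟨?_, fun hβ => ?_⟩
    · rintro ⟨α, hα, rfl⟩
      exact ⟨(h.congr_equivTo_autGroup hi).2 hα.1, h.congr_equivTo_stab hi hP hQ hα.2⟩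
    · obtain ⟨α, rfl⟩ := (MulAut.congr (h.equivTo hi)).surjective β
      refine ⟨α, ⟨(h.congr_equivTo_autGroup hi).1 hβ.1, ?_⟩, rfl⟩
      have hv := h.congr_equivTo_apply hi α
      refine ⟨fun x => ?_, fun x => ?_, fun hc x hx => ?_⟩
      · have := hβ.2.1 (h.equivTo hi x)
        rw [hv] at this
        simpa only [h.coe_equivTo, h.apply_mem_img_iff hP (SetLike.coe_mem _)] using this
      · have := hβ.2.2.1 (h.equivTo hi x)
        rw [hv] at this
        simpa only [h.coe_equivTo, h.apply_mem_img_iff hQ (SetLike.coe_mem _)] using this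
      · have := hβ.2.2.2 hc (h.equivTo hi x) ((h.mono hQ).apply_mem_img hx)
        rw [hv] at this
        exact (h.equivTo hi).injective this
  rw [← hmap]
  exact Subgroup.card_map_of_injective (MulAut.congr (h.equivTo hi)).injective

/-- `Aut_S(U)` contains a Sylow subgroup of the stabilizer of `P` and `Q` in `Aut_F(U)`. -/
def StabSylow (F : FusionSystem S) (p : ℕ) (U P Q : Subgroup Ω) (c : Prop) : Prop :=
  p ^ (Nat.card ↥(F.autGroup U ⊓ stabAut U P Q c)).factorization p ≤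
    Nat.card ↥(autInducedBy S U ⊓ stabAut U P Q c)

/-- Restriction of the stabilizer to `P`. -/
def resAut (hP : P ≤ U) : stabAut U P Q c →* MulAut P where
  toFun α :=
    { toFun := fun x => ⟨α.1 ⟨x, hP x.2⟩, (α.2.1 ⟨x, hP x.2⟩).1 x.2⟩
      invFun := fun x => ⟨α.1.symm ⟨x, hP x.2⟩, ((α⁻¹ : stabAut U P Q c).2.1 ⟨x, hP x.2⟩).1 x.2⟩
      left_inv := fun x => Subtype.ext (by simp)
      right_inv := fun x => Subtype.ext (by simp)
      map_mul' := fun x y => Subtype.ext (by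
        show ((α.1 (⟨x, hP x.2⟩ * ⟨y, hP y.2⟩) : U) : Ω) = _
        rw [map_mul]; rfl) }
  map_one' := rfl
  map_mul' _ _ := rfl

theorem resAut_apply (hP : P ≤ U) (α : stabAut U P Q c) (x : P) :
    ((resAut hP α x : P) : Ω) = ((α.1 ⟨x, hP x.2⟩ : U) : Ω) := rfl

section Saturated

variable [Fact p.Prime] [Finite S] (hS : IsPGroup p S) (hF : F.IsSaturated p)

include hS hF

/-- A conjugate of the triple at which `Aut_S` is Sylow in the stabilizer. -/
theorem exists_stabSylow (hP : P ≤ U) (hQ : Q ≤ U) (hU : U ≤ S) (c : Prop) :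
    ∃ f, IsMap F U f ∧ F.IsFullyNormalized (img U f) ∧
      StabSylow F p (img U f) (img P f) (img Q f) c := by
  obtain ⟨W, hW, hWn⟩ := exists_fullyNormalized_conj F hU
  obtain ⟨f, hf, rfl⟩ := isConj_iff.1 hW
  haveI := finite_of_le hf.img_le
  set A := F.autGroup (img U f) ⊓ stabAut (img U f) (img P f) (img Q f) c
  obtain ⟨T⟩ := (inferInstance : Nonempty (Sylow p A))
  obtain ⟨β, hβ, hconj⟩ := exists_conj_le_autInducedBy
    (fullyAutomized_of_fullyNormalized hS hF hWn) ((T : Subgroup A).map A.subtype)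
    (T.2.map _) ((Subgroup.map_subtype_le _).trans inf_le_left)
  have hb := isMap_of_autGroup hf.img_le hβ
  set b := toFun ((img U f).subtype.comp β.toMonoidHom)
  have hmem : ∀ x ∈ U, f x ∈ img U f := fun x hx => hf.apply_mem_img hx
  have hcomp := hf.comp hb hmem
  have hbi : img (img U f) b = img U f := img_toFun_aut β
  have hi : img U (fun x => b (f x)) = img U f := (img_comp_eq hf hb hmem).trans hbi
  have hPf : img P f ≤ img U f := img_mono hP
  have hQf : img Q f ≤ img U f := img_mono hQ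
  have hiP : img P (fun x => b (f x)) = img (img P f) b :=
    (img_comp_eq (hf.mono hP) (hb.mono hPf) fun x hx => (hf.mono hP).apply_mem_img hx)
  have hiQ : img Q (fun x => b (f x)) = img (img Q f) b :=
    (img_comp_eq (hf.mono hQ) (hb.mono hQf) fun x hx => (hf.mono hQ).apply_mem_img hx)
  refine ⟨_, hcomp, hi.symm ▸ hWn, ?_⟩
  rw [StabSylow, hi, hiP, hiQ, hb.card_stab hbi hPf hQf, ← T.card_eq_multiplicity,
    ← Subgroup.card_map_of_injective A.subtype_injective]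
  have hsub : ∀ κ ∈ (T : Subgroup A).map A.subtype, MulAut.congr (hb.equivTo hbi) κ ∈
      autInducedBy S (img U f) ⊓
        stabAut (img U f) (img (img P f) b) (img (img Q f) b) c := fun κ hκ => by
    refine ⟨?_, hb.congr_equivTo_stab hbi hPf hQf (Subgroup.map_subtype_le _ hκ).2⟩
    have e : hb.equivTo hbi = β := MulEquiv.ext fun x =>
      Subtype.ext ((hb.coe_equivTo hbi x).trans (toFun_apply _ x))
    rw [e]
    exact hconj κ hκ
  exact Nat.card_le_card_of_injective (fun κ : (T : Subgroup A).map A.subtype =>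
      (⟨_, hsub κ κ.2⟩ : ↥(autInducedBy S (img U f) ⊓
        stabAut (img U f) (img (img P f) b) (img (img Q f) b) c)))
    fun a b h => Subtype.ext ((MulAut.congr _).injective (congrArg Subtype.val h))

/-- The automization and extension axioms at a good representative. -/
theorem automized_receptive_stab_system {T P' : Subgroup Ω} {E : FusionSystem T} (hQS : Q ≤ S)
    (hT : ∀ a, a ∈ T ↔ a ∈ S ∧ a ∈ Subgroup.normalizer (Q : Set Ω) ∧
      (c → a ∈ Subgroup.centralizer (Q : Set Ω)))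
    (hE : ∀ P f, IsMap E P f ↔ P ≤ T ∧ (∀ x ∈ P, f x ∈ T) ∧
      ∃ g, IsMap F (P ⊔ Q) g ∧ (∀ x ∈ P, g x = f x) ∧ img Q g = Q ∧ (c → ∀ x ∈ Q, g x = x))
    (hP'T : P' ≤ T) (hVeq : V = P' ⊔ Q) (hVc : F.IsFullyCentralized V)
    (hsylV : StabSylow F p V P' Q c) :
    E.IsFullyAutomized p P' ∧ E.IsReceptive P' := by
  have hTS : T ≤ S := fun a ha => ((hT a).1 ha).1
  have hVS : V ≤ S := hVc.1
  have hP'V : P' ≤ V := hVeq ▸ le_sup_left
  have hQV : Q ≤ V := hVeq ▸ le_sup_right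
  haveI := finite_of_le hVS
  set A := F.autGroup V ⊓ stabAut V P' Q c with hA
  set A₀ := autInducedBy S V ⊓ stabAut V P' Q c with hA₀
  have hA₀A : A₀ ≤ A := inf_le_inf_right _ (autInducedBy_le_autGroup hVS)
  -- restriction to `P'`
  let res : A →* MulAut P' := (resAut hP'V).comp (Subgroup.inclusion inf_le_right)
  have hres : ∀ (α : A) (x : P'), ((res α x : P') : Ω) = ((α.1 ⟨x, hP'V x.2⟩ : V) : Ω) :=
    fun α x => resAut_apply hP'V _ x
  have hrmem : ∀ α : A, res α ∈ E.autGroup P' := fun α => by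
    have hm := isMap_of_autGroup hVS α.2.1
    refine (autGroup_iff_isMap (F := E) hP'T (f := toFun (V.subtype.comp α.1.toMonoidHom))
      fun x => (hres α x).trans (toFun_aut_apply _ _).symm).2 ((hE _ _).2
        ⟨hP'T, fun x hx => ?_, _, hVeq ▸ hm, fun x _ => rfl, ?_, fun hc x hx => ?_⟩)
    · rw [toFun_aut_apply _ (hP'V hx)]
      exact hP'T ((α.2.2.1 ⟨x, hP'V hx⟩).1 hx)
    · ext y
      rw [(hm.mono hQV).mem_img]
      refine ⟨?_, fun hy => ⟨((α.1.symm ⟨y, hQV hy⟩ : V) : Ω),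
        ((α⁻¹ : A).2.2.2.1 ⟨y, hQV hy⟩).1 hy, ?_⟩⟩
      · rintro ⟨x, hx, rfl⟩
        rw [toFun_aut_apply _ (hQV hx)]
        exact (α.2.2.2.1 ⟨x, hQV hx⟩).1 hx
      · rw [toFun_aut_apply _ (SetLike.coe_mem _), Subtype.coe_eta, MulEquiv.apply_symm_apply]
    · rw [toFun_aut_apply _ (hQV hx), α.2.2.2.2 hc ⟨x, hQV hx⟩ hx]
  let ρ : A →* E.autGroup P' := res.codRestrict _ hrmem
  have hρ : Function.Surjective ρ := fun γ => by
    obtain ⟨-, -, k, hk, hkx, hkQ, hkc⟩ := (hE _ _).1 (isMap_of_autGroup hP'T γ.2)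
    rw [← hVeq] at hk
    have hkP : img P' k = P' := (img_congr hkx).trans (img_toFun_aut γ.1)
    have hki : img V k = V := by
      conv_lhs => rw [hVeq]
      rw [hk.img_sup hP'V hQV, hkP, hkQ, hVeq]
    refine ⟨⟨hk.toAut hki, hk.toAut_mem hki, fun x => ?_, fun x => ?_, fun hc x hx => ?_⟩, ?_⟩
    · rw [hk.toAut_apply]
      conv_rhs => rw [← hkP]
      exact (hk.apply_mem_img_iff hP'V x.2).symm
    · rw [hk.toAut_apply]
      conv_rhs => rw [← hkQ]
      exact (hk.apply_mem_img_iff hQV x.2).symm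
    · exact Subtype.ext ((hk.toAut_apply hki x).trans (hkc hc x hx))
    · refine Subtype.ext (MulEquiv.ext fun x => Subtype.ext ?_)
      show k x = _
      rw [hkx x x.2, toFun_aut_apply _ x.2]
  have hind : ∀ α : A, α.1 ∈ autInducedBy S V → res α ∈ autInducedBy T P' := fun α hα => by
    obtain ⟨a, ha, hax⟩ := mem_autInducedBy_iff.1 hα
    refine mem_autInducedBy_iff.2 ⟨a, (hT a).2 ⟨ha, fun y => ⟨fun hy => ?_, fun hy => ?_⟩,
      fun hc y hy => ?_⟩, fun x => (hres α x).trans (hax _)⟩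
    · have := (α.2.2.2.1 ⟨y, hQV hy⟩).1 hy
      rwa [hax] at this
    · have hyV : y ∈ V := (mem_normalizer_of_aut hax y).2 (hQV hy)
      refine (α.2.2.2.1 ⟨y, hyV⟩).2 ?_
      rw [hax]
      exact hy
    · have h1 := (hax ⟨y, hQV hy⟩).symm.trans (congrArg Subtype.val (α.2.2.2.2 hc ⟨y, hQV hy⟩ hy))
      exact (mul_inv_eq_iff_eq_mul.1 h1).symm
  have hind' : ∀ γ : E.autGroup P', γ.1 ∈ autInducedBy T P' → ∃ α : A, α.1 ∈ A₀ ∧ ρ α = γ := by
    intro γ hγ
    obtain ⟨a, ha, hax⟩ := mem_autInducedBy_iff.1 hγ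
    obtain ⟨haS, haQ, hac⟩ := (hT a).1 ha
    have haP : a ∈ Subgroup.normalizer (P' : Set Ω) := mem_normalizer_of_aut hax
    have haV : a ∈ Subgroup.normalizer (V : Set Ω) := by
      rw [hVeq]
      exact mem_normalizer_sup ⟨haP, haQ⟩
    let α : MulAut V := V.normalizerMonoidHom ⟨a, haV⟩
    have hα : α ∈ A₀ := ⟨mem_autInducedBy_iff.2 ⟨a, haS, fun x => rfl⟩,
      fun x => haP x, fun x => haQ x, fun hc x hx => Subtype.ext
        (mul_inv_eq_iff_eq_mul.2 (hac hc x hx).symm)⟩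
    exact ⟨⟨α, hA₀A hα⟩, hα, Subtype.ext (MulEquiv.ext fun x => Subtype.ext (hax x).symm)⟩
  obtain ⟨Sy, hSy⟩ : ∃ Sy : Sylow p A, (Sy : Subgroup A) = A₀.subgroupOf A := by
    have hp : IsPGroup p (A₀.subgroupOf A) :=
      ((isPGroup_autInducedBy hS V).to_le inf_le_left).of_equiv
        (Subgroup.subgroupOfEquivOfLe hA₀A).symm
    obtain ⟨Sy, hle⟩ := hp.exists_le_sylow
    refine ⟨Sy, (Subgroup.eq_of_le_of_card_ge hle ?_).symm⟩
    rw [Sy.card_eq_multiplicity, Nat.card_congr (Subgroup.subgroupOfEquivOfLe hA₀A).toEquiv]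
    exact hsylV
  haveI := finite_of_le (hP'T.trans hTS)
  refine ⟨⟨hP'T, Sy.mapSurjective hρ, ?_⟩, ?_⟩
  · rw [Sylow.coe_mapSurjective, hSy]
    ext γ
    refine ⟨?_, fun hγ => ?_⟩
    · rintro ⟨α, hα, rfl⟩
      exact hind α hα.1
    · obtain ⟨α, hα, rfl⟩ := hind' γ hγ
      exact ⟨α, hα, rfl⟩
  refine receptive_of_extend hP'T fun X f hf hi M hXM hM => ?_
  obtain ⟨hXT, -, k, hk, hkx, hkQ, hkc⟩ := (hE _ _).1 hf
  have hkX : img X k = P' := (img_congr hkx).trans hi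
  have hkV : img (X ⊔ Q) k = V := by
    rw [hk.img_sup le_sup_left le_sup_right, hkX, hkQ, hVeq]
  let Bsub : Subgroup A := ((autInducedBy T P').subgroupOf (E.autGroup P')).comap ρ
  have hMn : ∀ a ∈ M, a ∈ Subgroup.normalizer ((X ⊔ Q : Subgroup Ω) : Set Ω) := fun a ha =>
    mem_normalizer_sup ⟨(hM a ha).2.1, ((hT a).1 (hM a ha).1).2.1⟩
  let κ : M →* MulAut V := (MulAut.congr (hk.equivTo hkV)).toMonoidHom.comp
    ((X ⊔ Q).normalizerMonoidHom.comp (Subgroup.inclusion hMn))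
  have hκA : ∀ a : M, κ a ∈ A := fun a => by
    refine ⟨(hk.congr_equivTo_autGroup hkV).2 ((autGroup_iff_isMap hk.le fun x => rfl).2
      (isMap_conj F hk.le (hTS (hM a a.2).1))), ?_⟩
    have h1 := hk.congr_equivTo_stab (P := X) (Q := Q) (c := c) hkV le_sup_left le_sup_right
      (α := (X ⊔ Q).normalizerMonoidHom ⟨a, hMn a a.2⟩) ?_
    · rw [hkX, hkQ] at h1
      exact h1
    · refine ⟨fun x => (hM a a.2).2.1 x, fun x => ((hT a).1 (hM a a.2).1).2.1 x,
        fun hc x hx => Subtype.ext ?_⟩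
      exact mul_inv_eq_iff_eq_mul.2 (((hT a).1 (hM a a.2).1).2.2 hc x hx).symm
  let κ' : M →* A := κ.codRestrict A hκA
  have hκB : κ'.range ≤ Bsub := by
    rintro _ ⟨a, rfl⟩
    obtain ⟨-, -, b, hb, hbx⟩ := hM a a.2
    show res (κ' a) ∈ autInducedBy T P'
    refine mem_autInducedBy_iff.2 ⟨b, hb, fun y => ?_⟩
    obtain ⟨x, hx, hxy⟩ := hf.mem_img.1 (hi.symm ▸ y.2 : (y : Ω) ∈ img X f)
    have e : (⟨(y : Ω), hP'V y.2⟩ : V) = hk.equivTo hkV ⟨x, Subgroup.mem_sup_left hx⟩ :=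
      Subtype.ext (by rw [hk.coe_equivTo, hkx x hx, hxy])
    rw [hres]
    show ((MulAut.congr (hk.equivTo hkV) ((X ⊔ Q).normalizerMonoidHom ⟨a, hMn a a.2⟩)
      ⟨y, hP'V y.2⟩ : V) : Ω) = _
    rw [e, hk.congr_equivTo_apply, hk.coe_equivTo]
    show k ((a : Ω) * x * (a : Ω)⁻¹) = _
    rw [hkx _ (((hM a a.2).2.1 x).1 hx), hbx x hx, hxy]
  haveI := finite_of_le ((fun a ha => hTS (hM a ha).1 : M ≤ S))
  have hK : IsPGroup p (κ'.range.subgroupOf Bsub) :=
    (IsPGroup.of_surjective (hS.to_le fun a ha => hTS (hM a ha).1) κ'.rangeRestrict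
      κ'.rangeRestrict_surjective).of_equiv (Subgroup.subgroupOfEquivOfLe hκB).symm
  have hSyB : (Sy : Subgroup A) ≤ Bsub := fun α hα => hind α (hSy ▸ hα : α ∈ A₀.subgroupOf A).1
  obtain ⟨SyK, hSyK⟩ := hK.exists_le_sylow
  obtain ⟨b, hb⟩ := MulAction.exists_smul_eq Bsub SyK (Sy.subtype hSyB)
  obtain ⟨s, hs, hsb⟩ := hind' (ρ b.1) b.2
  have hsS : s ∈ (Sy : Subgroup A) := by rw [hSy]; exact hs
  set l : A := s⁻¹ * b.1 with hl
  have hlρ : ρ l = 1 := by rw [hl, map_mul, map_inv, hsb, inv_mul_cancel]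
  have hlK : ∀ a : M, l * κ' a * l⁻¹ ∈ (Sy : Subgroup A) := fun a => by
    have h1 : b * ⟨κ' a, hκB ⟨a, rfl⟩⟩ * b⁻¹ ∈ ((Sy.subtype hSyB) : Subgroup Bsub) := by
      rw [← hb, Sylow.coe_subgroup_smul, Subgroup.mem_pointwise_smul_iff_inv_smul_mem]
      have h2 : (MulAut.conj b)⁻¹ • (b * ⟨κ' a, hκB ⟨a, rfl⟩⟩ * b⁻¹) =
          (⟨κ' a, hκB ⟨a, rfl⟩⟩ : Bsub) := by
        rw [MulAut.smul_def, MulAut.conj_inv_apply]
        group
      rw [h2]
      exact hSyK ⟨a, rfl⟩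
    have h3 : (b.1 : A) * κ' a * (b.1 : A)⁻¹ ∈ (Sy : Subgroup A) := h1
    have h4 := Subgroup.mul_mem _ (Subgroup.mul_mem _ (Subgroup.inv_mem _ hsS) h3) hsS
    convert h4 using 1
    rw [hl]
    group
  have hlm := isMap_of_autGroup hVS l.2.1
  have hmemV : ∀ x ∈ X ⊔ Q, k x ∈ V := fun x hx => hkV ▸ hk.apply_mem_img hx
  have hk' := hk.comp hlm hmemV
  set k' := fun x => toFun (V.subtype.comp (l : A).1.toMonoidHom) (k x) with hk'def
  have hk'i : img (X ⊔ Q) k' = V := by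
    rw [hk'def, img_comp_eq hk hlm hmemV, hkV, img_toFun_aut]
  have hk'X : ∀ x ∈ X, k' x = f x := fun x hx => by
    have hfP : f x ∈ P' := hi ▸ hf.apply_mem_img hx
    show toFun _ (k x) = _
    rw [hkx x hx, toFun_aut_apply _ (hP'V hfP)]
    have := congrArg (fun γ : E.autGroup P' => ((γ.1 ⟨f x, hfP⟩ : P') : Ω)) hlρ
    exact this
  have hk'Q : ∀ x ∈ Q, k' x ∈ Q ∧ (c → k' x = x) := fun x hx => by
    have hkxQ : k x ∈ Q := hkQ.le ((hk.mono le_sup_right).apply_mem_img hx)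
    show toFun _ (k x) ∈ Q ∧ _
    rw [toFun_aut_apply _ (hQV hkxQ)]
    refine ⟨(l.2.2.2.1 ⟨k x, hQV hkxQ⟩).1 hkxQ, fun hc => ?_⟩
    show toFun _ (k x) = x
    exact (toFun_aut_apply _ _).trans
      ((congrArg Subtype.val (l.2.2.2.2 hc ⟨k x, hQV hkxQ⟩ hkxQ)).trans (hkc hc x hx))
  obtain ⟨ψ, hψ, hψx⟩ : ∃ ψ, IsMap F (M ⊔ Q) ψ ∧ ∀ x ∈ X ⊔ Q, ψ x = k' x := by
    refine receptive_extend (receptive_of_fullyCentralized hS hF hVc) hk' hk'i
      (sup_le_sup_right hXM Q) fun a ha => (mem_extender_iff hk' fun _ => rfl).1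
        ((?_ : M ⊔ Q ≤ extender S (X ⊔ Q) hk'.toHom) ha)
    refine sup_le ?_ fun q hq => ?_
    · intro a ha
      refine (mem_extender_iff hk' fun _ => rfl).2 ⟨hTS (hM a ha).1, hMn a ha, ?_⟩
      have h1 : l * κ' ⟨a, ha⟩ * l⁻¹ ∈ A₀.subgroupOf A := hSy ▸ hlK ⟨a, ha⟩
      obtain ⟨b', hb', hb'x⟩ := mem_autInducedBy_iff.1 h1.1
      refine ⟨b', hb', fun x hx => ?_⟩
      have hx' : a * x * a⁻¹ ∈ X ⊔ Q := (hMn a ha x).1 hx
      have h2 := hb'x (l.1 ⟨k x, hmemV x hx⟩)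
      show toFun _ (k (a * x * a⁻¹)) = b' * toFun _ (k x) * b'⁻¹
      rw [toFun_aut_apply _ (hmemV _ hx'), toFun_aut_apply _ (hmemV x hx), ← h2]
      show _ = ((l.1 (κ ⟨a, ha⟩ (l.1⁻¹ (l.1 ⟨k x, hmemV x hx⟩))) : V) : Ω)
      rw [MulAut.inv_apply_self]
      congr 2
      have e : (⟨k x, hmemV x hx⟩ : V) = hk.equivTo hkV ⟨x, hx⟩ := rfl
      show _ = MulAut.congr (hk.equivTo hkV) _ _
      rw [e, hk.congr_equivTo_apply]
      rfl
    · exact (mem_extender_iff hk' fun _ => rfl).2 ⟨hQS hq,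
        Subgroup.le_normalizer (Subgroup.mem_sup_right hq), _, hk'.mem (Subgroup.mem_sup_right hq),
        fun x hx => hk'.map_conj (Subgroup.mem_sup_right hq) hx⟩
  have hψQ : img Q ψ = Q := by
    haveI := finite_of_le hQS
    refine eq_of_le_of_card_le ?_ (((hψ.mono le_sup_right).card_img).ge)
    intro y hy
    obtain ⟨x, hx, rfl⟩ := (hψ.mono le_sup_right).mem_img.1 hy
    rw [hψx x (Subgroup.mem_sup_right hx)]
    exact (hk'Q x hx).1
  have hψc : c → ∀ x ∈ Q, ψ x = x := fun hc x hx => by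
    rw [hψx x (Subgroup.mem_sup_right hx)]
    exact (hk'Q x hx).2 hc
  refine ⟨ψ, (hE _ _).2 ⟨fun a ha => (hM a ha).1, fun a ha => ?_, ψ, hψ, fun _ _ => rfl, hψQ, hψc⟩,
    fun x hx => ?_⟩
  · obtain ⟨haS, haQ, hac⟩ := (hT a).1 (hM a ha).1
    have h1 := hψ.apply_mem_normalizerIn le_sup_right (Subgroup.mem_sup_left ha) haQ
    rw [hψQ] at h1
    refine (hT _).2 ⟨h1.1, h1.2, fun hc => ?_⟩
    have h2 := hψ.apply_mem_centralizerIn le_sup_right (Subgroup.mem_sup_left ha) (hac hc)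
    rw [hψQ] at h2
    exact h2.2
  · rw [hψx x (Subgroup.mem_sup_left hx), hk'X x hx]

/-- Saturation of a system of normalizer or centralizer type. -/
theorem isSaturated_stab_system {T : Subgroup Ω} {E : FusionSystem T} (hQS : Q ≤ S)
    (hT : ∀ a, a ∈ T ↔ a ∈ S ∧ a ∈ Subgroup.normalizer (Q : Set Ω) ∧
      (c → a ∈ Subgroup.centralizer (Q : Set Ω)))
    (hE : ∀ P f, IsMap E P f ↔ P ≤ T ∧ (∀ x ∈ P, f x ∈ T) ∧
      ∃ g, IsMap F (P ⊔ Q) g ∧ (∀ x ∈ P, g x = f x) ∧ img Q g = Q ∧ (c → ∀ x ∈ Q, g x = x))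
    (hext : ∀ R f, IsMap F R f → img R f = Q → ∃ (N : Subgroup Ω) (g : Ω → Ω), IsMap F N g ∧
      R ≤ N ∧ (∀ a ∈ S, a ∈ Subgroup.normalizer (R : Set Ω) →
        (c → a ∈ Subgroup.centralizer (R : Set Ω)) → a ∈ N) ∧
      img R g = Q ∧ (c → ∀ x ∈ R, g x = f x)) :
    E.IsSaturated p := by
  have hTS : T ≤ S := fun a ha => ((hT a).1 ha).1
  intro P hPT
  have hU : P ⊔ Q ≤ S := sup_le (hPT.trans hTS) hQS
  obtain ⟨φ, hφ, hWn, hsyl⟩ := exists_stabSylow hS hF (le_sup_left : P ≤ P ⊔ Q) le_sup_right hU c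
  set W := img (P ⊔ Q) φ with hW
  -- back to `Q`
  have hφQ := hφ.mono (le_sup_right : Q ≤ P ⊔ Q)
  obtain ⟨φ', hφ', hφ'φ, -, hφ'i⟩ := hφQ.exists_inv
  obtain ⟨N, g, hg, hRN, hN, hgR, hgc⟩ := hext _ φ' hφ' hφ'i
  have hQRW : img Q φ ≤ W := img_mono le_sup_right
  have hmemN : ∀ a ∈ S, ∀ (hn : a ∈ Subgroup.normalizer (W : Set Ω)),
      (W.normalizerMonoidHom ⟨a, hn⟩) ∈ stabAut W (img P φ) (img Q φ) c → a ∈ N := by
    intro a ha hn hst
    refine hN a ha (fun y => ⟨fun hy => ?_, fun hy => ?_⟩) fun hc y hy => ?_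
    · exact (hst.2.1 ⟨y, hQRW hy⟩).1 hy
    · have hyW : y ∈ W := (hn y).2 (hQRW hy)
      exact (hst.2.1 ⟨y, hyW⟩).2 hy
    · have h1 : a * y * a⁻¹ = y := congrArg Subtype.val (hst.2.2 hc ⟨y, hQRW hy⟩ hy)
      exact (mul_inv_eq_iff_eq_mul.1 h1).symm
  have hCN : centralizerIn S W ≤ N := fun a ha => hN a ha.1
    (Subgroup.centralizer_le_normalizer (s := (img Q φ : Set Ω)) fun y hy => ha.2 y (hQRW hy))
    fun _ y hy => ha.2 y (hQRW hy)
  have hWN : W ≤ N := by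
    rw [hW, hφ.img_sup le_sup_left le_sup_right]
    refine sup_le (fun y hy => ?_) hRN
    obtain ⟨x, hx, rfl⟩ := (hφ.mono le_sup_left).mem_img.1 hy
    exact hN _ (hφ.mem (Subgroup.mem_sup_left hx))
      (hφ.apply_mem_normalizerIn le_sup_right (Subgroup.mem_sup_left hx)
        ((hT x).1 (hPT hx)).2.1).2
      fun hc => (hφ.apply_mem_centralizerIn le_sup_right (Subgroup.mem_sup_left hx)
        (((hT x).1 (hPT hx)).2.2 hc)).2
  -- the representative
  have hmem : ∀ x ∈ P ⊔ Q, φ x ∈ N := fun x hx => hWN (hφ.apply_mem_img hx)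
  have hθ := hφ.comp hg hmem
  set θ := fun x => g (φ x) with hθdef
  have hθQ : img Q θ = Q := by
    rw [hθdef, img_comp_eq hφQ hg fun x hx => hmem x (Subgroup.mem_sup_right hx), hgR]
  have hθc : c → ∀ x ∈ Q, θ x = x := fun hc x hx => by
    show g (φ x) = x
    rw [hgc hc _ (hφQ.apply_mem_img hx), hφ'φ x hx]
  have hPθ : ∀ x ∈ P, θ x ∈ T := fun x hx => by
    have h1 := hθ.apply_mem_normalizerIn le_sup_right (Subgroup.mem_sup_left hx)
      ((hT x).1 (hPT hx)).2.1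
    rw [hθQ] at h1
    refine (hT _).2 ⟨h1.1, h1.2, fun hc => ?_⟩
    have h2 := hθ.apply_mem_centralizerIn le_sup_right (Subgroup.mem_sup_left hx)
      (((hT x).1 (hPT hx)).2.2 hc)
    rw [hθQ] at h2
    exact h2.2
  have hEθ : IsMap E P θ := (hE P θ).2 ⟨hPT, hPθ, θ, hθ, fun x _ => rfl, hθQ, hθc⟩
  set P' := img P θ with hP'
  set V := img (P ⊔ Q) θ with hV
  have hVeq : V = P' ⊔ Q := by
    rw [hV, hθ.img_sup le_sup_left le_sup_right, hθQ]
  have hP'V : P' ≤ V := img_mono le_sup_left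
  have hQV : Q ≤ V := hVeq ▸ le_sup_right
  have hP'T : P' ≤ T := hEθ.img_le
  -- `V` is fully centralized
  have hgW := hg.mono hWN
  have hgV : img W g = V := (img_comp_eq hφ hg hmem).symm
  have hgP : img (img P φ) g = P' :=
    (img_comp_eq (hφ.mono le_sup_left) hg fun x hx => hmem x (Subgroup.mem_sup_left hx)).symm
  haveI := finite_centralizerIn (S := S) (P := V)
  have hVc : F.IsFullyCentralized V := by
    have hWc := fullyCentralized_of_fullyNormalized hS hF hWn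
    have hle : Nat.card (centralizerIn S W) ≤ Nat.card (centralizerIn S V) :=
      Nat.card_le_card_of_injective (fun a : centralizerIn S W => (⟨g a,
          hgV ▸ hg.apply_mem_centralizerIn hWN (hCN a.2) a.2.2⟩ : centralizerIn S V))
        fun a b h => Subtype.ext (hg.inj (hCN a.2) (hCN b.2) (congrArg Subtype.val h))
    exact ⟨hθ.img_le, fun X hX => le_trans (hWc.2 X (isConj_trans
      (isConj_iff.2 ⟨g, hgW, hgV⟩) hX)) hle⟩
  haveI := finite_of_le hθ.img_le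
  -- the stabilizer at `V`
  have hsylV : StabSylow F p V P' Q c := by
    have hPW : img P φ ≤ W := img_mono le_sup_left
    have hc := hgW.card_stab (c := c) hgV hPW hQRW
    rw [hgP, hgR] at hc
    rw [StabSylow, hc]
    refine hsyl.trans (Nat.card_le_card_of_injective
      (fun α : ↥(autInducedBy S W ⊓ stabAut W (img P φ) (img Q φ) c) =>
        (⟨MulAut.congr (hgW.equivTo hgV) α.1, ?_⟩ : ↥(autInducedBy S V ⊓ stabAut V P' Q c)))
      fun a b h => Subtype.ext ((MulAut.congr _).injective (congrArg Subtype.val h)))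
    have h1 := hgW.congr_equivTo_stab hgV hPW hQRW α.2.2
    rw [hgP, hgR] at h1
    refine ⟨?_, h1⟩
    obtain ⟨a, ha, hax⟩ := mem_autInducedBy_iff.1 α.2.1
    have haN : a ∈ N := hmemN a ha (mem_normalizer_of_aut hax) <| by
      have e : W.normalizerMonoidHom ⟨a, mem_normalizer_of_aut hax⟩ = α.1 :=
        MulEquiv.ext fun x => Subtype.ext (hax x).symm
      rw [e]
      exact α.2.2
    refine mem_autInducedBy_iff.2 ⟨g a, hg.mem haN, fun y => ?_⟩
    obtain ⟨x, rfl⟩ := (hgW.equivTo hgV).surjective y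
    rw [hgW.congr_equivTo_apply, hgW.coe_equivTo, hgW.coe_equivTo, hax x,
      hg.map_conj haN (hWN x.2)]
  exact ⟨P', isConj_iff.2 ⟨θ, hEθ, rfl⟩,
    automized_receptive_stab_system hS hF hQS hT hE hP'T hVeq hVc hsylV⟩

/-- `N_F(Q)` is saturated. -/
theorem isSaturated_normalizerSystem (hQ : F.IsFullyNormalized Q)
    {E : FusionSystem (normalizerIn S Q)} (hE : F.IsNormalizerSystem Q E) : E.IsSaturated p := by
  refine isSaturated_stab_system (c := False) hS hF hQ.1 (fun a => ?_) (fun P f => ?_)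
    fun R f hf hi => ?_
  · exact ⟨fun h => ⟨h.1, h.2, False.elim⟩, fun h => ⟨h.1, h.2.1⟩⟩
  · rw [isMap_normalizerSystem_iff hE]
    simp
  · obtain ⟨ψ, hψ, hψi, -⟩ := exists_map_normalizerIn_of_fullyNormalized hS hF hQ
      (isConj_iff.2 ⟨f, hf, hi⟩)
    exact ⟨_, ψ, hψ, le_normalizerIn hf.le, fun a ha hn _ => ⟨ha, hn⟩, hψi, False.elim⟩

/-- `C_F(Q)` is saturated. -/
theorem isSaturated_centralizerSystem (hQ : F.IsFullyCentralized Q)
    {E : FusionSystem (centralizerIn S Q)} (hE : F.IsCentralizerSystem Q E) :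
    E.IsSaturated p := by
  refine isSaturated_stab_system (c := True) hS hF hQ.1 (fun a => ?_) (fun P f => ?_)
    fun R f hf hi => ?_
  · exact ⟨fun h => ⟨h.1, (Subgroup.centralizer_le_normalizer (s := (Q : Set Ω))) h.2, fun _ => h.2⟩,
      fun h => ⟨h.1, h.2.2 trivial⟩⟩
  · rw [isMap_centralizerSystem_iff hE]
    simp only [forall_const]
    refine ⟨fun ⟨h1, h2, g, hg, hgx, hgQ⟩ => ⟨h1, h2, g, hg, hgx, ?_, hgQ⟩,
      fun ⟨h1, h2, g, hg, hgx, _, hgQ⟩ => ⟨h1, h2, g, hg, hgx, hgQ⟩⟩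
    ext y
    rw [(hg.mono le_sup_right).mem_img]
    exact ⟨fun ⟨x, hx, hxy⟩ => hxy ▸ (hgQ x hx).symm ▸ hx, fun hy => ⟨y, hy, hgQ y hy⟩⟩
  · obtain ⟨g, hg, hgx⟩ := receptive_extend_centralizer
      (receptive_of_fullyCentralized hS hF hQ) hf hi
    exact ⟨_, g, hg, le_sup_left, fun a ha _ hc => Subgroup.mem_sup_right ⟨ha, hc trivial⟩,
      (img_congr hgx).trans hi, fun _ => hgx⟩

end Saturated

end CfsgLib.Fusion
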