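import Cfsg.Agent.Lib.Fusion.StronglyClosedMod
import Cfsg.Agent.Lib.Fusion.Center
import Cfsg.Prelude.Def_FusionComponents

/-!
Factor systems modulo a strongly closed subgroup, and images of saturated systems.
-/

set_option autoImplicit false
set_option linter.style.haveILetI false
set_option linter.unusedVariables false
set_option linter.unusedSectionVars false

namespace CfsgLib.Fusion

open Cfsg Cfsg.FusionSystem Subgroup

variable {Ω : Type*} [Group Ω] {S : Subgroup Ω} {F : FusionSystem S} {Ω' : Type*} [Group Ω']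
  {S' : Subgroup Ω'} {S₀ : Subgroup Ω} {θ : S →* Ω'} {P N : Subgroup Ω} {P' Q' : Subgroup Ω'}
  {f : Ω → Ω} {f' : Ω' → Ω'} {p : ℕ}

theorem IsMap.apply_mem_img_iff_of_le {P Q : Subgroup Ω} (h : IsMap F Q f) (hP : P ≤ Q) {x : Ω}
    (hx : x ∈ Q) : f x ∈ img P f ↔ x ∈ P := by
  refine ⟨fun hy => ?_, fun hy => (h.mono hP).apply_mem_img hy⟩
  obtain ⟨y, hy', hyx⟩ := (h.mono hP).mem_img.1 hy
  exact h.inj (hP hy') hx hyx ▸ hy'

theorem mem_preimageAlong {x : Ω} :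
    x ∈ preimageAlong θ P' ↔ ∃ hx : x ∈ S, θ ⟨x, hx⟩ ∈ P' := by
  constructor
  · rintro ⟨s, hs, rfl⟩
    exact ⟨s.2, hs⟩
  · rintro ⟨hx, h⟩
    exact ⟨⟨x, hx⟩, h, rfl⟩

theorem preimageAlong_le : preimageAlong θ P' ≤ S := Subgroup.map_subtype_le _

theorem mem_imageAlong {y : Ω'} :
    y ∈ imageAlong θ P ↔ ∃ (x : Ω) (hx : x ∈ S), x ∈ P ∧ θ ⟨x, hx⟩ = y := by
  constructor
  · rintro ⟨s, hs, rfl⟩
    exact ⟨s, s.2, hs, rfl⟩
  · rintro ⟨x, hx, hxP, rfl⟩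
    exact ⟨⟨x, hx⟩, hxP, rfl⟩

theorem imageAlong_preimageAlong (h : P' ≤ θ.range) : imageAlong θ (preimageAlong θ P') = P' := by
  ext y
  rw [mem_imageAlong]
  constructor
  · rintro ⟨x, hx, hxP, rfl⟩
    exact (mem_preimageAlong.1 hxP).2
  · intro hy
    obtain ⟨s, rfl⟩ := h hy
    exact ⟨s, s.2, mem_preimageAlong.2 ⟨s.2, hy⟩, rfl⟩

/-- The map induced along `θ` by a map carrying the kernel into itself. -/
theorem exists_inducedAlong (hN : N ≤ S) (hg : IsMap F N f)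
    (hker : ∀ (x : Ω) (hx : x ∈ N), θ ⟨x, hN hx⟩ = 1 → θ ⟨f x, hg.mem hx⟩ = 1) :
    ∃ φ' : imageAlong θ N →* Ω', ∀ (x : Ω) (hx : x ∈ N),
      φ' ⟨θ ⟨x, hN hx⟩, mem_imageAlong.2 ⟨x, hN hx, hx, rfl⟩⟩ = θ ⟨f x, hg.mem hx⟩ := by
  let u : N →* imageAlong θ N :=
    (θ.comp (Subgroup.inclusion hN)).codRestrict _ fun x =>
      mem_imageAlong.2 ⟨x, hN x.2, x.2, rfl⟩
  have hu : Function.Surjective u := fun y => by
    obtain ⟨x, hx, hxN, hxy⟩ := mem_imageAlong.1 y.2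
    exact ⟨⟨x, hxN⟩, Subtype.ext hxy⟩
  let h : N →* Ω' := θ.comp (hg.toHom.codRestrict S fun x => hg.mem x.2)
  have hle : u.ker ≤ h.ker := fun x hx => hker x x.2 (congrArg Subtype.val hx)
  refine ⟨MonoidHom.liftOfSurjective u hu ⟨h, hle⟩, fun x hx => ?_⟩
  exact MonoidHom.liftOfRightInverse_comp_apply u _ _ ⟨h, hle⟩ ⟨x, hx⟩

theorem inducedAlong_apply {φ : P →* Ω} {φ' : P' →* Ω'} (h : InducedAlong θ φ φ') {x : Ω}
    (hx : x ∈ P) (hxS : x ∈ S) (hφS : φ ⟨x, hx⟩ ∈ S) (hxP' : θ ⟨x, hxS⟩ ∈ P') :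
    φ' ⟨θ ⟨x, hxS⟩, hxP'⟩ = θ ⟨φ ⟨x, hx⟩, hφS⟩ := by
  obtain ⟨hP, hφ, hP', h⟩ := h
  exact h ⟨x, hx⟩

/-- Maps of a system described by maps of `F` on full preimages, read as functions. -/
theorem isMap_induced_iff {E : FusionSystem S'}
    (hE : ∀ (P' : Subgroup Ω') (φ' : P' →* Ω'),
      φ' ∈ E.Hom P' ↔ P' ≤ S' ∧ ∃ φ ∈ F.Hom (preimageAlong θ P'), InducedAlong θ φ φ')
    (hθ : θ.range = S') :
    IsMap E P' f' ↔ P' ≤ S' ∧ ∃ g, ∃ hg : IsMap F (preimageAlong θ P') g,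
      ∀ (x : Ω) (hx : x ∈ preimageAlong θ P'),
        f' (θ ⟨x, preimageAlong_le hx⟩) = θ ⟨g x, hg.mem hx⟩ := by
  constructor
  · rintro ⟨φ', hφ', hf'⟩
    obtain ⟨hP', φ, hφ, hind⟩ := (hE P' φ').1 hφ'
    refine ⟨hP', _, isMap_of_hom hφ, fun x hx => ?_⟩
    rw [← hf' ⟨_, (mem_preimageAlong.1 hx).2⟩,
      inducedAlong_apply hind hx (preimageAlong_le hx) ((F.le_of_mem hφ).2 _) (mem_preimageAlong.1 hx).2]
    congr 2
    exact (toFun_apply φ ⟨x, hx⟩).symm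
  · rintro ⟨hP', g, hg, hgx⟩
    have hP : P' ≤ θ.range := hθ.symm ▸ hP'
    let φ' : P' →* Ω' :=
      { toFun := fun y => f' y
        map_one' := by
          have h := hgx 1 (Subgroup.one_mem _)
          have e1 : (⟨1, preimageAlong_le (Subgroup.one_mem (preimageAlong θ P'))⟩ : S) = 1 := rfl
          rw [e1, map_one] at h
          rw [Subgroup.coe_one, h]
          have e2 : (⟨g 1, hg.mem (Subgroup.one_mem _)⟩ : S) = 1 := Subtype.ext hg.map_one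
          rw [e2, map_one]
        map_mul' := by
          rintro ⟨a, ha⟩ ⟨b, hb⟩
          obtain ⟨s, rfl⟩ := hP ha
          obtain ⟨t, rfl⟩ := hP hb
          have hs : (s : Ω) ∈ preimageAlong θ P' := mem_preimageAlong.2 ⟨s.2, ha⟩
          have ht : (t : Ω) ∈ preimageAlong θ P' := mem_preimageAlong.2 ⟨t.2, hb⟩
          show f' (θ s * θ t) = f' (θ s) * f' (θ t)
          rw [← map_mul, hgx _ hs, hgx _ ht, ← map_mul]
          refine (hgx _ (Subgroup.mul_mem _ hs ht)).trans (congrArg θ (Subtype.ext ?_))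
          exact hg.map_mul hs ht }
    refine ⟨φ', (hE P' φ').2 ⟨hP', hg.toHom, hg.toHom_mem, preimageAlong_le,
      fun x => hg.mem x.2, fun x => (mem_preimageAlong.1 x.2).2, fun x => hgx x x.2⟩,
      fun _ => rfl⟩

theorem le_preimageAlong_of_ker (hker : ∀ s : S, θ s = 1 ↔ (s : Ω) ∈ S₀) (hS₀ : S₀ ≤ S) :
    S₀ ≤ preimageAlong θ P' := fun x hx =>
  mem_preimageAlong.2 ⟨hS₀ hx, by rw [(hker ⟨x, hS₀ hx⟩).2 hx]; exact P'.one_mem⟩

/-- The factor system modulo a strongly closed subgroup. -/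
noncomputable def factorSys [Finite S] (F : FusionSystem S) (hS₀ : F.StronglyClosed S₀)
    (θ : S →* Ω') (hker : ∀ s : S, θ s = 1 ↔ (s : Ω) ∈ S₀) : FusionSystem θ.range where
  Hom P' := {φ' | P' ≤ θ.range ∧ ∃ φ ∈ F.Hom (preimageAlong θ P'), InducedAlong θ φ φ'}
  le_of_mem {P' φ'} h := by
    obtain ⟨hP', φ, hφ, hind⟩ := h
    refine ⟨hP', fun y => ?_⟩
    obtain ⟨s, hs⟩ := hP' y.2
    have hsP : (s : Ω) ∈ preimageAlong θ P' := mem_preimageAlong.2 ⟨s.2, hs ▸ y.2⟩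
    have e : y = ⟨θ s, hs ▸ y.2⟩ := Subtype.ext hs.symm
    rw [e, inducedAlong_apply hind hsP s.2 ((F.le_of_mem hφ).2 _)]
    exact ⟨_, rfl⟩
  injective_of_mem {P' φ'} h := by
    obtain ⟨hP', φ, hφ, hind⟩ := h
    refine (injective_iff_map_eq_one φ').2 fun y hy => ?_
    obtain ⟨s, hs⟩ := hP' y.2
    have hsP : (s : Ω) ∈ preimageAlong θ P' := mem_preimageAlong.2 ⟨s.2, hs ▸ y.2⟩
    have e : y = ⟨θ s, hs ▸ y.2⟩ := Subtype.ext hs.symm
    rw [e, inducedAlong_apply hind hsP s.2 ((F.le_of_mem hφ).2 _)] at hy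
    have h1 := (hker _).1 hy
    have hm := isMap_of_hom hφ
    have h2 : S₀ ≤ preimageAlong θ P' := le_preimageAlong_of_ker hker hS₀.1
    have h3 : toFun φ s ∈ img S₀ (toFun φ) := by
      rw [StronglyClosed.img_eq hS₀ hm h2, toFun_of_mem φ hsP]
      exact h1
    rw [hm.apply_mem_img_iff_of_le h2 hsP] at h3
    apply Subtype.ext
    rw [← hs, (hker s).2 h3]
    rfl
  conj_mem {P' a} hP' ha := by
    obtain ⟨s, rfl⟩ := ha
    refine ⟨hP', _, F.conj_mem preimageAlong_le s.2, preimageAlong_le,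
      fun x => (F.le_of_mem (F.conj_mem preimageAlong_le s.2)).2 x,
      fun x => (mem_preimageAlong.1 x.2).2, fun x => ?_⟩
    show θ s * θ ⟨x, preimageAlong_le x.2⟩ * (θ s)⁻¹ = _
    rw [← map_mul, ← map_inv, ← map_mul]
    rfl
  comp_mem {P' Q' φ' ψ'} hφ' hψ' h := by
    obtain ⟨hP', φ, hφ, hind⟩ := hφ'
    obtain ⟨hQ', ψ, hψ, hind'⟩ := hψ'
    have hmem : ∀ x : preimageAlong θ P', φ x ∈ preimageAlong θ Q' := fun x =>
      mem_preimageAlong.2 ⟨(F.le_of_mem hφ).2 x, by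
        rw [← inducedAlong_apply hind x.2 (preimageAlong_le x.2) ((F.le_of_mem hφ).2 x)
          (mem_preimageAlong.1 x.2).2]
        exact h _⟩
    refine ⟨hP', _, F.comp_mem hφ hψ hmem, preimageAlong_le, fun x => (F.le_of_mem hψ).2 _,
      fun x => (mem_preimageAlong.1 x.2).2, fun x => ?_⟩
    show ψ' ⟨φ' _, h _⟩ = _
    have e := inducedAlong_apply hind x.2 (preimageAlong_le x.2) ((F.le_of_mem hφ).2 x)
      (mem_preimageAlong.1 x.2).2
    rw [show (⟨φ' _, h _⟩ : Q') = ⟨θ ⟨φ x, (F.le_of_mem hφ).2 x⟩,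
      (mem_preimageAlong.1 (hmem x)).2⟩ from Subtype.ext e,
      inducedAlong_apply hind' (hmem x) _ ((F.le_of_mem hψ).2 _)]
    rfl
  inv_mem {P' φ'} hφ' := by
    obtain ⟨hP', φ, hφ, hind⟩ := hφ'
    have hm := isMap_of_hom hφ
    obtain ⟨ψ, hψ, hψx⟩ := F.inv_mem hφ
    have hval : ∀ s : S, ∀ hs : θ s ∈ P', φ' ⟨θ s, hs⟩ =
        θ ⟨φ ⟨s, mem_preimageAlong.2 ⟨s.2, hs⟩⟩, (F.le_of_mem hφ).2 _⟩ := fun s hs =>
      inducedAlong_apply hind (mem_preimageAlong.2 ⟨s.2, hs⟩) s.2 ((F.le_of_mem hφ).2 _) hs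
    have himg : ∀ t : S, θ t ∈ φ'.range → (t : Ω) ∈ φ.range := by
      rintro t ⟨⟨y, hy⟩, hyt⟩
      obtain ⟨s, rfl⟩ := hP' hy
      rw [hval s hy] at hyt
      have hsP : (s : Ω) ∈ preimageAlong θ P' := mem_preimageAlong.2 ⟨s.2, hy⟩
      have h1 : (φ ⟨s, hsP⟩)⁻¹ * t ∈ S₀ := by
        refine (hker ⟨_, S.mul_mem (S.inv_mem ((F.le_of_mem hφ).2 _)) t.2⟩).1 ?_
        rw [show (⟨_, S.mul_mem (S.inv_mem ((F.le_of_mem hφ).2 ⟨s, hsP⟩)) t.2⟩ : S) =
          (⟨φ ⟨s, hsP⟩, (F.le_of_mem hφ).2 _⟩ : S)⁻¹ * t from rfl, map_mul, map_inv, hyt,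
          inv_mul_cancel]
      have h2 : S₀ ≤ preimageAlong θ P' := le_preimageAlong_of_ker hker hS₀.1
      rw [← StronglyClosed.img_eq hS₀ hm h2, (hm.mono h2).mem_img] at h1
      obtain ⟨z, hz, hzx⟩ := h1
      refine ⟨⟨s, hsP⟩ * ⟨z, h2 hz⟩, ?_⟩
      rw [map_mul, ← toFun_apply φ ⟨z, h2 hz⟩, hzx, mul_inv_cancel_left]
    have hle : φ'.range ≤ θ.range := by
      rintro _ ⟨⟨y, hy⟩, rfl⟩
      obtain ⟨s, rfl⟩ := hP' hy
      rw [hval s hy]
      exact ⟨_, rfl⟩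
    have hpre : preimageAlong θ φ'.range ≤ φ.range := fun t ht =>
      himg ⟨t, preimageAlong_le ht⟩ (mem_preimageAlong.1 ht).2
    have hk := (isMap_of_hom hψ).mono hpre
    obtain ⟨χ, hχ⟩ := exists_inducedAlong (θ := θ) preimageAlong_le hk fun x hx hx1 => by
      obtain ⟨z, rfl⟩ := hpre hx
      have h2 : S₀ ≤ preimageAlong θ P' := le_preimageAlong_of_ker hker hS₀.1
      have h4 : φ z ∈ img S₀ (toFun φ) := by
        rw [StronglyClosed.img_eq hS₀ hm h2]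
        exact (hker _).1 hx1
      rw [← toFun_apply φ z, hm.apply_mem_img_iff_of_le h2 z.2] at h4
      refine (hker _).2 ?_
      show toFun ψ (φ z) ∈ S₀
      rw [toFun_of_mem ψ ⟨z, rfl⟩, hψx]
      exact h4
    have hi := imageAlong_preimageAlong hle
    let e : φ'.range →* imageAlong θ (preimageAlong θ φ'.range) := Subgroup.inclusion hi.ge
    refine ⟨χ.comp e, ⟨hle, hk.toHom, hk.toHom_mem, preimageAlong_le, fun x => hk.mem x.2,
      fun x => (mem_preimageAlong.1 x.2).2, fun x => hχ x x.2⟩, ?_⟩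
    rintro ⟨y, hy⟩
    obtain ⟨s, rfl⟩ := hP' hy
    have hsP : (s : Ω) ∈ preimageAlong θ P' := mem_preimageAlong.2 ⟨s.2, hy⟩
    have hmem : φ ⟨s, hsP⟩ ∈ preimageAlong θ φ'.range :=
      mem_preimageAlong.2 ⟨(F.le_of_mem hφ).2 _, ⟨⟨θ s, hy⟩, hval s hy⟩⟩
    show χ _ = θ s
    refine ((congrArg χ (Subtype.ext (hval s hy) : _ =
      (⟨θ ⟨φ ⟨s, hsP⟩, preimageAlong_le hmem⟩,
        mem_imageAlong.2 ⟨_, preimageAlong_le hmem, hmem, rfl⟩⟩ :
        imageAlong θ (preimageAlong θ φ'.range)))).trans (hχ _ hmem)).trans ?_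
    congr 1
    apply Subtype.ext
    show toFun ψ (φ ⟨s, hsP⟩) = s
    rw [toFun_of_mem ψ ⟨_, rfl⟩, hψx]

section Saturated

variable [Fact p.Prime] [Finite S] (hS : IsPGroup p S) (hF : F.IsSaturated p)

include hS hF

/-- Modulo a strongly closed subgroup every map induces a map of the factor system. -/
theorem isSurjectiveMorphism_factor (hS₀ : F.StronglyClosed S₀) {E : FusionSystem S'}
    (hE : F.IsFactorSystem S₀ θ E) : F.IsSurjectiveMorphism E θ := by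
  obtain ⟨-, hker, hθ, hE⟩ := hE
  refine ⟨⟨fun s => hθ ▸ ⟨s, rfl⟩, fun P φ hφ => ?_⟩, hθ,
    fun P' hP' φ' hφ' => ((hE P' φ').1 hφ').2⟩
  have hPS := (F.le_of_mem hφ).1
  have hm := isMap_of_hom hφ
  obtain ⟨g, hg, hgx⟩ := exists_map_mod hS hF hS₀ hm
  have hle : imageAlong θ P ≤ θ.range := fun y hy => by
    obtain ⟨x, hx, -, rfl⟩ := mem_imageAlong.1 hy
    exact ⟨_, rfl⟩
  have hpre : preimageAlong θ (imageAlong θ P) ≤ P ⊔ S₀ := fun t ht => by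
    obtain ⟨htS, ht⟩ := mem_preimageAlong.1 ht
    obtain ⟨x, hx, hxP, hxt⟩ := mem_imageAlong.1 ht
    have h1 : x⁻¹ * t ∈ S₀ := by
      refine (hker ((⟨x, hx⟩ : S)⁻¹ * ⟨t, htS⟩)).1 ?_
      rw [map_mul, map_inv, hxt, inv_mul_cancel]
    have := Subgroup.mul_mem _ (Subgroup.mem_sup_left (T := S₀) hxP) (Subgroup.mem_sup_right h1)
    rwa [mul_inv_cancel_left] at this
  have hk := hg.mono hpre
  obtain ⟨χ, hχ⟩ := exists_inducedAlong (θ := θ) preimageAlong_le hk fun x hx hx1 =>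
    (hker _).2 (StronglyClosed.apply_mem hS₀ hk hx ((hker _).1 hx1))
  have hi := imageAlong_preimageAlong hle
  let φ' : imageAlong θ P →* Ω' := χ.comp (Subgroup.inclusion hi.ge)
  refine ⟨φ', (hE _ _).2 ⟨hθ ▸ hle, hk.toHom, hk.toHom_mem, preimageAlong_le,
    fun x => hk.mem x.2, fun x => (mem_preimageAlong.1 x.2).2, fun x => hχ x x.2⟩,
    hPS, (F.le_of_mem hφ).2, fun x => mem_imageAlong.2 ⟨x, hPS x.2, x.2, rfl⟩, fun x => ?_⟩
  have hx : (x : Ω) ∈ preimageAlong θ (imageAlong θ P) :=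
    mem_preimageAlong.2 ⟨hPS x.2, mem_imageAlong.2 ⟨x, hPS x.2, x.2, rfl⟩⟩
  refine (hχ x hx).trans ?_
  have h1 := (hker (⟨g x, hk.mem hx⟩⁻¹ * ⟨φ x, (F.le_of_mem hφ).2 x⟩)).2 (by
    show (g x)⁻¹ * φ x ∈ S₀
    rw [← toFun_apply φ x]
    exact hgx x x.2)
  rw [map_mul, map_inv, inv_mul_eq_one] at h1
  exact h1

/-- The image of a saturated system is saturated. -/
theorem isSaturated_image {F' : FusionSystem S'} (hα : F.IsSurjectiveMorphism F' θ) :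
    F'.IsSaturated p := by
  obtain ⟨⟨-, hmor⟩, hθ, hsurj⟩ := hα
  set Z : Subgroup Ω := θ.ker.map S.subtype with hZdef
  have hZ : ∀ s : S, θ s = 1 ↔ (s : Ω) ∈ Z := fun s =>
    ⟨fun h => ⟨s, h, rfl⟩, fun ⟨t, ht, hts⟩ => Subtype.ext hts ▸ ht⟩
  have hZS : Z ≤ S := Subgroup.map_subtype_le _
  have hZc : F.StronglyClosed Z := by
    refine stronglyClosed_iff.2 ⟨hZS, fun X f hX hf x hx => ?_⟩
    obtain ⟨φ', -, hind⟩ := hmor X _ hf.toHom_mem
    have hmem : θ ⟨x, hf.le hx⟩ ∈ imageAlong θ X := mem_imageAlong.2 ⟨x, hf.le hx, hx, rfl⟩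
    have h := inducedAlong_apply hind hx (hf.le hx) (hf.mem hx) hmem
    have h1 := (hZ ⟨x, hf.le hx⟩).2 (hX hx)
    have e : (⟨θ ⟨x, hf.le hx⟩, hmem⟩ : imageAlong θ X) = 1 := Subtype.ext h1
    rw [e, map_one] at h
    exact (hZ ⟨f x, hf.mem hx⟩).1 h.symm
  have hE : F.IsFactorSystem Z θ F' := by
    refine ⟨hZS, hZ, hθ, fun P' φ' => ⟨fun h => ⟨(F'.le_of_mem h).1,
      hsurj P' (F'.le_of_mem h).1 φ' h⟩, ?_⟩⟩
    rintro ⟨hP', φ, hφ, hind⟩
    obtain ⟨ψ, hψ, hψind⟩ := hmor _ φ hφ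
    have hi := imageAlong_preimageAlong (θ := θ) (hθ.symm ▸ hP' : P' ≤ θ.range)
    have key : ∀ (R : Subgroup Ω') (η : R →* Ω'), η ∈ F'.Hom R → InducedAlong θ φ η → R = P' →
        φ' ∈ F'.Hom P' := by
      rintro R η hη hηind rfl
      have e : φ' = η := MonoidHom.ext fun ⟨y, hy⟩ => by
        obtain ⟨s, rfl⟩ := (hθ.symm ▸ hP' : R ≤ θ.range) hy
        have hs : (s : Ω) ∈ preimageAlong θ R := mem_preimageAlong.2 ⟨s.2, hy⟩
        rw [inducedAlong_apply hind hs s.2 ((F.le_of_mem hφ).2 _),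
          inducedAlong_apply hηind hs s.2 ((F.le_of_mem hφ).2 _)]
      exact e ▸ hη
    exact key _ ψ hψ hψind hi
  intro P' hP'
  have hiff := fun (X : Subgroup Ω') (k : Ω' → Ω') =>
    isMap_induced_iff (P' := X) (f' := k) hE.2.2.2 hθ
  obtain ⟨R, hR, hRn⟩ := exists_fullyNormalized_conj F (preimageAlong_le (θ := θ) (P' := P'))
  obtain ⟨f, hf, hfR⟩ := isConj_iff.1 hR
  haveI := finite_of_le hRn.1
  have hZP : ∀ X : Subgroup Ω', Z ≤ preimageAlong θ X := fun X =>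
    le_preimageAlong_of_ker hZ hZS
  have hZR : Z ≤ R := by
    rw [← hfR, ← StronglyClosed.img_eq hZc hf (hZP _)]
    exact img_mono (hZP _)
  set R' := imageAlong θ R with hR'
  have hpre : preimageAlong θ R' = R := by
    refine le_antisymm (fun t ht => ?_) fun t ht =>
      mem_preimageAlong.2 ⟨hRn.1 ht, mem_imageAlong.2 ⟨t, hRn.1 ht, ht, rfl⟩⟩
    obtain ⟨htS, ht⟩ := mem_preimageAlong.1 ht
    obtain ⟨x, hx, hxR, hxt⟩ := mem_imageAlong.1 ht
    have h1 := (hZ ((⟨x, hx⟩ : S)⁻¹ * ⟨t, htS⟩)).1 (by rw [map_mul, map_inv, hxt, inv_mul_cancel])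
    have := R.mul_mem hxR (hZR h1)
    simpa using this
  have hR'S : R' ≤ S' := fun y hy => by
    obtain ⟨x, hx, -, rfl⟩ := mem_imageAlong.1 hy
    exact hθ ▸ ⟨_, rfl⟩
  -- the induced map onto `R'`
  obtain ⟨ψ', hψ', hψind⟩ := hmor _ _ hf.toHom_mem
  have hi0 := imageAlong_preimageAlong (θ := θ) (hθ.symm ▸ hP' : P' ≤ θ.range)
  have hconj : F'.IsConj P' R' := by
    refine isConj_trans (Q := imageAlong θ (preimageAlong θ P'))
      (by rw [hi0]; exact isConj_refl hP') ⟨ψ', hψ', ?_⟩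
    ext y
    constructor
    · rintro ⟨⟨z, hz⟩, rfl⟩
      obtain ⟨x, hxS, hx, rfl⟩ := mem_imageAlong.1 hz
      refine mem_imageAlong.2 ⟨f x, hf.mem hx, hfR ▸ hf.apply_mem_img hx, ?_⟩
      exact (inducedAlong_apply hψind hx hxS (hf.mem hx) hz).symm
    · intro hy
      obtain ⟨z, hz, hzR, rfl⟩ := mem_imageAlong.1 hy
      rw [← hfR] at hzR
      obtain ⟨x, hx, rfl⟩ := hf.mem_img.1 hzR
      exact ⟨⟨θ ⟨x, hf.le hx⟩, mem_imageAlong.2 ⟨x, hf.le hx, hx, rfl⟩⟩,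
        inducedAlong_apply hψind hx (hf.le hx) (hf.mem hx) _⟩
  -- the automorphisms of `R'` come from those of `R`
  have hθR : ∀ x : R, θ ⟨x, hRn.1 x.2⟩ ∈ R' := fun x =>
    mem_imageAlong.2 ⟨x, hRn.1 x.2, x.2, rfl⟩
  let u : R →* R' := (θ.comp (Subgroup.inclusion hRn.1)).codRestrict R' hθR
  have hu : Function.Surjective u := fun y => by
    obtain ⟨x, hx, hxR, hxy⟩ := mem_imageAlong.1 y.2
    exact ⟨⟨x, hxR⟩, Subtype.ext hxy⟩
  have hker : ∀ α ∈ F.autGroup R, u.ker.map (α : MulAut R).toMonoidHom ≤ u.ker := by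
    rintro α hα _ ⟨x, hx, rfl⟩
    refine Subtype.ext ?_
    have h1 := (hZ ⟨x, hRn.1 x.2⟩).1 (congrArg Subtype.val hx)
    have h2 := StronglyClosed.apply_mem hZc (isMap_of_autGroup hRn.1 hα) x.2 h1
    rw [toFun_aut_apply _ x.2] at h2
    exact (hZ ⟨(α x : R), hRn.1 (α x).2⟩).2 h2
  let lift : ∀ α : MulAut R, α ∈ F.autGroup R → R' →* R' := fun α hα =>
    MonoidHom.liftOfSurjective u hu ⟨u.comp α.toMonoidHom,
      fun x hx => hker α hα ⟨x, hx, rfl⟩⟩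
  have hlift : ∀ α hα x, lift α hα (u x) = u (α x) := fun α hα x =>
    MonoidHom.liftOfRightInverse_comp_apply u _ _ _ x
  let res : F.autGroup R →* MulAut R' :=
    { toFun := fun α =>
        { toFun := lift α.1 α.2
          invFun := lift (α⁻¹ : F.autGroup R).1 (α⁻¹).2
          left_inv := fun y => by
            obtain ⟨x, rfl⟩ := hu y
            refine (congrArg _ (hlift α.1 α.2 x)).trans ((hlift _ (α⁻¹).2 _).trans ?_)
            rw [Subgroup.coe_inv, MulAut.inv_apply_self]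
          right_inv := fun y => by
            obtain ⟨x, rfl⟩ := hu y
            refine (congrArg _ (hlift _ (α⁻¹).2 x)).trans ((hlift α.1 α.2 _).trans ?_)
            rw [Subgroup.coe_inv, MulAut.apply_inv_self]
          map_mul' := map_mul _ }
      map_one' := MulEquiv.ext fun y => by
        obtain ⟨x, rfl⟩ := hu y
        exact hlift 1 (Subgroup.one_mem _) x
      map_mul' := fun α β => MulEquiv.ext fun y => by
        obtain ⟨x, rfl⟩ := hu y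
        show lift (α * β).1 (α * β).2 (u x) = lift α.1 α.2 (lift β.1 β.2 (u x))
        exact (hlift (α * β).1 (α * β).2 x).trans (((congrArg (lift α.1 α.2)
          (hlift β.1 β.2 x)).trans (hlift α.1 α.2 _)).symm) }
  have hres : ∀ (α : F.autGroup R) (x : R), res α (u x) = u ((α : MulAut R) x) := fun α x =>
    hlift α.1 α.2 x
  have hrmem : ∀ α, res α ∈ F'.autGroup R' := fun α => by
    refine (autGroup_iff_isMap hR'S
      (f := toFun (R'.subtype.comp (res α).toMonoidHom)) fun x => (toFun_aut_apply _ x.2).symm).2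
      ((hiff _ _).2 ⟨hR'S, toFun (R.subtype.comp (α : MulAut R).toMonoidHom),
        hpre.symm ▸ isMap_of_autGroup hRn.1 α.2, fun x hx => ?_⟩)
    have hxR : x ∈ R := hpre ▸ hx
    rw [toFun_aut_apply _ (hθR ⟨x, hxR⟩)]
    refine (congrArg Subtype.val (hres α ⟨x, hxR⟩)).trans ?_
    refine congrArg θ (Subtype.ext ?_)
    exact (toFun_aut_apply _ hxR).symm
  let ρ : F.autGroup R →* F'.autGroup R' := res.codRestrict _ hrmem
  have hρ : Function.Surjective ρ := fun γ => by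
    obtain ⟨-, g, hg, hgx⟩ := (hiff _ _).1 (isMap_of_autGroup hR'S γ.2)
    have hgR : IsMap F R g := hpre ▸ hg
    have hi : img R g = R := by
      refine eq_of_le_of_card_le (fun y hy => ?_) hgR.card_img.ge
      obtain ⟨x, hx, rfl⟩ := hgR.mem_img.1 hy
      rw [← hpre]
      refine mem_preimageAlong.2 ⟨hgR.mem hx, ?_⟩
      rw [← hgx x (hpre.symm ▸ hx), toFun_aut_apply _ (hθR ⟨x, hx⟩)]
      exact SetLike.coe_mem _
    refine ⟨⟨hgR.toAut hi, hgR.toAut_mem hi⟩, Subtype.ext (MulEquiv.ext fun y => ?_)⟩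
    obtain ⟨x, rfl⟩ := hu y
    refine (hres _ x).trans (Subtype.ext ?_)
    have h1 := hgx x (hpre.symm ▸ x.2)
    rw [toFun_aut_apply _ (hθR x)] at h1
    exact h1.symm
  have hind1 : ∀ α : F.autGroup R, (α : MulAut R) ∈ autInducedBy S R →
      res α ∈ autInducedBy S' R' := fun α hα => by
    obtain ⟨a, ha, hax⟩ := mem_autInducedBy_iff.1 hα
    refine mem_autInducedBy_iff.2 ⟨θ ⟨a, ha⟩, hθ ▸ ⟨_, rfl⟩, fun y => ?_⟩
    obtain ⟨x, rfl⟩ := hu y
    rw [hres]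
    show θ ⟨((α : MulAut R) x : R), _⟩ = θ ⟨a, ha⟩ * θ ⟨x, _⟩ * (θ ⟨a, ha⟩)⁻¹
    rw [← map_mul, ← map_inv, ← map_mul]
    exact congrArg θ (Subtype.ext (hax x))
  have hind2 : ∀ γ : F'.autGroup R', (γ : MulAut R') ∈ autInducedBy S' R' →
      ∃ α : F.autGroup R, (α : MulAut R) ∈ autInducedBy S R ∧ ρ α = γ := fun γ hγ => by
    obtain ⟨b, hb, hbx⟩ := mem_autInducedBy_iff.1 hγ
    obtain ⟨a, rfl⟩ := (hθ.symm ▸ hb : b ∈ θ.range)
    have hn : (a : Ω) ∈ Subgroup.normalizer (R : Set Ω) := by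
      haveI : Finite (R : Set Ω) := inferInstanceAs (Finite R)
      refine Subgroup.mem_normalizer_fintype fun y hy => ?_
      rw [SetLike.mem_coe, ← hpre]
      refine mem_preimageAlong.2 ⟨S.mul_mem (S.mul_mem a.2 (hRn.1 hy)) (S.inv_mem a.2), ?_⟩
      rw [show (⟨(a : Ω) * y * (a : Ω)⁻¹, S.mul_mem (S.mul_mem a.2 (hRn.1 hy)) (S.inv_mem a.2)⟩ : S)
        = a * ⟨y, hRn.1 hy⟩ * a⁻¹ from rfl, map_mul, map_mul, map_inv,
        ← hbx ⟨_, hθR ⟨y, hy⟩⟩]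
      exact SetLike.coe_mem _
    have hc : R.normalizerMonoidHom ⟨a, hn⟩ ∈ autInducedBy S R :=
      mem_autInducedBy_iff.2 ⟨a, a.2, fun x => rfl⟩
    refine ⟨⟨_, autInducedBy_le_autGroup hRn.1 hc⟩, hc, Subtype.ext (MulEquiv.ext fun y => ?_)⟩
    obtain ⟨x, rfl⟩ := hu y
    refine (hres _ x).trans (Subtype.ext ?_)
    rw [hbx]
    show θ ⟨(a : Ω) * x * (a : Ω)⁻¹, _⟩ = θ a * θ ⟨x, _⟩ * (θ a)⁻¹
    rw [← map_mul, ← map_inv, ← map_mul]
    rfl
  obtain ⟨W, hW⟩ := (fullyAutomized_of_fullyNormalized hS hF hRn).2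
  refine ⟨R', hconj, ⟨hR'S, W.mapSurjective hρ, ?_⟩, ?_⟩
  · rw [Sylow.coe_mapSurjective, hW]
    ext γ
    refine ⟨?_, fun hγ => ?_⟩
    · rintro ⟨α, hα, rfl⟩
      exact hind1 α hα
    · obtain ⟨α, hα, rfl⟩ := hind2 γ hγ
      exact ⟨α, hα, rfl⟩
  refine receptive_of_extend hR'S fun X' f' hf' hi' M' hXM hM => ?_
  obtain ⟨hX', g, hg, hgx⟩ := (hiff _ _).1 hf'
  set X := preimageAlong θ X' with hX
  have hgX : img X g = R := by
    refine le_antisymm (fun y hy => ?_) fun y hy => ?_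
    · obtain ⟨x, hx, rfl⟩ := hg.mem_img.1 hy
      rw [← hpre]
      refine mem_preimageAlong.2 ⟨hg.mem hx, ?_⟩
      rw [← hgx x hx, ← hi']
      exact hf'.apply_mem_img (mem_preimageAlong.1 hx).2
    · have hy' : θ ⟨y, hRn.1 hy⟩ ∈ img X' f' := hi'.symm ▸ hθR ⟨y, hy⟩
      obtain ⟨z, hz, hzy⟩ := hf'.mem_img.1 hy'
      obtain ⟨s, rfl⟩ := (hθ.symm ▸ hX' : X' ≤ θ.range) hz
      have hs : (s : Ω) ∈ X := mem_preimageAlong.2 ⟨s.2, hz⟩
      rw [hgx _ hs] at hzy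
      have h1 : (g s)⁻¹ * y ∈ Z := (hZ ((⟨g s, hg.mem hs⟩ : S)⁻¹ * ⟨y, hRn.1 hy⟩)).1
        (by rw [map_mul, map_inv, ← hzy]; exact inv_mul_cancel _)
      rw [← StronglyClosed.img_eq hZc hg (hZP X')] at h1
      have := Subgroup.mul_mem _ (hg.apply_mem_img hs) (img_mono (hZP X') h1)
      simpa using this
  set M := preimageAlong θ M' with hMdef
  have hMS : M ≤ S := preimageAlong_le
  have hMn : ∀ a ∈ M, a ∈ Subgroup.normalizer (X : Set Ω) := fun a ha => by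
    obtain ⟨haS, ha'⟩ := mem_preimageAlong.1 ha
    obtain ⟨-, han, -⟩ := hM _ ha'
    haveI : Finite (X : Set Ω) := (finite_of_le hg.le : Finite X)
    refine Subgroup.mem_normalizer_fintype fun y hy => ?_
    obtain ⟨hyS, hy'⟩ := mem_preimageAlong.1 hy
    refine mem_preimageAlong.2 ⟨S.mul_mem (S.mul_mem haS hyS) (S.inv_mem haS), ?_⟩
    rw [show (⟨a * y * a⁻¹, _⟩ : S) = ⟨a, haS⟩ * ⟨y, hyS⟩ * ⟨a, haS⟩⁻¹ from rfl, map_mul, map_mul,
      map_inv]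
    exact (han _).1 hy'
  let e : X ≃* R := hg.equivImg.trans (MulEquiv.subgroupCongr hgX)
  let κ : M →* MulAut R := (MulAut.congr e).toMonoidHom.comp
    (X.normalizerMonoidHom.comp (Subgroup.inclusion hMn))
  have hκe : ∀ (a : M) (x : X), κ a (e x) = e (X.normalizerMonoidHom ⟨a, hMn a a.2⟩ x) := by
    intro a x
    show e (X.normalizerMonoidHom ⟨a, hMn a a.2⟩ (e.symm (e x))) = _
    rw [MulEquiv.symm_apply_apply]
  have hκA : ∀ a : M, κ a ∈ F.autGroup R := fun a => by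
    have hm := hg.congr_mem_autGroup ((autGroup_iff_isMap hg.le fun x => rfl).2
      (isMap_conj F hg.le (hMS a.2)) : X.normalizerMonoidHom ⟨a, hMn a a.2⟩ ∈ F.autGroup X)
    have key : ∀ (U : Subgroup Ω) (h : img X g = U), MulAut.congr (hg.equivImg.trans
        (MulEquiv.subgroupCongr h)) (X.normalizerMonoidHom ⟨a, hMn a a.2⟩) ∈ F.autGroup U := by
      rintro _ rfl
      exact hm
    exact key R hgX
  let κ' : M →* F.autGroup R := κ.codRestrict _ hκA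
  let B : Subgroup (F.autGroup R) := ((autInducedBy S' R').subgroupOf (F'.autGroup R')).comap ρ
  have hκB : κ'.range ≤ B := by
    rintro _ ⟨a, rfl⟩
    obtain ⟨haS, ha'⟩ := mem_preimageAlong.1 a.2
    obtain ⟨-, han, b, hb, hbx⟩ := hM _ ha'
    refine mem_autInducedBy_iff.2 ⟨b, hb, fun y => ?_⟩
    obtain ⟨z, rfl⟩ := hu y
    obtain ⟨x, rfl⟩ := e.surjective z
    have h1 : (κ' a : MulAut R) (e x) = e (X.normalizerMonoidHom ⟨a, hMn a a.2⟩ x) := hκe a x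
    show ((res (κ' a) (u (e x)) : R') : Ω') = _
    rw [hres, h1]
    have h2 : ∀ w : X, ((u (e w) : R') : Ω') = f' (θ ⟨w, hg.le w.2⟩) := fun w => by
      rw [hgx w w.2]
      rfl
    rw [h2, h2, show (⟨((X.normalizerMonoidHom ⟨a, hMn a a.2⟩ x : X) : Ω), hg.le (SetLike.coe_mem _)⟩ : S) =
      ⟨a, haS⟩ * ⟨x, hg.le x.2⟩ * ⟨a, haS⟩⁻¹ from rfl, map_mul, map_mul, map_inv]
    exact hbx _ (mem_preimageAlong.1 x.2).2
  haveI := finite_of_le hMS
  have hK : IsPGroup p (κ'.range.subgroupOf B) :=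
    (IsPGroup.of_surjective (hS.to_le hMS) κ'.rangeRestrict
      κ'.rangeRestrict_surjective).of_equiv (Subgroup.subgroupOfEquivOfLe hκB).symm
  have hWB : (W : Subgroup (F.autGroup R)) ≤ B := fun α hα => hind1 α (hW ▸ hα :)
  obtain ⟨T, hT⟩ := hK.exists_le_sylow
  obtain ⟨b, hb⟩ := MulAction.exists_smul_eq B T (W.subtype hWB)
  obtain ⟨c, hc, hcb⟩ := hind2 (ρ b.1) b.2
  have hcW : c ∈ (W : Subgroup (F.autGroup R)) := by rw [hW]; exact hc
  set l : F.autGroup R := c⁻¹ * b.1 with hl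
  have hlρ : ρ l = 1 := by rw [hl, map_mul, map_inv, hcb, inv_mul_cancel]
  have hlK : ∀ a : M, l * κ' a * l⁻¹ ∈ (W : Subgroup (F.autGroup R)) := fun a => by
    have h1 : b * ⟨κ' a, hκB ⟨a, rfl⟩⟩ * b⁻¹ ∈ ((W.subtype hWB) : Subgroup B) := by
      rw [← hb, Sylow.coe_subgroup_smul, Subgroup.mem_pointwise_smul_iff_inv_smul_mem]
      have h2 : (MulAut.conj b)⁻¹ • (b * ⟨κ' a, hκB ⟨a, rfl⟩⟩ * b⁻¹) =
          (⟨κ' a, hκB ⟨a, rfl⟩⟩ : B) := by
        rw [MulAut.smul_def, MulAut.conj_inv_apply]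
        group
      rw [h2]
      exact hT ⟨a, rfl⟩
    have h3 : (b.1 : F.autGroup R) * κ' a * (b.1 : F.autGroup R)⁻¹ ∈
        (W : Subgroup (F.autGroup R)) := h1
    have h4 := Subgroup.mul_mem _ (Subgroup.mul_mem _ (Subgroup.inv_mem _ hcW) h3) hcW
    convert h4 using 1
    rw [hl]
    group
  have hlm := isMap_of_autGroup hRn.1 l.2
  have hmemR : ∀ x ∈ X, g x ∈ R := fun x hx => hgX ▸ hg.apply_mem_img hx
  have hk := hg.comp hlm hmemR
  set k := fun x => toFun (R.subtype.comp (l : MulAut R).toMonoidHom) (g x) with hkdef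
  have hki : img X k = R := by rw [hkdef, img_comp_eq hg hlm hmemR, hgX, img_toFun_aut]
  have hXM' : X ≤ M := fun x hx => by
    obtain ⟨hxS, hx'⟩ := mem_preimageAlong.1 hx
    exact mem_preimageAlong.2 ⟨hxS, hXM hx'⟩
  obtain ⟨ψ, hψ, hψx⟩ := receptive_extend (receptive_of_fullyNormalized hS hF hRn) hk hki hXM'
    fun a ha => by
      have h1 := hlK ⟨a, ha⟩
      rw [hW] at h1
      obtain ⟨b', hb', hb'x⟩ := mem_autInducedBy_iff.1 h1
      refine ⟨hMS ha, hMn a ha, b', hb', fun x hx => ?_⟩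
      have hx' : a * x * a⁻¹ ∈ X := (hMn a ha x).1 hx
      have h2 := hb'x ((l : MulAut R) (e ⟨x, hx⟩))
      have h3 : ((l * κ' ⟨a, ha⟩ * l⁻¹ : F.autGroup R) : MulAut R) ((l : MulAut R) (e ⟨x, hx⟩)) =
          (l : MulAut R) (e ⟨a * x * a⁻¹, hx'⟩) := by
        rw [Subgroup.coe_mul, Subgroup.coe_mul, Subgroup.coe_inv, MulAut.mul_apply,
          MulAut.mul_apply, MulAut.inv_apply_self]
        exact congrArg (l : MulAut R) (hκe ⟨a, ha⟩ ⟨x, hx⟩)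
      have h2 := (congrArg (fun z : R => (z : Ω)) h3).symm.trans h2
      show toFun _ (g (a * x * a⁻¹)) = b' * toFun _ (g x) * b'⁻¹
      rw [toFun_aut_apply _ (hmemR _ hx'), toFun_aut_apply _ (hmemR x hx)]
      exact h2
  obtain ⟨χ, hχ⟩ := exists_inducedAlong (θ := θ) (preimageAlong_le (P' := M')) hψ fun x hx hx1 =>
    (hZ _).2 (StronglyClosed.apply_mem hZc hψ hx ((hZ _).1 hx1))
  have hM'S : M' ≤ S' := fun y hy => (hM y hy).1
  have hiM := imageAlong_preimageAlong (θ := θ) (hθ.symm ▸ hM'S : M' ≤ θ.range)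
  let φ' : M' →* Ω' := χ.comp (Subgroup.inclusion hiM.ge)
  have hφ' : φ' ∈ F'.Hom M' := (hE.2.2.2 _ _).2 ⟨hM'S, hψ.toHom, hψ.toHom_mem, preimageAlong_le,
    fun x => hψ.mem x.2, fun x => (mem_preimageAlong.1 x.2).2, fun x => hχ x x.2⟩
  refine ⟨_, isMap_of_hom hφ', fun y hy => ?_⟩
  obtain ⟨s, rfl⟩ := (hθ.symm ▸ hX' : X' ≤ θ.range) hy
  have hs : (s : Ω) ∈ X := mem_preimageAlong.2 ⟨s.2, hy⟩
  rw [toFun_of_mem φ' (hXM hy), hgx _ hs]
  refine (hχ _ (hXM' hs)).trans ?_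
  have h1 : ((u ((l : MulAut R) ⟨g s, hmemR _ hs⟩) : R') : Ω') = θ ⟨g s, hg.mem hs⟩ := by
    rw [← hres]
    exact congrArg (fun γ : F'.autGroup R' => ((γ.1 (u ⟨g s, hmemR _ hs⟩) : R') : Ω')) hlρ
  rw [← h1]
  refine congrArg θ (Subtype.ext ?_)
  exact (hψx _ hs).trans (toFun_aut_apply _ (hmemR _ hs))

end Saturated

end CfsgLib.Fusion
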