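import Cfsg.Agent.Lib.Fusion.Centric
import Cfsg.Agent.Lib.Fusion.Alperin
import Cfsg.Agent.Lib.Fusion.NormalCriteria
import Cfsg.Agent.Lib.Fusion.FactorSystem

/-!
Subsystems and centric subgroups, fully centralized subgroups of strongly closed subgroups,
generating families of subgroups, and the closure of `T C_S(T)`.
-/

set_option autoImplicit false
set_option linter.style.haveILetI false
set_option linter.unusedVariables false
set_option linter.unusedSectionVars false

universe u

namespace CfsgLib.Fusion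

open Cfsg Cfsg.FusionSystem Subgroup

variable {Ω : Type u} [Group Ω] {S : Subgroup Ω} {F : FusionSystem S} {P Q R : Subgroup Ω}
  {p : ℕ} {f g : Ω → Ω}

theorem isConj_of_subsystem {T : Subgroup Ω} {E : FusionSystem T} (hsub : E.IsSubsystemOf F)
    (h : E.IsConj P Q) : F.IsConj P Q := by
  obtain ⟨φ, hφ, hr⟩ := h
  exact ⟨φ, hsub P hφ, hr⟩

section StronglyClosed

variable [Fact p.Prime] [Finite S] (hS : IsPGroup p S) (hF : F.IsSaturated p) {T : Subgroup Ω}
  (hT : F.StronglyClosed T) {E : FusionSystem T}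

include hS hF hT

theorem fullyCentralized_subsystem (hsub : E.IsSubsystemOf F) (hQT : Q ≤ T)
    (hQ : F.IsFullyCentralized Q) : E.IsFullyCentralized Q := by
  refine ⟨hQT, fun R hR => ?_⟩
  obtain ⟨f, hf, hi⟩ := isConj_iff.1 (isConj_symm (isConj_of_subsystem hsub hR))
  obtain ⟨g, hg, hgx⟩ :=
    receptive_extend_centralizer (receptive_of_fullyCentralized hS hF hQ) hf hi
  have hgi : img R g = Q := (img_congr hgx).trans hi
  haveI := finite_of_le hT.1
  haveI : Finite (centralizerIn T Q) := finite_centralizerIn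
  have hmem : ∀ a : centralizerIn T R, (a : Ω) ∈ R ⊔ centralizerIn S R := fun a =>
    mem_sup_right ⟨hT.1 a.2.1, a.2.2⟩
  refine Nat.card_le_card_of_injective (fun a : centralizerIn T R => (⟨g a,
    StronglyClosed.apply_mem hT hg (hmem a) a.2.1,
    (hgi ▸ hg.apply_mem_centralizerIn le_sup_left (hmem a) a.2.2 :
      g a ∈ centralizerIn S Q).2⟩ : centralizerIn T Q)) fun a b hab => ?_
  exact Subtype.ext (hg.inj (hmem a) (hmem b) (congrArg Subtype.val hab))

theorem fullyNormalized_subsystem (hsub : E.IsSubsystemOf F) (hQT : Q ≤ T)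
    (hQ : F.IsFullyNormalized Q) : E.IsFullyNormalized Q := by
  refine ⟨hQT, fun R hR => ?_⟩
  obtain ⟨g, hg, hgi, hgN⟩ := exists_map_normalizerIn_of_fullyNormalized hS hF hQ
    (isConj_symm (isConj_of_subsystem hsub hR))
  haveI := finite_of_le hT.1
  haveI : Finite (normalizerIn T Q) := finite_normalizerIn
  have hmem : ∀ a : normalizerIn T R, (a : Ω) ∈ normalizerIn S R := fun a => ⟨hT.1 a.2.1, a.2.2⟩
  refine Nat.card_le_card_of_injective (fun a : normalizerIn T R => (⟨g a,
    StronglyClosed.apply_mem hT hg (hmem a) a.2.1, (hgN a (hmem a)).2⟩ : normalizerIn T Q))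
    fun a b hab => ?_
  exact Subtype.ext (hg.inj (hmem a) (hmem b) (congrArg Subtype.val hab))

omit E

/-- `T C_S(T)` is strongly closed. -/
theorem stronglyClosed_sup_centralizerIn : F.StronglyClosed (T ⊔ centralizerIn S T) := by
  refine stronglyClosed_iff.2 ⟨sup_le hT.1 inf_le_left, fun X f hX hf x hx => ?_⟩
  have hnS := StronglyClosed.le_normalizer hT
  obtain ⟨g, hg, hgx⟩ := exists_map_mod hS hF hT hf
  have hx' : x ∈ ((T ⊔ centralizerIn S T : Subgroup Ω) : Set Ω) := hX hx
  rw [coe_mul_of_right_le_normalizer_left _ _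
    (show centralizerIn S T ≤ normalizer (T : Set Ω) from fun a ha => hnS ha.1)] at hx'
  obtain ⟨t, ht, c, hc, htc⟩ := hx'
  subst htc
  set U := X ⊔ T
  have htU : t ∈ U := mem_sup_right ht
  have hcU : c ∈ U := by simpa using U.mul_mem (U.inv_mem htU) (mem_sup_left hx : t * c ∈ U)
  have h1 : g c ∈ centralizerIn S T := by
    have := hg.apply_mem_centralizerIn le_sup_right hcU hc.2
    rwa [StronglyClosed.img_eq hT hg le_sup_right] at this
  have h2 : g (t * c) ∈ T ⊔ centralizerIn S T := by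
    rw [hg.map_mul htU hcU]
    exact mul_mem (mem_sup_left (StronglyClosed.apply_mem hT hg htU ht)) (mem_sup_right h1)
  have h3 := mul_mem h2 (mem_sup_left (hgx _ hx) :
    (g (t * c))⁻¹ * f (t * c) ∈ T ⊔ centralizerIn S T)
  rwa [mul_inv_cancel_left] at h3

end StronglyClosed

section CentricSubsystem

variable [Fact p.Prime] [Finite S] {E : FusionSystem S}
  (hS : IsPGroup p S) (hF : F.IsSaturated p) (hE : E.IsSaturated p) (hle : E ≤ F)

include hS hF hE hle

/-- A map lies in a saturated subsystem once its restriction to a centric subgroup does. -/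
theorem isMap_of_agree_centric (hQ : F.IsCentric Q) (hQP : Q ≤ P) (hf : IsMap F P f)
    (hE' : IsMap E Q f) : IsMap E P f := by
  suffices H : ∀ n, ∀ Q : Subgroup Ω, F.IsCentric Q → Q ≤ P → IsMap E Q f →
      Nat.card P - Nat.card Q = n → IsMap E P f from H _ Q hQ hQP hE' rfl
  intro n
  induction n using Nat.strong_induction_on with
  | _ n ih =>
    intro Q hQ hQP hQf hn
    haveI := finite_of_le hf.le
    rcases hQP.eq_or_lt with rfl | hlt
    · exact hQf
    have hlt₁ := lt_normalizerIn (hS.to_le hf.le) hlt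
    set N := normalizerIn P Q with hN
    have hNP : N ≤ P := inf_le_left
    have hQE : E.IsCentric (img Q f) := by
      have h0 := centric_of_isConj hQ (hf.mono hQP).isConj
      exact ⟨h0.1, fun R hR => h0.2 R (isConj_of_subsystem hle hR)⟩
    have hrec := receptive_of_fullyCentralized hS hE (centric_fullyCentralized hQE)
    obtain ⟨g, hg, hgx⟩ := receptive_extend hrec hQf rfl hlt₁.le fun a ha =>
      ⟨hf.le (hNP ha), ha.2, f a, hf.mem (hNP ha), fun x hx => hf.map_conj (hNP ha) (hQP hx)⟩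
    obtain ⟨z, hz, -, hzy⟩ := exists_conj_of_agree hS hF hQ hlt₁.le
      (le_iff_isMap.1 hle _ _ hg) (hf.mono hNP) hgx
    have hzN : ∀ y ∈ N, z * y * z⁻¹ ∈ N := fun y hy =>
      N.mul_mem (N.mul_mem (hlt₁.le hz) hy) (N.inv_mem (hlt₁.le hz))
    have hNE : IsMap E N f :=
      ((isMap_conj E (hNP.trans hf.le) (hQ.1 hz)).comp hg hzN).congr fun y hy => (hzy y hy).symm
    haveI := finite_of_le (hNP.trans hf.le)
    have h1 : Nat.card Q < Nat.card N :=
      lt_of_not_ge fun h => hlt₁.ne (eq_of_le_of_card_le hlt₁.le h)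
    have h2 : Nat.card N ≤ Nat.card P := Subgroup.card_le_of_le hNP
    exact ih _ (by omega) N (centric_of_le hQ hlt₁.le (hNP.trans hf.le)) hNP hNE rfl

/-- Two out of three. -/
theorem mem_of_comp_mem_centric {Q R : Subgroup Ω} (hQ : F.IsCentric Q) {φ : Q →* Ω}
    (hφ : φ ∈ F.Hom Q) (hφR : ∀ x : Q, φ x ∈ R) {ψ : R →* Ω} (hψ : ψ ∈ F.Hom R) :
    (φ ∈ E.Hom Q → ψ ∈ E.Hom R → ψ.comp (φ.codRestrict R hφR) ∈ E.Hom Q) ∧
    (ψ ∈ E.Hom R → ψ.comp (φ.codRestrict R hφR) ∈ E.Hom Q → φ ∈ E.Hom Q) ∧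
    (φ ∈ E.Hom Q → ψ.comp (φ.codRestrict R hφR) ∈ E.Hom Q → ψ ∈ E.Hom R) := by
  refine ⟨fun h1 h2 => E.comp_mem h1 h2 hφR, fun h1 h2 => ?_, fun h1 h2 => ?_⟩
  · obtain ⟨k, hk, hkx, -, -⟩ := (isMap_of_hom h1).exists_inv
    have hc := isMap_of_hom h2
    have hval : ∀ x : Q, toFun (ψ.comp (φ.codRestrict R hφR)) x = toFun ψ (φ x) := fun x => by
      rw [toFun_apply, toFun_of_mem ψ (hφR x)]
      rfl
    refine (hc.comp hk fun x hx => ?_).mem_hom fun x => ?_
    · rw [hval ⟨x, hx⟩]
      exact (isMap_of_hom h1).apply_mem_img (hφR _)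
    · show φ x = k (toFun _ (x : Ω))
      rw [hval x, hkx _ (hφR x)]
  · have hm := isMap_of_hom h1
    have hc := isMap_of_hom h2
    obtain ⟨k, hk, hkx, hky, -⟩ := hm.exists_inv
    have hQR : img Q (toFun φ) ≤ R := fun y hy => by
      obtain ⟨x, hx, rfl⟩ := hm.mem_img.1 hy
      rw [toFun_of_mem φ hx]
      exact hφR _
    refine (isMap_of_agree_centric hS hF hE hle
      (centric_of_isConj hQ (isMap_of_hom hφ).isConj) hQR (isMap_of_hom hψ) ?_).mem_hom
      fun x => (toFun_apply ψ x).symm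
    refine (hk.comp hc fun y hy => (hky y hy).1).congr fun y hy => ?_
    obtain ⟨x, hx, rfl⟩ := hm.mem_img.1 hy
    rw [hkx x hx, toFun_of_mem _ hx, toFun_of_mem φ hx, toFun_of_mem ψ (hφR _)]
    rfl

/-- A saturated subsystem containing the maps from the minimal centric subgroups is everything. -/
theorem le_of_minimal_centric
    (hmin : ∀ Q : Subgroup Ω, F.IsCentric Q → (∀ R : Subgroup Ω, R < Q → ¬ F.IsCentric R) →
      F.Hom Q = E.Hom Q) : F ≤ E := by
  refine alperin hS hF fun P hP α hα => ?_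
  have hPc : F.IsCentric P := by
    rcases hP with rfl | hP
    · exact ⟨le_rfl, fun R hR a ha => by
        haveI := finite_of_le (isConj_le_right hR)
        have h : R = P := eq_of_le_of_card_le (isConj_le_right hR) (isConj_card hR).ge
        exact h.symm ▸ ha.1⟩
    · exact hP.1
  haveI := finite_of_le hPc.1
  have hex : ∀ n, ∀ P : Subgroup Ω, F.IsCentric P → Nat.card P = n →
      ∃ Q ≤ P, F.IsCentric Q ∧ ∀ R : Subgroup Ω, R < Q → ¬ F.IsCentric R := by
    intro n
    induction n using Nat.strong_induction_on with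
    | _ n ih =>
      intro P hP hn
      by_cases h : ∃ R, R < P ∧ F.IsCentric R
      · obtain ⟨R, hR, hRc⟩ := h
        haveI := finite_of_le hP.1
        have hlt : Nat.card R < Nat.card P :=
          lt_of_not_ge fun h => hR.ne (eq_of_le_of_card_le hR.le h)
        obtain ⟨Q, hQ, h1⟩ := ih _ (hn ▸ hlt) R hRc rfl
        exact ⟨Q, hQ.trans hR.le, h1⟩
      · exact ⟨P, le_rfl, hP, fun R hR hc => h ⟨R, hR, hc⟩⟩
  obtain ⟨Q, hQP, hQc, hQm⟩ := hex _ P hPc rfl
  have hm := isMap_of_autGroup hPc.1 hα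
  refine (autGroup_iff_isMap hPc.1 fun x => (toFun_aut_apply α x.2).symm).2
    (isMap_of_agree_centric hS hF hE hle hQc hQP hm ?_)
  exact (hm.mono hQP).elim fun φ hφ => ⟨φ, hmin Q hQc hQm ▸ hφ.1, hφ.2⟩

end CentricSubsystem

end CfsgLib.Fusion
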