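import Cfsg.Agent.Lib.Fusion.Alperin
import Mathlib.GroupTheory.Exponent

/-!
Maps agreeing on a centric subgroup differ by a central element of it.
-/

set_option autoImplicit false
set_option linter.style.haveILetI false
set_option linter.unusedVariables false
set_option linter.unusedSectionVars false

namespace CfsgLib.Fusion

open Cfsg Cfsg.FusionSystem Subgroup

variable {Ω : Type*} [Group Ω] {S : Subgroup Ω} {F : FusionSystem S}
  {P Q R : Subgroup Ω} {f g : Ω → Ω} {p : ℕ}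

theorem IsMap.toAut_pow_apply (h : IsMap F P f) (hi : img P f = P) {u d : Ω} (hu : u ∈ P)
    (hd : d ∈ P) (hfd : f d = d) (hfu : f u = d * u) (n : ℕ) :
    ((((h.toAut hi) ^ n) ⟨u, hu⟩ : P) : Ω) = d ^ n * u := by
  induction n with
  | zero => simp
  | succ n ih =>
    rw [pow_succ' (h.toAut hi), MulAut.mul_apply, h.toAut_apply hi, ih,
      h.map_mul (P.pow_mem hd n) hu, h.map_pow hd, hfd, hfu, pow_succ, mul_assoc]

section Saturated

variable [Fact p.Prime] [Finite S] (hS : IsPGroup p S) (hF : F.IsSaturated p)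
include hS hF

theorem exists_conj_of_agree_id (hQ : F.IsCentric Q) (hQP : Q ≤ P)
    (hn : P ≤ Subgroup.normalizer (Q : Set Ω)) (hf : IsMap F P f) (hi : img P f = P)
    (h : ∀ x ∈ Q, f x = x) :
    ∃ z ∈ Q, z ∈ Subgroup.centralizer (Q : Set Ω) ∧ ∀ y ∈ P, f y = z * y * z⁻¹ := by
  haveI := finite_of_le hf.le
  haveI := finite_of_le hQ.1
  -- the automorphism given by `f` is a `p`-element
  obtain ⟨k, hk⟩ := (IsPGroup.iff_card).1 (hS.to_le hQ.1)
  set α := hf.toAut hi with hαdef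
  have hαp : α ^ p ^ k = 1 := by
    refine MulEquiv.ext fun u => Subtype.ext ?_
    have hd : f u * (u : Ω)⁻¹ ∈ Q := by
      refine hQ.2 Q (isConj_refl hQ.1) ⟨S.mul_mem (hf.mem u.2) (S.inv_mem (hf.le u.2)), fun q hq => ?_⟩
      have hq' : (u : Ω)⁻¹ * q * u ∈ Q := (Subgroup.mem_normalizer_iff''.1 (hn u.2) q).1 hq
      have h1 := hf.map_conj (P.inv_mem u.2) (hQP hq)
      rw [inv_inv, h _ hq', h q hq, hf.map_inv u.2, inv_inv] at h1
      calc q * (f u * (u : Ω)⁻¹) = f u * ((f u)⁻¹ * q * f u) * (u : Ω)⁻¹ := by group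
        _ = f u * ((u : Ω)⁻¹ * q * u) * (u : Ω)⁻¹ := by rw [h1]
        _ = f u * (u : Ω)⁻¹ * q := by group
    rw [hαdef, hf.toAut_pow_apply hi u.2 (hQP hd) (h _ hd) (by group)]
    have h2 : (⟨_, hd⟩ : Q) ^ p ^ k = 1 := by
      rw [← hk]
      exact pow_card_eq_one'
    have h3 : (f u * (u : Ω)⁻¹) ^ p ^ k = 1 := congrArg Subtype.val h2
    rw [h3, one_mul]
    simp
  obtain ⟨R, hPR, hR⟩ := exists_fullyNormalized_conj F hf.le
  obtain ⟨e, he, rfl⟩ := isConj_iff.1 hPR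
  haveI := finite_of_le he.img_le
  set γ := MulAut.congr he.equivImg α with hγ
  obtain ⟨β, hβ, hβc⟩ := exists_conj_le_autInducedBy
    (fullyAutomized_of_fullyNormalized hS hF hR) (Subgroup.zpowers γ) (by
      rintro ⟨_, n, rfl⟩
      refine ⟨k, Subtype.ext ?_⟩
      show (γ ^ n) ^ p ^ k = 1
      rw [← zpow_natCast, ← zpow_mul, mul_comm, zpow_mul, zpow_natCast]
      simp only [hγ, ← _root_.map_pow, hαp, _root_.map_one, one_zpow])
    (Subgroup.zpowers_le.2 (he.congr_mem_autGroup (hf.toAut_mem hi)))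
  obtain ⟨b, hb, hbx⟩ := mem_autInducedBy_iff.1 (hβc _ (Subgroup.mem_zpowers γ))
  set e' : Ω → Ω := fun x => toFun ((img P e).subtype.comp β.toMonoidHom) (e x) with he'def
  have hme : ∀ x ∈ P, e x ∈ img P e := fun x hx => he.apply_mem_img hx
  have hb' := isMap_of_autGroup he.img_le hβ
  have he' : IsMap F P e' := he.comp hb' hme
  have hkey : ∀ x ∈ P, e' (f x) = b * e' x * b⁻¹ := fun x hx => by
    have h1 := hbx (β ⟨e x, hme x hx⟩)
    rw [MulAut.mul_apply, MulAut.mul_apply, MulAut.inv_apply_self] at h1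
    have hfx : f x ∈ P := hi ▸ hf.apply_mem_img hx
    simp only [he'def]
    rw [toFun_aut_apply _ (hme x hx), toFun_aut_apply _ (hme _ hfx), ← h1]
    congr 2
    apply Subtype.ext
    show e (f x) = e ((α (he.equivImg.symm ⟨e x, hme x hx⟩) : P) : Ω)
    have h3 : he.equivImg.symm ⟨e x, hme x hx⟩ = ⟨x, hx⟩ := by
      rw [MulEquiv.symm_apply_eq]
      exact Subtype.ext (he.coe_equivImg ⟨x, hx⟩).symm
    rw [h3]
    rfl
  have hbQ : b ∈ centralizerIn S (img Q e') := by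
    refine ⟨hb, fun y hy => ?_⟩
    obtain ⟨x, hx, rfl⟩ := (he'.mono hQP).mem_img.1 hy
    have h1 := hkey x (hQP hx)
    rw [h x hx] at h1
    exact (mul_inv_eq_iff_eq_mul.1 h1.symm).symm
  obtain ⟨z, hz, hzb⟩ := (he'.mono hQP).mem_img.1 (hQ.2 _ (he'.mono hQP).isConj hbQ)
  refine ⟨z, hz, he'.mem_centralizer_of_apply hQP (hQP hz) (hzb ▸ hbQ.2), fun y hy => ?_⟩
  refine he'.inj (hi ▸ hf.apply_mem_img hy)
    (P.mul_mem (P.mul_mem (hQP hz) hy) (P.inv_mem (hQP hz))) ?_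
  rw [hkey y hy, ← hzb, ← he'.map_conj (hQP hz) hy]

theorem exists_conj_of_agree_normal (hQ : F.IsCentric Q) (hQP : Q ≤ P)
    (hn : P ≤ Subgroup.normalizer (Q : Set Ω)) (hf : IsMap F P f) (hg : IsMap F P g)
    (h : ∀ x ∈ Q, f x = g x) :
    ∃ z ∈ Q, z ∈ Subgroup.centralizer (Q : Set Ω) ∧ ∀ y ∈ P, g y = f (z * y * z⁻¹) := by
  obtain ⟨k, hk, hkx, hky, -⟩ := hf.exists_inv
  have hgP : ∀ y ∈ P, g y ∈ img P f := fun y hy => by
    have hc : g y * (f y)⁻¹ ∈ centralizerIn S (img Q f) := by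
      refine ⟨S.mul_mem (hg.mem hy) (S.inv_mem (hf.mem hy)), fun q' hq' => ?_⟩
      obtain ⟨q, hq, rfl⟩ := (hf.mono hQP).mem_img.1 hq'
      have hq2 : y⁻¹ * q * y ∈ Q := (Subgroup.mem_normalizer_iff''.1 (hn hy) q).1 hq
      have h1 := hg.map_conj (P.inv_mem hy) (hQP hq)
      have h2 := hf.map_conj (P.inv_mem hy) (hQP hq)
      rw [inv_inv, hg.map_inv hy, inv_inv, ← h _ hq2, ← h q hq] at h1
      rw [inv_inv, hf.map_inv hy, inv_inv, h1] at h2
      calc f q * (g y * (f y)⁻¹) = g y * ((g y)⁻¹ * f q * g y) * (f y)⁻¹ := by group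
        _ = g y * ((f y)⁻¹ * f q * f y) * (f y)⁻¹ := by rw [h2]
        _ = g y * (f y)⁻¹ * f q := by group
    have h3 := img_mono hQP (hQ.2 _ (hf.mono hQP).isConj hc)
    simpa using mul_mem h3 (hf.apply_mem_img hy)
  have hψ : IsMap F P (fun y => k (g y)) := hg.comp hk hgP
  haveI := finite_of_le hf.le
  have hψi : img P (fun y => k (g y)) = P := by
    refine eq_of_le_of_card_le (fun y hy => ?_) hψ.card_img.ge
    obtain ⟨x, hx, rfl⟩ := hψ.mem_img.1 hy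
    exact (hky _ (hgP x hx)).1
  obtain ⟨z, hz, hzc, hzy⟩ := exists_conj_of_agree_id hS hF hQ hQP hn hψ hψi fun x hx => by
    rw [← h x hx, hkx x (hQP hx)]
  refine ⟨z, hz, hzc, fun y hy => ?_⟩
  have := congrArg f (hzy y hy)
  rwa [(hky _ (hgP y hy)).2] at this

/-- Two maps agreeing on a centric subgroup differ by conjugation by an element of its centre. -/
theorem exists_conj_of_agree (hQ : F.IsCentric Q) (hQP : Q ≤ P) (hf : IsMap F P f)
    (hg : IsMap F P g) (h : ∀ x ∈ Q, f x = g x) :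
    ∃ z ∈ Q, z ∈ Subgroup.centralizer (Q : Set Ω) ∧ ∀ y ∈ P, g y = f (z * y * z⁻¹) := by
  suffices H : ∀ n, ∀ (Q : Subgroup Ω) (f g : Ω → Ω), F.IsCentric Q → Q ≤ P → IsMap F P f →
      IsMap F P g → (∀ x ∈ Q, f x = g x) → Nat.card P - Nat.card Q = n →
      ∃ z ∈ Q, z ∈ Subgroup.centralizer (Q : Set Ω) ∧ ∀ y ∈ P, g y = f (z * y * z⁻¹) from
    H _ Q f g hQ hQP hf hg h rfl
  intro n
  induction n using Nat.strong_induction_on with
  | _ n ih =>
    intro Q f g hQ hQP hf hg h hn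
    haveI := finite_of_le hf.le
    rcases hQP.eq_or_lt with rfl | hlt
    · exact ⟨1, Subgroup.one_mem _, Subgroup.one_mem _, fun y hy => by simp [h y hy]⟩
    have hlt₁ := lt_normalizerIn (hS.to_le hf.le) hlt
    set Q₁ := normalizerIn P Q with hQ₁
    have hQ₁P : Q₁ ≤ P := inf_le_left
    obtain ⟨z₁, hz₁, hz₁c, hzy₁⟩ := exists_conj_of_agree_normal hS hF hQ hlt₁.le inf_le_right
      (hf.mono hQ₁P) (hg.mono hQ₁P) h
    have hf' : IsMap F P (fun y => f (z₁ * y * z₁⁻¹)) :=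
      (isMap_conj F hf.le (hQ.1 hz₁)).comp hf fun y hy =>
        P.mul_mem (P.mul_mem (hQP hz₁) hy) (P.inv_mem (hQP hz₁))
    haveI : Finite Q₁ := finite_of_le (hQ₁P.trans hf.le)
    have hc1 : Nat.card Q < Nat.card Q₁ :=
      lt_of_not_ge fun hc => hlt₁.ne (eq_of_le_of_card_le hlt₁.le hc)
    have hc2 : Nat.card Q₁ ≤ Nat.card P := Subgroup.card_le_of_le hQ₁P
    obtain ⟨z₂, hz₂, hz₂c, hzy₂⟩ := ih _ (by omega) Q₁ _ g
      (centric_of_le hQ hlt₁.le (hQ₁P.trans hf.le)) hQ₁P hf' hg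
      (fun x hx => (hzy₁ x hx).symm) rfl
    have hz₂c' : z₂ ∈ Subgroup.centralizer (Q : Set Ω) := fun q hq => hz₂c q (hlt₁.le hq)
    have hz₂Q : z₂ ∈ Q := hQ.2 Q (isConj_refl hQ.1) ⟨hf.le (hQ₁P hz₂), hz₂c'⟩
    refine ⟨z₁ * z₂, Q.mul_mem hz₁ hz₂Q, Subgroup.mul_mem _ hz₁c hz₂c', fun y hy => ?_⟩
    rw [hzy₂ y hy]
    congr 1
    group

theorem exists_conj_of_agree_left (hQ : F.IsCentric Q) (hQP : Q ≤ P) (hf : IsMap F P f)
    (hg : IsMap F P g) (h : ∀ x ∈ Q, f x = g x) :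
    ∃ z ∈ img Q f, z ∈ Subgroup.centralizer (img Q f : Set Ω) ∧
      ∀ y ∈ P, g y = z * f y * z⁻¹ := by
  obtain ⟨z, hz, hzc, hzy⟩ := exists_conj_of_agree hS hF hQ hQP hf hg h
  refine ⟨f z, (hf.mono hQP).apply_mem_img hz,
    ((hf.mono hQP).apply_mem_centralizerIn le_rfl hz hzc).2, fun y hy => ?_⟩
  rw [hzy y hy, hf.map_conj (hQP hz) hy]

end Saturated

end CfsgLib.Fusion
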