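import Cfsg.Agent.Lib.Fusion.InvariantTransport
import Cfsg.Agent.Lib.Fusion.Simple
import Cfsg.Agent.Lib.Transfer.Frobenius

/-!
A subsystem containing the automorphisms of `p`-power order of the centric subgroups has index
prime to `p` and satisfies the Frattini condition.
-/

set_option autoImplicit false
set_option linter.unusedVariables false
set_option linter.unusedSectionVars false
set_option linter.style.haveILetI false

namespace CfsgLib.Fusion

open Cfsg Cfsg.FusionSystem Subgroup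

variable {Ω : Type*} [Group Ω] {S : Subgroup Ω} {F E D : FusionSystem S} {P : Subgroup Ω} {p : ℕ}

/-- The subgroup of `Aut_F(P)` generated by its elements of `p`-power order. -/
def pGenAut (F : FusionSystem S) (p : ℕ) (P : Subgroup Ω) : Subgroup (F.autGroup P) :=
  Subgroup.closure {α : F.autGroup P | ∃ k : ℕ, orderOf α = p ^ k}

instance pGenAut_normal : (pGenAut F p P).Normal := ⟨fun n hn g => by
  have : pGenAut F p P ≤ (pGenAut F p P).comap (MulAut.conj g).toMonoidHom := by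
    refine (Subgroup.closure_le _).2 ?_
    rintro x ⟨k, hk⟩
    refine Subgroup.subset_closure ⟨k, ?_⟩
    show orderOf (MulAut.conj g x) = p ^ k
    rw [MulEquiv.orderOf_eq, hk]
  exact this hn⟩

/-- `D` contains the automorphisms of `p`-power order of all centric subgroups of `F`. -/
def ContainsPAut (F : FusionSystem S) (p : ℕ) (D : FusionSystem S) : Prop :=
  ∀ P, F.IsCentric P → (pGenAut F p P).map (F.autGroup P).subtype ≤ D.autGroup P

/-- The least such system inside `F`. -/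
def genSys (F : FusionSystem S) (p : ℕ) : FusionSystem S where
  Hom P := {φ | φ ∈ F.Hom P ∧ ∀ D : FusionSystem S, ContainsPAut F p D → φ ∈ D.Hom P}
  le_of_mem h := F.le_of_mem h.1
  injective_of_mem h := F.injective_of_mem h.1
  conj_mem hP hg := ⟨F.conj_mem hP hg, fun D _ => D.conj_mem hP hg⟩
  comp_mem hφ hψ h := ⟨F.comp_mem hφ.1 hψ.1 h, fun D hD => D.comp_mem (hφ.2 D hD) (hψ.2 D hD) h⟩
  inv_mem {P φ} hφ := by
    obtain ⟨ψ, hψ, hψx⟩ := F.inv_mem hφ.1
    refine ⟨ψ, ⟨hψ, fun D hD => ?_⟩, hψx⟩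
    obtain ⟨ψ', hψ', hψ'x⟩ := D.inv_mem (hφ.2 D hD)
    have : ψ = ψ' := MonoidHom.ext fun y => by
      obtain ⟨x, hx⟩ := y.2
      have : y = ⟨φ x, x, rfl⟩ := Subtype.ext hx.symm
      rw [this, hψx, hψ'x]
    exact this ▸ hψ'

theorem genSys_le : genSys F p ≤ F := fun P φ h => h.1

theorem genSys_le_of (hD : ContainsPAut F p D) : genSys F p ≤ D := fun P φ h => h.2 D hD

theorem containsPAut_genSys : ContainsPAut F p (genSys F p) := fun P hP α hα => by
  refine (autGroup_mem_iff hP.1).2 ⟨?_, fun D hD => (autGroup_mem_iff hP.1).1 (hD P hP hα)⟩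
  obtain ⟨β, -, rfl⟩ := hα
  exact (autGroup_mem_iff hP.1).1 β.2

theorem img_autFun_cancel {α : MulAut S} (hα : IsMap F S (autFun α)) (hP : P ≤ S)
    (hα' : IsMap F S (autFun α⁻¹)) :
    img (img P (autFun α⁻¹)) (autFun α) = P := by
  ext y
  rw [mem_img_autFun hα (hα'.mono hP).img_le]
  constructor
  · rintro ⟨z, hz, rfl⟩
    obtain ⟨x, hx, rfl⟩ := (mem_img_autFun hα' hP).1 hz
    rwa [autFun_apply_inv α (hP hx)]
  · exact fun hy => ⟨_, (hα'.mono hP).apply_mem_img hy, autFun_apply_inv α (hP hy)⟩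

/-- The system transported by an automorphism of `S`. -/
noncomputable def twistSys (D : FusionSystem S) {α : MulAut S} (hm : IsMap F S (autFun α)) :
    FusionSystem S where
  Hom P := {φ | P ≤ S ∧ (∀ x : P, φ x ∈ S) ∧ ∃ g, IsMap D (img P (autFun α)) g ∧
    ∀ x : P, autFun α (φ x) = g (autFun α x)}
  le_of_mem h := ⟨h.1, h.2.1⟩
  injective_of_mem := by
    rintro P φ ⟨hP, hv, g, hg, hgx⟩ x y hxy
    have h1 := congrArg (autFun α) hxy
    rw [hgx, hgx] at h1
    exact Subtype.ext (hm.inj (hP x.2) (hP y.2)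
      (hg.inj ((hm.mono hP).apply_mem_img x.2) ((hm.mono hP).apply_mem_img y.2) h1))
  conj_mem {P a} hP ha := ⟨hP, fun x => S.mul_mem (S.mul_mem ha (hP x.2)) (S.inv_mem ha), _,
    isMap_conj D (hm.mono hP).img_le (autFun_mem α ha), fun x => hm.map_conj ha (hP x.2)⟩
  comp_mem {P Q φ ψ} hφ hψ h := by
    obtain ⟨hP, hv, g, hg, hgx⟩ := hφ
    obtain ⟨hQ, hv', k, hk, hkx⟩ := hψ
    refine ⟨hP, fun x => hv' _, _, hg.comp hk fun y hy => ?_, fun x => ?_⟩
    · obtain ⟨x, hx, rfl⟩ := (hm.mono hP).mem_img.1 hy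
      rw [← hgx ⟨x, hx⟩]
      exact (hm.mono hQ).apply_mem_img (h ⟨x, hx⟩)
    · show autFun α (ψ ⟨φ x, h x⟩) = k (g (autFun α x))
      rw [hkx, ← hgx]
  inv_mem {P φ} hφ := by
    obtain ⟨hP, hv, g, hg, hgx⟩ := hφ
    have hinj : Function.Injective φ := fun x y hxy => by
      have h1 := congrArg (autFun α) hxy
      rw [hgx, hgx] at h1
      exact Subtype.ext (hm.inj (hP x.2) (hP y.2)
        (hg.inj ((hm.mono hP).apply_mem_img x.2) ((hm.mono hP).apply_mem_img y.2) h1))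
    let e := MonoidHom.ofInjective hinj
    obtain ⟨k, hk, hkx, -, -⟩ := hg.exists_inv
    have hr : φ.range ≤ S := by
      rintro _ ⟨x, rfl⟩
      exact hv x
    have hval : ∀ x : P, e.symm ⟨φ x, x, rfl⟩ = x := fun x =>
      e.symm_apply_apply x
    refine ⟨P.subtype.comp e.symm.toMonoidHom, ⟨hr, fun y => hP (e.symm y).2, k,
      hk.mono fun y hy => ?_, ?_⟩, fun x => congrArg Subtype.val (hval x)⟩
    · obtain ⟨_, ⟨x, rfl⟩, rfl⟩ := (hm.mono hr).mem_img.1 hy
      rw [hgx]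
      exact hg.apply_mem_img ((hm.mono hP).apply_mem_img x.2)
    · rintro ⟨_, x, rfl⟩
      show autFun α ((e.symm ⟨φ x, x, rfl⟩ : P) : Ω) = k (autFun α (φ x))
      rw [hval, hgx, hkx _ ((hm.mono hP).apply_mem_img x.2)]

theorem isMap_twistSys_iff {α : MulAut S} (hm : IsMap F S (autFun α)) {f : Ω → Ω} :
    IsMap (twistSys D hm) P f ↔ (∃ φ : P →* Ω, ∀ x : P, φ x = f x) ∧ P ≤ S ∧
      (∀ x ∈ P, f x ∈ S) ∧ ∃ g, IsMap D (img P (autFun α)) g ∧
        ∀ x ∈ P, autFun α (f x) = g (autFun α x) := by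
  constructor
  · rintro ⟨φ, ⟨hP, hv, g, hg, hgx⟩, hf⟩
    exact ⟨⟨φ, hf⟩, hP, fun x hx => hf ⟨x, hx⟩ ▸ hv ⟨x, hx⟩, g, hg,
      fun x hx => hf ⟨x, hx⟩ ▸ hgx ⟨x, hx⟩⟩
  · rintro ⟨⟨φ, hf⟩, hP, hv, g, hg, hgx⟩
    exact ⟨φ, ⟨hP, fun x => (hf x).symm ▸ hv x x.2, g, hg, fun x => (hf x).symm ▸ hgx x x.2⟩, hf⟩

variable [Fact p.Prime] [Finite S] (hS : IsPGroup p S) (hF : F.IsSaturated p)

include hS hF

theorem containsPAut_twistSys {α : MulAut S} (hα : α ∈ F.autGroup S) :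
    ContainsPAut F p (twistSys (genSys F p) (isMap_autFun le_rfl hα)) := by
  intro P hP β hβ
  obtain ⟨β, hβ, rfl⟩ := hβ
  set hm := isMap_autFun (T := S) le_rfl hα
  have hmP := hm.mono hP.1
  haveI := finite_of_le hP.1
  set Φ := MulAut.congr hmP.equivImg with hΦ
  have hc : F.IsCentric (img P (autFun α)) := centric_of_isConj hP hmP.isConj
  have hmem : Φ (β : MulAut P) ∈ (genSys F p).autGroup (img P (autFun α)) := by
    refine containsPAut_genSys (F := F) (p := p) _ hc ⟨⟨_, hmP.congr_mem_autGroup β.2⟩, ?_, rfl⟩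
    let Ψ : F.autGroup P →* F.autGroup (img P (autFun α)) :=
      (Φ.toMonoidHom.comp (F.autGroup P).subtype).codRestrict _ fun γ => hmP.congr_mem_autGroup γ.2
    have hle : pGenAut F p P ≤ (pGenAut F p (img P (autFun α))).comap Ψ := by
      refine (Subgroup.closure_le _).2 ?_
      rintro γ ⟨k, hk⟩
      refine Subgroup.subset_closure ⟨k, ?_⟩
      rw [orderOf_injective Ψ (fun x y hxy => Subtype.ext (Φ.injective (congrArg Subtype.val hxy))), hk]
    exact hle hβ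
  refine (autGroup_iff_isMap hP.1 fun x => (toFun_aut_apply (β : MulAut P) x.2).symm).2
    ((isMap_twistSys_iff hm).2 ⟨⟨P.subtype.comp (β : MulAut P).toMonoidHom,
      fun x => (toFun_apply _ x).symm⟩, hP.1, fun x hx => ?_, _,
      isMap_of_autGroup hc.1 hmem, fun x hx => ?_⟩)
  · rw [toFun_aut_apply _ hx]; exact hP.1 ((β : MulAut P) _).2
  · rw [toFun_aut_apply _ hx, toFun_aut_apply _ (hmP.apply_mem_img hx)]
    show _ = ((hmP.equivImg ((β : MulAut P) (hmP.equivImg.symm ⟨_, _⟩)) : img P (autFun α)) : Ω)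
    rw [IsMap.coe_equivImg]
    congr 3
    exact (MulEquiv.symm_apply_eq _).2 rfl |>.symm

/-- The generated system is invariant under `Aut_F(S)`. -/
theorem genSys_transport {α : MulAut S} (hα : α ∈ F.autGroup S) {f : Ω → Ω}
    (hf : IsMap (genSys F p) P f) :
    ∃ g, IsMap (genSys F p) (img P (autFun α)) g ∧
      ∀ x ∈ P, g (autFun α x) = autFun α (f x) := by
  have h1 : IsMap (twistSys (genSys F p) (isMap_autFun le_rfl hα)) P f :=
    ⟨hf.toHom, genSys_le_of (containsPAut_twistSys hS hF hα) P hf.toHom_mem, fun _ => rfl⟩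
  obtain ⟨-, -, -, g, hg, hgx⟩ := (isMap_twistSys_iff _).1 h1
  exact ⟨g, hg, fun x hx => (hgx x hx).symm⟩

/-- The maps that are an automorphism of `S` composed with a map of the generated system. -/
noncomputable def frattiniSys : FusionSystem S where
  Hom P := {φ | φ ∈ F.Hom P ∧ ∃ α ∈ F.autGroup S, ∃ g, IsMap (genSys F p) P g ∧
    ∀ x : P, φ x = autFun α (g x)}
  le_of_mem h := F.le_of_mem h.1
  injective_of_mem h := F.injective_of_mem h.1
  conj_mem {P a} hP ha := ⟨F.conj_mem hP ha, 1, one_mem _, _, isMap_conj _ hP ha, fun x =>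
    (autFun_one (S.mul_mem (S.mul_mem ha (hP x.2)) (S.inv_mem ha))).symm⟩
  comp_mem {P Q φ ψ} hφ hψ h := by
    obtain ⟨hφ, α, hα, g, hg, hgx⟩ := hφ
    obtain ⟨hψ, β, hβ, k, hk, hkx⟩ := hψ
    obtain ⟨k', hk', hk'x⟩ := genSys_transport hS hF (inv_mem hα) hk
    have hQ : Q ≤ S := hk.le
    have hmem : ∀ x ∈ P, g x ∈ img Q (autFun α⁻¹) := fun x hx => by
      rw [← autFun_inv_apply α (hg.mem hx), ← hgx ⟨x, hx⟩]
      exact ((isMap_autFun le_rfl (inv_mem hα)).mono hQ).apply_mem_img (h ⟨x, hx⟩)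
    refine ⟨F.comp_mem hφ hψ h, β * α, mul_mem hβ hα, _, hg.comp hk' hmem, fun x => ?_⟩
    show ψ ⟨φ x, h x⟩ = autFun (β * α) (k' (g x))
    rw [hkx]
    have h1 := hk'x _ (h x)
    have h2 : autFun α⁻¹ (φ x) = g x := by rw [hgx, autFun_inv_apply α (hg.mem x.2)]
    rw [h2] at h1
    rw [h1, autFun_mul_apply _ _ (autFun_mem _ (hk.mem (h x))),
      autFun_apply_inv α (hk.mem (h x))]
  inv_mem {P φ} hφ := by
    obtain ⟨hφ, α, hα, g, hg, hgx⟩ := hφ
    obtain ⟨ψ, hψ, hψx⟩ := F.inv_mem hφ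
    obtain ⟨k, hk, hkx, -, -⟩ := hg.exists_inv
    obtain ⟨k', hk', hk'x⟩ := genSys_transport hS hF hα hk
    have hr : φ.range ≤ img (img P g) (autFun α) := by
      rintro _ ⟨x, rfl⟩
      rw [hgx]
      exact ((isMap_autFun le_rfl hα).mono hg.img_le).apply_mem_img (hg.apply_mem_img x.2)
    refine ⟨ψ, ⟨hψ, α⁻¹, inv_mem hα, k', hk'.mono hr, ?_⟩, hψx⟩
    rintro ⟨_, x, rfl⟩
    rw [hψx]
    show (x : Ω) = autFun α⁻¹ (k' (φ x))
    rw [hgx, hk'x _ (hg.apply_mem_img x.2), hkx _ x.2, autFun_inv_apply α (hg.le x.2)]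

/-- Every map is an automorphism of `S` composed with a map of the generated system. -/
theorem le_frattiniSys : F ≤ frattiniSys hS hF := by
  refine alperin_inductive hS hF fun R hR hlarge => ?_
  haveI := finite_of_le hR.1
  have hext : ∀ β ∈ F.autGroup R, IsExtendable F R β → β ∈ (frattiniSys hS hF).autGroup R := by
    rintro β hβ ⟨R', hR', g, hg, hgx⟩
    haveI := finite_of_le hg.le
    have hlt : Nat.card R < Nat.card R' := lt_of_not_ge fun h =>
      hR'.ne (eq_of_le_of_card_le hR'.le h)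
    exact (autGroup_iff_isMap hR.1 fun x => (hgx x).symm).2 ((hlarge R' g hg hlt).mono hR'.le)
  by_cases hc : F.IsCentric R
  swap
  · rw [← extAut_eq_of_not_centric hS hF hR hc]
    exact (Subgroup.closure_le _).2 fun β hβ => hext β hβ.mem_autGroup hβ
  intro β hβ
  obtain ⟨W, hW⟩ := (fullyAutomized_of_fullyNormalized hS hF hR).2
  set O := pGenAut F p R with hO
  have hOmem : ∀ k ∈ O, (k : MulAut R) ∈ (frattiniSys hS hF).autGroup R := fun k hk => by
    have h1 : (k : MulAut R) ∈ (genSys F p).autGroup R :=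
      containsPAut_genSys R hc ⟨k, hk, rfl⟩
    have hm := isMap_of_autGroup hR.1 h1
    refine (autGroup_mem_iff hR.1).2 ⟨(autGroup_mem_iff hR.1).1 k.2, 1, one_mem _, _, hm,
      fun x => ?_⟩
    rw [autFun_one (hm.mem x.2), toFun_aut_apply _ x.2]
    rfl
  have hWO : (W : Subgroup (F.autGroup R)) ≤ O := fun w hw => by
    obtain ⟨k, hk⟩ := IsPGroup.iff_orderOf.1 W.isPGroup' ⟨w, hw⟩
    exact Subgroup.subset_closure ⟨k, by rwa [← Subgroup.orderOf_coe] at hk⟩
  obtain ⟨V, hV⟩ := CfsgLib.Transfer.exists_sylow_eq_subgroupOf W O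
  have hsup := V.normalizer_sup_eq_top
  rw [hV, Subgroup.subgroupOf_map_subtype, inf_eq_left.2 hWO] at hsup
  obtain ⟨ν, hν, k, hk, hνk⟩ := (Subgroup.mem_sup_of_normal_right (t := O)).1
    (hsup ▸ Subgroup.mem_top (⟨β, hβ⟩ : F.autGroup R))
  have e : β = (ν : MulAut R) * (k : MulAut R) := congrArg Subtype.val hνk.symm
  rw [e]
  refine Subgroup.mul_mem _ ?_ (hOmem k hk)
  rcases eq_or_ne R S with rfl | hRS
  · exact (autGroup_mem_iff le_rfl).2 ⟨(autGroup_mem_iff le_rfl).1 ν.2, ν, ν.2, id,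
      isMap_id _ le_rfl, fun x => (autFun_apply _ x.2).symm⟩
  obtain ⟨u, hu, huR⟩ := SetLike.exists_of_lt (lt_normalizerIn hS (lt_of_le_of_ne hR.1 hRS))
  set c : F.autGroup R := ⟨R.normalizerMonoidHom ⟨u, hu.2⟩, autInducedBy_le_autGroup hR.1
    (mem_autInducedBy_iff.2 ⟨u, hu.1, fun x => rfl⟩)⟩ with hcdef
  have hcW : c ∈ (W : Subgroup (F.autGroup R)) := by
    rw [hW]
    exact mem_autInducedBy_iff.2 ⟨u, hu.1, fun x => rfl⟩
  have h1 := (Subgroup.mem_normalizer_iff.1 hν c).1 hcW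
  rw [hW] at h1
  obtain ⟨b, hb, hbx⟩ := mem_autInducedBy_iff.1 h1
  refine hext _ ν.2 (isExtendable_of_meet hS hF (fullyCentralized_of_fullyNormalized hS hF hR)
    ν.2 hu huR hb fun x => ?_)
  rw [← hbx ((ν : MulAut R) x)]
  simp [hcdef]

theorem exists_frattini {f : Ω → Ω} (hf : IsMap F P f) :
    ∃ α ∈ F.autGroup S, ∃ g, IsMap (genSys F p) P g ∧ ∀ x ∈ P, f x = autFun α (g x) := by
  obtain ⟨φ, ⟨-, α, hα, g, hg, hgx⟩, hφ⟩ := le_iff_isMap.1 (le_frattiniSys hS hF) P f hf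
  exact ⟨α, hα, g, hg, fun x hx => (hφ ⟨x, hx⟩).symm.trans (hgx ⟨x, hx⟩)⟩

/-- All automorphisms of `p`-power order lie in the generated system. -/
theorem pGenAut_le_genSys (hP : P ≤ S) :
    (pGenAut F p P).map (F.autGroup P).subtype ≤ (genSys F p).autGroup P := by
  rw [Subgroup.map_le_iff_le_comap]
  refine (Subgroup.closure_le _).2 ?_
  rintro ⟨β, hβ⟩ ⟨n, hn⟩
  rw [Subgroup.orderOf_mk] at hn
  obtain ⟨Q, hconj, hQ⟩ := exists_fullyNormalized_conj F hP
  obtain ⟨f, hf, hfi⟩ := isConj_iff.1 (isConj_symm hconj)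
  subst hfi
  haveI := finite_of_le hf.le
  set β' := (MulAut.congr hf.equivImg).symm β with hβ'
  have hβ'F : β' ∈ F.autGroup Q := hf.congr_symm_mem_autGroup hβ
  have hK : IsPGroup p (Subgroup.zpowers β') := IsPGroup.of_card
    (by rw [Nat.card_zpowers, hβ', MulEquiv.orderOf_eq, hn])
  obtain ⟨γ, hγ, hγ'⟩ := exists_conj_le_autInducedBy (fullyAutomized_of_fullyNormalized hS hF hQ)
    (Subgroup.zpowers β') hK (Subgroup.zpowers_le.2 hβ'F)
  obtain ⟨a, ha, hax⟩ := mem_autInducedBy_iff.1 (hγ' β' (Subgroup.mem_zpowers _))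
  have han := mem_normalizer_of_aut hax
  -- `h = f γ⁻¹`
  have hh := (isMap_of_autGroup hQ.1 (inv_mem hγ)).comp hf fun x hx => by
    rw [toFun_aut_apply _ hx]; exact (γ⁻¹ _).2
  obtain ⟨α, hα, g, hg, hgx⟩ := exists_frattini hS hF hh
  obtain ⟨j, hj, hjx, hjy, -⟩ := hg.exists_inv
  have hm := (hj.comp (isMap_conj (genSys F p) hQ.1 ha) fun y hy => (hjy y hy).1).comp hg
    fun y hy => (han _).1 (hjy y hy).1
  obtain ⟨k, hk, hkx⟩ := genSys_transport hS hF hα hm
  have hval : ∀ x : Q, ∃ y ∈ img Q g, autFun α y = f x := fun x => by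
    refine ⟨g (γ x), hg.apply_mem_img (γ x).2, ?_⟩
    rw [← hgx _ (γ x).2]
    show f (toFun (Q.subtype.comp (γ⁻¹).toMonoidHom) ((γ x : Q) : Ω)) = f x
    rw [toFun_aut_apply _ (γ x).2]
    simp
  have hle : img Q f ≤ img (img Q g) (autFun α) := by
    intro y hy
    obtain ⟨x, hx, rfl⟩ := hf.mem_img.1 hy
    obtain ⟨z, hz, hzx⟩ := hval ⟨x, hx⟩
    rw [← hzx]
    exact ((isMap_autFun le_rfl hα).mono hg.img_le).apply_mem_img hz
  refine (autGroup_iff_isMap hf.img_le fun y => ?_).2 (hk.mono hle)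
  obtain ⟨x, hx⟩ := hf.equivImg.surjective y
  subst hx
  have hzg : autFun α (g (γ x)) = (hf.equivImg x : Ω) := by
    rw [← hgx _ (γ x).2, IsMap.coe_equivImg]
    show f (toFun (Q.subtype.comp (γ⁻¹).toMonoidHom) ((γ x : Q) : Ω)) = f x
    rw [toFun_aut_apply _ (γ x).2]
    simp
  rw [← hzg, hkx _ (hg.apply_mem_img (γ x).2)]
  show _ = autFun α (g (a * j (g (γ x)) * a⁻¹))
  rw [hjx _ (γ x).2, ← hax (γ x), ← hgx _ ((γ * β' * γ⁻¹) (γ x)).2]
  show _ = f (toFun (Q.subtype.comp (γ⁻¹).toMonoidHom) _)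
  rw [toFun_aut_apply _ ((γ * β' * γ⁻¹) (γ x)).2]
  simp [hβ', IsMap.coe_equivImg]
  rw [← IsMap.coe_equivImg hf, MulEquiv.apply_symm_apply]

end CfsgLib.Fusion
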