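import Cfsg.Agent.Lib.Fusion.LocalSaturationNorm

/-!
The saturation criterion: a class satisfying the condition on `O_p` of the automizer is saturated.
-/

set_option autoImplicit false
set_option linter.unusedVariables false
set_option linter.unusedSectionVars false
set_option linter.style.haveILetI false

namespace CfsgLib.Fusion

open Cfsg Cfsg.FusionSystem Subgroup

variable {Ω : Type*} [Group Ω] {S : Subgroup Ω} {F : FusionSystem S} {p : ℕ}
  {P Q R X Y L : Subgroup Ω} {f g : Ω → Ω}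

/-- `f` agrees on `Q` with a map defined on `kNorm Q`. -/
def ExtK (F : FusionSystem S) (p : ℕ) (Q : Subgroup Ω) (f : Ω → Ω) : Prop :=
  ∃ g, IsMap F (kNorm F p Q) g ∧ ∀ q ∈ Q, g q = f q

variable [Fact p.Prime] [Finite S]

theorem ExtK.apply_mem (hS : IsPGroup p S) (hQ : Q ≤ S) (hg : IsMap F (kNorm F p Q) g)
    (hgi : img Q g = Q) {a : Ω} (ha : a ∈ kNorm F p Q) : g a ∈ kNorm F p Q := by
  have h1 := apply_mem_kNorm hg (self_le_kNorm hS hQ) ha ha
  rwa [hgi] at h1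

theorem ExtK.comp (hS : IsPGroup p S) (hQ : Q ≤ S) (hfi : img Q f = Q) {g' : Ω → Ω}
    (hf : ExtK F p Q f) (hg : ExtK F p Q g') : ExtK F p Q fun q => g' (f q) := by
  obtain ⟨u, hu, huq⟩ := hf
  obtain ⟨v, hv, hvq⟩ := hg
  have hui : img Q u = Q := (img_congr huq).trans hfi
  refine ⟨fun a => v (u a), hu.comp hv fun a ha => ExtK.apply_mem hS hQ hu hui ha, fun q hq => ?_⟩
  show v (u q) = g' (f q)
  rw [huq q hq, hvq _ (hfi.le (Subgroup.subset_closure ⟨q, hq, rfl⟩))]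

theorem ExtK.inv (hS : IsPGroup p S) (hQ : Q ≤ S) (hfi : img Q f = Q) {f' : Ω → Ω}
    (hid : ∀ q ∈ Q, f' (f q) = q) (hf : ExtK F p Q f) : ExtK F p Q f' := by
  obtain ⟨u, hu, huq⟩ := hf
  have hui : img Q u = Q := (img_congr huq).trans hfi
  haveI : Finite (kNorm F p Q) := finite_of_le (kNorm_le.trans inf_le_left)
  have hK : img (kNorm F p Q) u = kNorm F p Q := by
    refine eq_of_le_of_card_le (fun y hy => ?_) hu.card_img.ge
    obtain ⟨a, ha, rfl⟩ := hu.mem_img.1 hy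
    exact ExtK.apply_mem hS hQ hu hui ha
  obtain ⟨v, hv, hvx, -, -⟩ := hu.exists_inv
  rw [hK] at hv
  refine ⟨v, hv, fun q hq => ?_⟩
  obtain ⟨q₀, hq₀, rfl⟩ := (hu.mono (self_le_kNorm hS hQ)).mem_img.1 (hui.symm ▸ hq)
  rw [hvx q₀ (self_le_kNorm hS hQ hq₀), huq q₀ hq₀, hid q₀ hq₀]

variable {ℋ : Set (Subgroup Ω)} (h : ClassSetup F p ℋ P)

include h

theorem ClassSetup.isConj_img {x : Subgroup Ω} (hx : F.IsConj P x) (hg : IsMap F L g)
    (hxL : x ≤ L) : F.IsConj P (img x g) := isConj_trans hx (hg.mono hxL).isConj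

/-- Automorphisms of a fully normalized member extending to a larger subgroup extend to
`kNorm`. -/
theorem ClassSetup.extK_of_map (hQ : F.IsConj P Q) (hQn : F.IsFullyNormalized Q) :
    ∀ (d : ℕ) (R : Subgroup Ω) (g : Ω → Ω), IsMap F R g → Q < R → R ≤ normalizerIn S Q →
      img Q g = Q → Nat.card (normalizerIn S Q) ≤ Nat.card R + d → ExtK F p Q g := by
  have hS := h.isPGroup
  have hQS : Q ≤ S := isConj_le_right hQ
  intro d
  induction d with
  | zero =>
    intro R g hg hQR hR hgi hd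
    haveI := finite_normalizerIn (S := S) (P := Q)
    obtain rfl : R = normalizerIn S Q := eq_of_le_of_card_le hR (by omega)
    exact ⟨g, hg.mono kNorm_le, fun q _ => rfl⟩
  | succ d ih =>
    intro R g hg hQR hR hgi hd
    by_cases hle : kNorm F p Q ≤ R
    · exact ⟨g, hg.mono hle, fun q _ => rfl⟩
    have hQR' : Q ≤ img R g := by
      have := img_mono (f := g) hQR.le
      rwa [hgi] at this
    have hR' : img R g ≤ normalizerIn S Q := by
      have := img_le_normalizerIn hg hQR.le hR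
      rwa [hgi] at this
    haveI := finite_of_le hg.le
    have hle' : ¬ kNorm F p Q ≤ img R g := by
      intro hK
      obtain ⟨g', hg', hg'x, hg'y, -⟩ := hg.exists_inv
      have hg'Q : img Q g' = Q := by
        conv_lhs => rw [← hgi]
        rw [← img_comp_eq (hg.mono hQR.le) hg' fun a ha => hg.apply_mem_img (hQR.le ha),
          img_congr (g := id) fun a ha => hg'x a (hQR.le ha), img_id]
      haveI : Finite (kNorm F p Q) := finite_of_le (kNorm_le.trans inf_le_left)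
      have h1 : Nat.card (kNorm F p Q) ≤ Nat.card (kNorm F p Q ⊓ R : Subgroup Ω) := by
        haveI : Finite (kNorm F p Q ⊓ R : Subgroup Ω) :=
          finite_of_le (inf_le_right.trans hg.le)
        refine Nat.card_le_card_of_injective (fun a : kNorm F p Q => (⟨g' a, ?_, (hg'y a (hK a.2)).1⟩ :
          (kNorm F p Q ⊓ R : Subgroup Ω))) fun a b hab => ?_
        · have h2 := apply_mem_kNorm hg' hQR' (hK a.2) a.2
          rwa [hg'Q] at h2
        · exact Subtype.ext (hg'.inj (hK a.2) (hK b.2) (congrArg Subtype.val hab))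
      exact hle (inf_eq_left.1 (eq_of_le_of_card_le inf_le_left h1))
    have hn : Nat.card P < Nat.card R := by
      rw [← isConj_card hQ]
      by_contra hge
      exact hQR.ne (eq_of_le_of_card_le hQR.le (by omega))
    obtain ⟨R₀, hRR₀, ha, hr⟩ := h.big R hg.le hn
    haveI := finite_of_le ha.1
    have hcR₀ := isConj_card hRR₀
    obtain ⟨φ, hφ, hφi⟩ := isConj_iff.1 hRR₀
    obtain ⟨τ, hτ, hτi, hτN, -⟩ := exists_map_normalizerIn hS ha hr hφ hφi
    obtain ⟨φ', hφ', hφ'i⟩ := isConj_iff.1 (isConj_trans (isConj_symm hg.isConj) hRR₀)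
    obtain ⟨τ', hτ', hτ'i, hτ'N, -⟩ := exists_map_normalizerIn hS ha hr hφ' hφ'i
    have hRN : R ≤ normalizerIn S R := le_normalizerIn hg.le
    have hR'N : img R g ≤ normalizerIn S (img R g) := le_normalizerIn hg.img_le
    -- the automorphism of the receptive conjugate
    obtain ⟨ti, hti, htix, htiy, -⟩ := (hτ.mono hRN).exists_inv
    have hm1 := hti.comp hg fun a ha => (htiy a ha).1
    have hm2 := hm1.comp hτ' fun a ha => hR'N (hg.apply_mem_img (htiy a ha).1)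
    rw [hτi] at hm2
    have hm2i : img R₀ (fun a => τ' (g (ti a))) = R₀ := by
      refine eq_of_le_of_card_le (fun b hb => ?_) hm2.card_img.ge
      obtain ⟨a, haR, rfl⟩ := hm2.mem_img.1 hb
      rw [← hτ'i]
      exact (hτ'.mono hR'N).apply_mem_img (hg.apply_mem_img (htiy a (hτi.symm ▸ haR)).1)
    set α := hm2.toAut hm2i with hα
    have hαA : α ∈ F.autGroup R₀ := hm2.toAut_mem hm2i
    have hαx : ∀ u (hu : u ∈ R) (hτu : τ u ∈ R₀), ((α ⟨τ u, hτu⟩ : R₀) : Ω) = τ' (g u) := by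
      intro u hu hτu
      rw [IsMap.toAut_apply, htix u hu]
    have hτQ : img Q τ ≤ R₀ := hτi ▸ img_mono hQR.le
    have hτ'Q : img Q τ' ≤ R₀ := hτ'i ▸ img_mono hQR'
    have hcα : Carries α (img Q τ) (img Q τ') := by
      intro a
      rw [IsMap.toAut_apply, (hτ.mono (hQR.le.trans hRN)).mem_img,
        (hτ'.mono (hQR'.trans hR'N)).mem_img]
      have haR : (a : Ω) ∈ img R τ := hτi.symm ▸ a.2
      constructor
      · rintro ⟨u, hu, hua⟩
        refine ⟨g u, ?_, by rw [← hua, htix u (hQR.le hu)]⟩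
        have := (hg.mono hQR.le).apply_mem_img hu
        rwa [hgi] at this
      · rintro ⟨v, hv, hva⟩
        rw [← hgi] at hv
        obtain ⟨u, hu, rfl⟩ := (hg.mono hQR.le).mem_img.1 hv
        refine ⟨u, hu, ?_⟩
        obtain ⟨h1, h2⟩ := htiy a haR
        have h3 := hτ'.inj (hR'N (hg.apply_mem_img (hQR.le hu))) (hR'N (hg.apply_mem_img h1)) hva
        rw [hg.inj (hQR.le hu) h1 h3, h2]
    obtain ⟨β, hβ, Y, hY, hcβ, hβc, hsyl⟩ := exists_carries_sylow hS ha hτQ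
    have hYc : F.IsConj P Y := by
      rw [← hcβ.img_eq ha.1 hβ hτQ hY]
      exact h.isConj_img (h.isConj_img hQ hτ (hQR.le.trans hRN)) (isMap_autFun ha.1 hβ) hτQ
    obtain ⟨ψ, hψ, hψi, hψN⟩ := h.exists_map_to hQ hQn hYc
    -- a side: a receptive extension moving into `N_S(Q)`
    have side : ∀ (R : Subgroup Ω) (τ : Ω → Ω) (β : MulAut R₀), Q ≤ R → R ≤ normalizerIn S Q →
        ¬ kNorm F p Q ≤ R → IsMap F (normalizerIn S R) τ → img R τ = R₀ →
        (∀ a ∈ normalizerIn S R, τ a ∈ normalizerIn S R₀) → β ∈ F.autGroup R₀ →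
        Carries β (img Q τ) Y →
        (∀ κ ∈ autInducedBy (normalizerIn S (img Q τ)) R₀, β * κ * β⁻¹ ∈ autInducedBy S R₀) →
        R₀ ≤ normalizerIn S Y ∧ (∃ b ∈ kNorm F p Y, b ∉ R₀ ∧ b ∈ normalizerIn S R₀) ∧
        ∃ w, ExtK F p Q w ∧ img Q w = Q ∧
          ∀ q ∈ Q, w q = ψ (autFun β (τ q)) := by
      intro R τ β hQR hR hle hτ hτi hτN hβ hcβ hβc
      haveI := finite_of_le (hR.trans inf_le_left)
      obtain ⟨b₁, hb₁, hb₁R, hb₁n⟩ := exists_outside hS hQS hR hle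
      set L := normalizerIn (normalizerIn S Q) R with hL
      haveI : Finite L := finite_of_le (inf_le_left.trans inf_le_left)
      have hRL : R ≤ L := le_inf hR Subgroup.le_normalizer
      have hb₁L : b₁ ∈ L := ⟨kNorm_le hb₁, hb₁n⟩
      have hLR : L ≤ normalizerIn S R := inf_le_inf_right _ inf_le_left
      have hLQ : L ≤ normalizerIn S Q := inf_le_left
      have hm := hτ.mono hLR
      have hτQ : img Q τ ≤ R₀ := hτi ▸ img_mono hQR
      have hL₀ : R₀ ≤ img L τ := hτi ▸ img_mono hRL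
      have hL₀R : img L τ ≤ normalizerIn S R₀ := fun z hz => by
        obtain ⟨a, ha, rfl⟩ := hm.mem_img.1 hz
        exact hτN a (hLR ha)
      have hL₀X : img L τ ≤ normalizerIn S (img Q τ) :=
        img_le_normalizerIn hm (hQR.trans hRL) hLQ
      obtain ⟨gb, hgb, hgbx⟩ := exists_extend hr hβ hL₀ hL₀R
        fun κ hκ => hβc κ (autInducedBy_mono hL₀X hκ)
      have hcomp := hm.comp hgb fun a ha => hm.apply_mem_img ha
      have hQX : img Q (fun a => gb (τ a)) = Y := by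
        rw [img_comp_eq (hm.mono (hQR.trans hRL)) hgb fun a ha => hm.apply_mem_img (hQR.trans hRL ha),
          img_congr fun a ha => hgbx a (hτQ ha)]
        exact hcβ.img_eq hr.1 hβ hτQ hY
      have hRR₀' : img R (fun a => gb (τ a)) = R₀ := by
        rw [img_comp_eq (hm.mono hRL) hgb fun a ha => hm.apply_mem_img (hRL ha), hτi,
          img_congr fun a ha => hgbx a ha, autFun, img_toFun_aut]
      have hLY : ∀ a ∈ L, gb (τ a) ∈ normalizerIn S Y := fun a ha => by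
        rw [← hQX]
        exact hcomp.apply_mem_normalizerIn (hQR.trans hRL) ha (hLQ ha).2
      have hR₀Y : R₀ ≤ normalizerIn S Y := by
        rw [← hRR₀']
        intro z hz
        obtain ⟨a, ha, rfl⟩ := (hcomp.mono hRL).mem_img.1 hz
        exact hLY a (hRL ha)
      refine ⟨hR₀Y, ⟨gb (τ b₁), ?_, fun hmem => hb₁R ?_, ?_⟩, ?_⟩
      · rw [← hQX]
        exact apply_mem_kNorm hcomp (hQR.trans hRL) hb₁L hb₁
      · rw [← hRR₀'] at hmem
        obtain ⟨a, ha, hab⟩ := (hcomp.mono hRL).mem_img.1 hmem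
        exact hcomp.inj (hRL ha) hb₁L hab ▸ ha
      · rw [← hRR₀']
        exact hcomp.apply_mem_normalizerIn hRL hb₁L hb₁n
      · have hw := hcomp.comp hψ hLY
        have hwi : img Q (fun a => ψ (gb (τ a))) = Q := by
          rw [img_comp_eq (hcomp.mono (hQR.trans hRL)) hψ fun a ha => hLY a (hQR.trans hRL ha),
            hQX, hψi]
        have hlt : Nat.card R < Nat.card L := by
          by_contra hge
          exact hb₁R ((eq_of_le_of_card_le hRL (by omega)).symm ▸ hb₁L)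
        refine ⟨fun a => ψ (gb (τ a)), ih L _ hw ?_ hLQ hwi ?_, hwi, fun q hq => ?_⟩
        · refine lt_of_le_of_ne (hQR.trans hRL) fun e => ?_
          rw [← e] at hb₁L
          exact hb₁R (hQR hb₁L)
        · rename_i hd₀
          have : Nat.card R = Nat.card R₀ := by rw [← hτi, (hτ.mono (hRL.trans hLR)).card_img]
          omega
        · show ψ (gb (τ q)) = ψ (autFun β (τ q))
          rw [hgbx _ (hτQ ((hm.mono (hQR.trans hRL)).apply_mem_img hq))]
    have hc1 : Nat.card R₀ = Nat.card R := hcR₀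
    obtain ⟨w₁R, ⟨b₂, hb₂, hb₂R, hb₂n⟩, w₁, hw₁, hw₁i, hw₁q⟩ :=
      side R τ β hQR.le hR hle hτ hτi hτN hβ hcβ hβc
    set δ := β * α⁻¹ with hδ
    have hcδ : Carries δ (img Q τ') Y := hcα.inv.comp hcβ
    have hδA : δ ∈ F.autGroup R₀ := mul_mem hβ (inv_mem hαA)
    obtain ⟨w, hw, hwc⟩ := hsyl ((autInducedBy (normalizerIn S (img Q τ')) R₀).map
        (MulAut.conj δ).toMonoidHom) ((isPGroup_autInducedBy_le hS inf_le_left R₀).map _) (by
        rintro _ ⟨u, hu, rfl⟩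
        have hu' := autInducedBy_normalizerIn_le_stabAut (F := F) ha.1 hu
        exact ⟨mul_mem (mul_mem hδA hu'.1) (inv_mem hδA), hcδ.inv.comp (hu'.2.comp hcδ)⟩)
    obtain ⟨-, -, w₃, hw₃, hw₃i, hw₃q⟩ := side (img R g) τ' (w * δ) hQR' hR' hle' hτ' hτ'i hτ'N
      (mul_mem hw.1 hδA) (hcδ.comp hw.2) fun κ hκ => by
        have := hwc _ ⟨κ, hκ, rfl⟩
        rw [mul_inv_rev]
        simp only [MulEquiv.coe_toMonoidHom, MulAut.conj_apply] at this
        simpa only [mul_assoc] using this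
    -- the stabilizing part
    set B := locStabAut F R₀ Y with hB
    set T := (autInducedBy S R₀).subgroupOf B with hT
    obtain ⟨Ps, hPs⟩ := exists_sylow_of_conjInto (p := p) (T := T)
      ((isPGroup_autInducedBy hS R₀).comap_of_injective _ (Subgroup.subtype_injective _))
      (fun U hU => by
        obtain ⟨v, hv, hvU⟩ := hsyl (U.map B.subtype) (hU.map _) (Subgroup.map_subtype_le _)
        exact ⟨⟨v, hv⟩, fun u hu => hvU u ⟨u, hu, rfl⟩⟩)
    haveI : (Cfsg.pCore p (F.autGroup Y)).Normal := CfsgLib.Solvable.pCore_normal p _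
    haveI := finite_of_le (hY.trans ha.1)
    set N := (Cfsg.pCore p (F.autGroup Y)).comap (resHom ha.1 hY) with hN
    obtain ⟨c, hc, hct⟩ := exists_frattini_conj Ps N (⟨w, hw⟩ : B)
    obtain ⟨t, ht, htc⟩ := exists_mem_inf_eq Ps N (resHom ha.1 hY)
      ((CfsgLib.Solvable.pCore_isPGroup p).to_le (Subgroup.map_comap_le _ _)) hc
    set v : B := t⁻¹ * (c * ⟨w, hw⟩) with hv
    have hvres : resHom ha.1 hY v = resHom ha.1 hY ⟨w, hw⟩ := by
      rw [hv, map_mul, map_mul, map_inv, htc, inv_mul_cancel_left]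
    have hvT : ∀ u ∈ (Ps : Subgroup B) ⊓ N, v * u * v⁻¹ ∈ (Ps : Subgroup B) ⊓ N := fun u hu => by
      have e : v * u * v⁻¹ = t⁻¹ * (c * ⟨w, hw⟩ * u * (c * ⟨w, hw⟩)⁻¹) * t := by rw [hv]; group
      rw [e]
      exact mul_mem (mul_mem (inv_mem ht) (hct u hu)) ht
    -- extend it
    set L₁ := kNorm F p Y ⊓ normalizerIn S R₀ with hL₁
    set L₂ := R₀ ⊔ L₁ with hL₂
    have hL₂R : L₂ ≤ normalizerIn S R₀ := sup_le (le_normalizerIn ha.1) inf_le_right
    have hL₂Y : L₂ ≤ normalizerIn S Y := sup_le w₁R (inf_le_left.trans kNorm_le)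
    obtain ⟨gv, hgv, hgvx⟩ := exists_extend hr v.2.1 (le_sup_left : R₀ ≤ L₂) hL₂R fun κ hκ => by
      obtain ⟨a, haL, hax⟩ := mem_autInducedBy_iff.1 hκ
      have haL' : a ∈ ((R₀ ⊔ L₁ : Subgroup Ω) : Set Ω) := haL
      rw [coe_mul_of_right_le_normalizer_left _ _
        (show L₁ ≤ normalizer (R₀ : Set Ω) from fun z hz => hz.2.2)] at haL'
      obtain ⟨r, hr', l, hl, hrl⟩ := haL'
      set κl : MulAut R₀ := R₀.normalizerMonoidHom ⟨l, hl.2.2⟩ with hκl
      have hκlx : ∀ x : R₀, ((κl x : R₀) : Ω) = l * x * l⁻¹ := fun x => rfl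
      have hκe : κ = MulAut.conj (⟨r, hr'⟩ : R₀) * κl := MulEquiv.ext fun x => Subtype.ext (by
        rw [hax x, ← hrl]
        show r * l * (x : Ω) * (r * l)⁻¹ = r * (l * x * l⁻¹) * r⁻¹
        group)
      have hκlB : κl ∈ B := autInducedBy_normalizerIn_le_stabAut ha.1
        (mem_autInducedBy_iff.2 ⟨l, kNorm_le hl.1, hκlx⟩)
      have hu : (⟨κl, hκlB⟩ : B) ∈ (Ps : Subgroup B) ⊓ N := by
        refine ⟨hPs.ge (mem_autInducedBy_iff.2 ⟨l, hl.2.1, hκlx⟩), ?_⟩
        obtain ⟨-, μ, hμ, hμx⟩ := hl.1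
        show resHom ha.1 hY _ ∈ Cfsg.pCore p (F.autGroup Y)
        rwa [show resHom ha.1 hY ⟨κl, hκlB⟩ = μ from Subtype.ext (MulEquiv.ext fun y =>
          Subtype.ext (by rw [hμx]; exact hκlx ⟨y, hY y.2⟩))]
      have h1 : (v : MulAut R₀) * κl * (v : MulAut R₀)⁻¹ ∈ autInducedBy S R₀ :=
        hPs.le (hvT _ hu).1
      have h2 : (v : MulAut R₀) * MulAut.conj (⟨r, hr'⟩ : R₀) * (v : MulAut R₀)⁻¹ ∈
          autInducedBy S R₀ := by
        refine inn_le_autInducedBy ha.1 ⟨(v : MulAut R₀) ⟨r, hr'⟩, ?_⟩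
        ext x
        simp [MulAut.mul_apply, map_mul, map_inv]
      have h3 := mul_mem h2 h1
      rw [hκe]
      convert h3 using 1
      group
    have hYL₂ : Y ≤ L₂ := hY.trans le_sup_left
    have hgvY : img Y gv = Y := by
      rw [img_congr fun a ha => hgvx a (hY ha)]
      exact v.2.2.img_eq ha.1 v.2.1 hY hY
    haveI : Finite L₂ := finite_of_le (hL₂R.trans inf_le_left)
    have hgvN : ∀ a ∈ L₂, gv a ∈ normalizerIn S Y := fun a haL => by
      rw [← hgvY]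
      exact hgv.apply_mem_normalizerIn hYL₂ haL (hL₂Y haL).2
    have hD := hψ.mono hL₂Y
    obtain ⟨pi, hpi, hpix, hpiy, -⟩ := hD.exists_inv
    have hh := (hpi.comp hgv fun a ha => (hpiy a ha).1).comp hψ
      fun a ha => hgvN _ (hpiy a ha).1
    have hψQ : img Y ψ = Q := hψi
    have hhi : img Q (fun a => ψ (gv (pi a))) = Q := by
      conv_lhs => rw [← hψQ]
      rw [← img_comp_eq (hD.mono hYL₂) hh fun a ha => hD.apply_mem_img (hYL₂ ha),
        img_congr (g := fun a => ψ (gv a)) fun a ha => by rw [hpix a (hYL₂ ha)],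
        img_comp_eq (hgv.mono hYL₂) hψ fun a ha => hgvN a (hYL₂ ha), hgvY, hψQ]
    have hQD : Q ≤ img L₂ ψ := hψQ ▸ img_mono hYL₂
    have hcard : Nat.card R < Nat.card (img L₂ ψ) := by
      rw [hD.card_img, ← hc1]
      by_contra hge
      have := eq_of_le_of_card_le (show R₀ ≤ L₂ from le_sup_left) (by omega)
      exact hb₂R (this.symm ▸ mem_sup_right ⟨hb₂, hb₂n⟩)
    obtain ⟨w₂, hw₂, hw₂q⟩ := ih _ _ hh (lt_of_le_of_ne hQD fun e => by
        rw [← e, isConj_card hQ] at hcard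
        omega)
      (by
        have := img_le_normalizerIn hD hYL₂ hL₂Y
        rwa [hψQ] at this) hhi (by omega)
    -- assemble
    haveI := finite_of_le hQS
    have hw₁mem : ∀ q ∈ Q, w₁ q ∈ Q := fun q hq => hw₁i.le (Subgroup.subset_closure ⟨q, hq, rfl⟩)
    have hmemY : ∀ q ∈ Q, autFun β (τ q) ∈ Y := fun q hq => by
      have hτq : τ q ∈ img Q τ := Subgroup.subset_closure ⟨q, hq, rfl⟩
      rw [autFun_apply β (hτQ hτq)]
      exact (hcβ ⟨τ q, hτQ hτq⟩).1 hτq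
    have key : ∀ q ∈ Q, w₃ (g q) = (fun a => ψ (gv (pi a))) (w₁ q) := by
      intro q hq
      have hgq : g q ∈ Q := hgi.le (Subgroup.subset_closure ⟨q, hq, rfl⟩)
      have hy := hmemY q hq
      have hτq : τ q ∈ R₀ := hτQ (Subgroup.subset_closure ⟨q, hq, rfl⟩)
      have hτ'gq : τ' (g q) ∈ R₀ := hτ'Q (Subgroup.subset_closure ⟨g q, hgq, rfl⟩)
      rw [hw₃q _ hgq]
      show _ = ψ (gv (pi (w₁ q)))
      rw [hw₁q q hq, hpix _ (hYL₂ hy), hgvx _ (hY hy), autFun_apply _ (hY hy),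
        autFun_apply _ hτ'gq]
      congr 1
      have h1 := congrArg (fun z : F.autGroup Y => ((((z : MulAut Y) ⟨_, hy⟩) : Y) : Ω)) hvres
      simp only [resHom_apply] at h1
      rw [h1]
      have h2 : (⟨τ' (g q), hτ'gq⟩ : R₀) = α ⟨τ q, hτq⟩ :=
        Subtype.ext (hαx q (hQR.le hq) hτq).symm
      have h3 : (⟨autFun β (τ q), hY hy⟩ : R₀) = β ⟨τ q, hτq⟩ :=
        Subtype.ext (autFun_apply β hτq)
      rw [h2, h3, hδ]
      simp only [MulAut.mul_apply, MulAut.inv_apply_self]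
    -- invert `w₃`
    obtain ⟨u, hu, huq⟩ := hw₃
    have huQ := hu.mono (self_le_kNorm hS hQS)
    obtain ⟨u', hu', hu'x, hu'y, hu'i⟩ := huQ.exists_inv
    have hui : img Q u = Q := (img_congr huq).trans hw₃i
    rw [hui] at hu' hu'i hu'y
    have e3 : ExtK F p Q u' := ExtK.inv hS hQS hw₃i (fun q hq => by
      rw [← huq q hq]; exact hu'x q hq) ⟨u, hu, huq⟩
    have e12 := ExtK.comp hS hQS hw₁i hw₁ (⟨w₂, hw₂, hw₂q⟩ : ExtK F p Q _)
    have h12i : img Q (fun q => (fun a => ψ (gv (pi a))) (w₁ q)) = Q := by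
      obtain ⟨u₁, hu₁, hu₁q⟩ := hw₁
      rw [img_congr (g := fun q => (fun a => ψ (gv (pi a))) (u₁ q)) fun q hq => by rw [hu₁q q hq],
        img_comp_eq (hu₁.mono (self_le_kNorm hS hQS)) hh fun q hq => hQD (by
          rw [hu₁q q hq]; exact hw₁mem q hq),
        img_congr hu₁q, hw₁i, hhi]
    obtain ⟨r, hr₁, hr₂⟩ := ExtK.comp hS hQS h12i e12 e3
    refine ⟨r, hr₁, fun q hq => ?_⟩
    rw [hr₂ q hq]
    show u' ((fun a => ψ (gv (pi a))) (w₁ q)) = g q
    have hgq : g q ∈ Q := hgi.le (Subgroup.subset_closure ⟨q, hq, rfl⟩)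
    rw [← key q hq, ← huq _ hgq, hu'x _ hgq]

/-- Every automorphism of a fully normalized member extends to `kNorm`. -/
theorem ClassSetup.extK_all (hQ : F.IsConj P Q) (hQn : F.IsFullyNormalized Q)
    {f : Ω → Ω} (hf : IsMap F Q f) (hfi : img Q f = Q) : ExtK F p Q f := by
  have hS := h.isPGroup
  have hQS : Q ≤ S := isConj_le_right hQ
  let C : Subgroup Ω → (Ω → Ω) → Prop := fun U f => ∀ ψ ψ',
    IsMap F (normalizerIn S U) ψ → img U ψ = Q →
    IsMap F (normalizerIn S (img U f)) ψ' → img (img U f) ψ' = Q →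
    ∃ g, IsMap F (kNorm F p Q) g ∧ ∀ u ∈ U, g (ψ u) = ψ' (f u)
  have key := h.forall_maps C ?_ ?_ ?_ ?_ Q hQ f hf id id (isMap_id F inf_le_left) (img_id Q)
    (isMap_id F inf_le_left) (by rw [img_id, hfi])
  · exact key
  · intro U R g hU hg hUR hR ψ ψ' hψ hψi hψ' hψ'i
    haveI := finite_of_le hg.le
    have hψR := hψ.mono hR
    have hg' : ∀ a ∈ R, g a ∈ normalizerIn S (img U g) := fun a ha =>
      hg.apply_mem_normalizerIn hUR.le ha (hR ha).2
    obtain ⟨pi, hpi, hpix, hpiy, -⟩ := hψR.exists_inv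
    have hh := (hpi.comp hg fun a ha => (hpiy a ha).1).comp hψ' fun a ha => hg' _ (hpiy a ha).1
    have hhi : img Q (fun a => ψ' (g (pi a))) = Q := by
      conv_lhs => rw [← hψi]
      rw [← img_comp_eq (hψR.mono hUR.le) hh fun a ha => hψR.apply_mem_img (hUR.le ha),
        img_congr (g := fun a => ψ' (g a)) fun a ha => by rw [hpix a (hUR.le ha)],
        img_comp_eq (hg.mono hUR.le) hψ' fun a ha => hg' a (hUR.le ha), hψ'i]
    have hlt : Q < img R ψ := by
      refine lt_of_le_of_ne (hψi ▸ img_mono hUR.le) fun e => ?_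
      have h1 : Nat.card Q = Nat.card R := by rw [e, hψR.card_img]
      rw [← hψi, (hψR.mono hUR.le).card_img] at h1
      exact hUR.ne (eq_of_le_of_card_le hUR.le h1.ge)
    obtain ⟨k, hk, hkq⟩ := h.extK_of_map hQ hQn _ (img R ψ) _ hh hlt
      (by
        have := img_le_normalizerIn hψR hUR.le hR
        rwa [hψi] at this) hhi (Nat.le_add_left _ _)
    refine ⟨k, hk, fun u hu => ?_⟩
    have hψu : ψ u ∈ Q := hψi.le (Subgroup.subset_closure ⟨u, hu, rfl⟩)
    rw [hkq _ hψu]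
    show ψ' (g (pi (ψ u))) = _
    rw [hpix u (hUR.le hu)]
  · intro U f g _ hfg hC ψ ψ' hψ hψi hψ' hψ'i
    rw [← img_congr hfg] at hψ' hψ'i
    obtain ⟨k, hk, hku⟩ := hC ψ ψ' hψ hψi hψ' hψ'i
    exact ⟨k, hk, fun u hu => by rw [hku u hu, hfg u hu]⟩
  · intro U f g hU hf hg h1 h2 ψ ψ'' hψ hψi hψ'' hψ''i
    have hmem : ∀ a ∈ U, f a ∈ img U f := fun a ha => hf.apply_mem_img ha
    rw [img_comp_eq hf hg hmem] at hψ'' hψ''i
    obtain ⟨ψ', hψ', hψ'i, -⟩ := h.exists_map_to hQ hQn (isConj_trans hU hf.isConj)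
    obtain ⟨k₁, hk₁, hk₁u⟩ := h1 ψ ψ' hψ hψi hψ' hψ'i
    obtain ⟨k₂, hk₂, hk₂u⟩ := h2 ψ' ψ'' hψ' hψ'i hψ'' hψ''i
    have hk₁Q : img Q k₁ = Q := by
      conv_lhs => rw [← hψi]
      rw [← img_comp_eq (hψ.mono (le_normalizerIn hf.le)) hk₁ fun a ha =>
          self_le_kNorm hS hQS (hψi.le (Subgroup.subset_closure ⟨a, ha, rfl⟩)),
        img_congr (g := fun a => ψ' (f a)) hk₁u,
        img_comp_eq hf hψ' fun a ha => le_normalizerIn hf.img_le (hmem a ha), hψ'i]
    refine ⟨fun a => k₂ (k₁ a), hk₁.comp hk₂ fun a ha => ExtK.apply_mem hS hQS hk₁ hk₁Q ha,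
      fun u hu => ?_⟩
    show k₂ (k₁ (ψ u)) = _
    rw [hk₁u u hu, hk₂u (f u) (hmem u hu)]
  · intro U f f' hU hf hf' hid h1 ψ ψ' hψ hψi hψ' hψ'i
    have hback : img (img U f) f' = U := by
      rw [← img_comp_eq hf hf' fun a ha => hf.apply_mem_img ha, img_congr (g := id) hid, img_id]
    rw [hback] at hψ' hψ'i
    obtain ⟨k, hk, hku⟩ := h1 ψ' ψ hψ' hψ'i hψ hψi
    have hkQ : img Q k = Q := by
      conv_lhs => rw [← hψ'i]
      rw [← img_comp_eq (hψ'.mono (le_normalizerIn hf.le)) hk fun a ha =>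
          self_le_kNorm hS hQS (hψ'i.le (Subgroup.subset_closure ⟨a, ha, rfl⟩)),
        img_congr (g := fun a => ψ (f a)) hku,
        img_comp_eq hf hψ fun a ha => le_normalizerIn hf.img_le (hf.apply_mem_img ha), hψi]
    obtain ⟨k', hk', hk'x, -, -⟩ := hk.exists_inv
    haveI : Finite (kNorm F p Q) := finite_of_le (kNorm_le.trans inf_le_left)
    have hK : img (kNorm F p Q) k = kNorm F p Q := by
      refine eq_of_le_of_card_le (fun y hy => ?_) hk.card_img.ge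
      obtain ⟨a, ha, rfl⟩ := hk.mem_img.1 hy
      exact ExtK.apply_mem hS hQS hk hkQ ha
    rw [hK] at hk'
    refine ⟨k', hk', fun v hv => ?_⟩
    obtain ⟨u, hu, rfl⟩ := hf.mem_img.1 hv
    rw [hid u hu, ← hku u hu]
    exact hk'x _ (self_le_kNorm hS hQS (hψ'i.le (Subgroup.subset_closure ⟨u, hu, rfl⟩)))

theorem ClassSetup.locSat (hK : ∀ Q, F.IsConj P Q → F.IsFullyNormalized Q → Q < kNorm F p Q) :
    LocSat F p P := by
  have hS := h.isPGroup
  obtain ⟨Q₀, hQ₀, hQ₀n⟩ := exists_fullyNormalized_conj F h.lt.le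
  have hQ₀S : Q₀ ≤ S := hQ₀n.1
  set K₀ := kNorm F p Q₀ with hK₀
  haveI : Finite K₀ := finite_of_le (kNorm_le.trans inf_le_left)
  have hn : Nat.card P < Nat.card K₀ := by
    rw [← isConj_card hQ₀]
    by_contra hge
    exact (hK Q₀ hQ₀ hQ₀n).ne (eq_of_le_of_card_le (hK Q₀ hQ₀ hQ₀n).le (not_lt.1 hge))
  obtain ⟨R, hKR, ha, hr⟩ := h.big K₀ (kNorm_le.trans inf_le_left) hn
  haveI := finite_of_le ha.1
  obtain ⟨φ, hφ, hφi⟩ := isConj_iff.1 hKR
  obtain ⟨τ, hτ, hτi, hτN, -⟩ := exists_map_normalizerIn hS ha hr hφ hφi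
  have hQK : Q₀ ≤ K₀ := self_le_kNorm hS hQ₀S
  have hNK : normalizerIn S Q₀ ≤ normalizerIn S K₀ :=
    le_inf inf_le_left (normalizerIn_le_normalizer_kNorm hQ₀S)
  have hm := hτ.mono hNK
  have hX : img Q₀ τ ≤ R := hτi ▸ img_mono hQK
  obtain ⟨β, hβ, Q, hQR, hcβ, hβc, hsyl⟩ := exists_carries_sylow hS ha hX
  have hKN : K₀ ≤ normalizerIn S Q₀ := kNorm_le
  have hL₀ : R ≤ img (normalizerIn S Q₀) τ := hτi ▸ img_mono hKN
  have hL₀R : img (normalizerIn S Q₀) τ ≤ normalizerIn S R := fun z hz => by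
    obtain ⟨a, ha, rfl⟩ := hm.mem_img.1 hz
    exact hτN a (hNK ha)
  have hL₀X : img (normalizerIn S Q₀) τ ≤ normalizerIn S (img Q₀ τ) :=
    img_le_normalizerIn hm (le_normalizerIn hQ₀S) le_rfl
  obtain ⟨gb, hgb, hgbx⟩ := exists_extend hr hβ hL₀ hL₀R
    fun κ hκ => hβc κ (autInducedBy_mono hL₀X hκ)
  set μ : Ω → Ω := fun a => gb (τ a) with hμ
  have hμm : IsMap F (normalizerIn S Q₀) μ := hm.comp hgb fun a ha => hm.apply_mem_img ha
  have hμQ : img Q₀ μ = Q := by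
    rw [hμ, img_comp_eq (hm.mono (le_normalizerIn hQ₀S)) hgb
      fun a ha => hm.apply_mem_img (le_normalizerIn hQ₀S ha), img_congr fun a ha => hgbx a (hX ha)]
    exact hcβ.img_eq hr.1 hβ hX hQR
  have hμK : img K₀ μ = R := by
    rw [hμ, img_comp_eq (hm.mono hKN) hgb fun a ha => hm.apply_mem_img (hKN ha), hτi,
      img_congr fun a ha => hgbx a ha, autFun, img_toFun_aut]
  have hQ : F.IsConj P Q := hμQ ▸ h.isConj_img hQ₀ hμm (le_normalizerIn hQ₀S)
  have hQS : Q ≤ S := isConj_le_right hQ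
  haveI := finite_of_le hQS
  haveI := finite_normalizerIn (S := S) (P := Q)
  have hμN : img (normalizerIn S Q₀) μ = normalizerIn S Q := by
    refine eq_of_le_of_card_le ?_ ?_
    · have := img_le_normalizerIn hμm (le_normalizerIn hQ₀S) le_rfl
      rwa [hμQ] at this
    · rw [hμm.card_img]
      exact hQ₀n.2 Q (isConj_trans (isConj_symm hQ₀) hQ)
  have hQn : F.IsFullyNormalized Q := ⟨hQS, fun U hU => by
    rw [← hμN, hμm.card_img]
    exact hQ₀n.2 U (isConj_trans (isConj_trans (isConj_symm hQ₀) hQ) hU)⟩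
  have hRK : kNorm F p Q = R := by
    refine le_antisymm (fun a ha => ?_) (fun a ha => ?_)
    · have ha' : a ∈ img (normalizerIn S Q₀) μ := hμN.symm ▸ kNorm_le ha
      obtain ⟨u, hu, rfl⟩ := hμm.mem_img.1 ha'
      obtain ⟨μ', hμ', hμ'x, -, -⟩ := hμm.exists_inv
      have h1 := apply_mem_kNorm hμ' (img_mono (le_normalizerIn hQ₀S) : img Q₀ μ ≤ _)
        (hμm.apply_mem_img hu) (by rw [hμQ]; exact ha)
      rw [← img_comp_eq (hμm.mono (le_normalizerIn hQ₀S)) hμ'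
          fun b hb => hμm.apply_mem_img (le_normalizerIn hQ₀S hb),
        img_congr (g := id) fun b hb => hμ'x b (le_normalizerIn hQ₀S hb), img_id, hμ'x u hu] at h1
      rw [← hμK]
      exact (hμm.mono hKN).apply_mem_img h1
    · rw [← hμK] at ha
      obtain ⟨u, hu, rfl⟩ := (hμm.mono hKN).mem_img.1 ha
      rw [← hμQ]
      exact apply_mem_kNorm hμm (le_normalizerIn hQ₀S) (hKN hu) hu
  have hNR : normalizerIn S Q ≤ normalizerIn S R := hRK ▸
    le_inf inf_le_left (normalizerIn_le_normalizer_kNorm hQS)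
  -- the restriction is onto
  set B := locStabAut F R Q with hB
  set ρ := resHom (F := F) ha.1 hQR with hρ
  have hsurj : Function.Surjective ρ := by
    intro α
    obtain ⟨g, hg, hgq⟩ := h.extK_all hQ hQn (isMap_of_autGroup hQS α.2) (img_toFun_aut _)
    have hgQ : img Q g = Q := (img_congr hgq).trans (img_toFun_aut _)
    have hgR : IsMap F R g := hRK ▸ hg
    have hgi : img R g = R := by
      refine eq_of_le_of_card_le (fun y hy => ?_) hgR.card_img.ge
      obtain ⟨a, ha', rfl⟩ := hgR.mem_img.1 hy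
      rw [← hRK] at ha' ⊢
      exact ExtK.apply_mem hS hQS hg hgQ ha'
    refine ⟨⟨hgR.toAut hgi, hgR.toAut_mem hgi, fun a => ?_⟩,
      Subtype.ext (MulEquiv.ext fun y => Subtype.ext ?_)⟩
    · rw [IsMap.toAut_apply]
      constructor
      · exact fun ha' => hgQ.le ((hgR.mono hQR).apply_mem_img ha')
      · intro ha'
        rw [← hgQ] at ha'
        obtain ⟨b, hb, hba⟩ := (hgR.mono hQR).mem_img.1 ha'
        exact hgR.inj (hQR hb) a.2 hba ▸ hb
    · show g y = _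
      rw [hgq y y.2, toFun_aut_apply _ y.2]
  have hT : ∀ v : B, (v : MulAut R) ∈ autInducedBy S R →
      ((ρ v : F.autGroup Q) : MulAut Q) ∈ autInducedBy S Q := fun v hv => by
    obtain ⟨a, ha', hax⟩ := mem_autInducedBy_iff.1 hv
    exact mem_autInducedBy_iff.2 ⟨a, ha', fun y => hax ⟨y, hQR y.2⟩⟩
  have hlift : ∀ u ∈ autInducedBy S Q, ∃ t : B, (t : MulAut R) ∈ autInducedBy S R ∧
      ((ρ t : F.autGroup Q) : MulAut Q) = u := fun u hu => by
    obtain ⟨a, ha', hax⟩ := mem_autInducedBy_iff.1 hu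
    have haN : a ∈ normalizerIn S Q := ⟨ha', mem_normalizer_of_aut hax⟩
    set κ : MulAut R := R.normalizerMonoidHom ⟨a, (hNR haN).2⟩
    have hκ : κ ∈ autInducedBy (normalizerIn S Q) R := mem_autInducedBy_iff.2 ⟨a, haN, fun x => rfl⟩
    exact ⟨⟨κ, autInducedBy_normalizerIn_le_stabAut ha.1 hκ⟩,
      autInducedBy_mono inf_le_left hκ,
      MulEquiv.ext fun y => Subtype.ext (by rw [hax y]; rfl)⟩
  -- fully automized
  haveI : Finite B := inferInstance
  have haut : F.IsFullyAutomized p Q := by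
    set U₀ := (autInducedBy S Q).subgroupOf (F.autGroup Q) with hU₀
    refine ⟨hQS, exists_sylow_of_conjInto ((isPGroup_autInducedBy hS Q).comap_of_injective _
      (Subgroup.subtype_injective _)) fun U hU => ?_⟩
    set W := U.comap ρ
    let φ : W →* U := (ρ.comp W.subtype).codRestrict U fun x => x.2
    have hφ : Function.Surjective φ := fun u => by
      obtain ⟨v, hv⟩ := hsurj u
      exact ⟨⟨v, show ρ v ∈ U from hv ▸ u.2⟩, Subtype.ext hv⟩
    obtain ⟨PW⟩ := (inferInstance : Nonempty (Sylow p W))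
    have htop : ⊤ = ((PW.mapSurjective hφ : Sylow p U) : Subgroup U) :=
      (PW.mapSurjective hφ).is_maximal' (hU.to_subgroup ⊤) le_top
    obtain ⟨w, hw, hwc⟩ := hsyl (((PW : Subgroup W).map W.subtype).map B.subtype)
      ((PW.isPGroup'.map _).map _) (Subgroup.map_subtype_le _)
    refine ⟨ρ ⟨w, hw⟩, fun u hu => ?_⟩
    have hmem : (⟨u, hu⟩ : U) ∈ ((PW.mapSurjective hφ : Sylow p U) : Subgroup U) :=
      htop ▸ Subgroup.mem_top _
    rw [Sylow.coe_mapSurjective] at hmem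
    obtain ⟨x, hx, hxu⟩ := hmem
    have h1 := hT ((⟨w, hw⟩ : B) * (x : B) * (⟨w, hw⟩ : B)⁻¹)
      (hwc _ ⟨_, ⟨x, hx, rfl⟩, rfl⟩)
    rw [← show ρ (x : B) = u from congrArg Subtype.val hxu, ← map_inv, ← map_mul, ← map_mul]
    exact h1
  -- receptive
  refine ⟨Q, hQ, haut, receptive_of_extend hQS fun P' f hf hfi N hPN hN => ?_⟩
  have hP'c : F.IsConj P P' :=
    isConj_trans hQ (isConj_symm (hfi ▸ hf.isConj))
  obtain ⟨ψ, hψ, hψi, hψN⟩ := h.exists_map_to hQ hQn hP'c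
  have hNS : N ≤ normalizerIn S P' := fun a ha' => ⟨(hN a ha').1, (hN a ha').2.1⟩
  have hψP := hψ.mono (le_normalizerIn hf.le)
  obtain ⟨pi, hpi, hpix, hpiy, -⟩ := hψP.exists_inv
  rw [hψi] at hpi hpiy
  have hα := hpi.comp hf fun a ha' => (hpiy a ha').1
  have hαi : img Q (fun a => f (pi a)) = Q := by
    refine eq_of_le_of_card_le (fun y hy => ?_) hα.card_img.ge
    obtain ⟨a, ha', rfl⟩ := hα.mem_img.1 hy
    exact hfi.le (hf.apply_mem_img (hpiy a ha').1)
  obtain ⟨v, hv⟩ := hsurj ⟨hα.toAut hαi, hα.toAut_mem hαi⟩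
  have hvx : ∀ x (hx : x ∈ P') (hψx : ψ x ∈ R),
      ((((v : B) : MulAut R) ⟨ψ x, hψx⟩ : R) : Ω) = f x := fun x hx hψx => by
    have hψxQ : ψ x ∈ Q := hψi.le (hψP.apply_mem_img hx)
    have h1 := congrArg (fun z : F.autGroup Q => (((z : MulAut Q) ⟨ψ x, hψxQ⟩ : Q) : Ω)) hv
    simp only [hρ, resHom_apply, IsMap.toAut_apply] at h1
    rwa [hpix x hx] at h1
  set N₁ := img N ψ with hN₁
  have hN₁Q : N₁ ≤ normalizerIn S Q := fun z hz => by
    obtain ⟨a, ha', rfl⟩ := (hψ.mono hNS).mem_img.1 hz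
    exact hψN a (hNS ha')
  set W := ((autInducedBy S Q).subgroupOf (F.autGroup Q)).comap ρ with hW
  set T := (autInducedBy S R).subgroupOf B with hTdef
  have hTW : T ≤ W := fun t ht => hT t ht
  have hTsyl : ∃ P₁ : Sylow p W, (P₁ : Subgroup W) = T.subgroupOf W := by
    obtain ⟨P₀, hP₀⟩ := exists_sylow_of_conjInto (p := p) (T := T)
      ((isPGroup_autInducedBy hS R).comap_of_injective _ (Subgroup.subtype_injective _))
      (fun U hU => by
        obtain ⟨v, hv, hvU⟩ := hsyl (U.map B.subtype) (hU.map _) (Subgroup.map_subtype_le _)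
        exact ⟨⟨v, hv⟩, fun u hu => hvU u ⟨u, hu, rfl⟩⟩)
    exact ⟨P₀.subtype (hP₀.le.trans hTW), by rw [Sylow.coe_subtype, hP₀]⟩
  obtain ⟨P₁, hP₁⟩ := hTsyl
  set U₁ := ((autInducedBy N₁ R).subgroupOf B).map (MulAut.conj v).toMonoidHom with hU₁
  have hU₁W : U₁ ≤ W := by
    rintro _ ⟨u, hu, rfl⟩
    obtain ⟨z, hz, hzx⟩ := mem_autInducedBy_iff.1 (hu : (u : MulAut R) ∈ _)
    obtain ⟨a, ha', rfl⟩ := (hψ.mono hNS).mem_img.1 hz
    obtain ⟨-, han, b, hb, hbx⟩ := hN a ha'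
    show ((ρ (v * u * v⁻¹) : F.autGroup Q) : MulAut Q) ∈ autInducedBy S Q
    refine mem_autInducedBy_iff.2 ⟨b, hb, fun y => ?_⟩
    obtain ⟨x, hx, hxy⟩ := hf.mem_img.1 (hfi.symm ▸ y.2 : (y : Ω) ∈ img P' f)
    have hψxR : ψ x ∈ R := hQR (hψi.le (hψP.apply_mem_img hx))
    have hax : a * x * a⁻¹ ∈ P' := (han x).1 hx
    have e1 : ((v⁻¹ : B) : MulAut R) ⟨y, hQR y.2⟩ = ⟨ψ x, hψxR⟩ := by
      rw [Subgroup.coe_inv]
      have h1 : (v : MulAut R) ⟨ψ x, hψxR⟩ = ⟨y, hQR y.2⟩ := Subtype.ext ((hvx x hx hψxR).trans hxy)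
      rw [← h1, MulAut.inv_apply_self]
    show ((((v * u * v⁻¹ : B) : MulAut R) ⟨y, hQR y.2⟩ : R) : Ω) = _
    rw [Subgroup.coe_mul, Subgroup.coe_mul, MulAut.mul_apply, MulAut.mul_apply, e1]
    have h2 : (u : MulAut R) ⟨ψ x, hψxR⟩ =
        ⟨ψ (a * x * a⁻¹), hQR (hψi.le (hψP.apply_mem_img hax))⟩ := Subtype.ext (by
      rw [hzx]
      exact (hψ.map_conj (hNS ha') (le_normalizerIn hf.le hx)).symm)
    rw [h2, hvx _ hax, hbx x hx, hxy]
  obtain ⟨P₂, hP₂⟩ := ((((isPGroup_autInducedBy_le hS (hN₁Q.trans inf_le_left) R).comap_of_injective _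
    (Subgroup.subtype_injective B)).map (MulAut.conj v).toMonoidHom).of_equiv
    (Subgroup.subgroupOfEquivOfLe hU₁W).symm).exists_le_sylow
  obtain ⟨c, hc⟩ := MulAction.exists_smul_eq W P₂ P₁
  obtain ⟨t, ht, htc⟩ := hlift _ (show ((ρ (c : B) : F.autGroup Q) : MulAut Q) ∈ autInducedBy S Q
    from c.2)
  set v' : B := t⁻¹ * ((c : B) * v) with hv'
  have hv'res : ρ v' = ρ v := by
    rw [hv', map_mul, map_mul, map_inv, (Subtype.ext htc : ρ t = ρ c), inv_mul_cancel_left]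
  have hN₁R : N₁ ≤ normalizerIn S R := hN₁Q.trans hNR
  set L₂ := R ⊔ N₁ with hL₂
  obtain ⟨gv, hgv, hgvx⟩ := exists_extend hr v'.2.1 (le_sup_left : R ≤ L₂)
    (sup_le (le_normalizerIn ha.1) hN₁R) fun κ hκ => by
      obtain ⟨a, haL, hax⟩ := mem_autInducedBy_iff.1 hκ
      have haL' : a ∈ ((R ⊔ N₁ : Subgroup Ω) : Set Ω) := haL
      rw [coe_mul_of_right_le_normalizer_left _ _
        (show N₁ ≤ normalizer (R : Set Ω) from fun z hz => (hN₁R hz).2)] at haL'
      obtain ⟨r, hr', l, hl, hrl⟩ := haL'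
      set κl : MulAut R := R.normalizerMonoidHom ⟨l, (hN₁R hl).2⟩ with hκl
      have hκlx : ∀ x : R, ((κl x : R) : Ω) = l * x * l⁻¹ := fun x => rfl
      have hκe : κ = MulAut.conj (⟨r, hr'⟩ : R) * κl := MulEquiv.ext fun x => Subtype.ext (by
        rw [hax x, ← hrl]
        show r * l * (x : Ω) * (r * l)⁻¹ = r * (l * x * l⁻¹) * r⁻¹
        group)
      have hκlB : κl ∈ B := autInducedBy_normalizerIn_le_stabAut ha.1
        (mem_autInducedBy_iff.2 ⟨l, hN₁Q hl, hκlx⟩)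
      have hmem : (v * ⟨κl, hκlB⟩ * v⁻¹ : B) ∈ U₁ :=
        ⟨⟨κl, hκlB⟩, mem_autInducedBy_iff.2 ⟨l, hl, hκlx⟩, rfl⟩
      have h2 : c * (⟨_, hU₁W hmem⟩ : W) * c⁻¹ ∈ (P₁ : Subgroup W) := by
        rw [← hc, Sylow.coe_subgroup_smul]
        exact ⟨_, hP₂ hmem, rfl⟩
      rw [hP₁] at h2
      have h3 : ((c : B) * (v * ⟨κl, hκlB⟩ * v⁻¹) * (c : B)⁻¹ : B) ∈ T := h2
      have h4 : (v' * ⟨κl, hκlB⟩ * v'⁻¹ : B) ∈ T := by
        have e : v' * ⟨κl, hκlB⟩ * v'⁻¹ =
            t⁻¹ * ((c : B) * (v * ⟨κl, hκlB⟩ * v⁻¹) * (c : B)⁻¹) * t := by rw [hv']; group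
        rw [e]
        exact mul_mem (mul_mem (inv_mem (show t ∈ T from ht)) h3) ht
      have h5 : (v' : MulAut R) * MulAut.conj (⟨r, hr'⟩ : R) * (v' : MulAut R)⁻¹ ∈
          autInducedBy S R := by
        refine inn_le_autInducedBy ha.1 ⟨(v' : MulAut R) ⟨r, hr'⟩, ?_⟩
        ext x
        simp [MulAut.mul_apply, map_mul, map_inv]
      have h6 := mul_mem h5 (show (v' : MulAut R) * κl * (v' : MulAut R)⁻¹ ∈ autInducedBy S R from h4)
      rw [hκe]
      convert h6 using 1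
      group
  refine ⟨fun a => gv (ψ a), (hψ.mono hNS).comp hgv
    (fun a ha' => mem_sup_right ((hψ.mono hNS).apply_mem_img ha')), fun x hx => ?_⟩
  have hψxQ : ψ x ∈ Q := hψi.le (hψP.apply_mem_img hx)
  show gv (ψ x) = f x
  rw [hgvx _ (hQR hψxQ), autFun_apply _ (hQR hψxQ), ← hvx x hx (hQR hψxQ)]
  exact congrArg (fun z : F.autGroup Q => (((z : MulAut Q) ⟨ψ x, hψxQ⟩ : Q) : Ω)) hv'res

end CfsgLib.Fusion
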