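import Cfsg.Prelude.Def_FusionComponents
import Cfsg.Agent.Lib.Fusion.FrattiniIndex
import Cfsg.Agent.Lib.Fusion.Centric
import Cfsg.Agent.S5110

/-!
The saturated subsystems of index prime to `p` and the least of them.
-/

set_option autoImplicit false
set_option linter.unusedVariables false
set_option linter.unusedSectionVars false
set_option linter.style.haveILetI false

namespace CfsgLib.Fusion

open Cfsg Cfsg.FusionSystem Subgroup

variable {Ω : Type*} [Group Ω] {S : Subgroup Ω} {F D : FusionSystem S} {P Q : Subgroup Ω} {p : ℕ}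
  {f g : Ω → Ω}

/-- The automorphisms of `S` generated by those agreeing on a centric subgroup with a map of the
generated system. -/
def linkAut (F : FusionSystem S) (p : ℕ) : Subgroup (MulAut S) :=
  Subgroup.closure {α : MulAut S | α ∈ F.autGroup S ∧
    ∃ P, F.IsCentric P ∧ IsMap (genSys F p) P (autFun α)}

theorem linkAut_le : linkAut F p ≤ F.autGroup S :=
  (Subgroup.closure_le _).2 fun _ h => h.1

section

variable [Fact p.Prime] [Finite S] (hS : IsPGroup p S) (hF : F.IsSaturated p)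
  (K : Subgroup (MulAut S)) (hK : K ≤ F.autGroup S)

include hS hF hK

/-- The maps that are a member of `K` composed with a map of the generated system. -/
noncomputable def indexSys : FusionSystem S where
  Hom P := {φ | φ ∈ F.Hom P ∧ ∃ α ∈ K, ∃ g, IsMap (genSys F p) P g ∧
    ∀ x : P, φ x = autFun α (g x)}
  le_of_mem h := F.le_of_mem h.1
  injective_of_mem h := F.injective_of_mem h.1
  conj_mem {P a} hP ha := ⟨F.conj_mem hP ha, 1, one_mem _, _, isMap_conj _ hP ha, fun x =>
    (autFun_one (S.mul_mem (S.mul_mem ha (hP x.2)) (S.inv_mem ha))).symm⟩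
  comp_mem {P Q φ ψ} hφ hψ h := by
    obtain ⟨hφ, α, hα, g, hg, hgx⟩ := hφ
    obtain ⟨hψ, β, hβ, k, hk, hkx⟩ := hψ
    obtain ⟨k', hk', hk'x⟩ := genSys_transport hS hF (inv_mem (hK hα)) hk
    have hQ : Q ≤ S := hk.le
    have hmem : ∀ x ∈ P, g x ∈ img Q (autFun α⁻¹) := fun x hx => by
      rw [← autFun_inv_apply α (hg.mem hx), ← hgx ⟨x, hx⟩]
      exact ((isMap_autFun le_rfl (inv_mem (hK hα))).mono hQ).apply_mem_img (h ⟨x, hx⟩)
    refine ⟨F.comp_mem hφ hψ h, β * α, mul_mem hβ hα, _, hg.comp hk' hmem, fun x => ?_⟩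
    show ψ ⟨φ x, h x⟩ = autFun (β * α) (k' (g x))
    rw [hkx]
    have h1 := hk'x _ (h x)
    have h2 : autFun α⁻¹ (φ x) = g x := by rw [hgx, autFun_inv_apply α (hg.mem x.2)]
    rw [h2] at h1
    rw [h1, autFun_mul_apply _ _ (autFun_mem _ (hk.mem (h x))),
      autFun_apply_inv α (hk.mem (h x))]
  inv_mem {P φ} hφ := by
    obtain ⟨hφ, α, hα, g, hg, hgx⟩ := hφ
    obtain ⟨ψ, hψ, hψx⟩ := F.inv_mem hφ
    obtain ⟨k, hk, hkx, -, -⟩ := hg.exists_inv
    obtain ⟨k', hk', hk'x⟩ := genSys_transport hS hF (hK hα) hk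
    have hr : φ.range ≤ img (img P g) (autFun α) := by
      rintro _ ⟨x, rfl⟩
      rw [hgx]
      exact ((isMap_autFun le_rfl (hK hα)).mono hg.img_le).apply_mem_img (hg.apply_mem_img x.2)
    refine ⟨ψ, ⟨hψ, α⁻¹, inv_mem hα, k', hk'.mono hr, ?_⟩, hψx⟩
    rintro ⟨_, x, rfl⟩
    rw [hψx]
    show (x : Ω) = autFun α⁻¹ (k' (φ x))
    rw [hgx, hk'x _ (hg.apply_mem_img x.2), hkx _ x.2, autFun_inv_apply α (hg.le x.2)]

theorem isMap_indexSys_iff : IsMap (indexSys hS hF K hK) P f ↔
    IsMap F P f ∧ ∃ α ∈ K, ∃ g, IsMap (genSys F p) P g ∧ ∀ x ∈ P, f x = autFun α (g x) := by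
  constructor
  · rintro ⟨φ, ⟨hφ, α, hα, g, hg, hgx⟩, hf⟩
    exact ⟨⟨φ, hφ, hf⟩, α, hα, g, hg, fun x hx => (hf ⟨x, hx⟩).symm.trans (hgx ⟨x, hx⟩)⟩
  · rintro ⟨⟨φ, hφ, hf⟩, α, hα, g, hg, hgx⟩
    exact ⟨φ, ⟨hφ, α, hα, g, hg, fun x => (hf x).trans (hgx x x.2)⟩, hf⟩

theorem indexSys_le : indexSys hS hF K hK ≤ F := fun _ _ h => h.1

theorem genSys_le_indexSys : genSys F p ≤ indexSys hS hF K hK :=
  le_iff_isMap.2 fun P f hf => (isMap_indexSys_iff hS hF K hK).2
    ⟨le_iff_isMap.1 genSys_le P f hf, 1, one_mem _, f, hf,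
      fun x hx => (autFun_one (hf.mem hx)).symm⟩

theorem le_autGroup_indexSys : K ≤ (indexSys hS hF K hK).autGroup S := fun α hα =>
  (autGroup_iff_isMap le_rfl fun x => (autFun_apply α x.2).symm).2
    ((isMap_indexSys_iff hS hF K hK).2 ⟨isMap_autFun le_rfl (hK hα), α, hα, id, isMap_id _ le_rfl,
      fun _ _ => rfl⟩)

theorem hasPrimeToPIndex_indexSys : (indexSys hS hF K hK).HasPrimeToPIndexIn F p := by
  refine ⟨indexSys_le hS hF K hK, fun P hP α hα => (autGroup_mem_iff hP).2
    (genSys_le_indexSys hS hF K hK P ((autGroup_mem_iff hP).1 ?_))⟩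
  exact pGenAut_le_genSys hS hF hP hα

/-- Subgroups centric in the subsystem are centric in `F`. -/
theorem centric_of_indexSys (h : (indexSys hS hF K hK).IsCentric P) : F.IsCentric P := by
  refine ⟨h.1, fun R hR a ha => ?_⟩
  obtain ⟨f, hf, rfl⟩ := isConj_iff.1 hR
  obtain ⟨α, hα, g, hg, hgx⟩ := exists_frattini hS hF hf
  have hg' : IsMap (indexSys hS hF K hK) P g :=
    le_iff_isMap.1 (genSys_le_indexSys hS hF K hK) P g hg
  have h1 : autFun α⁻¹ a ∈ centralizerIn S (img P g) := by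
    refine ⟨autFun_mem _ ha.1, fun y hy => ?_⟩
    obtain ⟨x, hx, rfl⟩ := hg.mem_img.1 hy
    have hm := isMap_autFun (T := S) le_rfl (inv_mem hα)
    have hfx := ha.2 (f x) (hf.apply_mem_img hx)
    have h2 := congrArg (autFun α⁻¹) hfx
    rwa [hm.map_mul (hf.mem hx) ha.1, hm.map_mul ha.1 (hf.mem hx), hgx x hx,
      autFun_inv_apply α (hg.mem hx)] at h2
  obtain ⟨x, hx, hxa⟩ := hg.mem_img.1 (h.2 _ hg'.isConj h1)
  have h3 : f x = a := by rw [hgx x hx, hxa, autFun_apply_inv α ha.1]
  rw [← h3]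
  exact hf.apply_mem_img hx

/-- The factor in `Aut_F(S)` of a map on a centric subgroup is unique up to `linkAut`. -/
theorem mem_linkAut_of_agree {α β : MulAut S} (hα : α ∈ F.autGroup S) (hβ : β ∈ F.autGroup S)
    (hP : F.IsCentric P) {k : Ω → Ω} (hg : IsMap (genSys F p) P g) (hk : IsMap (genSys F p) P k)
    (h : ∀ x ∈ P, autFun α (g x) = autFun β (k x)) : α⁻¹ * β ∈ linkAut F p := by
  obtain ⟨j, hj, hjx, hjy, -⟩ := hk.exists_inv
  refine Subgroup.subset_closure ⟨mul_mem (inv_mem hα) hβ, img P k,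
    centric_of_isConj hP (le_iff_isMap.1 genSys_le P k hk).isConj,
    (hj.comp hg fun y hy => (hjy y hy).1).congr fun y hy => ?_⟩
  have hy' := hjy y hy
  rw [autFun_mul_apply _ _ (hk.img_le hy)]
  conv_rhs => rw [← hy'.2]
  rw [← h _ hy'.1, autFun_inv_apply α (hg.mem hy'.1)]

/-- The systems between are saturated. -/
theorem isSaturated_indexSys (hL : linkAut F p ≤ K) : (indexSys hS hF K hK).IsSaturated p := by
  have hconjF : ∀ {X Y : Subgroup Ω}, (indexSys hS hF K hK).IsConj X Y → F.IsConj X Y := by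
    intro X Y h
    obtain ⟨f, hf, rfl⟩ := isConj_iff.1 h
    exact (le_iff_isMap.1 (indexSys_le hS hF K hK) X f hf).isConj
  refine Cfsg.Agent.S5110.result p hS (indexSys hS hF K hK) {P | F.IsCentric P}
    (fun P hP => hP.1) (fun P hP R hR => centric_of_isConj hP (hconjF hR)) ?_ ?_
    (fun P hP hPn => absurd (centric_of_indexSys hS hF K hK hP) hPn)
  · intro P hP
    obtain ⟨Q₀, hQ₀, hQ₀n⟩ := exists_fullyNormalized_conj F hP.1
    obtain ⟨f, hf, rfl⟩ := isConj_iff.1 hQ₀
    obtain ⟨α, hα, g, hg, hgx⟩ := exists_frattini hS hF hf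
    set Q := img P g with hQdef
    have hgF := le_iff_isMap.1 genSys_le P g hg
    have hQS : Q ≤ S := hg.img_le
    haveI := finite_of_le hQS
    have hQc : F.IsCentric Q := centric_of_isConj hP hgF.isConj
    have hm := isMap_autFun (T := S) le_rfl (inv_mem hα)
    have hQ₀S : img P f ≤ S := hf.img_le
    have himg : img (img P f) (autFun α⁻¹) = Q := by
      rw [← img_comp_eq hf (hm.mono hQ₀S) fun x hx => hf.apply_mem_img hx]
      exact img_congr fun x hx => by rw [hgx x hx, autFun_inv_apply α (hg.mem hx)]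
    have hQn : F.IsFullyNormalized Q := by
      refine ⟨hQS, fun R hR => ?_⟩
      have h1 := hQ₀n.2 R (isConj_trans (isConj_trans (isConj_symm hQ₀) hgF.isConj) hR)
      refine h1.trans ?_
      haveI := finite_normalizerIn (S := S) (P := Q)
      have e : normalizerIn S (img P f) ≤ S := inf_le_left
      rw [← (hm.mono e).card_img]
      refine Subgroup.card_le_of_le fun y hy => ?_
      obtain ⟨a, ha, rfl⟩ := (hm.mono inf_le_left).mem_img.1 hy
      have := hm.apply_mem_normalizerIn hQ₀S ha.1 ha.2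
      rwa [himg] at this
    refine ⟨Q, (le_iff_isMap.1 (genSys_le_indexSys hS hF K hK) P g hg).isConj, ⟨hQS, ?_⟩,
      receptive_of_extend hQS fun P' u hu hui R hPR hR => ?_⟩
    · set E := indexSys hS hF K hK
      obtain ⟨W, hW⟩ := (fullyAutomized_of_fullyNormalized hS hF hQn).2
      have hTE : autInducedBy S Q ≤ E.autGroup Q := autInducedBy_le_autGroup hQS
      have hEF : E.autGroup Q ≤ F.autGroup Q := fun γ hγ =>
        (autGroup_mem_iff hQS).2 (indexSys_le hS hF K hK Q ((autGroup_mem_iff hQS).1 hγ))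
      have hidx : ¬ p ∣ (autInducedBy S Q).relIndex (E.autGroup Q) := fun h => by
        have h1 := W.not_dvd_index
        rw [hW] at h1
        refine h1 ?_
        show p ∣ (autInducedBy S Q).relIndex (F.autGroup Q)
        rw [← Subgroup.relIndex_mul_relIndex _ _ _ hTE hEF]
        exact Dvd.dvd.mul_right h _
      exact ⟨IsPGroup.toSylow ((isPGroup_autInducedBy hS Q).comap_of_injective _
        (Subgroup.subtype_injective _)) hidx, rfl⟩
    · obtain ⟨huF, β, hβ, k, hk, hkx⟩ := (isMap_indexSys_iff hS hF K hK).1 hu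
      obtain ⟨h, hh, hhx⟩ := receptive_extend (receptive_of_fullyNormalized hS hF hQn) huF hui
        hPR hR
      obtain ⟨γ, hγ, l, hl, hlx⟩ := exists_frattini hS hF hh
      refine ⟨h, (isMap_indexSys_iff hS hF K hK).2 ⟨hh, γ, ?_, l, hl, hlx⟩, hhx⟩
      have hcP' : F.IsCentric P' := centric_of_isConj hQc (isConj_symm (hui ▸ huF.isConj))
      have h1 := hL (mem_linkAut_of_agree hS hF K hK (hK hβ) hγ hcP' hk (hl.mono hPR)
        fun x hx => by rw [← hkx x hx, ← hhx x hx, hlx x (hPR hx)])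
      simpa using mul_mem hβ h1
  · intro D hD
    have hsub : ∀ {X : Subgroup Ω} {u : Ω → Ω}, F.IsCentric X → IsMap (indexSys hS hF K hK) X u →
        IsMap D X u := fun hX ⟨φ, hφ, hu⟩ => ⟨φ, hD _ hX hφ, hu⟩
    have hgen : genSys F p ≤ D := by
      refine genSys_le_of fun X hX γ hγ => (autGroup_mem_iff hX.1).2 (hD X hX ?_)
      exact genSys_le_indexSys hS hF K hK X
        ((autGroup_mem_iff hX.1).1 (pGenAut_le_genSys hS hF hX.1 hγ))
    refine le_iff_isMap.2 fun P u hu => ?_
    obtain ⟨-, α, hα, g, hg, hgx⟩ := (isMap_indexSys_iff hS hF K hK).1 hu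
    have hSc : F.IsCentric S := ⟨le_rfl, fun R hR => by
      rw [eq_of_le_of_card_le (isConj_le_right hR) (isConj_card hR).ge]
      exact inf_le_left⟩
    have hαD : IsMap D S (autFun α) := hsub hSc
      (isMap_autFun le_rfl (le_autGroup_indexSys hS hF K hK hα))
    exact ((le_iff_isMap.1 hgen P g hg).comp hαD fun x hx => hg.mem hx).congr
      fun x hx => (hgx x hx).symm

end

section

variable [Fact p.Prime] [Finite S] (hS : IsPGroup p S) (hF : F.IsSaturated p)

include hS hF

/-- A saturated subsystem of index prime to `p` contains `linkAut`. -/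
theorem linkAut_le_autGroup (hD : D.IsSaturated p) (hsub : D.IsSubsystemOf F)
    (hgen : genSys F p ≤ D) : linkAut F p ≤ D.autGroup S := by
  refine (Subgroup.closure_le _).2 ?_
  rintro α ⟨hα, P₀, hP₀, hP₀m⟩
  have hm := isMap_autFun (T := S) le_rfl hα
  suffices H : ∀ n, ∀ P, F.IsCentric P → IsMap D P (autFun α) → Nat.card S ≤ Nat.card P + n →
      IsMap D S (autFun α) from
    (autGroup_iff_isMap le_rfl fun x => (autFun_apply α x.2).symm).2
      (H (Nat.card S) P₀ hP₀ (le_iff_isMap.1 hgen _ _ hP₀m) (by omega))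
  intro n
  induction n with
  | zero =>
    intro P hP h hn
    rwa [eq_of_le_of_card_le hP.1 (by omega)] at h
  | succ n ih =>
    intro P hP h hn
    rcases hP.1.eq_or_lt with rfl | hlt
    · exact h
    set N := normalizerIn S P with hN
    haveI := finite_of_le hP.1
    haveI := finite_normalizerIn (S := S) (P := P)
    have hPN : P ≤ N := le_normalizerIn hP.1
    have hQc : F.IsCentric (img P (autFun α)) := centric_of_isConj hP (hm.mono hP.1).isConj
    have hQD : D.IsCentric (img P (autFun α)) := ⟨hQc.1, fun R hR => by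
      obtain ⟨u, hu, rfl⟩ := isConj_iff.1 hR
      exact hQc.2 _ (le_iff_isMap.1 hsub _ u hu).isConj⟩
    obtain ⟨b, hb, hbx⟩ := receptive_extend
      (receptive_of_fullyCentralized hS hD (centric_fullyCentralized hQD)) h rfl hPN
      fun a ha => ⟨ha.1, ha.2, autFun α a, autFun_mem α ha.1,
        fun x hx => hm.map_conj ha.1 (hP.1 hx)⟩
    obtain ⟨z, hz, -, hzy⟩ := exists_conj_of_agree hS hF hP hPN (le_iff_isMap.1 hsub _ b hb)
      (hm.mono inf_le_left) hbx
    have hzN : ∀ y ∈ N, z * y * z⁻¹ ∈ N := fun y hy =>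
      N.mul_mem (N.mul_mem (hPN hz) hy) (N.inv_mem (hPN hz))
    refine ih N (centric_of_le hP hPN inf_le_left)
      (((isMap_conj D (P := N) inf_le_left (hP.1 hz)).comp hb hzN).congr fun y hy =>
        (hzy y hy).symm) ?_
    have : Nat.card P < Nat.card N := by
      by_contra hge
      exact (lt_normalizerIn hS hlt).ne (eq_of_le_of_card_le hPN (not_lt.1 hge))
    omega

/-- Every saturated system has a residual subsystem of index prime to `p`. -/
theorem exists_pPrimeResidual : ∃ E : FusionSystem S, F.IsPPrimeResidual p E := by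
  refine ⟨indexSys hS hF (linkAut F p) linkAut_le,
    isSaturated_indexSys hS hF _ linkAut_le le_rfl,
    hasPrimeToPIndex_indexSys hS hF _ linkAut_le, fun D hD hDi => ?_⟩
  have hgen : genSys F p ≤ D := genSys_le_of fun P hP => hDi.2 P hP.1
  refine le_iff_isMap.2 fun P u hu => ?_
  obtain ⟨-, α, hα, g, hg, hgx⟩ := (isMap_indexSys_iff hS hF _ linkAut_le).1 hu
  exact ((le_iff_isMap.1 hgen P g hg).comp
    (isMap_autFun le_rfl (linkAut_le_autGroup hS hF hD hDi.1 hgen hα)) fun x hx => hg.mem hx).congr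
    fun x hx => (hgx x hx).symm

end

end CfsgLib.Fusion
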