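import Cfsg.Agent.Lib.Fusion.Alperin
import Cfsg.Agent.Lib.Fusion.GroupSystem

/-!
A saturated subsystem containing, and contained in, the coprime automorphisms is determined.
-/

set_option autoImplicit false
set_option linter.unusedVariables false
set_option linter.unusedSectionVars false
set_option linter.style.haveILetI false

namespace CfsgLib.Fusion

open Cfsg Cfsg.FusionSystem Subgroup

/-- A finite group is generated by a Sylow subgroup and its elements of order prime to `p`. -/
theorem eq_top_of_sylow_le {H : Type*} [Group H] [Finite H] {p : ℕ} [hp : Fact p.Prime]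
    (W : Sylow p H) {L : Subgroup H} (hW : (W : Subgroup H) ≤ L)
    (hcop : ∀ x : H, (orderOf x).Coprime p → x ∈ L) : L = ⊤ := by
  set R : Subgroup H := Subgroup.closure {x : H | (orderOf x).Coprime p} with hR
  haveI : R.Normal := by
    refine ⟨fun n hn g => ?_⟩
    have : R ≤ R.comap (MulAut.conj g).toMonoidHom := by
      refine (Subgroup.closure_le _).2 fun x hx => ?_
      refine Subgroup.subset_closure ?_
      show (orderOf (MulAut.conj g x)).Coprime p
      rwa [MulEquiv.orderOf_eq]
    exact this hn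
  have hRL : R ≤ L := (Subgroup.closure_le _).2 hcop
  have hq : IsPGroup p (H ⧸ R) := by
    intro y
    obtain ⟨g, rfl⟩ := QuotientGroup.mk'_surjective R y
    obtain ⟨j, m, hm, hjm⟩ := Nat.exists_eq_pow_mul_and_not_dvd (orderOf_pos g).ne' p
      hp.out.ne_one
    refine ⟨j, ?_⟩
    rw [← map_pow, QuotientGroup.mk'_apply, QuotientGroup.eq_one_iff]
    refine Subgroup.subset_closure ?_
    show (orderOf (g ^ p ^ j)).Coprime p
    rw [orderOf_pow' _ (pow_ne_zero _ hp.out.ne_zero), hjm,
      Nat.gcd_eq_right (dvd_mul_right _ _), Nat.mul_div_cancel_left _ (pow_pos hp.out.pos _)]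
    exact ((hp.out.coprime_iff_not_dvd).2 hm).symm
  obtain ⟨n, hn⟩ := hq.exists_card_eq
  rw [← Subgroup.index_eq_card] at hn
  have h1 : L.index ∣ p ^ n := hn ▸ Subgroup.index_dvd_of_le hRL
  obtain ⟨i, -, hi⟩ := (Nat.dvd_prime_pow hp.out).1 h1
  have h2 : L.index ∣ (W : Subgroup H).index := Subgroup.index_dvd_of_le hW
  rcases Nat.eq_zero_or_pos i with rfl | hpos
  · exact Subgroup.index_eq_one.1 hi
  · exact absurd ((hi ▸ dvd_pow_self p hpos.ne' : p ∣ L.index).trans h2) W.not_dvd_index

variable {Ω : Type*} [Group Ω] {S T P Q : Subgroup Ω} {p : ℕ}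

/-- Two systems agree as soon as the second contains the automorphisms of order prime to `p` of
the first, the first being saturated. -/
theorem le_of_coprime_aut [Fact p.Prime] [Finite T] (hT : IsPGroup p T) {E D : FusionSystem T}
    (hE : E.IsSaturated p)
    (h : ∀ P, P ≤ T → ∀ α ∈ E.autGroup P, (orderOf α).Coprime p → α ∈ D.autGroup P) : E ≤ D := by
  refine alperin hT hE fun P hP => ?_
  obtain ⟨hPT, hn⟩ : P ≤ T ∧ E.IsFullyNormalized P :=
    hP.elim (fun e => ⟨e.le, e ▸ fullyNormalized_top E⟩) fun e => ⟨e.1.1, e.2.1⟩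
  haveI := finite_of_le hPT
  obtain ⟨W, hW⟩ := (fullyAutomized_of_fullyNormalized hT hE hn).2
  have htop : (D.autGroup P).subgroupOf (E.autGroup P) = ⊤ := by
    refine eq_top_of_sylow_le W ?_ fun x hx => ?_
    · rw [hW]
      exact Subgroup.comap_mono (autInducedBy_le_autGroup hPT)
    · exact h P hPT x x.2 (by rwa [orderOf_submonoid x] at *)
  exact Subgroup.subgroupOf_eq_top.1 htop

/-- An automorphism of order prime to `p` induced by conjugation is induced by an element of any
subgroup containing all the elements of order prime to `p`. -/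
theorem mem_autInducedBy_of_coprime [Fact p.Prime] {K : Subgroup Ω} [Finite Ω]
    (hK : ∀ x : Ω, (orderOf x).Coprime p → x ∈ K) {α : MulAut P} (hα : (orderOf α).Coprime p)
    {g : Ω} (hg : ∀ x : P, ((α x : P) : Ω) = g * (x : Ω) * g⁻¹) : α ∈ autInducedBy K P := by
  obtain ⟨j, m, hm, hjm⟩ := Nat.exists_eq_pow_mul_and_not_dvd (orderOf_pos g).ne' p
    (Fact.out : p.Prime).ne_one
  have hgn := mem_normalizer_of_aut hg
  have he : P.normalizerMonoidHom ⟨g, hgn⟩ = α := MulEquiv.ext fun x => Subtype.ext (hg x).symm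
  have hgK : g ^ p ^ j ∈ K := by
    refine hK _ ?_
    rw [orderOf_pow' _ (pow_ne_zero _ (Fact.out : p.Prime).ne_zero), hjm,
      Nat.gcd_eq_right (dvd_mul_right _ _),
      Nat.mul_div_cancel_left _ (pow_pos (Fact.out : p.Prime).pos _)]
    exact ((Fact.out : p.Prime).coprime_iff_not_dvd.2 hm).symm
  have h1 : α ^ p ^ j ∈ autInducedBy K P :=
    mem_autInducedBy_iff.2 ⟨g ^ p ^ j, hgK, fun x => by rw [← he, ← map_pow]; rfl⟩
  obtain ⟨c, hc⟩ := exists_pow_eq_self_of_coprime (n := p ^ j) (x := α)
    (Nat.Coprime.pow_left j hα.symm)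
  rw [← hc]
  exact pow_mem h1 c

end CfsgLib.Fusion
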