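import Cfsg.Agent.Lib.Fusion.Saturation
import Cfsg.Prelude.Def_FusionComponents

/-!
The direct product of two fusion systems: existence and saturation.
-/

set_option autoImplicit false
set_option linter.unusedVariables false
set_option linter.unusedSectionVars false
set_option linter.style.haveILetI false

namespace CfsgLib.Fusion

open Cfsg Cfsg.FusionSystem Subgroup

variable {Ω₁ Ω₂ : Type*} [Group Ω₁] [Group Ω₂] {S₁ : Subgroup Ω₁} {S₂ : Subgroup Ω₂}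
  {F₁ : FusionSystem S₁} {F₂ : FusionSystem S₂} {P Q : Subgroup (Ω₁ × Ω₂)} {p : ℕ}

/-- First projection of a subgroup of a product. -/
abbrev prOne (P : Subgroup (Ω₁ × Ω₂)) : Subgroup Ω₁ := P.map (MonoidHom.fst Ω₁ Ω₂)

/-- Second projection of a subgroup of a product. -/
abbrev prTwo (P : Subgroup (Ω₁ × Ω₂)) : Subgroup Ω₂ := P.map (MonoidHom.snd Ω₁ Ω₂)

theorem mem_prOne {x : Ω₁ × Ω₂} (h : x ∈ P) : x.1 ∈ prOne P := ⟨x, h, rfl⟩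

theorem mem_prTwo {x : Ω₁ × Ω₂} (h : x ∈ P) : x.2 ∈ prTwo P := ⟨x, h, rfl⟩

theorem prOne_le (h : P ≤ S₁.prod S₂) : prOne P ≤ S₁ := by
  rintro _ ⟨x, hx, rfl⟩
  exact (h hx).1

theorem prTwo_le (h : P ≤ S₁.prod S₂) : prTwo P ≤ S₂ := by
  rintro _ ⟨x, hx, rfl⟩
  exact (h hx).2

/-- The product of two maps, on a subgroup of the product. -/
def prodMap {f₁ : Ω₁ → Ω₁} {f₂ : Ω₂ → Ω₂} (h₁ : IsMap F₁ (prOne P) f₁) (h₂ : IsMap F₂ (prTwo P) f₂) :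
    P →* Ω₁ × Ω₂ :=
  (h₁.toHom.comp (((MonoidHom.fst Ω₁ Ω₂).comp P.subtype).codRestrict (prOne P)
    fun x => mem_prOne x.2)).prod
  (h₂.toHom.comp (((MonoidHom.snd Ω₁ Ω₂).comp P.subtype).codRestrict (prTwo P)
    fun x => mem_prTwo x.2))

theorem prodMap_apply {f₁ : Ω₁ → Ω₁} {f₂ : Ω₂ → Ω₂} (h₁ : IsMap F₁ (prOne P) f₁)
    (h₂ : IsMap F₂ (prTwo P) f₂) (x : P) :
    prodMap h₁ h₂ x = (f₁ (x : Ω₁ × Ω₂).1, f₂ (x : Ω₁ × Ω₂).2) := rfl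

/-- The direct product of two fusion systems. -/
def productSys (F₁ : FusionSystem S₁) (F₂ : FusionSystem S₂) : FusionSystem (S₁.prod S₂) where
  Hom P := {φ | P ≤ S₁.prod S₂ ∧ ∃ f₁ f₂, IsMap F₁ (prOne P) f₁ ∧ IsMap F₂ (prTwo P) f₂ ∧
    ∀ x : P, φ x = (f₁ (x : Ω₁ × Ω₂).1, f₂ (x : Ω₁ × Ω₂).2)}
  le_of_mem := by
    rintro P φ ⟨hP, f₁, f₂, h₁, h₂, h⟩
    refine ⟨hP, fun x => ?_⟩
    rw [h x]
    exact ⟨h₁.mem (mem_prOne x.2), h₂.mem (mem_prTwo x.2)⟩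
  injective_of_mem := by
    rintro P φ ⟨hP, f₁, f₂, h₁, h₂, h⟩ x y hxy
    rw [h x, h y, Prod.ext_iff] at hxy
    exact Subtype.ext (Prod.ext (h₁.inj (mem_prOne x.2) (mem_prOne y.2) hxy.1)
      (h₂.inj (mem_prTwo x.2) (mem_prTwo y.2) hxy.2))
  conj_mem := fun {P} {g} hP hg =>
    ⟨hP, fun x => g.1 * x * g.1⁻¹, fun x => g.2 * x * g.2⁻¹,
      isMap_conj F₁ (prOne_le hP) hg.1, isMap_conj F₂ (prTwo_le hP) hg.2, fun x => rfl⟩
  comp_mem := by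
    rintro P Q φ ψ ⟨hP, f₁, f₂, h₁, h₂, h⟩ ⟨hQ, g₁, g₂, k₁, k₂, k⟩ hmem
    refine ⟨hP, fun x => g₁ (f₁ x), fun x => g₂ (f₂ x), h₁.comp k₁ ?_, h₂.comp k₂ ?_, fun x => ?_⟩
    · rintro _ ⟨x, hx, rfl⟩
      have := mem_prOne (hmem ⟨x, hx⟩)
      rwa [h] at this
    · rintro _ ⟨x, hx, rfl⟩
      have := mem_prTwo (hmem ⟨x, hx⟩)
      rwa [h] at this
    · show ψ ⟨φ x, hmem x⟩ = _
      rw [k]
      show (g₁ (φ x).1, g₂ (φ x).2) = _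
      rw [h x]
  inv_mem := by
    rintro P φ ⟨hP, f₁, f₂, h₁, h₂, h⟩
    obtain ⟨g₁, k₁, e₁, -, -⟩ := h₁.exists_inv
    obtain ⟨g₂, k₂, e₂, -, -⟩ := h₂.exists_inv
    have l₁ : prOne φ.range ≤ img (prOne P) f₁ := by
      rintro _ ⟨_, ⟨x, rfl⟩, rfl⟩
      rw [h x]
      exact h₁.apply_mem_img (mem_prOne x.2)
    have l₂ : prTwo φ.range ≤ img (prTwo P) f₂ := by
      rintro _ ⟨_, ⟨x, rfl⟩, rfl⟩
      rw [h x]
      exact h₂.apply_mem_img (mem_prTwo x.2)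
    refine ⟨prodMap (k₁.mono l₁) (k₂.mono l₂),
      ⟨?_, g₁, g₂, k₁.mono l₁, k₂.mono l₂, fun x => rfl⟩, fun x => ?_⟩
    · rintro _ ⟨x, rfl⟩
      rw [h x]
      exact ⟨h₁.mem (mem_prOne x.2), h₂.mem (mem_prTwo x.2)⟩
    · rw [prodMap_apply]
      show (g₁ (φ x).1, g₂ (φ x).2) = _
      rw [h x, e₁ _ (mem_prOne x.2), e₂ _ (mem_prTwo x.2)]

theorem isProductSystem_productSys : IsProductSystem F₁ F₂ (productSys F₁ F₂) := by
  refine fun P φ => ⟨?_, ?_⟩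
  · rintro ⟨hP, f₁, f₂, h₁, h₂, h⟩
    exact ⟨hP, h₁.toHom, h₁.toHom_mem, h₂.toHom, h₂.toHom_mem, fun x _ _ => h x⟩
  · rintro ⟨hP, φ₁, hφ₁, φ₂, hφ₂, h⟩
    refine ⟨hP, toFun φ₁, toFun φ₂, isMap_of_hom hφ₁, isMap_of_hom hφ₂, fun x => ?_⟩
    rw [h x (mem_prOne x.2) (mem_prTwo x.2), toFun_of_mem, toFun_of_mem]

variable {E : FusionSystem (S₁.prod S₂)}

theorem isMap_product_iff (hE : IsProductSystem F₁ F₂ E) {f : Ω₁ × Ω₂ → Ω₁ × Ω₂} :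
    IsMap E P f ↔ P ≤ S₁.prod S₂ ∧ ∃ f₁ f₂, IsMap F₁ (prOne P) f₁ ∧ IsMap F₂ (prTwo P) f₂ ∧
      ∀ x ∈ P, f x = (f₁ x.1, f₂ x.2) := by
  constructor
  · intro hf
    obtain ⟨hP, φ₁, hφ₁, φ₂, hφ₂, h⟩ := (hE P hf.toHom).1 hf.toHom_mem
    refine ⟨hP, toFun φ₁, toFun φ₂, isMap_of_hom hφ₁, isMap_of_hom hφ₂, fun x hx => ?_⟩
    rw [toFun_of_mem φ₁ (mem_prOne hx), toFun_of_mem φ₂ (mem_prTwo hx)]
    exact h ⟨x, hx⟩ (mem_prOne hx) (mem_prTwo hx)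
  · rintro ⟨hP, f₁, f₂, h₁, h₂, h⟩
    exact ⟨prodMap h₁ h₂,
      (hE P _).2 ⟨hP, h₁.toHom, h₁.toHom_mem, h₂.toHom, h₂.toHom_mem, fun x _ _ => rfl⟩,
      fun x => (h x x.2).symm⟩

/-- The automorphisms of the first projection compatible with an automorphism of the subgroup. -/
def compatOne (F₁ : FusionSystem S₁) (P : Subgroup (Ω₁ × Ω₂)) (R : Subgroup (MulAut P)) :
    Subgroup (MulAut (prOne P)) where
  carrier := {a | a ∈ F₁.autGroup (prOne P) ∧ ∃ r ∈ R, ∀ x : P,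
    (((a ⟨(x : Ω₁ × Ω₂).1, mem_prOne x.2⟩ : prOne P)) : Ω₁) = ((r x : P) : Ω₁ × Ω₂).1}
  one_mem' := ⟨one_mem _, 1, one_mem _, fun x => rfl⟩
  mul_mem' := by
    rintro a b ⟨ha, r, hr, har⟩ ⟨hb, s, hs, hbs⟩
    refine ⟨mul_mem ha hb, r * s, mul_mem hr hs, fun x => ?_⟩
    rw [MulAut.mul_apply, MulAut.mul_apply, ← har (s x)]
    congr 2
    exact Subtype.ext (hbs x)
  inv_mem' := by
    rintro a ⟨ha, r, hr, har⟩
    refine ⟨inv_mem ha, r⁻¹, inv_mem hr, fun x => ?_⟩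
    have h1 : a ⟨((r⁻¹ x : P) : Ω₁ × Ω₂).1, mem_prOne (r⁻¹ x).2⟩ =
        ⟨(x : Ω₁ × Ω₂).1, mem_prOne x.2⟩ := by
      refine Subtype.ext ?_
      rw [har, MulAut.apply_inv_self]
    rw [← h1, MulAut.inv_apply_self]

/-- The automorphisms of the second projection compatible with an automorphism of the subgroup. -/
def compatTwo (F₂ : FusionSystem S₂) (P : Subgroup (Ω₁ × Ω₂)) (R : Subgroup (MulAut P)) :
    Subgroup (MulAut (prTwo P)) where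
  carrier := {a | a ∈ F₂.autGroup (prTwo P) ∧ ∃ r ∈ R, ∀ x : P,
    (((a ⟨(x : Ω₁ × Ω₂).2, mem_prTwo x.2⟩ : prTwo P)) : Ω₂) = ((r x : P) : Ω₁ × Ω₂).2}
  one_mem' := ⟨one_mem _, 1, one_mem _, fun x => rfl⟩
  mul_mem' := by
    rintro a b ⟨ha, r, hr, har⟩ ⟨hb, s, hs, hbs⟩
    refine ⟨mul_mem ha hb, r * s, mul_mem hr hs, fun x => ?_⟩
    rw [MulAut.mul_apply, MulAut.mul_apply, ← har (s x)]
    congr 2
    exact Subtype.ext (hbs x)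
  inv_mem' := by
    rintro a ⟨ha, r, hr, har⟩
    refine ⟨inv_mem ha, r⁻¹, inv_mem hr, fun x => ?_⟩
    have h1 : a ⟨((r⁻¹ x : P) : Ω₁ × Ω₂).2, mem_prTwo (r⁻¹ x).2⟩ =
        ⟨(x : Ω₁ × Ω₂).2, mem_prTwo x.2⟩ := by
      refine Subtype.ext ?_
      rw [har, MulAut.apply_inv_self]
    rw [← h1, MulAut.inv_apply_self]

theorem isPGroup_compatOne {R : Subgroup (MulAut P)} (hR : IsPGroup p R) :
    IsPGroup p (compatOne F₁ P R) := by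
  rintro ⟨a, ha, r, hr, har⟩
  obtain ⟨k, hk⟩ := hR ⟨r, hr⟩
  refine ⟨k, Subtype.ext ?_⟩
  have hpow : ∀ n : ℕ, ∀ x : P, (((a ^ n) ⟨(x : Ω₁ × Ω₂).1, mem_prOne x.2⟩ : prOne P) : Ω₁) =
      (((r ^ n) x : P) : Ω₁ × Ω₂).1 := by
    intro n
    induction n with
    | zero => intro x; rfl
    | succ n ih =>
      intro x
      rw [pow_succ', MulAut.mul_apply, pow_succ', MulAut.mul_apply, ← har ((r ^ n) x)]
      congr 2
      exact Subtype.ext (ih x)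
  ext ⟨y, hy⟩
  obtain ⟨x, hx, rfl⟩ := hy
  have h1 := hpow (p ^ k) ⟨x, hx⟩
  rw [show r ^ p ^ k = 1 from congrArg Subtype.val hk] at h1
  exact h1

theorem isPGroup_compatTwo {R : Subgroup (MulAut P)} (hR : IsPGroup p R) :
    IsPGroup p (compatTwo F₂ P R) := by
  rintro ⟨a, ha, r, hr, har⟩
  obtain ⟨k, hk⟩ := hR ⟨r, hr⟩
  refine ⟨k, Subtype.ext ?_⟩
  have hpow : ∀ n : ℕ, ∀ x : P, (((a ^ n) ⟨(x : Ω₁ × Ω₂).2, mem_prTwo x.2⟩ : prTwo P) : Ω₂) =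
      (((r ^ n) x : P) : Ω₁ × Ω₂).2 := by
    intro n
    induction n with
    | zero => intro x; rfl
    | succ n ih =>
      intro x
      rw [pow_succ', MulAut.mul_apply, pow_succ', MulAut.mul_apply, ← har ((r ^ n) x)]
      congr 2
      exact Subtype.ext (ih x)
  ext ⟨y, hy⟩
  obtain ⟨x, hx, rfl⟩ := hy
  have h1 := hpow (p ^ k) ⟨x, hx⟩
  rw [show r ^ p ^ k = 1 from congrArg Subtype.val hk] at h1
  exact h1

theorem prOne_img {f : Ω₁ × Ω₂ → Ω₁ × Ω₂} {f₁ : Ω₁ → Ω₁} (hf : IsMap E P f)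
    (h₁ : IsMap F₁ (prOne P) f₁) (h : ∀ x ∈ P, (f x).1 = f₁ x.1) :
    prOne (img P f) = img (prOne P) f₁ := by
  ext y
  rw [h₁.mem_img]
  constructor
  · rintro ⟨_, hz, rfl⟩
    obtain ⟨x, hx, rfl⟩ := hf.mem_img.1 hz
    exact ⟨x.1, mem_prOne hx, (h x hx).symm⟩
  · rintro ⟨_, ⟨x, hx, rfl⟩, rfl⟩
    exact ⟨f x, hf.apply_mem_img hx, h x hx⟩

theorem prTwo_img {f : Ω₁ × Ω₂ → Ω₁ × Ω₂} {f₂ : Ω₂ → Ω₂} (hf : IsMap E P f)
    (h₂ : IsMap F₂ (prTwo P) f₂) (h : ∀ x ∈ P, (f x).2 = f₂ x.2) :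
    prTwo (img P f) = img (prTwo P) f₂ := by
  ext y
  rw [h₂.mem_img]
  constructor
  · rintro ⟨_, hz, rfl⟩
    obtain ⟨x, hx, rfl⟩ := hf.mem_img.1 hz
    exact ⟨x.2, mem_prTwo hx, (h x hx).symm⟩
  · rintro ⟨_, ⟨x, hx, rfl⟩, rfl⟩
    exact ⟨f x, hf.apply_mem_img hx, h x hx⟩

variable [Fact p.Prime] [Finite S₁] [Finite S₂] (hS₁ : IsPGroup p S₁) (hS₂ : IsPGroup p S₂)
  (hF₁ : F₁.IsSaturated p) (hF₂ : F₂.IsSaturated p) (hE : IsProductSystem F₁ F₂ E)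

include hS₁ hS₂ hF₁ hF₂ hE

theorem receptive_product (hQ : Q ≤ S₁.prod S₂) (hn₁ : F₁.IsFullyNormalized (prOne Q))
    (hn₂ : F₂.IsFullyNormalized (prTwo Q)) : E.IsReceptive Q := by
  refine receptive_of_extend hQ fun P f hf hi R hPR hR => ?_
  obtain ⟨hP, f₁, f₂, h₁, h₂, hfx⟩ := (isMap_product_iff hE).1 hf
  have i₁ : img (prOne P) f₁ = prOne Q := by
    rw [← hi, prOne_img hf h₁ fun x hx => congrArg Prod.fst (hfx x hx)]
  have i₂ : img (prTwo P) f₂ = prTwo Q := by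
    rw [← hi, prTwo_img hf h₂ fun x hx => congrArg Prod.snd (hfx x hx)]
  have hx' : ∀ a ∈ R, ∀ x ∈ P, a * x * a⁻¹ ∈ P := fun a ha x hx => ((hR a ha).2.1 x).1 hx
  obtain ⟨g₁, k₁, e₁⟩ := receptive_extend (receptive_of_fullyNormalized hS₁ hF₁ hn₁) h₁ i₁
    (R := prOne R) (Subgroup.map_mono hPR) (by
      rintro _ ⟨a, ha, rfl⟩
      obtain ⟨haS, han, b, hb, hbx⟩ := hR a ha
      refine ⟨haS.1, Subgroup.le_normalizer_map _ ⟨a, han, rfl⟩, b.1, hb.1, ?_⟩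
      rintro _ ⟨x, hx, rfl⟩
      have h1 := congrArg Prod.fst (hbx x hx)
      rw [hfx _ (hx' a ha x hx), hfx x hx] at h1
      exact h1)
  obtain ⟨g₂, k₂, e₂⟩ := receptive_extend (receptive_of_fullyNormalized hS₂ hF₂ hn₂) h₂ i₂
    (R := prTwo R) (Subgroup.map_mono hPR) (by
      rintro _ ⟨a, ha, rfl⟩
      obtain ⟨haS, han, b, hb, hbx⟩ := hR a ha
      refine ⟨haS.2, Subgroup.le_normalizer_map _ ⟨a, han, rfl⟩, b.2, hb.2, ?_⟩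
      rintro _ ⟨x, hx, rfl⟩
      have h1 := congrArg Prod.snd (hbx x hx)
      rw [hfx _ (hx' a ha x hx), hfx x hx] at h1
      exact h1)
  refine ⟨fun x => (g₁ x.1, g₂ x.2),
    (isMap_product_iff hE).2 ⟨fun a ha => (hR a ha).1, g₁, g₂, k₁, k₂, fun x _ => rfl⟩,
    fun x hx => ?_⟩
  show (g₁ x.1, g₂ x.2) = f x
  rw [e₁ _ (mem_prOne hx), e₂ _ (mem_prTwo hx), hfx x hx]

theorem isSaturated_product : E.IsSaturated p := by
  intro P hP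
  obtain ⟨Q₁, hc₁, hn₁⟩ := exists_fullyNormalized_conj F₁ (prOne_le hP)
  obtain ⟨Q₂, hc₂, hn₂⟩ := exists_fullyNormalized_conj F₂ (prTwo_le hP)
  obtain ⟨f₁, h₁, i₁⟩ := isConj_iff.1 hc₁
  obtain ⟨f₂, h₂, i₂⟩ := isConj_iff.1 hc₂
  have hf : IsMap E P (fun x => (f₁ x.1, f₂ x.2)) :=
    (isMap_product_iff hE).2 ⟨hP, f₁, f₂, h₁, h₂, fun x _ => rfl⟩
  obtain ⟨P', hP'⟩ : ∃ P', img P (fun x : Ω₁ × Ω₂ => (f₁ x.1, f₂ x.2)) = P' := ⟨_, rfl⟩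
  have hconj : E.IsConj P P' := isConj_iff.2 ⟨_, hf, hP'⟩
  rw [← i₁, ← prOne_img hf h₁ fun x _ => rfl, hP'] at hn₁
  rw [← i₂, ← prTwo_img hf h₂ fun x _ => rfl, hP'] at hn₂
  have hP'S : P' ≤ S₁.prod S₂ := isConj_le_right hconj
  haveI : Finite (S₁.prod S₂) := Finite.of_equiv _ (Subgroup.prodEquiv S₁ S₂).symm.toEquiv
  haveI := finite_of_le hP'S
  haveI := finite_of_le hn₁.1
  haveI := finite_of_le hn₂.1
  obtain ⟨R⟩ := (inferInstance : Nonempty (Sylow p (E.autGroup P')))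
  set R' := (R : Subgroup (E.autGroup P')).map (E.autGroup P').subtype with hR'
  have hR'p : IsPGroup p R' := R.isPGroup'.map _
  -- move the two projections of the Sylow subgroup into the inner groups
  obtain ⟨β₁, hβ₁, hβ₁'⟩ := exists_conj_le_autInducedBy (fullyAutomized_of_fullyNormalized hS₁ hF₁ hn₁)
    (compatOne F₁ P' R') (isPGroup_compatOne hR'p) fun a ha => ha.1
  obtain ⟨β₂, hβ₂, hβ₂'⟩ := exists_conj_le_autInducedBy (fullyAutomized_of_fullyNormalized hS₂ hF₂ hn₂)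
    (compatTwo F₂ P' R') (isPGroup_compatTwo hR'p) fun a ha => ha.1
  have k₁ := isMap_of_autGroup hn₁.1 hβ₁
  have k₂ := isMap_of_autGroup hn₂.1 hβ₂
  set u₁ := toFun ((prOne P').subtype.comp β₁.toMonoidHom) with hu₁
  set u₂ := toFun ((prTwo P').subtype.comp β₂.toMonoidHom) with hu₂
  have hu : IsMap E P' (fun x => (u₁ x.1, u₂ x.2)) :=
    (isMap_product_iff hE).2 ⟨hP'S, u₁, u₂, k₁, k₂, fun x _ => rfl⟩
  obtain ⟨Q, hQ⟩ : ∃ Q, img P' (fun x : Ω₁ × Ω₂ => (u₁ x.1, u₂ x.2)) = Q := ⟨_, rfl⟩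
  have hconj' : E.IsConj P Q := isConj_trans hconj (isConj_iff.2 ⟨_, hu, hQ⟩)
  have hQS : Q ≤ S₁.prod S₂ := isConj_le_right hconj'
  have hq₁ : prOne Q = prOne P' := by
    rw [← hQ, prOne_img hu k₁ fun x _ => rfl, hu₁, img_toFun_aut]
  have hq₂ : prTwo Q = prTwo P' := by
    rw [← hQ, prTwo_img hu k₂ fun x _ => rfl, hu₂, img_toFun_aut]
  have hrec : E.IsReceptive Q :=
    receptive_product hS₁ hS₂ hF₁ hF₂ hE hQS (hq₁ ▸ hn₁) (hq₂ ▸ hn₂)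
  subst hQ
  refine ⟨_, hconj', ⟨hQS, ?_⟩, hrec⟩
  haveI := finite_of_le hQS
  let e : MulAut P' ≃* MulAut (img P' fun x : Ω₁ × Ω₂ => (u₁ x.1, u₂ x.2)) :=
    MulAut.congr hu.equivImg
  have hsub : R'.map e.toMonoidHom ≤
      autInducedBy (S₁.prod S₂) (img P' fun x : Ω₁ × Ω₂ => (u₁ x.1, u₂ x.2)) := by
    rintro _ ⟨r, hr, rfl⟩
    have hra : r ∈ E.autGroup P' := by
      obtain ⟨t, -, rfl⟩ := hr
      exact t.2
    have hm := isMap_of_autGroup hP'S hra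
    obtain ⟨-, g₁, g₂, l₁, l₂, hgx⟩ := (isMap_product_iff hE).1 hm
    have j₁ : img (prOne P') g₁ = prOne P' := by
      rw [← prOne_img hm l₁ fun x hx => congrArg Prod.fst (hgx x hx), img_toFun_aut]
    have j₂ : img (prTwo P') g₂ = prTwo P' := by
      rw [← prTwo_img hm l₂ fun x hx => congrArg Prod.snd (hgx x hx), img_toFun_aut]
    obtain ⟨b₁, hb₁, hb₁x⟩ := mem_autInducedBy_iff.1 (hβ₁' _ ⟨l₁.toAut_mem j₁, r, hr, fun x => by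
      rw [IsMap.toAut_apply]
      exact ((congrArg Prod.fst (hgx x x.2)).symm.trans
        (congrArg Prod.fst (toFun_aut_apply r x.2)))⟩)
    obtain ⟨b₂, hb₂, hb₂x⟩ := mem_autInducedBy_iff.1 (hβ₂' _ ⟨l₂.toAut_mem j₂, r, hr, fun x => by
      rw [IsMap.toAut_apply]
      exact ((congrArg Prod.snd (hgx x x.2)).symm.trans
        (congrArg Prod.snd (toFun_aut_apply r x.2)))⟩)
    refine mem_autInducedBy_iff.2 ⟨(b₁, b₂), ⟨hb₁, hb₂⟩, fun y => ?_⟩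
    obtain ⟨x, hx⟩ := hu.equivImg.surjective y
    subst hx
    show ((hu.equivImg (r (hu.equivImg.symm (hu.equivImg x))) : _) : Ω₁ × Ω₂) = _
    rw [MulEquiv.symm_apply_apply, IsMap.coe_equivImg, IsMap.coe_equivImg]
    have hr' : ((r x : P') : Ω₁ × Ω₂) = (g₁ (x : Ω₁ × Ω₂).1, g₂ (x : Ω₁ × Ω₂).2) :=
      (toFun_aut_apply r x.2).symm.trans (hgx x x.2)
    refine Prod.ext ?_ ?_
    · have h1 := hb₁x (β₁ ⟨(x : Ω₁ × Ω₂).1, mem_prOne x.2⟩)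
      rw [MulAut.mul_apply, MulAut.mul_apply, MulAut.inv_apply_self] at h1
      show u₁ ((r x : P') : Ω₁ × Ω₂).1 = b₁ * u₁ (x : Ω₁ × Ω₂).1 * b₁⁻¹
      rw [hr', hu₁, toFun_aut_apply _ (mem_prOne x.2), ← h1,
        toFun_aut_apply _ (show g₁ (x : Ω₁ × Ω₂).1 ∈ prOne P' from
          j₁ ▸ l₁.apply_mem_img (mem_prOne x.2))]
      rfl
    · have h1 := hb₂x (β₂ ⟨(x : Ω₁ × Ω₂).2, mem_prTwo x.2⟩)
      rw [MulAut.mul_apply, MulAut.mul_apply, MulAut.inv_apply_self] at h1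
      show u₂ ((r x : P') : Ω₁ × Ω₂).2 = b₂ * u₂ (x : Ω₁ × Ω₂).2 * b₂⁻¹
      rw [hr', hu₂, toFun_aut_apply _ (mem_prTwo x.2), ← h1,
        toFun_aut_apply _ (show g₂ (x : Ω₁ × Ω₂).2 ∈ prTwo P' from
          j₂ ▸ l₂.apply_mem_img (mem_prTwo x.2))]
      rfl
  obtain ⟨T⟩ := (inferInstance : Nonempty (Sylow p (E.autGroup (img P' fun x : Ω₁ × Ω₂ => (u₁ x.1, u₂ x.2)))))
  refine exists_sylow_eq (T := T) (le_antisymm ?_ ?_)
  · have hp : IsPGroup p (autInducedBy (S₁.prod S₂) (img P' fun x : Ω₁ × Ω₂ => (u₁ x.1, u₂ x.2))) := by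
      refine isPGroup_autInducedBy ?_ _
      refine IsPGroup.of_equiv (G := S₁ × S₂) (fun x => ?_) (Subgroup.prodEquiv S₁ S₂).symm
      obtain ⟨i, hi⟩ := hS₁ x.1
      obtain ⟨j, hj⟩ := hS₂ x.2
      refine ⟨i + j, Prod.ext ?_ ?_⟩
      · rw [Prod.pow_fst, pow_add, pow_mul, hi, one_pow]
        rfl
      · rw [Prod.pow_snd, pow_add, mul_comm, pow_mul, hj, one_pow]
        rfl
    obtain ⟨T', hT'⟩ := (hp.of_equiv (Subgroup.subgroupOfEquivOfLe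
      (autInducedBy_le_autGroup hQS)).symm).exists_le_sylow
    rw [T.card_eq_multiplicity, ← T'.card_eq_multiplicity]
    exact Subgroup.card_le_of_le hT'
  · rw [Nat.card_congr (Subgroup.subgroupOfEquivOfLe (autInducedBy_le_autGroup hQS)).toEquiv,
      T.card_eq_multiplicity,
      isConj_card_autGroup (isConj_iff.2 ⟨_, hu, rfl⟩ : E.IsConj P' _),
      ← R.card_eq_multiplicity]
    refine le_trans ?_ (Subgroup.card_le_of_le hsub)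
    rw [Subgroup.card_map_of_injective e.injective, hR',
      Subgroup.card_map_of_injective (E.autGroup P').subtype_injective]

end CfsgLib.Fusion
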