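import Cfsg.Agent.Lib.Fusion.NormalCriteria

/-!
A saturated subsystem over a strongly closed subgroup of a constrained system is constrained.
-/

set_option autoImplicit false
set_option linter.unusedVariables false
set_option linter.unusedSectionVars false
set_option linter.style.haveILetI false

namespace CfsgLib.Fusion

open Cfsg Cfsg.FusionSystem Subgroup
open scoped commutatorElement

variable {Ω : Type*} [Group Ω] {S T : Subgroup Ω} {F : FusionSystem S} {E : FusionSystem T}
  {P Q : Subgroup Ω} {p : ℕ}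

theorem stronglyClosed_subsystem (hsub : E.IsSubsystemOf F) (hP : F.StronglyClosed P)
    (hPT : P ≤ T) : E.StronglyClosed P :=
  ⟨hPT, fun R hR φ hφ x => hP.2 R hR φ (hsub R hφ) x⟩

theorem stronglyClosed_inf (hP : F.StronglyClosed P) (hQ : F.StronglyClosed Q) :
    F.StronglyClosed (P ⊓ Q) :=
  ⟨inf_le_left.trans hP.1, fun R hR φ hφ x => ⟨hP.2 R (hR.trans inf_le_left) φ hφ x,
    hQ.2 R (hR.trans inf_le_right) φ hφ x⟩⟩

theorem isConstrained_of_subsystem [Fact p.Prime] [Finite S] (hS : IsPGroup p S)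
    (hF : F.IsConstrained p) (hsub : E.IsSubsystemOf F) (hE : E.IsSaturated p)
    (hT : F.StronglyClosed T) : E.IsConstrained p := by
  obtain ⟨hFs, Q, hQ, hQc⟩ := hF
  refine ⟨hE, ?_⟩
  haveI := finite_of_le hT.1
  have hTp : IsPGroup p T := hS.to_le hT.1
  have hQS := hQ.1
  have hQsc := IsNormal.stronglyClosed hQ
  have hCQ : centralizerIn S Q ≤ Q := hQc.2 Q (isConj_refl hQS)
  -- `T ∩ Q` is normal in the subsystem
  set R := Q ⊓ T with hR
  have hRsc : F.StronglyClosed R := stronglyClosed_inf hQsc hT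
  have hRE : E.StronglyClosed R := stronglyClosed_subsystem hsub hRsc inf_le_right
  have hRn : E.IsNormal R := by
    refine isNormal_of_le_centricRadical hTp hE hRE fun P hc hr => ?_
    obtain ⟨n, C, h0, hn, hmono, hcomm, hnorm⟩ := IsNormal.exists_series hS hQ
    refine le_centricRadical_of_series hTp hRE n (fun i => C i ⊓ T) (by simp [h0])
      (by simp [hn, hR]) (fun i _ => inf_le_inf_right _ (hmono (Nat.le_succ i))) ?_ ?_ hc hr
    · intro i _
      rw [Subgroup.commutator_le]
      intro a ha b hb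
      refine ⟨hcomm i (Subgroup.commutator_mem_commutator ha.1 hb.1), ?_⟩
      rw [commutatorElement_def]
      exact T.mul_mem (T.mul_mem (T.mul_mem ha.2 hb.2) (T.inv_mem ha.2)) (T.inv_mem hb.2)
    · intro i _
      exact StronglyClosed.weaklyClosed (stronglyClosed_subsystem hsub
        (stronglyClosed_inf (IsNormal.stronglyClosed (hnorm i)) hT) inf_le_right)
  -- so is its centralizer in `T`
  set U := centralizerIn T R with hU
  have hUsc : F.StronglyClosed U := by
    refine stronglyClosed_iff.2 ⟨inf_le_left.trans hT.1, fun X f hX hf x hx => ?_⟩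
    obtain ⟨g, hg, hgx, hgQ⟩ := (isNormal_iff.1 hQ).2 X f hf
    rw [← hgx x hx]
    have hxU := hX hx
    refine ⟨StronglyClosed.apply_mem hT hg (mem_sup_left hx) hxU.1, fun y hy => ?_⟩
    have hyQ : y ∈ Q := hy.1
    rw [← hgQ] at hyQ
    obtain ⟨z, hz, rfl⟩ := (hg.mono le_sup_right).mem_img.1 hyQ
    have hzT : z ∈ T := by
      obtain ⟨k, hk, hkx, -, -⟩ := hg.exists_inv
      have h2 := StronglyClosed.apply_mem hT hk (hg.apply_mem_img (mem_sup_right hz)) hy.2
      rwa [hkx z (mem_sup_right hz)] at h2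
    rw [← hg.map_mul (mem_sup_right hz) (mem_sup_left hx),
      ← hg.map_mul (mem_sup_left hx) (mem_sup_right hz), hxU.2 z ⟨hz, hzT⟩]
  have hUE : E.StronglyClosed U := stronglyClosed_subsystem hsub hUsc inf_le_left
  have hUn : E.IsNormal U := by
    refine isNormal_of_le_centricRadical hTp hE hUE fun P hc hr => ?_
    refine le_centricRadical_of_series hTp hUE 2
      (fun i => if i = 0 then ⊥ else if i = 1 then U ⊓ Q else U) rfl rfl ?_ ?_ ?_ hc hr
    · intro i hi
      interval_cases i
      · exact bot_le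
      · exact inf_le_left
    · intro i hi
      interval_cases i
      · show ⁅U ⊓ Q, U⁆ ≤ ⊥
        rw [le_bot_iff, Subgroup.commutator_eq_bot_iff_le_centralizer]
        intro y hy a ha
        exact (ha.2 y ⟨hy.2, hy.1.1⟩).symm
      · show ⁅U, U⁆ ≤ U ⊓ Q
        rw [Subgroup.commutator_le]
        intro a ha b hb
        have haU : a * b * a⁻¹ * b⁻¹ ∈ U :=
          U.mul_mem (U.mul_mem (U.mul_mem ha hb) (U.inv_mem ha)) (U.inv_mem hb)
        refine ⟨haU, hCQ ⟨hT.1 haU.1, ?_⟩⟩
        -- the commutator centralizes `Q`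
        have hc : ∀ c ∈ U, ∀ q ∈ Q, q⁻¹ * (c * q * c⁻¹) ∈ R := by
          intro c hc q hq
          refine ⟨Q.mul_mem (Q.inv_mem hq) (StronglyClosed.conj_mem hQsc (hT.1 hc.1) hq), ?_⟩
          have h1 := T.mul_mem (StronglyClosed.conj_mem hT (S.inv_mem (hQS hq)) hc.1) (T.inv_mem hc.1)
          simpa [mul_assoc] using h1
        have hfix : ∀ c ∈ U, ∀ y ∈ R, c * y * c⁻¹ = y := fun c hc y hy => by
          rw [← hc.2 y hy, mul_inv_cancel_right]
        have hRq : ∀ q ∈ Q, ∀ y ∈ R, q * y * q⁻¹ ∈ R := fun q hq y hy =>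
          StronglyClosed.conj_mem hRsc (hQS hq) hy
        intro q hq
        suffices key : ∀ a ∈ U, ∀ b ∈ U,
            q * (a⁻¹ * b⁻¹ * a * b) = a⁻¹ * b⁻¹ * a * b * q by
          have h1 := key a⁻¹ (U.inv_mem ha) b⁻¹ (U.inv_mem hb)
          rw [inv_inv, inv_inv] at h1
          exact h1
        clear haU ha hb a b
        intro a ha b hb
        obtain ⟨r, hr1⟩ : ∃ r, q⁻¹ * (a * q * a⁻¹) = r := ⟨_, rfl⟩
        obtain ⟨s, hs1⟩ : ∃ s, q⁻¹ * (b * q * b⁻¹) = s := ⟨_, rfl⟩
        have hrR : r ∈ R := hr1 ▸ hc a ha q hq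
        have hsR : s ∈ R := hs1 ▸ hc b hb q hq
        have ea : a * q * a⁻¹ = q * r := by rw [← hr1]; group
        have eb : b * q * b⁻¹ = q * s := by rw [← hs1]; group
        have hrs : r * s = s * r := by
          have h1 := hfix a ha _ (hRq q hq s hsR)
          have h3 := hfix a⁻¹ (U.inv_mem ha) s hsR
          rw [inv_inv] at h3
          have h2 : r * s * r⁻¹ = s := by
            calc r * s * r⁻¹ = q⁻¹ * (a * (q * (a⁻¹ * s * a) * q⁻¹) * a⁻¹) * q := by
                  rw [← hr1]; group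
              _ = q⁻¹ * (a * (q * s * q⁻¹) * a⁻¹) * q := by rw [h3]
              _ = s := by rw [h1]; group
          exact mul_inv_eq_iff_eq_mul.1 h2
        have hab : a * b * q * (a * b)⁻¹ = q * r * s := by
          calc a * b * q * (a * b)⁻¹ = a * (b * q * b⁻¹) * a⁻¹ := by group
            _ = a * q * a⁻¹ * (a * s * a⁻¹) := by rw [eb]; group
            _ = q * r * s := by rw [ea, hfix a ha s hsR]
        have hba : b * a * q * (b * a)⁻¹ = q * s * r := by
          calc b * a * q * (b * a)⁻¹ = b * (a * q * a⁻¹) * b⁻¹ := by group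
            _ = b * q * b⁻¹ * (b * r * b⁻¹) := by rw [ea]; group
            _ = q * s * r := by rw [eb, hfix b hb r hrR]
        have heq : a * b * q * (a * b)⁻¹ = b * a * q * (b * a)⁻¹ := by
          rw [hab, hba, mul_assoc q r, hrs, ← mul_assoc]
        calc q * (a⁻¹ * b⁻¹ * a * b)
            = a⁻¹ * b⁻¹ * (b * a * q * (b * a)⁻¹) * (a * b) := by group
          _ = a⁻¹ * b⁻¹ * (a * b * q * (a * b)⁻¹) * (a * b) := by rw [heq]
          _ = a⁻¹ * b⁻¹ * a * b * q := by group
    · intro i hi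
      interval_cases i
      · exact StronglyClosed.weaklyClosed (IsNormal.stronglyClosed isNormal_bot)
      · exact StronglyClosed.weaklyClosed (stronglyClosed_subsystem hsub
          (stronglyClosed_inf hUsc hQsc) (inf_le_left.trans inf_le_left))
  refine ⟨R ⊔ U, isNormal_sup hRn hUn, ⟨sup_le inf_le_right inf_le_left, fun X hX a ha => ?_⟩⟩
  obtain ⟨f, hf, rfl⟩ := isConj_iff.1 hX
  rw [StronglyClosed.img_eq (IsNormal.stronglyClosed (isNormal_sup hRn hUn)) hf le_rfl] at ha ⊢
  exact mem_sup_right ⟨ha.1, fun y hy => ha.2 y (mem_sup_left hy)⟩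

end CfsgLib.Fusion
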