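import Cfsg.Agent.Lib.Fusion.NormalCriteria

/-!
Transport of maps and of normal subgroups of an invariant subsystem along automorphisms of the
subgroup carrying it.
-/

set_option autoImplicit false
set_option linter.unusedVariables false
set_option linter.unusedSectionVars false

namespace CfsgLib.Fusion

open Cfsg Cfsg.FusionSystem Subgroup

variable {Ω : Type*} [Group Ω] {S T : Subgroup Ω} {F : FusionSystem S} {E : FusionSystem T}
  {P R : Subgroup Ω} {f : Ω → Ω} {α : MulAut T}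

/-- The function of an automorphism of `T`. -/
noncomputable def autFun (α : MulAut T) : Ω → Ω := toFun (T.subtype.comp α.toMonoidHom)

theorem autFun_apply (α : MulAut T) {x : Ω} (hx : x ∈ T) :
    autFun α x = ((α ⟨x, hx⟩ : T) : Ω) := toFun_aut_apply α hx

theorem autFun_mem (α : MulAut T) {x : Ω} (hx : x ∈ T) : autFun α x ∈ T := by
  rw [autFun_apply α hx]
  exact (α _).2

theorem autFun_mul_apply (α β : MulAut T) {x : Ω} (hx : x ∈ T) :
    autFun (α * β) x = autFun α (autFun β x) := by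
  rw [autFun_apply α (autFun_mem β hx), autFun_apply _ hx, MulAut.mul_apply]
  congr 2
  exact Subtype.ext (autFun_apply β hx).symm

theorem autFun_one {x : Ω} (hx : x ∈ T) : autFun (1 : MulAut T) x = x := autFun_apply _ hx

theorem autFun_inv_apply (α : MulAut T) {x : Ω} (hx : x ∈ T) :
    autFun α⁻¹ (autFun α x) = x := by
  rw [← autFun_mul_apply _ _ hx, inv_mul_cancel, autFun_one hx]

theorem autFun_apply_inv (α : MulAut T) {x : Ω} (hx : x ∈ T) :
    autFun α (autFun α⁻¹ x) = x := by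
  rw [← autFun_mul_apply _ _ hx, mul_inv_cancel, autFun_one hx]

theorem isMap_autFun (hT : T ≤ S) (hα : α ∈ F.autGroup T) : IsMap F T (autFun α) :=
  isMap_of_autGroup hT hα

theorem mem_img_autFun (h : IsMap F T (autFun α)) (hP : P ≤ T) {y : Ω} :
    y ∈ img P (autFun α) ↔ ∃ x ∈ P, autFun α x = y := (h.mono hP).mem_img

/-- Maps of an invariant subsystem transported by an automorphism of its subgroup. -/
theorem IsInvariantIn.transport (h : E.IsInvariantIn F) (hα : α ∈ F.autGroup T)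
    (hf : IsMap E P f) :
    ∃ g, IsMap E (img P (autFun α)) g ∧ ∀ x ∈ P, g (autFun α x) = autFun α (f x) := by
  obtain ⟨hsub, hsc, hinv, -⟩ := h
  obtain ⟨χ, hχ, hχx⟩ := hinv P hf.le hf.toHom hf.toHom_mem α hα
  have hm : IsMap F T (autFun α) := isMap_autFun hsc.1 hα
  have hQ : (P.subgroupOf T).map (T.subtype.comp α.toMonoidHom) = img P (autFun α) := by
    ext y
    rw [mem_img_autFun hm hf.le]
    constructor
    · rintro ⟨s, hs, rfl⟩
      exact ⟨s, hs, autFun_apply α s.2⟩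
    · rintro ⟨x, hx, rfl⟩
      exact ⟨⟨x, hf.le hx⟩, hx, (autFun_apply α (hf.le hx)).symm⟩
  refine ⟨toFun χ, hQ ▸ isMap_of_hom hχ, fun x hx => ?_⟩
  have hmem : ((α ⟨x, hf.le hx⟩ : T) : Ω) ∈
      (P.subgroupOf T).map (T.subtype.comp α.toMonoidHom) := ⟨⟨x, hf.le hx⟩, hx, rfl⟩
  have hfx : hf.toHom ⟨x, hx⟩ ∈ T := hf.mem hx
  rw [autFun_apply α (hf.le hx), toFun_of_mem χ hmem, hχx ⟨x, hx⟩ hfx hmem,
    autFun_apply α (hf.mem hx)]
  rfl

/-- The image of a normal subgroup of an invariant subsystem under an automorphism of `T` is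
normal in the subsystem. -/
theorem IsInvariantIn.isNormal_img (h : E.IsInvariantIn F) (hα : α ∈ F.autGroup T)
    (hR : E.IsNormal R) : E.IsNormal (img R (autFun α)) := by
  have hT : T ≤ S := h.2.1.1
  have hm : IsMap F T (autFun α) := isMap_autFun hT hα
  have hm' : IsMap F T (autFun α⁻¹) := isMap_autFun hT (inv_mem hα)
  refine isNormal_iff.2 ⟨fun y hy => ?_, fun P f hf => ?_⟩
  · obtain ⟨x, hx, rfl⟩ := (mem_img_autFun hm hR.1).1 hy
    exact autFun_mem α (hR.1 hx)
  obtain ⟨g₁, hg₁, hg₁x⟩ := IsInvariantIn.transport h (inv_mem hα) hf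
  obtain ⟨g₂, hg₂, hg₂x, hg₂R⟩ := (isNormal_iff.1 hR).2 _ g₁ hg₁
  obtain ⟨g₃, hg₃, hg₃x⟩ := IsInvariantIn.transport h hα hg₂
  have hb : ∀ x ∈ P, autFun α⁻¹ x ∈ img P (autFun α⁻¹) := fun x hx =>
    (hm'.mono hf.le).apply_mem_img hx
  have hQ : img (img P (autFun α⁻¹) ⊔ R) (autFun α) = P ⊔ img R (autFun α) := by
    rw [hm.img_sup hg₁.le hR.1]
    congr 1
    ext y
    rw [mem_img_autFun hm hg₁.le]
    constructor
    · rintro ⟨z, hz, rfl⟩
      obtain ⟨x, hx, rfl⟩ := (mem_img_autFun hm' hf.le).1 hz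
      rwa [autFun_apply_inv α (hf.le hx)]
    · exact fun hy => ⟨_, hb y hy, autFun_apply_inv α (hf.le hy)⟩
  refine ⟨g₃, hQ ▸ hg₃, fun x hx => ?_, ?_⟩
  · have h1 := hg₃x (autFun α⁻¹ x) (Subgroup.mem_sup_left (hb x hx))
    rw [autFun_apply_inv α (hf.le hx), hg₂x _ (hb x hx), hg₁x x hx,
      autFun_apply_inv α (hf.mem hx)] at h1
    exact h1
  · ext y
    have hle : img R (autFun α) ≤ img (img P (autFun α⁻¹) ⊔ R) (autFun α) :=
      img_mono le_sup_right
    rw [(hg₃.mono hle).mem_img, mem_img_autFun hm hR.1]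
    constructor
    · rintro ⟨z, hz, rfl⟩
      obtain ⟨r, hr, rfl⟩ := (mem_img_autFun hm hR.1).1 hz
      refine ⟨g₂ r, ?_, (hg₃x r (Subgroup.mem_sup_right hr)).symm⟩
      have h1 := (hg₂.mono le_sup_right).apply_mem_img hr
      rwa [hg₂R] at h1
    · rintro ⟨r, hr, rfl⟩
      rw [← hg₂R] at hr
      obtain ⟨r₀, hr₀, rfl⟩ := (hg₂.mono le_sup_right).mem_img.1 hr
      exact ⟨_, (hm.mono hR.1).apply_mem_img hr₀, hg₃x r₀ (Subgroup.mem_sup_right hr₀)⟩

end CfsgLib.Fusion
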