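import Cfsg.Agent.Lib.Fusion.FactorSystem
import Cfsg.Agent.Lib.Fusion.InvariantTransport
import Cfsg.Agent.Lib.Fusion.ConstrainedSubnormal
import Cfsg.Prelude.Def_FusionComponents

/-!
Solvable fusion systems: strongly closed series with abelian quotients.
-/

set_option autoImplicit false
set_option linter.unusedVariables false
set_option linter.unusedSectionVars false
set_option linter.style.haveILetI false

namespace CfsgLib.Fusion

open Cfsg Cfsg.FusionSystem Subgroup
open scoped commutatorElement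

variable {Ω Ω' : Type*} [Group Ω] [Group Ω'] {S R Q T : Subgroup Ω} {S' Q' : Subgroup Ω'}
  {F : FusionSystem S} {D : FusionSystem S'} {θ : S →* Ω'} {p : ℕ}

theorem stronglyClosed_top_self : F.StronglyClosed S :=
  ⟨le_rfl, fun X _ φ hφ x => (F.le_of_mem hφ).2 x⟩

/-- The image of a strongly closed subgroup in a factor system is strongly closed. -/
theorem stronglyClosed_imageAlong (hD : F.IsFactorSystem R θ D) (hQ : F.StronglyClosed Q) :
    D.StronglyClosed (imageAlong θ Q) := by
  obtain ⟨-, -, hθ, hmem⟩ := hD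
  refine stronglyClosed_iff.2 ⟨fun y hy => ?_, fun X f hX hf y hy => ?_⟩
  · obtain ⟨x, hx, -, rfl⟩ := mem_imageAlong.1 hy
    exact hθ ▸ ⟨_, rfl⟩
  · obtain ⟨-, g, hg, hgx⟩ := (isMap_induced_iff hmem hθ).1 hf
    obtain ⟨x, hx, hxQ, rfl⟩ := mem_imageAlong.1 (hX hy)
    have hxp : x ∈ preimageAlong θ X := mem_preimageAlong.2 ⟨hx, hy⟩
    rw [hgx x hxp]
    exact mem_imageAlong.2 ⟨g x, hg.mem hxp, StronglyClosed.apply_mem hQ hg hxp hxQ, rfl⟩

/-- The preimage of a strongly closed subgroup of a factor system is strongly closed. -/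
theorem stronglyClosed_preimageAlong [Fact p.Prime] [Finite S] (hS : IsPGroup p S)
    (hF : F.IsSaturated p) (hR : F.StronglyClosed R) (hD : F.IsFactorSystem R θ D)
    (hQ : D.StronglyClosed Q') : F.StronglyClosed (preimageAlong θ Q') := by
  obtain ⟨⟨-, hmor⟩, -, -⟩ := isSurjectiveMorphism_factor hS hF hR hD
  refine ⟨preimageAlong_le, fun X hX φ hφ x => ?_⟩
  obtain ⟨φ', hφ', hind⟩ := hmor X φ hφ
  have hle : imageAlong θ X ≤ Q' := fun y hy => by
    obtain ⟨a, ha, haX, rfl⟩ := mem_imageAlong.1 hy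
    exact (mem_preimageAlong.1 (hX haX)).2
  have hxS : (x : Ω) ∈ S := (F.le_of_mem hφ).1 x.2
  have hm : θ ⟨x, hxS⟩ ∈ imageAlong θ X := mem_imageAlong.2 ⟨x, hxS, x.2, rfl⟩
  have h1 := hQ.2 _ hle φ' hφ' ⟨_, hm⟩
  rw [inducedAlong_apply hind x.2 hxS ((F.le_of_mem hφ).2 x) hm] at h1
  exact mem_preimageAlong.2 ⟨_, h1⟩

theorem isSaturated_factor [Fact p.Prime] [Finite S] (hS : IsPGroup p S) (hF : F.IsSaturated p)
    (hR : F.StronglyClosed R) (hD : F.IsFactorSystem R θ D) : D.IsSaturated p :=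
  isSaturated_image hS hF (isSurjectiveMorphism_factor hS hF hR hD)

theorem imageAlong_mono {A B : Subgroup Ω} (h : A ≤ B) : imageAlong θ A ≤ imageAlong θ B :=
  Subgroup.map_mono fun _ hx => h hx

theorem commutator_imageAlong_le {A B C : Subgroup Ω} (hA : A ≤ S) (hB : B ≤ S)
    (h : ⁅A, B⁆ ≤ C) : ⁅imageAlong θ A, imageAlong θ B⁆ ≤ imageAlong θ C := by
  refine commutator_le.2 fun a ha b hb => ?_
  obtain ⟨x, hx, hxA, rfl⟩ := mem_imageAlong.1 ha
  obtain ⟨y, hy, hyB, rfl⟩ := mem_imageAlong.1 hb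
  rw [← map_commutatorElement]
  exact mem_imageAlong.2 ⟨_, (⁅(⟨x, hx⟩ : S), (⟨y, hy⟩ : S)⁆ : S).2,
    h (commutator_mem_commutator hxA hyB), rfl⟩

theorem commutator_preimageAlong_le {A B C : Subgroup Ω'} (h : ⁅A, B⁆ ≤ C) :
    ⁅preimageAlong θ A, preimageAlong θ B⁆ ≤ preimageAlong θ C := by
  refine commutator_le.2 fun a ha b hb => ?_
  obtain ⟨hx, hxA⟩ := mem_preimageAlong.1 ha
  obtain ⟨hy, hyB⟩ := mem_preimageAlong.1 hb
  refine mem_preimageAlong.2 ⟨(⁅(⟨a, hx⟩ : S), (⟨b, hy⟩ : S)⁆ : S).2, ?_⟩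
  show θ ⁅(⟨a, hx⟩ : S), (⟨b, hy⟩ : S)⁆ ∈ C
  rw [map_commutatorElement]
  exact h (commutator_mem_commutator hxA hyB)

theorem preimageAlong_mono {A B : Subgroup Ω'} (h : A ≤ B) :
    preimageAlong θ A ≤ preimageAlong θ B :=
  Subgroup.map_mono (Subgroup.comap_mono h)

theorem preimageAlong_bot (hR : R ≤ S) (hker : ∀ s : S, θ s = 1 ↔ (s : Ω) ∈ R) :
    preimageAlong θ (⊥ : Subgroup Ω') = R := by
  refine le_antisymm (fun x hx => ?_) (le_preimageAlong_of_ker hker hR)
  obtain ⟨hxS, h⟩ := mem_preimageAlong.1 hx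
  exact (hker ⟨x, hxS⟩).1 h

/-- The centre of a subgroup normal in the system is normal in it. -/
theorem IsNormal.center (h : F.IsNormal Q) :
    F.IsNormal ((Subgroup.center Q).map Q.subtype) := by
  refine isNormal_characteristic h (Subgroup.map_subtype_le _) ?_
  rw [Subgroup.subgroupOf, Subgroup.comap_map_eq_self_of_injective Q.subtype_injective]
  infer_instance

section Criteria

variable [Fact p.Prime] [Finite S] (hS : IsPGroup p S) (hF : F.IsSaturated p)

include hS hF

/-- A strongly closed subgroup of class at most two whose middle term is strongly closed is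
normal. -/
theorem isNormal_of_class_two {X M : Subgroup Ω} (hX : F.StronglyClosed X)
    (hM : F.StronglyClosed M) (hMX : M ≤ X) (h₁ : ⁅X, X⁆ ≤ M) (h₂ : ⁅M, X⁆ = ⊥) :
    F.IsNormal X := by
  refine isNormal_of_le_centricRadical hS hF hX fun P hc hr => ?_
  refine le_centricRadical_of_series hS hX 2
    (fun i => if i = 0 then ⊥ else if i = 1 then M else X) rfl rfl ?_ ?_ ?_ hc hr
  · intro i hi
    interval_cases i
    · exact bot_le
    · exact hMX
  · intro i hi
    interval_cases i
    · exact h₂.le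
    · exact h₁
  · intro i hi
    interval_cases i
    · exact StronglyClosed.weaklyClosed (IsNormal.stronglyClosed isNormal_bot)
    · exact StronglyClosed.weaklyClosed hM

/-- An abelian strongly closed subgroup is normal. -/
theorem isNormal_of_commutator_eq_bot {X : Subgroup Ω} (hX : F.StronglyClosed X)
    (h : ⁅X, X⁆ = ⊥) : F.IsNormal X :=
  isNormal_of_class_two hS hF hX (IsNormal.stronglyClosed isNormal_bot) bot_le h.le
    (Subgroup.commutator_bot_left X)

end Criteria

/-- There is a series of strongly closed subgroups from `R` to `S` with abelian quotients. -/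
def SeriesFrom (F : FusionSystem S) (R : Subgroup Ω) : Prop :=
  ∃ (n : ℕ) (C : ℕ → Subgroup Ω), C 0 = R ∧ C n = S ∧ Monotone C ∧
    (∀ i, F.StronglyClosed (C i)) ∧ ∀ i, ⁅C (i + 1), C (i + 1)⁆ ≤ C i

theorem seriesFrom_self : SeriesFrom F S :=
  ⟨0, fun _ => S, rfl, rfl, monotone_const, fun _ => stronglyClosed_top_self,
    fun _ => Subgroup.commutator_le_self S⟩

theorem SeriesFrom.cons {X : Subgroup Ω} (h : SeriesFrom F X) (hR : F.StronglyClosed R)
    (hle : R ≤ X) (hc : ⁅X, X⁆ ≤ R) : SeriesFrom F R := by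
  obtain ⟨n, C, h0, hn, hmono, hsc, hcomm⟩ := h
  refine ⟨n + 1, fun i => Nat.casesOn i R C, rfl, hn, monotone_nat_of_le_succ fun i => ?_,
    fun i => ?_, fun i => ?_⟩
  · cases i with
    | zero => show R ≤ C 0; rw [h0]; exact hle
    | succ i => exact hmono (Nat.le_succ i)
  · cases i with
    | zero => exact hR
    | succ i => exact hsc i
  · cases i with
    | zero => show ⁅C 0, C 0⁆ ≤ R; rw [h0]; exact hc
    | succ i => exact hcomm i

theorem seriesFrom_bot_iff : SeriesFrom F ⊥ ↔ ∃ (n : ℕ) (T : Fin (n + 1) → Subgroup Ω),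
    T 0 = ⊥ ∧ T (Fin.last n) = S ∧ Monotone T ∧ (∀ i, F.StronglyClosed (T i)) ∧
      ∀ i : Fin n, ⁅T i.succ, T i.succ⁆ ≤ T (Fin.castSucc i) := by
  constructor
  · rintro ⟨n, C, h0, hn, hmono, hsc, hcomm⟩
    exact ⟨n, fun i => C i, h0, hn, fun i j hij => hmono hij, fun i => hsc i, fun i => hcomm i⟩
  · rintro ⟨n, T, h0, hn, hmono, hsc, hcomm⟩
    refine ⟨n, fun i => T ⟨min i n, by omega⟩, ?_, ?_, fun i j hij => hmono (by
      show min i n ≤ min j n
      omega), fun i => hsc _, fun i => ?_⟩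
    · convert h0 using 2
      exact Fin.ext (Nat.zero_min n)
    · convert hn using 2
      exact Fin.ext (min_self n)
    · rcases lt_or_ge i n with hi | hi
      · show ⁅T ⟨min (i + 1) n, by omega⟩, T ⟨min (i + 1) n, by omega⟩⁆ ≤ T ⟨min i n, by omega⟩
        have e1 : (⟨min (i + 1) n, by omega⟩ : Fin (n + 1)) = (⟨i, hi⟩ : Fin n).succ :=
          Fin.ext (by show min (i + 1) n = i + 1; omega)
        have e2 : (⟨min i n, by omega⟩ : Fin (n + 1)) = Fin.castSucc ⟨i, hi⟩ :=
          Fin.ext (by show min i n = i; omega)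
        rw [e1, e2]
        exact hcomm ⟨i, hi⟩
      · show ⁅T ⟨min (i + 1) n, by omega⟩, T ⟨min (i + 1) n, by omega⟩⁆ ≤ T ⟨min i n, by omega⟩
        have e1 : (⟨min (i + 1) n, by omega⟩ : Fin (n + 1)) = ⟨min i n, by omega⟩ :=
          Fin.ext (by show min (i + 1) n = min i n; omega)
        rw [e1]
        exact Subgroup.commutator_le_self _

theorem SeriesFrom.exists_step {A : Subgroup Ω} (h : SeriesFrom F ⊥) (hA : A ≤ S)
    (B : Subgroup Ω) (hAB : ¬ A ≤ B) :
    ∃ U W : Subgroup Ω, F.StronglyClosed U ∧ F.StronglyClosed W ∧ ⁅W, W⁆ ≤ U ∧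
      A ⊓ U ≤ B ∧ ¬ A ⊓ W ≤ B := by
  obtain ⟨n, C, h0, hn, hmono, hsc, hcomm⟩ := h
  by_contra hne
  push Not at hne
  have hall : ∀ i, A ⊓ C i ≤ B := by
    intro i
    induction i with
    | zero => rw [h0, inf_bot_eq]; exact bot_le
    | succ i ih => exact hne _ _ (hsc i) (hsc (i + 1)) (hcomm i) ih
  refine hAB ?_
  have := hall n
  rwa [hn, inf_eq_left.2 hA] at this

section Solvable

variable [Fact p.Prime] [Finite S] (hS : IsPGroup p S) (hF : F.IsSaturated p)

include hS hF

/-- The centre of the core of a factor system, pulled back. -/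
theorem exists_step_of_solvable (h : F.IsSolvableSystem) (hR : F.StronglyClosed R) (hne : R ≠ S) :
    ∃ X, F.StronglyClosed X ∧ R < X ∧ ⁅X, X⁆ ≤ R := by
  haveI hn : (R.subgroupOf S).Normal := ⟨fun a ha g =>
    mem_subgroupOf.2 (StronglyClosed.conj_mem hR g.2 (mem_subgroupOf.1 ha))⟩
  set θ := QuotientGroup.mk' (R.subgroupOf S) with hθ
  have hker : ∀ s : S, θ s = 1 ↔ (s : Ω) ∈ R := fun s => QuotientGroup.eq_one_iff s
  have hrange : θ.range = ⊤ := MonoidHom.range_eq_top.2 (QuotientGroup.mk'_surjective _)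
  set E := castSys hrange (factorSys F hR θ hker) with hEdef
  have hE : F.IsFactorSystem R θ E := by
    refine ⟨hR.1, hker, hrange, fun P' φ' => ?_⟩
    rw [hEdef, castSys_hom]
    exact ⟨fun h => ⟨le_top, h.2⟩, fun h => ⟨hrange.ge.trans' le_top, h.2⟩⟩
  have hK := h R hR hne E hE
  set K := E.core with hKdef
  set Z : Subgroup (S ⧸ R.subgroupOf S) := (Subgroup.center K).map K.subtype with hZ
  have hZn : E.IsNormal Z := IsNormal.center core_isNormal
  have hZne : Z ≠ ⊥ := by
    haveI : Nontrivial K := (Subgroup.nontrivial_iff_ne_bot K).2 hK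
    haveI := ((hS.to_quotient (R.subgroupOf S)).to_subgroup K).center_nontrivial
    intro hb
    rw [hZ, Subgroup.map_eq_bot_iff_of_injective _ K.subtype_injective] at hb
    exact (Subgroup.nontrivial_iff_ne_bot _).1 inferInstance hb
  refine ⟨preimageAlong θ Z, stronglyClosed_preimageAlong hS hF hR hE
    (IsNormal.stronglyClosed hZn), lt_of_le_of_ne (le_preimageAlong_of_ker hker hR.1)
    fun he => hZne ?_, ?_⟩
  · rw [← imageAlong_preimageAlong (θ := θ) (P' := Z) (hrange ▸ le_top), ← he, eq_bot_iff]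
    intro y hy
    obtain ⟨x, hx, hxR, rfl⟩ := mem_imageAlong.1 hy
    exact (hker ⟨x, hx⟩).2 hxR
  · refine (commutator_preimageAlong_le (C := ⊥) (commutator_le.2 ?_)).trans
      (preimageAlong_bot hR.1 hker).le
    rintro _ ⟨a, ha, rfl⟩ _ ⟨b, hb, rfl⟩
    rw [Subgroup.mem_bot, commutatorElement_eq_one_iff_commute]
    exact congrArg Subtype.val (Subgroup.mem_center_iff.1 hb a)

/-- A solvable system has a series of strongly closed subgroups with abelian quotients. -/
theorem seriesFrom_of_solvable (h : F.IsSolvableSystem) :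
    ∀ (k : ℕ) (R : Subgroup Ω), F.StronglyClosed R → Nat.card S ≤ Nat.card R + k →
      SeriesFrom F R := by
  intro k
  induction k with
  | zero =>
    intro R hR hk
    rw [eq_of_le_of_card_le hR.1 (by omega)]
    exact seriesFrom_self
  | succ k ih =>
    intro R hR hk
    by_cases hRS : R = S
    · subst hRS; exact seriesFrom_self
    obtain ⟨X, hX, hlt, hc⟩ := exists_step_of_solvable hS hF h hR hRS
    haveI := finite_of_le hX.1
    have hcard : Nat.card R < Nat.card X := by
      by_contra hge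
      exact hlt.ne (eq_of_le_of_card_le hlt.le (by omega))
    exact SeriesFrom.cons (ih X hX (by omega)) hR hlt.le hc

/-- A series of strongly closed subgroups with abelian quotients makes the system solvable. -/
theorem solvable_of_seriesFrom (h : SeriesFrom F ⊥) : F.IsSolvableSystem := by
  intro R hR hne _ E hE
  have hEs := isSaturated_factor hS hF hR hE
  have hEp : IsPGroup p (⊤ : Subgroup (S ⧸ R.subgroupOf S)) :=
    (hS.to_quotient _).to_subgroup ⊤
  obtain ⟨U, W, hU, hW, hc, hUR, hWR⟩ := SeriesFrom.exists_step h le_rfl R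
    (fun hle => hne (le_antisymm hR.1 hle))
  rw [inf_eq_right.2 hU.1] at hUR
  rw [inf_eq_right.2 hW.1] at hWR
  set θ := QuotientGroup.mk' (R.subgroupOf S)
  have hker := hE.2.1
  have hA := stronglyClosed_imageAlong hE hW
  have hab : ⁅imageAlong θ W, imageAlong θ W⁆ = ⊥ := by
    rw [eq_bot_iff]
    refine (commutator_imageAlong_le hW.1 hW.1 (hc.trans hUR)).trans ?_
    intro y hy
    obtain ⟨x, hx, hxR, rfl⟩ := mem_imageAlong.1 hy
    exact (hker ⟨x, hx⟩).2 hxR
  intro hcore
  have h1 := IsNormal.le_core (isNormal_of_commutator_eq_bot hEp hEs hA hab)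
  rw [hcore] at h1
  refine hWR fun x hx => (hker ⟨x, hW.1 hx⟩).1 ?_
  exact h1 (mem_imageAlong.2 ⟨x, hW.1 hx, hx, rfl⟩)

theorem solvable_iff_seriesFrom : F.IsSolvableSystem ↔ SeriesFrom F ⊥ :=
  ⟨fun h => seriesFrom_of_solvable hS hF h (Nat.card S) ⊥
      (IsNormal.stronglyClosed isNormal_bot) (Nat.le_add_left _ _),
    solvable_of_seriesFrom hS hF⟩

/-- Solvable systems are constrained. -/
theorem isConstrained_of_seriesFrom (h : SeriesFrom F ⊥) : F.IsConstrained p := by
  refine ⟨hF, F.core, core_isNormal, core_le F, fun Q hQ => ?_⟩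
  have hn : F.IsNormal F.core := core_isNormal
  have hsc := IsNormal.stronglyClosed hn
  obtain ⟨φ, hφ, rfl⟩ := hQ
  rw [(StronglyClosed.weaklyClosed hsc).2 φ hφ]
  set C := centralizerIn S F.core with hC
  by_contra hnot
  have hCsc : F.StronglyClosed C := by
    refine stronglyClosed_iff.2 ⟨inf_le_left, fun X f hX hf x hx => ⟨hf.mem hx, fun q hq => ?_⟩⟩
    obtain ⟨g, hg, hgx, hgQ⟩ := (isNormal_iff.1 hn).2 X f hf
    have hq' : q ∈ img F.core g := by rw [hgQ]; exact hq
    obtain ⟨q₀, hq₀, rfl⟩ := (hg.mono le_sup_right).mem_img.1 hq'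
    rw [← hgx x hx, ← hg.map_mul (mem_sup_right hq₀) (mem_sup_left hx),
      (hX hx).2 q₀ hq₀, hg.map_mul (mem_sup_left hx) (mem_sup_right hq₀)]
  obtain ⟨U, W, hU, hW, hc, hUR, hWR⟩ := SeriesFrom.exists_step h inf_le_left F.core hnot
  refine hWR (IsNormal.le_core (isNormal_of_class_two hS hF (stronglyClosed_inf hCsc hW)
    (stronglyClosed_inf (stronglyClosed_inf hCsc hW) hsc) inf_le_left ?_ ?_))
  · refine le_inf (Subgroup.commutator_le_self _) ?_
    refine le_trans (le_inf ?_ ?_) hUR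
    · exact (commutator_mono inf_le_left inf_le_left).trans (Subgroup.commutator_le_self C)
    · exact (commutator_mono inf_le_right inf_le_right).trans hc
  · rw [Subgroup.commutator_eq_bot_iff_le_centralizer]
    intro m hm x hx
    exact ((hx : x ∈ C ⊓ W).1.2 m hm.2).symm

end Solvable

end CfsgLib.Fusion
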