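import Cfsg.Agent.Lib.Fusion.Simple
import Cfsg.Agent.Lib.Fusion.Normal
import Cfsg.Agent.Lib.Transfer.Frobenius

/-!
Modulo a strongly closed subgroup `T`, every map is a map defined on `PT`.
-/

set_option autoImplicit false
set_option linter.style.haveILetI false
set_option linter.unusedVariables false
set_option linter.unusedSectionVars false

namespace CfsgLib.Fusion

open Cfsg Cfsg.FusionSystem Subgroup

variable {Ω : Type*} [Group Ω] {S : Subgroup Ω} {F : FusionSystem S} {P Q R T : Subgroup Ω} {p : ℕ}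
  {f : Ω → Ω}

/-- The maps agreeing modulo `T` with a map defined on `PT`. -/
noncomputable def modSys [Finite S] (F : FusionSystem S) (T : Subgroup Ω)
    (hT : F.StronglyClosed T) : FusionSystem S where
  Hom P := {φ | φ ∈ F.Hom P ∧ ∃ g, IsMap F (P ⊔ T) g ∧ ∀ x : P, (g x)⁻¹ * φ x ∈ T}
  le_of_mem h := F.le_of_mem h.1
  injective_of_mem h := F.injective_of_mem h.1
  conj_mem {P a} hP ha := ⟨F.conj_mem hP ha, _, isMap_conj F (sup_le hP hT.1) ha, fun x => by
    show (a * (x : Ω) * a⁻¹)⁻¹ * (a * (x : Ω) * a⁻¹) ∈ T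
    rw [inv_mul_cancel]
    exact T.one_mem⟩
  comp_mem {P Q φ ψ} hφ hψ h := by
    obtain ⟨hφ, g, hg, hgx⟩ := hφ
    obtain ⟨hψ, k, hk, hkx⟩ := hψ
    have hmem : ∀ x ∈ P ⊔ T, g x ∈ Q ⊔ T := fun x hx => by
      refine ((hg.img_sup le_sup_left le_sup_right).le.trans (sup_le ?_ ?_) :
        img (P ⊔ T) g ≤ Q ⊔ T) (hg.apply_mem_img hx)
      · intro y hy
        obtain ⟨z, hz, rfl⟩ := (hg.mono le_sup_left).mem_img.1 hy
        have := Subgroup.mul_mem _ (Subgroup.mem_sup_left (T := T) (h ⟨z, hz⟩))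
          (Subgroup.mem_sup_right (S := Q) (T.inv_mem (hgx ⟨z, hz⟩)))
        simpa using this
      · exact (StronglyClosed.img_eq hT hg le_sup_right).le.trans le_sup_right
    refine ⟨F.comp_mem hφ hψ h, _, hg.comp hk hmem, fun x => ?_⟩
    have hx : (x : Ω) ∈ P ⊔ T := Subgroup.mem_sup_left x.2
    have h1 := StronglyClosed.apply_mem hT hk (x := (g x)⁻¹ * φ x)
      (Subgroup.mul_mem _ (Subgroup.inv_mem _ (hmem _ hx)) (Subgroup.mem_sup_left (h x))) (hgx x)
    rw [hk.map_mul (Subgroup.inv_mem _ (hmem _ hx)) (Subgroup.mem_sup_left (h x)),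
      hk.map_inv (hmem _ hx)] at h1
    have h2 := T.mul_mem h1 (hkx ⟨φ x, h x⟩)
    show (k (g x))⁻¹ * ψ ⟨φ x, h x⟩ ∈ T
    simpa [mul_assoc] using h2
  inv_mem {P φ} hφ := by
    obtain ⟨hφ, g, hg, hgx⟩ := hφ
    obtain ⟨ψ, hψ, hψx⟩ := F.inv_mem hφ
    obtain ⟨k, hk, hkg, -, -⟩ := hg.exists_inv
    have hle : φ.range ⊔ T ≤ img (P ⊔ T) g := by
      refine sup_le ?_ ((StronglyClosed.img_eq hT hg le_sup_right).ge.trans (img_mono le_sup_right))
      rintro _ ⟨x, rfl⟩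
      have := Subgroup.mul_mem _ (hg.apply_mem_img (Subgroup.mem_sup_left x.2))
        (img_mono le_sup_right ((StronglyClosed.img_eq hT hg le_sup_right).ge (hgx x)))
      simpa using this
    refine ⟨ψ, ⟨hψ, k, hk.mono hle, ?_⟩, hψx⟩
    rintro ⟨_, x, rfl⟩
    rw [hψx x]
    show (k (φ x))⁻¹ * (x : Ω) ∈ T
    have hx : (x : Ω) ∈ P ⊔ T := Subgroup.mem_sup_left x.2
    have hφx : φ x ∈ img (P ⊔ T) g := hle (Subgroup.mem_sup_left ⟨x, rfl⟩)
    have h1 := StronglyClosed.apply_mem hT hk (x := (g x)⁻¹ * φ x)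
      (Subgroup.mul_mem _ (Subgroup.inv_mem _ (hg.apply_mem_img hx)) hφx) (hgx x)
    rw [hk.map_mul (Subgroup.inv_mem _ (hg.apply_mem_img hx)) hφx,
      hk.map_inv (hg.apply_mem_img hx), hkg _ hx] at h1
    simpa [mul_assoc] using T.inv_mem h1

section Saturated

variable [Fact p.Prime] [Finite S] (hS : IsPGroup p S) (hF : F.IsSaturated p)

include hS hF

/-- Every map agrees modulo a strongly closed `T` with a map defined on `PT`. -/
theorem exists_map_mod (hT : F.StronglyClosed T) (hf : IsMap F P f) :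
    ∃ g, IsMap F (P ⊔ T) g ∧ ∀ x ∈ P, (g x)⁻¹ * f x ∈ T := by
  suffices h : F ≤ modSys F T hT by
    obtain ⟨φ, ⟨-, g, hg, hgx⟩, hφ⟩ := le_iff_isMap.1 h P f hf
    exact ⟨g, hg, fun x hx => hφ ⟨x, hx⟩ ▸ hgx ⟨x, hx⟩⟩
  refine alperin_inductive hS hF fun R hR hlarge => ?_
  haveI := finite_of_le hR.1
  have hmk : ∀ (α : MulAut R) (g : Ω → Ω), α ∈ F.autGroup R → IsMap F (R ⊔ T) g →
      (∀ x : R, (g x)⁻¹ * ((α x : R) : Ω) ∈ T) → α ∈ (modSys F T hT).autGroup R :=
    fun α g hα hg hgx => (autGroup_mem_iff hR.1).2 ⟨(autGroup_mem_iff hR.1).1 hα, g, hg, hgx⟩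
  rcases Classical.em (T ≤ R) with hTR | hTR
  · intro α hα
    refine hmk α _ hα ((isMap_of_autGroup hR.1 hα).mono (sup_le le_rfl hTR)) fun x => ?_
    rw [toFun_aut_apply α x.2]
    simp
  intro α hα
  have hinv : ∀ β ∈ F.autGroup R, ∀ y : R, (y : Ω) ∈ T → ((β y : R) : Ω) ∈ T := fun β hβ y hy => by
    have := StronglyClosed.apply_mem hT (isMap_of_autGroup hR.1 hβ) y.2 hy
    rwa [toFun_aut_apply _ y.2] at this
  let K : Subgroup (F.autGroup R) :=
    { carrier := {β | ∀ y : R, (y : Ω)⁻¹ * (((β : MulAut R) y : R) : Ω) ∈ T}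
      one_mem' := fun y => by simp
      mul_mem' := fun {β γ} hb hc y => by
        have h1 := T.mul_mem (hc y) (hb ((γ : MulAut R) y))
        simpa [MulAut.mul_apply, mul_assoc] using h1
      inv_mem' := fun {β} hb y => by
        have h1 := T.inv_mem (hb ((β : MulAut R)⁻¹ y))
        rw [MulAut.apply_inv_self] at h1
        simpa using h1 }
  haveI : K.Normal := ⟨fun β hβ γ y => by
    have h1 := hinv γ γ.2 (((γ : MulAut R)⁻¹ y)⁻¹ * (β : MulAut R) ((γ : MulAut R)⁻¹ y))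
      (hβ ((γ : MulAut R)⁻¹ y))
    rw [map_mul, map_inv, MulAut.apply_inv_self] at h1
    exact h1⟩
  have hKmem : ∀ β ∈ K, (β : MulAut R) ∈ (modSys F T hT).autGroup R := fun β hβ => by
    refine hmk _ id β.2 (isMap_id F (sup_le hR.1 hT.1)) fun x => ?_
    exact hβ x
  obtain ⟨W, hW⟩ := (fullyAutomized_of_fullyNormalized hS hF hR).2
  obtain ⟨V, hV⟩ := CfsgLib.Transfer.exists_sylow_eq_subgroupOf W K
  have hsup := V.normalizer_sup_eq_top
  rw [hV, Subgroup.subgroupOf_map_subtype] at hsup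
  obtain ⟨β, hβ, k, hk, hβk⟩ := (Subgroup.mem_sup_of_normal_right (t := K)).1
    (hsup ▸ Subgroup.mem_top (⟨α, hα⟩ : F.autGroup R))
  have e : α = (β : MulAut R) * (k : MulAut R) := congrArg Subtype.val hβk.symm
  rw [e]
  refine Subgroup.mul_mem _ ?_ (hKmem k hk)
  -- `β` extends
  set R' := R ⊔ (T ⊓ normalizerIn S R) with hR'
  have hR'N : R' ≤ normalizerIn S R := sup_le (le_normalizerIn hR.1) inf_le_right
  have hext : R' ≤ extender S R (isMap_of_autGroup hR.1 β.2).toHom := by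
    refine sup_le (fun a ha => ?_) fun a ha => ?_
    · exact sup_centralizerIn_le_extender (isMap_of_autGroup hR.1 β.2)
        (fun _ => rfl) (Subgroup.mem_sup_left ha)
    · refine (mem_extender_iff (isMap_of_autGroup hR.1 β.2) fun _ => rfl).2 ⟨ha.2.1, ha.2.2, ?_⟩
      have hc : R.normalizerMonoidHom ⟨a, ha.2.2⟩ ∈ autInducedBy S R :=
        mem_autInducedBy_iff.2 ⟨a, ha.2.1, fun x => rfl⟩
      set c : F.autGroup R := ⟨_, autInducedBy_le_autGroup hR.1 hc⟩
      have hcK : c ∈ K := fun y => by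
        show (y : Ω)⁻¹ * (a * (y : Ω) * a⁻¹) ∈ T
        have h1 := T.mul_mem (StronglyClosed.conj_mem hT (S.inv_mem (hR.1 y.2)) ha.1)
          (T.inv_mem ha.1)
        simpa [mul_assoc] using h1
      have hcW : c ∈ (W : Subgroup (F.autGroup R)) := hW ▸ hc
      have h1 := ((Subgroup.mem_normalizer_iff.1 hβ c).1 ⟨hcW, hcK⟩).1
      rw [SetLike.mem_coe, hW] at h1
      obtain ⟨b, hb, hbx⟩ := mem_autInducedBy_iff.1 h1
      refine ⟨b, hb, fun x hx => ?_⟩
      have h2 := hbx ((β : MulAut R) ⟨x, hx⟩)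
      rw [toFun_aut_apply _ hx, toFun_aut_apply _ ((ha.2.2 x).1 hx), ← h2]
      simp [c, MulAut.mul_apply]
      rfl
  obtain ⟨g, hg, hgx⟩ := receptive_extend (receptive_of_fullyNormalized hS hF hR)
    (isMap_of_autGroup hR.1 β.2) (img_toFun_aut _) (le_sup_left : R ≤ R') fun a ha =>
    (mem_extender_iff (isMap_of_autGroup hR.1 β.2) fun _ => rfl).1 (hext ha)
  have hlt : Nat.card R < Nat.card R' := by
    haveI := finite_normalizerIn (S := S) (P := R)
    haveI : Finite R' := Finite.of_injective _ (Subgroup.inclusion_injective hR'N)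
    refine lt_of_not_ge fun h => hTR ?_
    have he : R = R' := eq_of_le_of_card_le le_sup_left h
    by_contra hTR'
    have hle : R ⊔ T ≤ S := sup_le hR.1 hT.1
    haveI := finite_of_le hle
    obtain ⟨a, ha, haR⟩ := SetLike.exists_of_lt
      (lt_normalizerIn (hS.to_le hle) (left_lt_sup.2 hTR'))
    have h1 : a ∈ ((R ⊔ T : Subgroup Ω) : Set Ω) := ha.1
    rw [Subgroup.coe_mul_of_left_le_normalizer_right R T
      (fun x hx => StronglyClosed.le_normalizer hT (hR.1 hx))] at h1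
    obtain ⟨x, hx, y, hy, rfl⟩ := Set.mem_mul.1 h1
    have hyn : y ∈ Subgroup.normalizer (R : Set Ω) := by
      have h2 := Subgroup.mul_mem _ (Subgroup.inv_mem _ (Subgroup.le_normalizer hx :
        x ∈ Subgroup.normalizer (R : Set Ω))) ha.2
      rwa [inv_mul_cancel_left] at h2
    refine haR (R.mul_mem hx (he ▸ Subgroup.mem_sup_right ?_))
    exact ⟨hy, hT.1 hy, hyn⟩
  obtain ⟨φ, ⟨-, k', hk', hk'x⟩, hφ⟩ := hlarge _ g hg hlt
  refine hmk _ k' β.2 (hk'.mono (sup_le_sup_right le_sup_left T)) fun x => ?_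
  have h1 := hk'x ⟨x, Subgroup.mem_sup_left x.2⟩
  rw [hφ] at h1
  show (k' x)⁻¹ * _ ∈ T
  rwa [hgx _ x.2, toFun_aut_apply _ x.2] at h1

/-- The product of two strongly closed subgroups is strongly closed. -/
theorem StronglyClosed.sup {T₁ T₂ : Subgroup Ω} (h₁ : F.StronglyClosed T₁)
    (h₂ : F.StronglyClosed T₂) : F.StronglyClosed (T₁ ⊔ T₂) := by
  refine stronglyClosed_iff.2 ⟨sup_le h₁.1 h₂.1, fun X f hX hf x hx => ?_⟩
  obtain ⟨g, hg, hgx⟩ := exists_map_mod hS hF h₁ hf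
  have h := hX hx
  rw [← SetLike.mem_coe, Subgroup.coe_mul_of_right_le_normalizer_left T₁ T₂
    (h₂.1.trans (StronglyClosed.le_normalizer h₁))] at h
  obtain ⟨u, hu, v, hv, huv⟩ := Set.mem_mul.1 h
  have hxu : x ∈ X ⊔ T₁ := Subgroup.mem_sup_left hx
  have hu' : u ∈ X ⊔ T₁ := Subgroup.mem_sup_right hu
  have hv' : v ∈ X ⊔ T₁ := by
    have := Subgroup.mul_mem _ (Subgroup.inv_mem _ hu') hxu
    rwa [← huv, inv_mul_cancel_left] at this
  have e : f x = g u * g v * ((g x)⁻¹ * f x) := by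
    rw [← hg.map_mul hu' hv', huv, mul_inv_cancel_left]
  rw [e]
  exact Subgroup.mul_mem _ (Subgroup.mul_mem _
    (Subgroup.mem_sup_left (StronglyClosed.apply_mem h₁ hg hu' hu))
    (Subgroup.mem_sup_right (StronglyClosed.apply_mem h₂ hg hv' hv)))
    (Subgroup.mem_sup_left (hgx x hx))

end Saturated

end CfsgLib.Fusion
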