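import Cfsg.Agent.Lib.Fusion.Simple
import Cfsg.Agent.Lib.Fusion.GroupSystem
import Cfsg.Agent.Lib.Transfer.Basic

/-!
Hyperfocal and focal subgroups: every map is conjugation modulo the hyperfocal subgroup; strong
closure; criteria for a system to be inner.
-/

set_option autoImplicit false
set_option linter.style.haveILetI false
set_option linter.unusedVariables false
set_option linter.unusedSectionVars false

namespace CfsgLib.Fusion

open Cfsg Cfsg.FusionSystem Subgroup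
open scoped commutatorElement

variable {Ω : Type*} [Group Ω] {S : Subgroup Ω} {F E : FusionSystem S}
  {P Q R N : Subgroup Ω} {f g : Ω → Ω} {p : ℕ}

/-! ### Generators -/

theorem sub_mem_hyperfocal (hP : P ≤ S) {α : MulAut P} (hα : α ∈ F.autGroup P)
    (hr : (⟨α, hα⟩ : F.autGroup P) ∈ pResidual p (F.autGroup P)) (x : P) :
    (x : Ω)⁻¹ * ((α x : P) : Ω) ∈ F.hyperfocalSubgroup p :=
  Subgroup.subset_closure ⟨P, ⟨α, hα⟩, x, hP, hr, rfl⟩

theorem sub_mem_hyperfocal_of_coprime (hP : P ≤ S) {α : MulAut P} (hα : α ∈ F.autGroup P)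
    (hc : (orderOf α).Coprime p) (x : P) :
    (x : Ω)⁻¹ * ((α x : P) : Ω) ∈ F.hyperfocalSubgroup p :=
  sub_mem_hyperfocal hP hα
    (CfsgLib.Transfer.mem_pResidual_of_coprime (by rwa [Subgroup.orderOf_mk])) x

theorem hyperfocal_le_of (N : Subgroup Ω)
    (h : ∀ P : Subgroup Ω, P ≤ S → ∀ α ∈ F.autGroup P, (orderOf α).Coprime p →
      ∀ x : P, (x : Ω)⁻¹ * ((α x : P) : Ω) ∈ N) :
    F.hyperfocalSubgroup p ≤ N := by
  refine (Subgroup.closure_le _).2 ?_
  rintro _ ⟨P, α, x, hP, hα, rfl⟩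
  revert x
  rw [pResidual] at hα
  induction hα using Subgroup.closure_induction with
  | mem β hβ =>
    intro x
    exact h P hP β β.2 (by rw [Subgroup.orderOf_coe]; exact hβ) x
  | one =>
    intro x
    simp
  | mul β γ _ _ hb hc =>
    intro x
    have h2 := N.mul_mem (hc x) (hb ((γ : MulAut P) x))
    simpa [MulAut.mul_apply, mul_assoc] using h2
  | inv β _ hb =>
    intro x
    have h2 := N.inv_mem (hb ((β : MulAut P)⁻¹ x))
    rw [MulAut.apply_inv_self] at h2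
    simpa using h2

theorem hyperfocal_le (F : FusionSystem S) (p : ℕ) : F.hyperfocalSubgroup p ≤ S :=
  hyperfocal_le_of S fun P hP α _ _ x => S.mul_mem (S.inv_mem (hP x.2)) (hP (α x).2)

theorem hyperfocal_le_focal (F : FusionSystem S) (p : ℕ) :
    F.hyperfocalSubgroup p ≤ F.focalSubgroup :=
  hyperfocal_le_of _ fun P hP α hα _ x =>
    Subgroup.subset_closure ⟨P, P.subtype.comp α.toMonoidHom, x, (autGroup_mem_iff hP).1 hα, rfl⟩

theorem conj_mem_hyperfocal {a y : Ω} (ha : a ∈ S) (hy : y ∈ F.hyperfocalSubgroup p) :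
    a * y * a⁻¹ ∈ F.hyperfocalSubgroup p := by
  suffices h : F.hyperfocalSubgroup p ≤
      (F.hyperfocalSubgroup p).comap (MulAut.conj a).toMonoidHom from h hy
  refine hyperfocal_le_of _ fun P hP α hα hc x => ?_
  have hm := isMap_conj F hP ha
  have h1 := sub_mem_hyperfocal_of_coprime hm.img_le (hm.congr_mem_autGroup hα)
    (by rwa [MulEquiv.orderOf_eq]) (hm.equivImg x)
  rw [IsMap.coe_equivImg] at h1
  have e : ((MulAut.congr hm.equivImg α (hm.equivImg x) : img P _) : Ω) =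
      a * ((α x : P) : Ω) * a⁻¹ := by
    show ((hm.equivImg (α (hm.equivImg.symm (hm.equivImg x))) : img P _) : Ω) = _
    rw [MulEquiv.symm_apply_apply, IsMap.coe_equivImg]
  rw [e] at h1
  show a * ((x : Ω)⁻¹ * ((α x : P) : Ω)) * a⁻¹ ∈ F.hyperfocalSubgroup p
  simpa [mul_assoc] using h1

theorem hyperfocal_subgroupOf_normal (F : FusionSystem S) (p : ℕ) :
    ((F.hyperfocalSubgroup p).subgroupOf S).Normal :=
  ⟨fun x hx a => conj_mem_hyperfocal a.2 hx⟩

theorem le_normalizer_hyperfocal (F : FusionSystem S) (p : ℕ) :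
    S ≤ Subgroup.normalizer (F.hyperfocalSubgroup p : Set Ω) := fun a ha n =>
  ⟨fun hn => conj_mem_hyperfocal ha hn, fun hn => by
    simpa [mul_assoc] using conj_mem_hyperfocal (S.inv_mem ha) hn⟩

/-! ### The maps that are conjugations modulo a subgroup -/

/-- The maps of `F` that agree with conjugation by an element of `S` modulo `N`. -/
noncomputable def conjModSys (F : FusionSystem S) (N : Subgroup Ω)
    (hN : ∀ a ∈ S, ∀ y ∈ N, a * y * a⁻¹ ∈ N) : FusionSystem S where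
  Hom P := {φ | φ ∈ F.Hom P ∧ ∃ a ∈ S, ∀ x : P, (a * (x : Ω) * a⁻¹)⁻¹ * φ x ∈ N}
  le_of_mem h := F.le_of_mem h.1
  injective_of_mem h := F.injective_of_mem h.1
  conj_mem {P g} hP hg := ⟨F.conj_mem hP hg, g, hg, fun x => by
    show (g * (x : Ω) * g⁻¹)⁻¹ * (g * (x : Ω) * g⁻¹) ∈ N
    rw [inv_mul_cancel]
    exact N.one_mem⟩
  comp_mem {P Q φ ψ} hφ hψ h := by
    obtain ⟨hφ, a, ha, hax⟩ := hφ
    obtain ⟨hψ, b, hb, hbx⟩ := hψ
    refine ⟨F.comp_mem hφ hψ h, b * a, S.mul_mem hb ha, fun x => ?_⟩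
    have h1 := hbx ⟨φ x, h x⟩
    have h2 := hN b hb _ (hax x)
    have h3 := N.mul_mem h2 h1
    show (b * a * (x : Ω) * (b * a)⁻¹)⁻¹ * ψ ⟨φ x, h x⟩ ∈ N
    simpa [mul_assoc] using h3
  inv_mem {P φ} hφ := by
    obtain ⟨hφ, a, ha, hax⟩ := hφ
    obtain ⟨ψ, hψ, hψx⟩ := F.inv_mem hφ
    refine ⟨ψ, ⟨hψ, a⁻¹, S.inv_mem ha, ?_⟩, hψx⟩
    rintro ⟨_, x, rfl⟩
    rw [hψx x]
    have h1 := hN a⁻¹ (S.inv_mem ha) _ (N.inv_mem (hax x))
    simpa [mul_assoc] using h1

theorem isMap_conjModSys_iff (hN : ∀ a ∈ S, ∀ y ∈ N, a * y * a⁻¹ ∈ N) :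
    IsMap (conjModSys F N hN) P f ↔
      IsMap F P f ∧ ∃ a ∈ S, ∀ x ∈ P, (a * x * a⁻¹)⁻¹ * f x ∈ N := by
  constructor
  · rintro ⟨φ, ⟨hφ, a, ha, hax⟩, hf⟩
    exact ⟨⟨φ, hφ, hf⟩, a, ha, fun x hx => hf ⟨x, hx⟩ ▸ hax ⟨x, hx⟩⟩
  · rintro ⟨hf, a, ha, hax⟩
    exact ⟨hf.toHom, ⟨hf.toHom_mem, a, ha, fun x => hax x x.2⟩, fun x => rfl⟩

theorem isPGroup_of_coprime_trivial [Fact p.Prime] {G : Type*} [Group G] [Finite G]
    (h : ∀ g : G, (orderOf g).Coprime p → g = 1) : IsPGroup p G := fun g => by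
  refine ⟨(orderOf g).factorization p, h _ ?_⟩
  have hp : p.Prime := Fact.out
  rw [Nat.coprime_comm, hp.coprime_iff_not_dvd, orderOf_pow,
    Nat.gcd_eq_right (Nat.ordProj_dvd (orderOf g) p)]
  exact Nat.not_dvd_ordCompl hp (orderOf_pos g).ne'

section Saturated

variable [Fact p.Prime] [Finite S] (hS : IsPGroup p S) (hF : F.IsSaturated p)

include hS hF

/-- An automorphism of a fully normalized subgroup is conjugation modulo the hyperfocal
subgroup. -/
theorem exists_conj_mod_hyperfocal_aut (hR : F.IsFullyNormalized R) {α : MulAut R}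
    (hα : α ∈ F.autGroup R) :
    ∃ a ∈ normalizerIn S R, ∀ x : R,
      (a * (x : Ω) * a⁻¹)⁻¹ * ((α x : R) : Ω) ∈ F.hyperfocalSubgroup p := by
  haveI := finite_of_le hR.1
  obtain ⟨T, hT⟩ := (fullyAutomized_of_fullyNormalized hS hF hR).2
  haveI := CfsgLib.Transfer.pResidual_normal (G := F.autGroup R) (p := p)
  obtain ⟨β, hβ, t, ht, hβt⟩ := (Subgroup.mem_sup_of_normal_left).1
    ((CfsgLib.Transfer.pResidual_sup_sylow T).symm ▸ Subgroup.mem_top (⟨α, hα⟩ : F.autGroup R))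
  rw [hT, Subgroup.mem_subgroupOf, mem_autInducedBy_iff] at ht
  obtain ⟨a, ha, hax⟩ := ht
  refine ⟨a, ⟨ha, mem_normalizer_of_aut hax⟩, fun x => ?_⟩
  have h1 := sub_mem_hyperfocal hR.1 β.2 hβ ((t : MulAut R) x)
  have e : α x = (β : MulAut R) ((t : MulAut R) x) := by
    rw [← MulAut.mul_apply, ← Subgroup.coe_mul, hβt]
  rw [hax x] at h1
  rwa [e]

/-- Every map is conjugation by an element of `S` modulo the hyperfocal subgroup. -/
theorem exists_conj_mod_hyperfocal (hf : IsMap F P f) :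
    ∃ a ∈ S, ∀ x ∈ P, (a * x * a⁻¹)⁻¹ * f x ∈ F.hyperfocalSubgroup p := by
  have hN : ∀ a ∈ S, ∀ y ∈ F.hyperfocalSubgroup p, a * y * a⁻¹ ∈ F.hyperfocalSubgroup p :=
    fun a ha y hy => conj_mem_hyperfocal ha hy
  suffices h : F ≤ conjModSys F (F.hyperfocalSubgroup p) hN from
    ((isMap_conjModSys_iff hN).1 (le_iff_isMap.1 h P f hf)).2
  refine alperin_inductive hS hF fun R hR _ α hα => ?_
  obtain ⟨a, ha, hax⟩ := exists_conj_mod_hyperfocal_aut hS hF hR hα
  refine (autGroup_iff_isMap hR.1 fun x => (toFun_aut_apply α x.2).symm).2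
    ((isMap_conjModSys_iff hN).2 ⟨isMap_of_autGroup hR.1 hα, a, ha.1, fun x hx => ?_⟩)
  rw [toFun_aut_apply _ hx]
  exact hax ⟨x, hx⟩

theorem focal_eq_hyperfocal_sup :
    F.focalSubgroup = F.hyperfocalSubgroup p ⊔ ⁅(S : Subgroup Ω), (S : Subgroup Ω)⁆ := by
  refine le_antisymm ((Subgroup.closure_le _).2 ?_) (sup_le (hyperfocal_le_focal F p) ?_)
  · rintro _ ⟨P, φ, x, hφ, rfl⟩
    have hf := isMap_of_hom hφ
    obtain ⟨a, ha, hax⟩ := exists_conj_mod_hyperfocal hS hF hf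
    have h1 := hax x x.2
    rw [toFun_apply] at h1
    have h2 : ⁅(x : Ω)⁻¹, a⁆ ∈ ⁅(S : Subgroup Ω), (S : Subgroup Ω)⁆ :=
      Subgroup.commutator_mem_commutator (S.inv_mem (hf.le x.2)) ha
    have h3 := Subgroup.mul_mem_sup h2 h1
    rw [sup_comm]
    simpa [commutatorElement_def, mul_assoc] using h3
  · rw [Subgroup.commutator_le]
    intro a ha b hb
    refine Subgroup.subset_closure ⟨S, conjHom S b, ⟨a⁻¹, S.inv_mem ha⟩, F.conj_mem le_rfl hb, ?_⟩
    show ⁅a, b⁆ = (a⁻¹)⁻¹ * (b * a⁻¹ * b⁻¹)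
    simp [commutatorElement_def, mul_assoc]

/-- A subgroup normalized by `S` containing the hyperfocal subgroup is strongly closed. -/
theorem stronglyClosed_of_hyperfocal_le (hNS : N ≤ S) (hle : F.hyperfocalSubgroup p ≤ N)
    (hN : ∀ a ∈ S, ∀ y ∈ N, a * y * a⁻¹ ∈ N) : F.StronglyClosed N := by
  refine stronglyClosed_iff.2 ⟨hNS, fun R f hR hf x hx => ?_⟩
  obtain ⟨a, ha, hax⟩ := exists_conj_mod_hyperfocal hS hF hf
  have h1 := N.mul_mem (hN a ha x (hR hx)) (hle (hax x hx))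
  rwa [mul_inv_cancel_left] at h1

/-- A system whose fully normalized subgroups have no `p'`-automorphisms is inner. -/
theorem eq_inner_of_coprime_trivial
    (h : ∀ R, F.IsFullyNormalized R → ∀ α ∈ F.autGroup R, (orderOf α).Coprime p → α = 1)
    (P : Subgroup Ω) : F.Hom P = (innerFusionSystem S).Hom P := by
  refine hom_eq_of_le_le (le_iff_isMap.2 fun P f hf => ?_) ?_ P |>.symm
  · obtain ⟨hP, -, g, hg, hgx⟩ := ((isSystemOf_inner S).2 P f).1 hf
    exact (isMap_conj F hP hg).congr fun x hx => (hgx x hx).symm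
  · refine alperin_inductive hS hF fun R hR _ α hα => ?_
    haveI := finite_of_le hR.1
    obtain ⟨T, hT⟩ := (fullyAutomized_of_fullyNormalized hS hF hR).2
    have hp : IsPGroup p (F.autGroup R) := isPGroup_of_coprime_trivial fun β hβ =>
      Subtype.ext (h R hR β β.2 (by rwa [Subgroup.orderOf_coe]))
    have htop : (T : Subgroup (F.autGroup R)) = ⊤ :=
      (T.is_maximal' (hp.to_subgroup ⊤) le_top).symm
    have h1 : (⟨α, hα⟩ : F.autGroup R) ∈ (autInducedBy S R).subgroupOf (F.autGroup R) := by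
      rw [← hT, htop]
      exact Subgroup.mem_top _
    exact autInducedBy_le_autGroup hR.1 h1

theorem eq_inner_of_hyperfocal_eq_bot (h : F.hyperfocalSubgroup p = ⊥) (P : Subgroup Ω) :
    F.Hom P = (innerFusionSystem S).Hom P :=
  eq_inner_of_coprime_trivial hS hF (fun R hR α hα hc => MulEquiv.ext fun x => Subtype.ext (by
    have h1 := sub_mem_hyperfocal_of_coprime hR.1 hα hc x
    rw [h, Subgroup.mem_bot, inv_mul_eq_one] at h1
    exact h1.symm)) P

end Saturated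

/-! ### Coprime automorphisms -/

/-- An automorphism of order prime to the order of the elements, fixing every `x⁻¹ α x`, is
trivial. -/
theorem eq_one_of_fixes_sub {P : Type*} [Group P] (hP : IsPGroup p P) [Fact p.Prime]
    {α : MulAut P} (hc : (orderOf α).Coprime p) (h : ∀ x, α (x⁻¹ * α x) = x⁻¹ * α x) : α = 1 := by
  refine MulEquiv.ext fun x => ?_
  have hj : ∀ j : ℕ, (α ^ j) x = x * (x⁻¹ * α x) ^ j := by
    intro j
    induction j with
    | zero => simp
    | succ j ih =>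
      rw [pow_succ', MulAut.mul_apply, ih, map_mul, map_pow, h, pow_succ', ← mul_assoc,
        mul_inv_cancel_left]
  have h1 := hj (orderOf α)
  rw [pow_orderOf_eq_one, MulAut.one_apply, left_eq_mul] at h1
  obtain ⟨k, hk⟩ := hP (x⁻¹ * α x)
  have h2 : orderOf (x⁻¹ * α x) = 1 := Nat.eq_one_of_dvd_coprimes (hc.pow_right k)
    (orderOf_dvd_of_pow_eq_one h1) (orderOf_dvd_of_pow_eq_one hk)
  rw [orderOf_eq_one_iff, inv_mul_eq_one] at h2
  exact h2.symm

end CfsgLib.Fusion
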