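import Cfsg.Agent.Lib.Fusion.StronglyClosedMod
import Cfsg.Agent.Lib.Fusion.FactorSystem
import Cfsg.Agent.Lib.Fusion.HyperFocal

/-!
The hyperfocal subgroup of a factor system.
-/

set_option autoImplicit false
set_option linter.unusedVariables false
set_option linter.unusedSectionVars false
set_option linter.style.haveILetI false

namespace CfsgLib.Fusion

open Cfsg Cfsg.FusionSystem Subgroup

variable {Ω Ω' : Type*} [Group Ω] [Group Ω'] {S T : Subgroup Ω} {S' : Subgroup Ω'}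
  {F : FusionSystem S} {E : FusionSystem S'} {θ : S →* Ω'} {p : ℕ}

/-- A power of `β` of order prime to `p`, with exponent congruent to `1` modulo `m`. -/
theorem exists_pow_coprime {G : Type*} [Monoid G] [hp : Fact p.Prime] {β : G} (hβ : IsOfFinOrder β)
    {m : ℕ} (hm : m.Coprime p) :
    ∃ e : ℕ, e % m = 1 % m ∧ (orderOf (β ^ e)).Coprime p := by
  obtain ⟨j, r, hr, hjr⟩ := Nat.exists_eq_pow_mul_and_not_dvd hβ.orderOf_pos.ne' p hp.out.ne_one
  have hco : Nat.Coprime m (p ^ j) := hm.pow_right j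
  obtain ⟨e, he1, he0⟩ := Nat.chineseRemainder hco 1 0
  refine ⟨e, he1, Nat.Coprime.coprime_dvd_left ?_ ((hp.out.coprime_iff_not_dvd).2 hr).symm⟩
  obtain ⟨c, hc⟩ := Nat.modEq_zero_iff_dvd.1 he0
  refine orderOf_dvd_of_pow_eq_one ?_
  rw [← pow_mul, hc, show p ^ j * c * r = orderOf β * c by rw [hjr]; ring, pow_mul,
    pow_orderOf_eq_one, one_pow]

variable [Fact p.Prime] [Finite S] (hS : IsPGroup p S) (hF : F.IsSaturated p)
  (hT : F.StronglyClosed T) (hE : F.IsFactorSystem T θ E)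

include hS hF hT hE

theorem map_hyperfocal_le :
    ((F.hyperfocalSubgroup p).subgroupOf S).map θ ≤ E.hyperfocalSubgroup p := by
  obtain ⟨hT0, hker, hθ, hmem⟩ := hE
  suffices h : F.hyperfocalSubgroup p ≤ preimageAlong θ (E.hyperfocalSubgroup p) by
    rintro _ ⟨s, hs, rfl⟩
    obtain ⟨_, h1⟩ := mem_preimageAlong.1 (h hs)
    exact h1
  refine hyperfocal_le_of _ fun P hP α hα hc x => ?_
  have hm := isMap_of_autGroup hP hα
  obtain ⟨g, hg, hgx⟩ := exists_map_mod hS hF hT hm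
  haveI := finite_of_le hg.le
  haveI := finite_of_le hP
  have hgi : img (P ⊔ T) g = P ⊔ T := by
    refine eq_of_le_of_card_le (hg.img_sup_le le_sup_left le_sup_right ?_ ?_) hg.card_img.ge
    · intro y hy
      obtain ⟨z, hz, rfl⟩ := (hg.mono le_sup_left).mem_img.1 hy
      have h1 := mul_mem_sup (α ⟨z, hz⟩).2 (T.inv_mem (hgx z hz))
      rw [toFun_aut_apply α hz] at h1
      simpa using h1
    · exact (StronglyClosed.img_eq hT hg le_sup_right).le.trans le_sup_right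
  set β := hg.toAut hgi with hβdef
  have hβ : β ∈ F.autGroup (P ⊔ T) := hg.toAut_mem hgi
  have hβT : ∀ n : ℕ, ∀ y : ↥(P ⊔ T), (y : Ω) ∈ T → (((β ^ n) y : ↥(P ⊔ T)) : Ω) ∈ T := by
    intro n y hy
    have := StronglyClosed.apply_mem hT (isMap_of_autGroup hg.le (pow_mem hβ n)) y.2 hy
    rwa [toFun_aut_apply _ y.2] at this
  have hpow : ∀ (n : ℕ) (z : P), (((β ^ n) ⟨z, mem_sup_left z.2⟩ : ↥(P ⊔ T)) : Ω)⁻¹ *
      (((α ^ n) z : P) : Ω) ∈ T := by
    intro n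
    induction n with
    | zero => intro z; simp
    | succ n ih =>
      intro z
      have h1 := hgx (((α ^ n) z : P) : Ω) ((α ^ n) z).2
      rw [toFun_aut_apply α ((α ^ n) z).2] at h1
      have h2 : ((β (((β ^ n) ⟨z, mem_sup_left z.2⟩)⁻¹ * ⟨_, mem_sup_left ((α ^ n) z).2⟩) :
          ↥(P ⊔ T)) : Ω) ∈ T := by
        have := hβT 1 (((β ^ n) ⟨z, mem_sup_left z.2⟩)⁻¹ * ⟨_, mem_sup_left ((α ^ n) z).2⟩) (ih z)
        simpa using this
      rw [map_mul, map_inv, Subgroup.coe_mul, Subgroup.coe_inv] at h2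
      have h3 := T.mul_mem h2 h1
      rw [pow_succ', MulAut.mul_apply, pow_succ', MulAut.mul_apply]
      have e : ((β ⟨_, mem_sup_left ((α ^ n) z).2⟩ : ↥(P ⊔ T)) : Ω) = g ((α ^ n) z : P) :=
        hg.toAut_apply hgi _
      rw [e] at h3
      simpa [mul_assoc] using h3
  obtain ⟨e, he1, hec⟩ := exists_pow_coprime (p := p) (isOfFinOrder_of_finite β) hc
  have hαe : α ^ e = α := by
    rw [← pow_mod_orderOf, he1, pow_mod_orderOf, pow_one]
  have hγ : β ^ e ∈ F.autGroup (P ⊔ T) := pow_mem hβ e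
  set Q' := imageAlong θ (P ⊔ T) with hQ'
  have hpre : preimageAlong θ Q' = P ⊔ T := by
    ext y
    rw [mem_preimageAlong]
    constructor
    · rintro ⟨hy, h⟩
      obtain ⟨z, hz, hzPT, he⟩ := mem_imageAlong.1 h
      have h1 : θ (⟨z, hz⟩⁻¹ * ⟨y, hy⟩) = 1 := by rw [map_mul, map_inv, he, inv_mul_cancel]
      have h2 : z⁻¹ * y ∈ T := (hker _).1 h1
      simpa using (P ⊔ T).mul_mem hzPT (mem_sup_right h2)
    · exact fun hy => ⟨hg.le hy, mem_imageAlong.2 ⟨y, hg.le hy, hy, rfl⟩⟩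
  have hQ'S : Q' ≤ S' := hθ ▸ fun y hy => by
    obtain ⟨z, hz, -, rfl⟩ := mem_imageAlong.1 hy
    exact ⟨_, rfl⟩
  -- the induced map
  set k := toFun ((P ⊔ T).subtype.comp (β ^ e).toMonoidHom) with hk
  have hkm : IsMap F (P ⊔ T) k := isMap_of_autGroup hg.le hγ
  obtain ⟨ψ', hψ'⟩ := exists_inducedAlong (θ := θ) hg.le hkm fun z hz h1 =>
    (hker ⟨k z, hkm.mem hz⟩).2 (StronglyClosed.apply_mem hT hkm hz ((hker ⟨z, hg.le hz⟩).1 h1))
  have hψE : IsMap E Q' (toFun ψ') := by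
    refine (isMap_induced_iff hmem hθ).2 ⟨hQ'S, k, hpre ▸ hkm, fun z hz => ?_⟩
    rw [toFun_of_mem ψ' (mem_preimageAlong.1 hz).2]
    exact hψ' z (hpre ▸ hz)
  haveI : Finite θ.range := Finite.of_surjective θ.rangeRestrict θ.rangeRestrict_surjective
  haveI : Finite Q' := finite_of_le (hQ'S.trans hθ.ge)
  have hψi : img Q' (toFun ψ') = Q' := by
    refine eq_of_le_of_card_le (fun y hy => ?_) hψE.card_img.ge
    obtain ⟨w, hw, rfl⟩ := hψE.mem_img.1 hy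
    obtain ⟨z, hz, hzPT, rfl⟩ := mem_imageAlong.1 hw
    rw [toFun_of_mem ψ' hw, hψ' z hzPT]
    refine mem_imageAlong.2 ⟨k z, hkm.mem hzPT, ?_, rfl⟩
    rw [hk, toFun_aut_apply _ hzPT]
    exact ((β ^ e) _).2
  set δ := hψE.toAut hψi with hδ
  have hδpow : ∀ (n : ℕ) (z : ↥(P ⊔ T)),
      (((δ ^ n) ⟨θ ⟨z, hg.le z.2⟩, mem_imageAlong.2 ⟨z, hg.le z.2, z.2, rfl⟩⟩ : Q') : Ω') =
        θ ⟨((((β ^ e) ^ n) z : ↥(P ⊔ T)) : Ω), hg.le (((β ^ e) ^ n) z).2⟩ := by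
    intro n
    induction n with
    | zero => intro z; rfl
    | succ n ih =>
      intro z
      rw [pow_succ', MulAut.mul_apply, hδ, IsMap.toAut_apply, ← hδ, ih,
        toFun_of_mem ψ' (mem_imageAlong.2 ⟨_, hg.le (((β ^ e) ^ n) z).2,
          (((β ^ e) ^ n) z).2, rfl⟩), hψ' _ (((β ^ e) ^ n) z).2]
      congr 1
      refine Subtype.ext ?_
      show k _ = _
      rw [hk, toFun_aut_apply _ (((β ^ e) ^ n) z).2, pow_succ' (β ^ e), MulAut.mul_apply]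
  have hδc : (orderOf δ).Coprime p := hec.coprime_dvd_left (orderOf_dvd_of_pow_eq_one (by
    ext ⟨w, hw⟩
    obtain ⟨z, hz, hzPT, rfl⟩ := mem_imageAlong.1 hw
    rw [hδpow _ ⟨z, hzPT⟩, pow_orderOf_eq_one]
    rfl))
  have h1 := sub_mem_hyperfocal_of_coprime hQ'S (hψE.toAut_mem hψi) hδc
    ⟨θ ⟨x, hP x.2⟩, mem_imageAlong.2 ⟨x, hP x.2, mem_sup_left x.2, rfl⟩⟩
  have h2 := hδpow 1 ⟨x, mem_sup_left x.2⟩
  rw [pow_one, pow_one] at h2
  rw [← hδ, h2] at h1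
  refine mem_preimageAlong.2 ⟨S.mul_mem (S.inv_mem (hP x.2)) (hP (α x).2), ?_⟩
  have h3 := hpow e x
  rw [hαe] at h3
  have h4 : θ ⟨(x : Ω)⁻¹ * ((α x : P) : Ω), S.mul_mem (S.inv_mem (hP x.2)) (hP (α x).2)⟩ =
      (θ ⟨x, hP x.2⟩)⁻¹ * θ ⟨(((β ^ e) ⟨x, mem_sup_left x.2⟩ : ↥(P ⊔ T)) : Ω),
        hg.le ((β ^ e) _).2⟩ := by
    have h5 : θ ⟨(((β ^ e) ⟨x, mem_sup_left x.2⟩ : ↥(P ⊔ T)) : Ω), hg.le ((β ^ e) _).2⟩ =
        θ ⟨((α x : P) : Ω), hP (α x).2⟩ := by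
      rw [← inv_mul_eq_one, ← map_inv, ← map_mul]
      exact (hker _).2 h3
    rw [h5, ← map_inv, ← map_mul]
    rfl
  rw [h4]
  exact h1

theorem hyperfocal_le_map :
    E.hyperfocalSubgroup p ≤ ((F.hyperfocalSubgroup p).subgroupOf S).map θ := by
  obtain ⟨hT0, hker, hθ, hmem⟩ := hE
  refine hyperfocal_le_of _ fun P' hP' δ hδ hc y => ?_
  obtain ⟨-, k, hk, hkx⟩ := (isMap_induced_iff hmem hθ).1 (isMap_of_autGroup hP' hδ)
  have hval : ∀ (z : Ω) (hz : z ∈ preimageAlong θ P'),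
      ((δ ⟨θ ⟨z, preimageAlong_le hz⟩, (mem_preimageAlong.1 hz).2⟩ : P') : Ω') =
        θ ⟨k z, hk.mem hz⟩ := fun z hz =>
    (toFun_aut_apply δ (mem_preimageAlong.1 hz).2).symm.trans (hkx z hz)
  haveI := finite_of_le (preimageAlong_le (θ := θ) (P' := P'))
  have hki : img (preimageAlong θ P') k = preimageAlong θ P' := by
    refine eq_of_le_of_card_le (fun w hw => ?_) hk.card_img.ge
    obtain ⟨z, hz, rfl⟩ := hk.mem_img.1 hw
    exact mem_preimageAlong.2 ⟨hk.mem hz, hval z hz ▸ (δ _).2⟩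
  set β := hk.toAut hki with hβdef
  have hpow : ∀ (n : ℕ) (z : preimageAlong θ P'),
      (((δ ^ n) ⟨θ ⟨z, preimageAlong_le z.2⟩, (mem_preimageAlong.1 z.2).2⟩ : P') : Ω') =
        θ ⟨(((β ^ n) z : preimageAlong θ P') : Ω), preimageAlong_le ((β ^ n) z).2⟩ := by
    intro n
    induction n with
    | zero => intro z; rfl
    | succ n ih =>
      intro z
      rw [pow_succ', MulAut.mul_apply]
      have e : (δ ^ n) ⟨θ ⟨z, preimageAlong_le z.2⟩, (mem_preimageAlong.1 z.2).2⟩ =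
          ⟨θ ⟨_, preimageAlong_le ((β ^ n) z).2⟩, (mem_preimageAlong.1 ((β ^ n) z).2).2⟩ :=
        Subtype.ext (ih z)
      rw [e, hval _ ((β ^ n) z).2]
      congr 1
      exact Subtype.ext (by
        show k _ = _
        rw [pow_succ', MulAut.mul_apply, hβdef, IsMap.toAut_apply])
  obtain ⟨e, he1, hec⟩ := exists_pow_coprime (p := p) (isOfFinOrder_of_finite β) hc
  have hδe : δ ^ e = δ := by rw [← pow_mod_orderOf, he1, pow_mod_orderOf, pow_one]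
  obtain ⟨s, hs⟩ := (hP'.trans hθ.ge) y.2
  have hsm : (s : Ω) ∈ preimageAlong θ P' := mem_preimageAlong.2 ⟨s.2, hs ▸ y.2⟩
  have h1 := sub_mem_hyperfocal_of_coprime preimageAlong_le (pow_mem (hk.toAut_mem hki) e) hec
    ⟨s, hsm⟩
  have h2 := hpow e ⟨s, hsm⟩
  rw [hδe] at h2
  have hy : y = ⟨θ s, hs ▸ y.2⟩ := Subtype.ext hs.symm
  have hmemS := S.mul_mem (S.inv_mem s.2) (preimageAlong_le ((β ^ e) ⟨s, hsm⟩).2)
  refine ⟨⟨(s : Ω)⁻¹ * (((β ^ e) ⟨s, hsm⟩ : preimageAlong θ P') : Ω), hmemS⟩, h1, ?_⟩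
  rw [hy, h2, ← map_inv, ← map_mul]
  rfl

end CfsgLib.Fusion
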