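import Cfsg.Agent.Lib.Fusion.PPowerIndex
import Cfsg.Agent.Lib.Fusion.FrattiniIndex

/-!
A saturated subsystem of `p`-power index over a normal subgroup is a normal subsystem.
-/

set_option autoImplicit false
set_option linter.style.haveILetI false
set_option linter.unusedVariables false
set_option linter.unusedSectionVars false

namespace CfsgLib.Fusion

open Cfsg Cfsg.FusionSystem Subgroup

universe u

variable {Ω : Type u} [Group Ω] {S T : Subgroup Ω} {F : FusionSystem S} {E : FusionSystem T}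
  {p : ℕ} {P : Subgroup Ω} {f : Ω → Ω}

/-- The maps of `F` between subgroups of `T`. -/
def subgroupSys (F : FusionSystem S) (hTS : T ≤ S) : FusionSystem T where
  Hom P := {φ | φ ∈ F.Hom P ∧ P ≤ T ∧ ∀ x, φ x ∈ T}
  le_of_mem h := h.2
  injective_of_mem h := F.injective_of_mem h.1
  conj_mem {P a} hP ha := ⟨F.conj_mem (hP.trans hTS) (hTS ha), hP,
    fun x => T.mul_mem (T.mul_mem ha (hP x.2)) (T.inv_mem ha)⟩
  comp_mem hφ hψ h := ⟨F.comp_mem hφ.1 hψ.1 h, hφ.2.1, fun _ => hψ.2.2 _⟩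
  inv_mem {P φ} hφ := by
    obtain ⟨ψ, hψ, hψx⟩ := F.inv_mem hφ.1
    refine ⟨ψ, ⟨hψ, ?_, ?_⟩, hψx⟩
    · rintro _ ⟨x, rfl⟩
      exact hφ.2.2 x
    · rintro ⟨_, x, rfl⟩
      rw [hψx]
      exact hφ.2.1 x.2

theorem isMap_of_sub (h : E.IsSubsystemOf F) (hf : IsMap E P f) : IsMap F P f :=
  ⟨hf.toHom, h P hf.toHom_mem, fun _ => rfl⟩

variable [Fact p.Prime] [Finite S] (hS : IsPGroup p S) (hF : F.IsSaturated p) (hTS : T ≤ S)
  (hTn : (T.subgroupOf S).Normal) (hE : E.IsSaturated p) (hEi : E.HasPPowerIndexIn F p)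

include hS hF hTS hTn hE hEi

theorem conj_mem_of_normal {a x : Ω} (ha : a ∈ S) (hx : x ∈ T) : a * x * a⁻¹ ∈ T :=
  hTn.conj_mem ⟨x, hTS hx⟩ hx ⟨a, ha⟩

theorem stronglyClosed_of_pPower : F.StronglyClosed T := by
  refine ⟨hTS, fun R hR φ hφ x => ?_⟩
  obtain ⟨a, ha, hax⟩ := exists_conj_mod_hyperfocal hS hF (isMap_of_hom hφ)
  have h1 := T.mul_mem (conj_mem_of_normal hS hF hTS hTn hE hEi ha (hR x.2)) (hEi.2.1 (hax x x.2))
  rw [toFun_apply] at h1
  rwa [mul_inv_cancel_left] at h1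

/-- Transport of maps of the subsystem by an automorphism of `T` in `F`. -/
theorem transport_pPower {α : MulAut T} (hα : α ∈ F.autGroup T) (hf : IsMap E P f) :
    ∃ g, IsMap E (img P (autFun α)) g ∧ ∀ x ∈ P, g (autFun α x) = autFun α (f x) := by
  have hmF : IsMap F T (autFun α) := isMap_autFun hTS hα
  have hm : IsMap (subgroupSys F hTS) T (autFun α) :=
    ⟨hmF.toHom, ⟨hmF.toHom_mem, le_rfl, fun x => autFun_mem α x.2⟩, fun _ => rfl⟩
  have hi : E ≤ twistSys E hm := by
    refine le_of_pPowerIndex hS hTS hE hEi.1 ⟨fun X φ hφ => ?_, hEi.2.1, fun X hX => ?_⟩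
    · obtain ⟨hXT, hv, g, hg, hgx⟩ := hφ
      obtain ⟨k, hk, hkx, -, -⟩ := hmF.exists_inv
      have hmX : IsMap F X (autFun α) := hmF.mono hXT
      have h1 := (hmX.comp (isMap_of_sub hEi.1 hg) fun x hx => hmX.apply_mem_img hx).comp
        (hk.mono (show T ≤ img T (autFun α) from fun y hy => hmF.mem_img.2
          ⟨autFun α⁻¹ y, autFun_mem _ hy, autFun_apply_inv α hy⟩))
        fun x hx => hg.mem ((hm.mono hXT).apply_mem_img hx)
      refine h1.mem_hom fun x => ?_
      show φ x = k (g (autFun α x))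
      rw [← hgx, hkx _ (hv x)]
    · rw [Subgroup.map_le_iff_le_comap]
      refine (Subgroup.closure_le _).2 ?_
      rintro ⟨β, hβ⟩ hc
      haveI := finite_of_le (hX.trans hTS)
      set hmP := hmF.mono hX with hmPdef
      have hY : img X (autFun α) ≤ T := fun y hy => by
        obtain ⟨x, hx, rfl⟩ := hmP.mem_img.1 hy
        exact autFun_mem α (hX hx)
      have hmem : MulAut.congr hmP.equivImg β ∈ E.autGroup (img X (autFun α)) := by
        refine hEi.2.2 _ hY ⟨⟨_, hmP.congr_mem_autGroup hβ⟩,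
          CfsgLib.Transfer.mem_pResidual_of_coprime ?_, rfl⟩
        rw [Subgroup.orderOf_mk, MulEquiv.orderOf_eq, ← Subgroup.orderOf_mk β hβ]
        exact hc
      refine (autGroup_iff_isMap hX fun x => (toFun_aut_apply β x.2).symm).2
        ((isMap_twistSys_iff hm).2 ⟨⟨X.subtype.comp β.toMonoidHom,
          fun x => (toFun_apply _ x).symm⟩, hX, fun x hx => ?_, _,
          isMap_of_autGroup hY hmem, fun x hx => ?_⟩)
      · rw [toFun_aut_apply _ hx]
        exact hX (β _).2
      · rw [toFun_aut_apply _ hx, toFun_aut_apply _ (hmP.apply_mem_img hx)]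
        show _ = ((hmP.equivImg (β (hmP.equivImg.symm ⟨_, _⟩)) : img X (autFun α)) : Ω)
        rw [IsMap.coe_equivImg]
        congr 3
        exact (MulEquiv.symm_apply_eq _).2 rfl |>.symm
  obtain ⟨-, -, -, g, hg, hgx⟩ := (isMap_twistSys_iff hm).1 (le_iff_isMap.1 hi P f hf)
  exact ⟨g, hg, fun x hx => (hgx x hx).symm⟩

/-- The maps whose part on `T` is an automorphism of `T` composed with a map of the subsystem. -/
noncomputable def splitSys : FusionSystem S where
  Hom P := {φ | φ ∈ F.Hom P ∧ ∃ α ∈ F.autGroup T, ∃ g, IsMap E (P ⊓ T) g ∧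
    ∀ x : P, (x : Ω) ∈ T → φ x = autFun α (g x)}
  le_of_mem h := F.le_of_mem h.1
  injective_of_mem h := F.injective_of_mem h.1
  conj_mem {P a} hP ha := by
    have hn : a ∈ Subgroup.normalizer (T : Set Ω) := by
      intro y
      refine ⟨conj_mem_of_normal hS hF hTS hTn hE hEi ha, fun hy => ?_⟩
      simpa [mul_assoc] using conj_mem_of_normal hS hF hTS hTn hE hEi (S.inv_mem ha) hy
    have hmem : T.normalizerMonoidHom ⟨a, hn⟩ ∈ F.autGroup T :=
      autInducedBy_le_autGroup hTS (mem_autInducedBy_iff.2 ⟨a, ha, fun _ => rfl⟩)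
    refine ⟨F.conj_mem hP ha, _, hmem, id, isMap_id E inf_le_right, fun x hx => ?_⟩
    rw [id_eq, autFun_apply _ hx]
    rfl
  comp_mem {P Q φ ψ} hφ hψ h := by
    obtain ⟨hφ, α, hα, g, hg, hgx⟩ := hφ
    obtain ⟨hψ, β, hβ, k, hk, hkx⟩ := hψ
    obtain ⟨k', hk', hk'x⟩ := transport_pPower hS hF hTS hTn hE hEi (inv_mem hα) hk
    have hsc := stronglyClosed_of_pPower hS hF hTS hTn hE hEi
    have hφT : ∀ x : P, (x : Ω) ∈ T → φ x ∈ T := fun x hx => by
      rw [hgx x hx]
      exact autFun_mem α (hg.mem ⟨x.2, hx⟩)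
    have hmem : ∀ x ∈ P ⊓ T, g x ∈ img (Q ⊓ T) (autFun α⁻¹) := fun x hx => by
      rw [← autFun_inv_apply α (hg.mem hx), ← hgx ⟨x, hx.1⟩ hx.2]
      exact ((isMap_autFun hTS (inv_mem hα)).mono inf_le_right).apply_mem_img
        ⟨h ⟨x, hx.1⟩, hφT _ hx.2⟩
    refine ⟨F.comp_mem hφ hψ h, β * α, mul_mem hβ hα, _, hg.comp hk' hmem, fun x hx => ?_⟩
    show ψ ⟨φ x, h x⟩ = autFun (β * α) (k' (g x))
    have hq : φ x ∈ Q ⊓ T := ⟨h x, hφT x hx⟩
    have hxT : (x : Ω) ∈ P ⊓ T := ⟨x.2, hx⟩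
    rw [hkx ⟨φ x, h x⟩ hq.2]
    have h1 := hk'x _ hq
    have h2 : autFun α⁻¹ (φ x) = g x := by rw [hgx x hx, autFun_inv_apply α (hg.mem hxT)]
    rw [h2] at h1
    rw [h1, autFun_mul_apply _ _ (autFun_mem _ (hk.mem hq)), autFun_apply_inv α (hk.mem hq)]
  inv_mem {P φ} hφ := by
    obtain ⟨hφ, α, hα, g, hg, hgx⟩ := hφ
    obtain ⟨ψ, hψ, hψx⟩ := F.inv_mem hφ
    obtain ⟨k, hk, hkx, -, -⟩ := hg.exists_inv
    obtain ⟨k', hk', hk'x⟩ := transport_pPower hS hF hTS hTn hE hEi hα hk
    have hsc := stronglyClosed_of_pPower hS hF hTS hTn hE hEi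
    have hback : ∀ x : P, φ x ∈ T → (x : Ω) ∈ T := fun x hx => by
      have h1 := hsc.2 (φ.range ⊓ T) inf_le_right _
        ((isMap_of_hom hψ).mono inf_le_left).toHom_mem ⟨φ x, ⟨x, rfl⟩, hx⟩
      rw [IsMap.toHom_apply] at h1
      rw [← hψx x, ← toFun_apply ψ]
      exact h1
    have hr : φ.range ⊓ T ≤ img (img (P ⊓ T) g) (autFun α) := by
      rintro _ ⟨⟨x, rfl⟩, hx⟩
      have hxT : (x : Ω) ∈ P ⊓ T := ⟨x.2, hback x hx⟩
      rw [hgx x hxT.2]
      exact ((isMap_autFun hTS hα).mono hg.img_le).apply_mem_img (hg.apply_mem_img hxT)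
    refine ⟨ψ, ⟨hψ, α⁻¹, inv_mem hα, k', hk'.mono hr, ?_⟩, hψx⟩
    rintro ⟨_, x, rfl⟩ hx
    have hxT : (x : Ω) ∈ P ⊓ T := ⟨x.2, hback x hx⟩
    rw [hψx]
    show (x : Ω) = autFun α⁻¹ (k' (φ x))
    rw [hgx x hxT.2, hk'x _ (hg.apply_mem_img hxT), hkx _ hxT, autFun_inv_apply α hxT.2]

/-- The Frattini condition. -/
theorem le_splitSys : F ≤ splitSys hS hF hTS hTn hE hEi := by
  refine alperin_inductive hS hF fun R hR _ => ?_
  haveI := finite_of_le hR.1
  obtain ⟨W, hW⟩ := (fullyAutomized_of_fullyNormalized hS hF hR).2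
  intro α hα
  have hle : (W : Subgroup (F.autGroup R)) ⊔ Cfsg.pResidual p (F.autGroup R) ≤
      ((splitSys hS hF hTS hTn hE hEi).autGroup R).subgroupOf (F.autGroup R) := by
    refine sup_le (fun w hw => ?_) ((Subgroup.closure_le _).2 fun w hw => ?_)
    · rw [hW] at hw
      exact autInducedBy_le_autGroup hR.1 hw
    · have hm := isMap_of_autGroup hR.1 w.2
      set u := toFun (R.subtype.comp (w : MulAut R).toMonoidHom)
      have hu : ∀ x (hx : x ∈ R), u x = (((w : MulAut R) ⟨x, hx⟩ : R) : Ω) := fun x hx =>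
        toFun_aut_apply _ hx
      have huX := hm.mono (inf_le_left : R ⊓ T ≤ R)
      haveI : Finite ↥(R ⊓ T) := finite_of_le (inf_le_left.trans hR.1)
      have himg : img (R ⊓ T) u = R ⊓ T := by
        refine eq_of_le_of_card_le (fun y hy => ?_) huX.card_img.ge
        obtain ⟨x, hx, rfl⟩ := huX.mem_img.1 hy
        refine ⟨?_, (stronglyClosed_of_pPower hS hF hTS hTn hE hEi).2 _ inf_le_right _
          huX.toHom_mem ⟨x, hx⟩⟩
        rw [hu _ hx.1]
        exact ((w : MulAut R) _).2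
      set v := huX.toAut himg
      have hpow : ∀ n : ℕ, ∀ x : ↥(R ⊓ T), (((v ^ n) x : ↥(R ⊓ T)) : Ω) =
          ((((w : MulAut R) ^ n) ⟨x, x.2.1⟩ : R) : Ω) := by
        intro n
        induction n with
        | zero => intro x; simp
        | succ n ih =>
          intro x
          rw [pow_succ' v, pow_succ' (w : MulAut R), MulAut.mul_apply, MulAut.mul_apply,
            huX.toAut_apply, hu _ ((v ^ n) x).2.1]
          congr 2
          exact Subtype.ext (ih x)
      have hord : orderOf v ∣ orderOf (w : MulAut R) := orderOf_dvd_of_pow_eq_one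
        (MulEquiv.ext fun x => Subtype.ext (by rw [hpow, pow_orderOf_eq_one]; rfl))
      have hvE : v ∈ E.autGroup (R ⊓ T) := by
        refine hEi.2.2 _ inf_le_right ⟨⟨v, huX.toAut_mem himg⟩,
          CfsgLib.Transfer.mem_pResidual_of_coprime ?_, rfl⟩
        rw [Subgroup.orderOf_mk]
        refine Nat.Coprime.coprime_dvd_left hord ?_
        rw [Subgroup.orderOf_coe]
        exact hw
      refine (autGroup_mem_iff hR.1).2 ⟨(autGroup_mem_iff hR.1).1 w.2, 1, one_mem _, _,
        isMap_of_autGroup inf_le_right hvE, fun x hx => ?_⟩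
      rw [autFun_one ((isMap_of_autGroup inf_le_right hvE).mem ⟨x.2, hx⟩),
        toFun_aut_apply _ (show (x : Ω) ∈ R ⊓ T from ⟨x.2, hx⟩), huX.toAut_apply, hu _ x.2]
      rfl
  exact hle ((sylow_sup_pResidual W).ge (Subgroup.mem_top (⟨α, hα⟩ : F.autGroup R)))

/-- A saturated subsystem of `p`-power index over a normal subgroup is normal. -/
theorem isNormalIn_of_pPower : E.IsNormalIn F p := by
  have hsc := stronglyClosed_of_pPower hS hF hTS hTn hE hEi
  haveI := finite_of_le hTS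
  refine ⟨⟨hE, hF, hEi.1, hsc, fun P hPT φ hφ α hα => ?_, fun P hP φ hφ => ?_⟩, ?_⟩
  · have hm : IsMap F T (autFun α) := isMap_autFun hTS hα
    have hQ : (P.subgroupOf T).map (T.subtype.comp α.toMonoidHom) = img P (autFun α) := by
      ext y
      rw [mem_img_autFun hm hPT]
      constructor
      · rintro ⟨s, hs, rfl⟩
        exact ⟨s, hs, autFun_apply α s.2⟩
      · rintro ⟨x, hx, rfl⟩
        exact ⟨⟨x, hPT hx⟩, hx, (autFun_apply α (hPT hx)).symm⟩
    obtain ⟨g, hg, hgx⟩ := transport_pPower hS hF hTS hTn hE hEi hα (isMap_of_hom hφ)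
    rw [← hQ] at hg
    refine ⟨hg.toHom, hg.toHom_mem, fun x hφx hαx => ?_⟩
    rw [IsMap.toHom_apply, ← autFun_apply α (hPT x.2), hgx x x.2, toFun_apply,
      autFun_apply α hφx]
  · obtain ⟨-, α, hα, g, hg, hgx⟩ := le_splitSys hS hF hTS hTn hE hEi P hφ
    rw [inf_eq_left.2 hP] at hg
    refine ⟨α, hα, hg.toHom, hg.toHom_mem, fun x hx => ?_⟩
    rw [hgx x (hP x.2), autFun_apply α (hg.mem x.2)]
    rfl
  -- the extension condition
  set C := centralizerIn S T with hC
  set N := T ⊔ C with hN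
  have hNS : N ≤ S := sup_le hTS inf_le_left
  haveI := finite_of_le hNS
  let Good : MulAut T → Prop := fun α => ∃ β ∈ F.autGroup N,
    (∀ x : T, ((β (Subgroup.inclusion le_sup_left x) : N) : Ω) = ((α x : T) : Ω)) ∧
    ∀ c : N, (c : Ω) ∈ C → (c : Ω)⁻¹ * ((β c : N) : Ω) ∈ T ⊓ Subgroup.centralizer (T : Set Ω)
  have hstab : ∀ {α : MulAut T} {β : MulAut N}, β ∈ F.autGroup N →
      (∀ x : T, ((β (Subgroup.inclusion le_sup_left x) : N) : Ω) = ((α x : T) : Ω)) →
      ∀ c : N, (c : Ω) ∈ C → ((β c : N) : Ω) ∈ C := fun {α β} hβ hext c hc => by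
    have hm := isMap_of_autGroup hNS hβ
    have h1 := hm.apply_mem_centralizerIn (le_sup_left : T ≤ N) c.2 hc.2
    have himg : img T (toFun (N.subtype.comp β.toMonoidHom)) = T := by
      refine eq_of_le_of_card_le (fun y hy => ?_) (hm.mono le_sup_left).card_img.ge
      obtain ⟨x, hx, rfl⟩ := (hm.mono le_sup_left).mem_img.1 hy
      rw [toFun_aut_apply _ (Subgroup.mem_sup_left hx)]
      exact (hext ⟨x, hx⟩) ▸ (α _).2
    rwa [himg, toFun_aut_apply _ c.2] at h1
  let X : Subgroup (MulAut T) :=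
    { carrier := {α | Good α}
      one_mem' := ⟨1, one_mem _, fun x => rfl, fun c _ => by simp⟩
      mul_mem' := by
        rintro α α' ⟨β, hβ, hβx, hβc⟩ ⟨β', hβ', hβ'x, hβ'c⟩
        refine ⟨β * β', mul_mem hβ hβ', fun x => ?_, fun c hc => ?_⟩
        · have e : β' (Subgroup.inclusion le_sup_left x) = Subgroup.inclusion le_sup_left (α' x) :=
            Subtype.ext (hβ'x x)
          rw [MulAut.mul_apply, MulAut.mul_apply, e, hβx]
        · have h1 := Subgroup.mul_mem _ (hβ'c c hc) (hβc (β' c) (hstab hβ' hβ'x c hc))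
          rw [MulAut.mul_apply]
          simpa [mul_assoc] using h1
      inv_mem' := by
        rintro α ⟨β, hβ, hβx, hβc⟩
        have hext : ∀ x : T, ((β⁻¹ (Subgroup.inclusion le_sup_left x) : N) : Ω) =
            ((α⁻¹ x : T) : Ω) := fun x => by
          have e : β (Subgroup.inclusion le_sup_left (α⁻¹ x)) = Subgroup.inclusion le_sup_left x := by
            refine Subtype.ext ?_
            rw [hβx, MulAut.apply_inv_self]
            rfl
          rw [← e, MulAut.inv_apply_self]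
          rfl
        refine ⟨β⁻¹, inv_mem hβ, hext, fun c hc => ?_⟩
        have h1 := Subgroup.inv_mem _ (hβc (β⁻¹ c) (hstab (inv_mem hβ) hext c hc))
        rw [MulAut.apply_inv_self] at h1
        simpa [mul_inv_rev] using h1 }
  suffices h : E.autGroup T ≤ X from fun α hα => h hα
  obtain ⟨W, hW⟩ :=
    (fullyAutomized_of_fullyNormalized (hS.to_le hTS) hE (fullyNormalized_top E)).2
  intro α hα
  have hle : (W : Subgroup (E.autGroup T)) ⊔ Cfsg.pResidual p (E.autGroup T) ≤
      X.subgroupOf (E.autGroup T) := by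
    refine sup_le (fun w hw => ?_) ((Subgroup.closure_le _).2 fun w hw => ?_)
    · rw [hW] at hw
      obtain ⟨t, ht, htx⟩ := mem_autInducedBy_iff.1 (hw : (w : MulAut T) ∈ _)
      refine ⟨MulAut.conj (⟨t, Subgroup.mem_sup_left ht⟩ : N), inn_le_autGroup hNS ⟨_, rfl⟩,
        fun x => (htx x).symm, fun c hc => ?_⟩
      show (c : Ω)⁻¹ * (t * c * t⁻¹) ∈ _
      rw [hc.2 t ht, mul_inv_cancel_right, inv_mul_cancel]
      exact one_mem _
    · have hwF : (w : MulAut T) ∈ F.autGroup T :=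
        (autGroup_mem_iff hTS).2 (hEi.1 T ((autGroup_mem_iff le_rfl).1 w.2))
      have hTn' : F.IsFullyNormalized T := by
        refine ⟨hTS, fun R hR => ?_⟩
        haveI := finite_normalizerIn (S := S) (P := T)
        refine Subgroup.card_le_of_le fun a ha => ⟨ha.1, fun y => ?_⟩
        refine ⟨conj_mem_of_normal hS hF hTS hTn hE hEi ha.1, fun hy => ?_⟩
        simpa [mul_assoc] using conj_mem_of_normal hS hF hTS hTn hE hEi (S.inv_mem ha.1) hy
      have hm := isMap_of_autGroup hTS hwF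
      obtain ⟨b, hb, hbx⟩ := receptive_extend_centralizer
        (receptive_of_fullyNormalized hS hF hTn') hm (img_toFun_aut _)
      have hbx' : ∀ x : T, b x = (((w : MulAut T) x : T) : Ω) := fun x =>
        (hbx x x.2).trans (toFun_aut_apply _ x.2)
      have hbT : img T b = T := (img_congr hbx).trans (img_toFun_aut _)
      have hbi : img N b = N := by
        refine eq_of_le_of_card_le ?_ hb.card_img.ge
        have hle : N ≤ (Subgroup.comap hb.toHom N).map N.subtype := by
          refine sup_le (fun a ha => ?_) (fun a ha => ?_)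
          · exact ⟨⟨a, Subgroup.mem_sup_left ha⟩, Subgroup.mem_sup_left
              (hbT.le ((hb.mono le_sup_left).apply_mem_img ha)), rfl⟩
          · exact ⟨⟨a, Subgroup.mem_sup_right ha⟩, Subgroup.mem_sup_right
              (by
                have h1 := hb.apply_mem_centralizerIn le_sup_left (Subgroup.mem_sup_right ha) ha.2
                rw [hbT] at h1
                exact h1),
              rfl⟩
        intro y hy
        obtain ⟨a, ha, rfl⟩ := hb.mem_img.1 hy
        obtain ⟨a', ha', rfl⟩ := hle ha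
        exact ha'
      set β := hb.toAut hbi
      obtain ⟨a, m, hm', hβo⟩ := Nat.exists_eq_pow_mul_and_not_dvd (orderOf_pos β).ne' p
        (Fact.out : p.Prime).ne_one
      have hw' : (orderOf w).Coprime p := hw
      obtain ⟨k, hk1, hk0⟩ := Nat.chineseRemainder
        (Nat.Coprime.pow_left a hw'.symm) 0 1
      have hcop : (orderOf (β ^ k)).Coprime p := by
        obtain ⟨j, rfl⟩ := Nat.modEq_zero_iff_dvd.1 hk1
        refine Nat.Coprime.coprime_dvd_left (orderOf_dvd_of_pow_eq_one (n := m) ?_)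
          (((Fact.out : p.Prime).coprime_iff_not_dvd.2 hm').symm)
        rw [← pow_mul, mul_right_comm, pow_mul, ← hβo, pow_orderOf_eq_one, one_pow]
      have hpow : ∀ n : ℕ, ∀ x : T, (((β ^ n) (Subgroup.inclusion le_sup_left x) : N) : Ω) =
          ((((w : MulAut T) ^ n) x : T) : Ω) := by
        intro n
        induction n with
        | zero => intro x; rfl
        | succ n ih =>
          intro x
          rw [pow_succ' β, pow_succ' (w : MulAut T), MulAut.mul_apply, MulAut.mul_apply,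
            IsMap.toAut_apply, ih, hbx']
      have hwk : (w : MulAut T) ^ k = w := by
        rw [← Subgroup.orderOf_coe] at hk0
        rw [pow_eq_pow_iff_modEq.2 hk0, pow_one]
      have hβk : β ^ k ∈ F.autGroup N := pow_mem (hb.toAut_mem hbi) k
      refine ⟨β ^ k, hβk, fun x => by rw [hpow, hwk]; rfl, fun c hc => ⟨hEi.2.1
        (sub_mem_hyperfocal_of_coprime hNS hβk hcop c), ?_⟩⟩
      refine Subgroup.mul_mem _ (Subgroup.inv_mem _ hc.2) ?_
      exact (hstab hβk (fun x => by rw [hpow, hwk]) c hc).2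
  exact hle ((sylow_sup_pResidual W).ge (Subgroup.mem_top (⟨α, hα⟩ : E.autGroup T)))

end CfsgLib.Fusion
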