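import Cfsg.Agent.Lib.Fusion.SmallElementsApps
import Cfsg.Agent.Lib.Fusion.NormalCriteria

/-!
For odd `p`, a strongly closed subgroup is normal exactly when its `Ω₁` has a central chain of
strongly closed subgroups.
-/

set_option autoImplicit false
set_option linter.unusedVariables false
set_option linter.unusedSectionVars false
set_option linter.style.haveILetI false

namespace CfsgLib.Fusion

open Cfsg Cfsg.FusionSystem Subgroup
open scoped commutatorElement

variable {Ω : Type*} [Group Ω] {S : Subgroup Ω} {F : FusionSystem S} {P Q R : Subgroup Ω} {p : ℕ}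

/-- Restriction of an automorphism of the system to an invariant subgroup. -/
theorem exists_restrictAut [Finite S] (hQ : Q ≤ S) (hPQ : P ≤ Q) {γ : MulAut Q}
    (hγ : γ ∈ F.autGroup Q) (hinv : ∀ x : Q, (x : Ω) ∈ P → ((γ x : Q) : Ω) ∈ P) :
    ∃ δ ∈ F.autGroup P, (∀ x : P, ((δ x : P) : Ω) = ((γ ⟨x, hPQ x.2⟩ : Q) : Ω)) ∧
      orderOf δ ∣ orderOf γ := by
  haveI := finite_of_le (hPQ.trans hQ)
  have hm := (isMap_of_autGroup hQ hγ).mono hPQ
  have hi : img P (toFun (Q.subtype.comp γ.toMonoidHom)) = P := by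
    refine eq_of_le_of_card_le (fun y hy => ?_) hm.card_img.ge
    obtain ⟨x, hx, rfl⟩ := hm.mem_img.1 hy
    rw [toFun_aut_apply γ (hPQ hx)]
    exact hinv _ hx
  refine ⟨hm.toAut hi, hm.toAut_mem hi, fun x => by
    rw [IsMap.toAut_apply, toFun_aut_apply γ (hPQ x.2)], ?_⟩
  have hpow : ∀ (n : ℕ) (x : P), ((((hm.toAut hi) ^ n) x : P) : Ω) =
      (((γ ^ n) ⟨x, hPQ x.2⟩ : Q) : Ω) := by
    intro n
    induction n with
    | zero => intro x; rfl
    | succ n ih =>
      intro x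
      rw [pow_succ', MulAut.mul_apply, IsMap.toAut_apply, toFun_aut_apply γ (hPQ (_ : P).2),
        pow_succ', MulAut.mul_apply]
      congr 2
      exact Subtype.ext (ih x)
  exact orderOf_dvd_of_pow_eq_one (by
    ext x
    rw [hpow, pow_orderOf_eq_one]
    rfl)

variable [Fact p.Prime] [Finite S] (hS : IsPGroup p S) (hF : F.IsSaturated p) (hp : p ≠ 2)

include hS hF hp

theorem isNormal_of_omega_chain (hP : F.StronglyClosed P) (n : ℕ) (C : ℕ → Subgroup Ω)
    (h0 : C 0 = ⊥) (hn : omegaOne p P ≤ C n) (hmono : Monotone C)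
    (hsc : ∀ i, F.StronglyClosed (C i)) (hcomm : ∀ i < n, ⁅C (i + 1), P⁆ ≤ C i) :
    F.IsNormal P := by
  refine isNormal_of_le_centricRadical hS hF hP fun R hc hr => ?_
  haveI := finite_of_le hc.1
  refine le_of_normalizer_inf_le hS hc.1 hP.1
    (fun a ha => StronglyClosed.le_normalizer hP (hc.1 ha)) fun a haP haR => ?_
  have hinvC : ∀ i, ∀ α ∈ F.autGroup R, ∀ x : R, (x : Ω) ∈ C i → ((α x : R) : Ω) ∈ C i :=
    fun i α hα x hx => by
      have := StronglyClosed.apply_mem (hsc i) (isMap_of_autGroup hc.1 hα) x.2 hx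
      rwa [toFun_aut_apply _ x.2] at this
  let C₁ : ℕ → Subgroup Ω := fun i => if i = 0 then P else ⊤
  have hmono₁ : Monotone C₁ := monotone_nat_of_le_succ fun i => by simp [C₁]
  have hinv₁ : ∀ i, ∀ α ∈ F.autGroup R, ∀ x : R, (x : Ω) ∈ C₁ i → ((α x : R) : Ω) ∈ C₁ i :=
    fun i α hα x hx => by
      rcases Nat.eq_zero_or_pos i with rfl | hi
      · have := StronglyClosed.apply_mem hP (isMap_of_autGroup hc.1 hα) x.2
          (show (x : Ω) ∈ P from hx)
        rwa [toFun_aut_apply _ x.2] at this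
      · simp [C₁, hi.ne']
  haveI := seriesStab_normal (⊤ : Subgroup (F.autGroup R)) 1 C₁ hmono₁ hinv₁
  set K₁ := seriesStab (⊤ : Subgroup (F.autGroup R)) 1 C₁ hmono₁ hinv₁ with hK₁
  haveI := seriesStab_normal K₁ n C hmono hinvC
  set K := seriesStab K₁ n C hmono hinvC with hK
  have hKp : IsPGroup p K := isPGroup_of_coprime_trivial fun γ hγ => by
    refine Subtype.ext (Subtype.ext ?_)
    set α := ((γ : F.autGroup R) : MulAut R) with hαdef
    have hα : α ∈ F.autGroup R := (γ : F.autGroup R).2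
    have hαc : (orderOf α).Coprime p := by rwa [hαdef, Subgroup.orderOf_coe, Subgroup.orderOf_coe]
    have hfix : ∀ i ≤ n, ∀ x : R, (x : Ω) ∈ C i → α x = x := by
      intro i
      induction i with
      | zero =>
        intro _ x hx
        rw [h0, mem_bot] at hx
        rw [show x = 1 from Subtype.ext hx, map_one]
      | succ i ih =>
        intro hi x hx
        exact CfsgLib.PGroup.eq_of_fixed_diff (hS.to_le hc.1) hαc
          (ih (by omega) _ (γ.2.2 i (by omega) x hx))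
    have hinvM : ∀ x : R, (x : Ω) ∈ P ⊓ R → ((α x : R) : Ω) ∈ P ⊓ R := fun x hx =>
      ⟨hinv₁ 0 α hα x hx.1, (α x).2⟩
    obtain ⟨δ, hδ, hδx, hδo⟩ := exists_restrictAut hc.1 inf_le_right hα hinvM
    obtain ⟨D, hDi, hDs, hDf⟩ := exists_small_detecting (F := F) hS
      ((inf_le_right : P ⊓ R ≤ R).trans hc.1)
    have hδ1 := hDf δ hδ (hαc.coprime_dvd_left hδo) fun d hd => Subtype.ext (by
      rw [hδx, hfix n le_rfl ⟨d, d.2.2⟩ (hn (Subgroup.subset_closure
        ⟨d.2.1, (hDs d hd).1.resolve_right fun h => hp h.1⟩))])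
    refine MulEquiv.ext fun x => CfsgLib.PGroup.eq_of_fixed_diff (hS.to_le hc.1) hαc ?_
    have hxP : ((x⁻¹ * α x : R) : Ω) ∈ P := γ.2.1.2 0 Nat.one_pos x (by simp [C₁])
    have h1 := hδx ⟨_, hxP, (x⁻¹ * α x).2⟩
    rw [hδ1] at h1
    exact Subtype.ext h1.symm
  refine mem_of_aut_mem_pGroup hc hr K hKp ⟨hP.1 haP, haR⟩ fun α hα =>
    ⟨⟨mem_top _, fun i hi x hx => ?_⟩, fun i hi x hx => ?_⟩
  · obtain rfl : i = 0 := by omega
    rw [hα]
    show (x : Ω)⁻¹ * (a * (x : Ω) * a⁻¹) ∈ P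
    have h1 := P.mul_mem (StronglyClosed.conj_mem hP (S.inv_mem (hc.1 x.2)) haP) (P.inv_mem haP)
    simpa [mul_assoc] using h1
  · rw [hα]
    show (x : Ω)⁻¹ * (a * (x : Ω) * a⁻¹) ∈ C i
    have h1 := hcomm i hi (Subgroup.commutator_mem_commutator ((C _).inv_mem hx) haP)
    simpa [commutatorElement_def, mul_assoc] using h1

theorem exists_omega_chain (hP : F.IsNormal P) :
    ∃ (n : ℕ) (Q : Fin (n + 1) → Subgroup Ω), Q 0 = ⊥ ∧ Q (Fin.last n) = omegaOne p P ∧
      Monotone Q ∧ (∀ i : Fin (n + 1), F.StronglyClosed (Q i)) ∧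
      ∀ i : Fin n, ⁅Q i.succ, P⁆ ≤ Q i.castSucc := by
  haveI := finite_of_le hP.1
  obtain ⟨n, hn⟩ := exists_upperIn_eq (hS.to_le hP.1)
  have hΩP : omegaOne p P ≤ P := (Subgroup.closure_le _).2 fun x hx => hx.1
  have hΩ : ∀ α : MulAut P, ∀ x : P, (x : Ω) ∈ omegaOne p P → ((α x : P) : Ω) ∈ omegaOne p P := by
    intro α x hx
    have h : (omegaOne p P).subgroupOf P ≤ ((omegaOne p P).subgroupOf P).comap α.toMonoidHom := by
      have he : (omegaOne p P).subgroupOf P =
          Subgroup.closure (((↑) : P → Ω) ⁻¹' {x : Ω | x ∈ P ∧ x ^ p = 1}) := by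
        apply Subgroup.map_injective P.subtype_injective
        rw [Subgroup.subgroupOf_map_subtype, inf_eq_left.2 hΩP, MonoidHom.map_closure]
        show omegaOne p P = _
        rw [omegaOne]
        congr 1
        ext y
        exact ⟨fun hy => ⟨⟨y, hy.1⟩, hy, rfl⟩, fun ⟨z, hz, hzy⟩ => hzy ▸ hz⟩
      conv_lhs => rw [he]
      refine (Subgroup.closure_le _).2 fun y hy => ?_
      refine Subgroup.subset_closure ⟨(α y).2, ?_⟩
      show ((α y : P) : Ω) ^ p = 1
      rw [← Subgroup.coe_pow, ← map_pow]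
      have hy1 : y ^ p = 1 := Subtype.ext hy.2
      rw [hy1, map_one, Subgroup.coe_one]
    exact h hx
  refine ⟨n, fun i => omegaOne p P ⊓ upperIn P i, ?_, ?_, ?_, fun i => ?_, fun i => ?_⟩
  · simp [upperIn_zero]
  · exact inf_eq_left.2 (hΩP.trans hn)
  · exact fun i j hij => inf_le_inf_left _ (upperIn_mono P (Fin.le_def.1 hij))
  · refine stronglyClosed_iff.2 ⟨inf_le_left.trans (hΩP.trans hP.1), fun X f hX hf x hx => ?_⟩
    obtain ⟨g, hg, hgx, hgP⟩ := (isNormal_iff.1 hP).2 X f hf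
    have hg' := hg.mono (le_sup_right : P ≤ X ⊔ P)
    have hxP : x ∈ P := hΩP (hX hx).1
    have he : f x = ((hg'.toAut hgP ⟨x, hxP⟩ : P) : Ω) := by
      rw [IsMap.toAut_apply, hgx x hx]
    rw [he]
    exact ⟨hΩ _ ⟨x, hxP⟩ (hX hx).1, apply_mem_upperIn _ (hX hx).2⟩
  · rw [Subgroup.commutator_le]
    intro x hx a ha
    have hxP : x ∈ P := hΩP hx.1
    refine ⟨?_, ?_⟩
    · have h1 := hΩ (MulAut.conj ⟨a, ha⟩) ⟨x⁻¹, P.inv_mem hxP⟩ ((omegaOne p P).inv_mem hx.1)
      have h2 := (omegaOne p P).mul_mem hx.1 h1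
      simpa [commutatorElement_def, mul_assoc] using h2
    · have h1 := sub_mem_upperIn ((upperIn P _).inv_mem hx.2) ha
      simpa [commutatorElement_def, mul_assoc, Fin.val_castSucc] using h1

end CfsgLib.Fusion
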