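import Cfsg.Agent.Lib.Fusion.FactorHyperfocal
import Cfsg.Agent.Lib.Fusion.OmegaChain
import Cfsg.Agent.Lib.Fusion.Center

/-!
In a perfect system the second centre is the centre.
-/

set_option autoImplicit false
set_option linter.unusedVariables false
set_option linter.unusedSectionVars false
set_option linter.style.haveILetI false

namespace CfsgLib.Fusion

open Cfsg Cfsg.FusionSystem Subgroup
open scoped commutatorElement

variable {Ω Ω' : Type*} [Group Ω] [Group Ω'] {S : Subgroup Ω} {S' : Subgroup Ω'}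
  {F : FusionSystem S} {E : FusionSystem S'} {θ : S →* Ω'} {p : ℕ}
  [Fact p.Prime] [Finite S] (hS : IsPGroup p S) (hF : F.IsSaturated p)

include hS hF

theorem center_factor_eq_bot (hperf : F.hyperfocalSubgroup p = S)
    (hE : F.IsFactorSystem F.center θ E) : E.center = ⊥ := by
  obtain ⟨hZS, hker, hθ, hmem⟩ := hE
  have hZc : F.IsCentral F.center := center_isCentral
  have hZcent := IsCentral.centralizerIn_eq hZc
  haveI : Finite S' := by
    rw [← hθ]
    exact Finite.of_surjective θ.rangeRestrict θ.rangeRestrict_surjective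
  have hCc : E.IsCentral E.center := center_isCentral
  have hCcent := IsCentral.centralizerIn_eq hCc
  set Z₂ := preimageAlong θ E.center with hZ₂
  have hZ₂S : Z₂ ≤ S := preimageAlong_le
  haveI := finite_of_le hZ₂S
  have hZle : F.center ≤ Z₂ := le_preimageAlong_of_ker hker hZS
  -- every map is the identity modulo the centre on `Z₂`
  have hmod : ∀ (P : Subgroup Ω) (f : Ω → Ω), IsMap F P f → ∀ x ∈ P, x ∈ Z₂ →
      x⁻¹ * f x ∈ F.center := by
    intro P f hf x hx hxZ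
    obtain ⟨g, hg, hgx, hgZ⟩ := (isCentral_iff.1 hZc).2 P f hf
    set Q' := imageAlong θ (P ⊔ F.center) with hQ'
    have hpre : preimageAlong θ Q' = P ⊔ F.center := by
      ext y
      rw [mem_preimageAlong]
      constructor
      · rintro ⟨hy, h⟩
        obtain ⟨z, hz, hzP, he⟩ := mem_imageAlong.1 h
        have h1 : θ (⟨z, hz⟩⁻¹ * ⟨y, hy⟩) = 1 := by rw [map_mul, map_inv, he, inv_mul_cancel]
        have h2 : z⁻¹ * y ∈ F.center := (hker _).1 h1
        simpa using (P ⊔ F.center).mul_mem hzP (mem_sup_right h2)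
      · exact fun hy => ⟨hg.le hy, mem_imageAlong.2 ⟨y, hg.le hy, hy, rfl⟩⟩
    obtain ⟨ψ', hψ'⟩ := exists_inducedAlong (θ := θ) hg.le hg fun z hz h1 => by
      have hz1 : z ∈ F.center := (hker ⟨z, hg.le hz⟩).1 h1
      refine (hker ⟨g z, hg.mem hz⟩).2 ?_
      show g z ∈ F.center
      rw [hgZ z hz1]
      exact hz1
    have hψE : IsMap E Q' (toFun ψ') := by
      refine (isMap_induced_iff hmem hθ).2 ⟨fun y hy => ?_, g, hpre ▸ hg, fun z hz => ?_⟩
      · obtain ⟨z, hz, -, rfl⟩ := mem_imageAlong.1 hy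
        exact hθ ▸ ⟨_, rfl⟩
      · rw [toFun_of_mem ψ' (mem_preimageAlong.1 hz).2]
        exact hψ' z (hpre ▸ hz)
    obtain ⟨hxS, hxC⟩ := mem_preimageAlong.1 hxZ
    have hxQ : θ ⟨x, hxS⟩ ∈ Q' := mem_imageAlong.2 ⟨x, hxS, mem_sup_left hx, rfl⟩
    have h1 := IsCentral.apply_eq hCc hψE hxC hxQ
    rw [toFun_of_mem ψ' hxQ, hψ' x (mem_sup_left hx)] at h1
    have h2 : θ (⟨x, hxS⟩⁻¹ * ⟨g x, hg.mem (mem_sup_left hx)⟩) = 1 := by
      rw [map_mul, map_inv, h1, inv_mul_cancel]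
    have h3 : x⁻¹ * g x ∈ F.center := (hker _).1 h2
    rwa [hgx x hx] at h3
  have hsc : F.StronglyClosed Z₂ := stronglyClosed_iff.2 ⟨hZ₂S, fun R f hR hf x hx => by
    simpa using Z₂.mul_mem (hR hx) (hZle (hmod R f hf x hx (hR hx)))⟩
  have hZsc : F.StronglyClosed F.center := IsNormal.stronglyClosed (IsCentral.isNormal hZc)
  have hnormal : F.IsNormal Z₂ := by
    refine isNormal_of_le_centricRadical hS hF hsc fun P hc hr => ?_
    refine le_centricRadical_of_series hS hsc 2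
      (fun i => if i = 0 then ⊥ else if i = 1 then F.center else Z₂) rfl rfl ?_ ?_ ?_ hc hr
    · intro i hi
      interval_cases i
      · exact bot_le
      · exact hZle
    · intro i hi
      interval_cases i
      · show ⁅F.center, Z₂⁆ ≤ ⊥
        rw [le_bot_iff, Subgroup.commutator_eq_bot_iff_le_centralizer]
        intro z hz y hy
        exact ((hZcent.ge (hZ₂S hy)).2 z hz).symm
      · show ⁅Z₂, Z₂⁆ ≤ F.center
        rw [Subgroup.commutator_le]
        intro a ha b hb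
        obtain ⟨haS, haC⟩ := mem_preimageAlong.1 ha
        obtain ⟨hbS, hbC⟩ := mem_preimageAlong.1 hb
        have hbS' : θ ⟨b, hbS⟩ ∈ S' := hθ ▸ ⟨_, rfl⟩
        have hcomm : Commute (θ ⟨a, haS⟩) (θ ⟨b, hbS⟩) := (hCcent.ge hbS').2 _ haC
        refine (hker ⁅(⟨a, haS⟩ : S), ⟨b, hbS⟩⁆).1 ?_
        rw [map_commutatorElement, commutatorElement_eq_one_iff_commute]
        exact hcomm
    · intro i hi
      interval_cases i
      · exact StronglyClosed.weaklyClosed (IsNormal.stronglyClosed isNormal_bot)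
      · exact StronglyClosed.weaklyClosed hZsc
  -- no automorphisms of order prime to `p`
  have hp1 : ∀ γ ∈ F.autGroup Z₂, (orderOf γ).Coprime p → γ = 1 := by
    intro γ hγ hc
    refine eq_one_of_fixes_sub (hS.to_le hZ₂S) hc fun x => ?_
    have hm := isMap_of_autGroup hZ₂S hγ
    have h1 := hmod Z₂ _ hm x x.2 x.2
    rw [toFun_aut_apply γ x.2] at h1
    have h2 := IsCentral.apply_eq hZc hm (z := ((x⁻¹ * γ x : Z₂) : Ω)) h1 (x⁻¹ * γ x).2
    rw [toFun_aut_apply γ (x⁻¹ * γ x).2] at h2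
    exact Subtype.ext h2
  have hcent : centralizerIn S Z₂ = S := by
    refine le_antisymm inf_le_left (hperf.ge.trans (hyperfocal_le_of _ fun P hP α hα hc z => ?_))
    obtain ⟨g, hg, hgx, hgZ⟩ := (isNormal_iff.1 hnormal).2 P _ (isMap_of_autGroup hP hα)
    have hPZ := hg.le
    haveI := finite_of_le hPZ
    have hgi : img (P ⊔ Z₂) g = P ⊔ Z₂ := by
      rw [hg.img_sup le_sup_left le_sup_right, hgZ, img_congr hgx, img_toFun_aut]
    set β := hg.toAut hgi with hβdef
    have hpow : ∀ (n : ℕ) (y : P), (((β ^ n) ⟨y, mem_sup_left y.2⟩ : ↥(P ⊔ Z₂)) : Ω) =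
        (((α ^ n) y : P) : Ω) := by
      intro n
      induction n with
      | zero => intro y; rfl
      | succ n ih =>
        intro y
        have e : (β ^ n) ⟨y, mem_sup_left y.2⟩ = ⟨_, mem_sup_left ((α ^ n) y).2⟩ :=
          Subtype.ext (ih y)
        rw [pow_succ', MulAut.mul_apply, e, pow_succ', MulAut.mul_apply, IsMap.toAut_apply,
          hgx _ ((α ^ n) y).2, toFun_aut_apply α ((α ^ n) y).2]
    obtain ⟨e, he1, hec⟩ := exists_pow_coprime (p := p) (isOfFinOrder_of_finite β) hc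
    have hαe : α ^ e = α := by rw [← pow_mod_orderOf, he1, pow_mod_orderOf, pow_one]
    have hδ : β ^ e ∈ F.autGroup (P ⊔ Z₂) := pow_mem (hg.toAut_mem hgi) e
    obtain ⟨γ, hγ, hγx, hγo⟩ := exists_restrictAut hPZ le_sup_right hδ fun y hy => by
      have := StronglyClosed.apply_mem hsc (isMap_of_autGroup hPZ hδ) y.2 hy
      rwa [toFun_aut_apply _ y.2] at this
    have hγ1 := hp1 γ hγ (hec.coprime_dvd_left hγo)
    have hfix : ∀ (c : Ω) (hc : c ∈ Z₂),
        (((β ^ e) ⟨c, mem_sup_right hc⟩ : ↥(P ⊔ Z₂)) : Ω) = c := fun c hc => by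
      have := hγx ⟨c, hc⟩
      rw [hγ1] at this
      exact this.symm
    refine ⟨S.mul_mem (S.inv_mem (hP z.2)) (hP (α z).2), fun c hcZ => ?_⟩
    have hzc : (z : Ω) * c * (z : Ω)⁻¹ ∈ Z₂ := StronglyClosed.conj_mem hsc (hP z.2) hcZ
    have h1 := hfix _ hzc
    have e1 : (⟨(z : Ω) * c * (z : Ω)⁻¹, mem_sup_right hzc⟩ : ↥(P ⊔ Z₂)) =
        ⟨z, mem_sup_left z.2⟩ * ⟨c, mem_sup_right hcZ⟩ * ⟨z, mem_sup_left z.2⟩⁻¹ := rfl
    rw [e1, map_mul, map_mul, map_inv, Subgroup.coe_mul, Subgroup.coe_mul, Subgroup.coe_inv,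
      hfix c hcZ, hpow e z, hαe] at h1
    calc c * ((z : Ω)⁻¹ * ((α z : P) : Ω))
        = (z : Ω)⁻¹ * ((z : Ω) * c * (z : Ω)⁻¹) * ((α z : P) : Ω) := by group
      _ = _ := by rw [← h1]; group
  have hauto : ∀ γ ∈ F.autGroup Z₂, γ = 1 := by
    intro γ hγ
    have hfn : F.IsFullyNormalized Z₂ := by
      refine ⟨hZ₂S, fun R hR => ?_⟩
      obtain ⟨f, hf, rfl⟩ := isConj_iff.1 hR
      rw [StronglyClosed.img_eq hsc hf le_rfl]
    obtain ⟨W, hW⟩ := (fullyAutomized_of_fullyNormalized hS hF hfn).2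
    have hpg : IsPGroup p (F.autGroup Z₂) := isPGroup_of_coprime_trivial fun δ hδ =>
      Subtype.ext (hp1 δ δ.2 (by rwa [Subgroup.orderOf_coe]))
    have htop : (W : Subgroup (F.autGroup Z₂)) = ⊤ := by
      obtain ⟨W', hW'⟩ := (hpg.to_subgroup ⊤).exists_le_sylow
      exact W.3 (hpg.to_subgroup ⊤) le_top |>.symm
    have h1 : (⟨γ, hγ⟩ : F.autGroup Z₂) ∈ (W : Subgroup (F.autGroup Z₂)) := htop ▸ mem_top _
    rw [hW] at h1
    obtain ⟨a, ha, hax⟩ := mem_autInducedBy_iff.1 h1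
    refine MulEquiv.ext fun x => Subtype.ext ?_
    rw [show ((γ x : Z₂) : Ω) = a * (x : Ω) * a⁻¹ from hax x]
    show a * (x : Ω) * a⁻¹ = x
    rw [← (hcent.ge ha).2 x x.2, mul_inv_cancel_right]
  have hcentral : F.IsCentral Z₂ := isCentral_of_fixed hS hF hZ₂S fun P f hf hP z hz => by
    have hm := hf.mono hP
    have hi := StronglyClosed.img_eq hsc hm le_rfl
    have h1 := hm.toAut_apply hi ⟨z, hz⟩
    rw [hauto _ (hm.toAut_mem hi)] at h1
    exact h1.symm
  rw [eq_bot_iff]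
  intro y hy
  obtain ⟨s, rfl⟩ := hθ.ge (center_le E hy)
  exact Subgroup.mem_bot.2 ((hker s).2 (IsCentral.le_center hcentral (mem_preimageAlong.2 ⟨s.2, hy⟩)))

end CfsgLib.Fusion
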