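import Cfsg.Agent.Lib.Fusion.GroupFusion
import Cfsg.Agent.Lib.Fusion.Normal
import Cfsg.Agent.Lib.PLocal.Sylow

/-!
The fusion system of a normal subgroup is a normal subsystem.
-/

set_option autoImplicit false
set_option linter.style.haveILetI false
set_option linter.unusedSectionVars false
set_option linter.unusedVariables false

namespace CfsgLib.Fusion

open Cfsg Cfsg.FusionSystem Subgroup
open scoped Pointwise

variable {G : Type*} [Group G] [Finite G] {p : ℕ} [Fact p.Prime] (S : Sylow p G) (H : Subgroup G)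
  [H.Normal]

theorem inf_normal_stronglyClosed :
    (groupFusionSystem (S : Subgroup G)).StronglyClosed ((S : Subgroup G) ⊓ H) := by
  refine ⟨inf_le_left, fun R hR φ hφ x => ?_⟩
  obtain ⟨-, hv, g, hg⟩ := hφ
  exact ⟨hv x, hg x ▸ ‹H.Normal›.conj_mem _ (hR x.2).2 g⟩

theorem isNormalIn_of_normal :
    (fusionSystemOfSubgroup H ((S : Subgroup G) ⊓ H) inf_le_right).IsNormalIn
      (groupFusionSystem (S : Subgroup G)) p := by
  set T : Subgroup G := (S : Subgroup G) ⊓ H with hTdef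
  set E := fusionSystemOfSubgroup H T inf_le_right
  have hE : IsSystemOf E H := isSystemOf_subgroup H T inf_le_right
  have hF : IsSystemOf (groupFusionSystem (S : Subgroup G)) ⊤ := isSystemOf_group _
  have hTS : T ≤ (S : Subgroup G) := inf_le_left
  have hTp : IsPGroup p T := S.isPGroup'.to_le hTS
  have hidx : ¬ p ∣ T.relIndex H := PLocal.sylow_inf_normal_not_dvd S H
  have hsc := inf_normal_stronglyClosed S H
  refine ⟨⟨hE.isSaturated hTp hidx, group_isSaturated S, ?_, hsc, ?_, ?_⟩, ?_⟩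
  · rintro P φ ⟨hP, hv, g, -, hg⟩
    exact ⟨hP.trans hTS, fun x => hTS (hv x), g, hg⟩
  · -- invariance
    intro P hPT φ hφ α hα
    obtain ⟨-, hv, h, hh, hhx⟩ := hφ
    rw [hF.autGroup_eq hTS] at hα
    obtain ⟨g, -, hgx⟩ := mem_autInducedBy_iff.1 hα
    have hgn := mem_normalizer_of_aut hgx
    have hmem : ∀ y ∈ (P.subgroupOf T).map (T.subtype.comp α.toMonoidHom),
        ∃ (x : G) (hx : x ∈ P), y = g * x * g⁻¹ := by
      rintro _ ⟨s, hs, rfl⟩
      exact ⟨(s : G), hs, hgx s⟩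
    refine ⟨conjHom _ (g * h * g⁻¹), ⟨fun y hy => ?_, fun y => ?_, g * h * g⁻¹,
      ‹H.Normal›.conj_mem _ hh g, fun y => rfl⟩, fun x hφx hαx => ?_⟩
    · obtain ⟨x, hx, rfl⟩ := hmem y hy
      exact (hgn x).1 (hPT hx)
    · obtain ⟨x, hx, hy⟩ := hmem y y.2
      show g * h * g⁻¹ * (y : G) * (g * h * g⁻¹)⁻¹ ∈ T
      have e : g * h * g⁻¹ * (y : G) * (g * h * g⁻¹)⁻¹ = g * φ ⟨x, hx⟩ * g⁻¹ := by
        rw [hy, hhx]
        group
      rw [e]
      exact (hgn _).1 (hv _)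
    · show g * h * g⁻¹ * ((α ⟨x, hPT x.2⟩ : T) : G) * (g * h * g⁻¹)⁻¹ =
        ((α ⟨φ x, hφx⟩ : T) : G)
      rw [hgx, hgx]
      show g * h * g⁻¹ * (g * (x : G) * g⁻¹) * (g * h * g⁻¹)⁻¹ = g * φ x * g⁻¹
      rw [hhx]
      group
  · -- Frattini
    intro P hPT φ hφ
    obtain ⟨-, hv, g, hgx⟩ := hφ
    obtain ⟨c, hc, n, hn, e⟩ := PLocal.frattini_mul S H g⁻¹
    have hg : g = n⁻¹ * c⁻¹ := by rw [← mul_inv_rev, ← e, inv_inv]
    have hn' : n⁻¹ ∈ Subgroup.normalizer (T : Set G) := (Subgroup.normalizer (T : Set G)).inv_mem hn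
    refine ⟨T.normalizerMonoidHom ⟨n⁻¹, hn'⟩, ?_, conjHom P c⁻¹,
      ⟨hPT, fun x => ?_, c⁻¹, H.inv_mem hc, fun x => rfl⟩, fun x hx => ?_⟩
    · rw [hF.autGroup_eq hTS]
      exact mem_autInducedBy_iff.2 ⟨n⁻¹, Subgroup.mem_top _, fun x => rfl⟩
    · show c⁻¹ * (x : G) * c⁻¹⁻¹ ∈ T
      have hgT : φ x ∈ T := ⟨hv x, hgx x ▸ ‹H.Normal›.conj_mem _ (hPT x.2).2 g⟩
      have h1 := (Subgroup.mem_normalizer_iff''.1 hn' _).1 hgT
      have e1 : c⁻¹ * (x : G) * c⁻¹⁻¹ = n⁻¹⁻¹ * φ x * n⁻¹ := by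
        rw [hgx, hg]
        group
      rw [e1]
      exact h1
    · show φ x = n⁻¹ * (c⁻¹ * (x : G) * c⁻¹⁻¹) * n⁻¹⁻¹
      rw [hgx, hg]
      group
  · -- extension
    intro α hα
    rw [hE.autGroup_eq le_rfl] at hα
    obtain ⟨h, hh, hhx⟩ := mem_autInducedBy_iff.1 hα
    have hhn := mem_normalizer_of_aut hhx
    set C : Subgroup G := centralizerIn (S : Subgroup G) T with hC
    set C₀ : Subgroup G := Subgroup.centralizer (T : Set G) with hC₀
    set M : Subgroup G := C ⊔ (H ⊓ C₀) with hM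
    have hTfc : (groupFusionSystem (S : Subgroup G)).IsFullyCentralized T :=
      ⟨hTS, fun Q hQ => by
        obtain ⟨f, hf, rfl⟩ := CfsgLib.Fusion.isConj_iff.1 hQ
        rw [StronglyClosed.img_eq hsc hf le_rfl]⟩
    have hCidx := (hF.fullyCentralized_iff S.isPGroup' (not_dvd_relIndex_top S) hTS).1 hTfc
    rw [top_inf_eq] at hCidx
    have hMC : M ≤ C₀ := sup_le inf_le_right inf_le_right
    have hCM : C ≤ M := le_sup_left
    have hidxM : ¬ p ∣ C.relIndex M := fun hd => hCidx (hd.trans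
      (Subgroup.relIndex_mul_relIndex C M C₀ hCM hMC ▸ dvd_mul_right _ _))
    have hnorm : ∀ k ∈ Subgroup.normalizer (T : Set G), ∀ z ∈ C₀, k * z * k⁻¹ ∈ C₀ := by
      intro k hk z hz t ht
      have h1 := hz _ ((Subgroup.mem_normalizer_iff''.1 hk t).1 ht)
      calc t * (k * z * k⁻¹) = k * ((k⁻¹ * t * k) * z) * k⁻¹ := by group
        _ = k * (z * (k⁻¹ * t * k)) * k⁻¹ := by rw [h1]
        _ = k * z * k⁻¹ * t := by group
    have hle : conjSub h C ≤ M := by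
      rintro _ ⟨x, hx, rfl⟩
      show h * x * h⁻¹ ∈ M
      have h1 : h * x * h⁻¹ * x⁻¹ ∈ H ⊓ C₀ := by
        refine ⟨?_, C₀.mul_mem (hnorm h hhn x hx.2) (C₀.inv_mem hx.2)⟩
        rw [show h * x * h⁻¹ * x⁻¹ = h * (x * h⁻¹ * x⁻¹) by group]
        exact H.mul_mem hh (‹H.Normal›.conj_mem _ (H.inv_mem hh) x)
      rw [show h * x * h⁻¹ = h * x * h⁻¹ * x⁻¹ * x by group]
      exact M.mul_mem (Subgroup.mem_sup_right h1) (Subgroup.mem_sup_left hx)
    obtain ⟨k, hk, hkC⟩ := exists_conj_le_of_sylow (S.isPGroup'.to_le inf_le_left) hCM hidxM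
      (IsPGroup.map (S.isPGroup'.to_le inf_le_left) _) hle
    have hCn : C ≤ Subgroup.normalizer ((H ⊓ C₀ : Subgroup G) : Set G) := by
      intro c hc m
      constructor
      · rintro ⟨hmH, hmC⟩
        exact ⟨‹H.Normal›.conj_mem _ hmH c, C₀.mul_mem (C₀.mul_mem hc.2 hmC) (C₀.inv_mem hc.2)⟩
      · rintro ⟨hmH, hmC⟩
        have h1 := ‹H.Normal›.conj_mem _ hmH c⁻¹
        have h2 := C₀.mul_mem (C₀.mul_mem (C₀.inv_mem hc.2) hmC) hc.2
        exact ⟨by simpa [mul_assoc] using h1, by simpa [mul_assoc] using h2⟩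
    obtain ⟨c, hc, m, hm, hcm⟩ : k ∈ (C : Set G) * ((H ⊓ C₀ : Subgroup G) : Set G) := by
      rw [← Subgroup.coe_mul_of_left_le_normalizer_right C (H ⊓ C₀) hCn]
      exact hk
    set h' := m * h with hh'
    have hh'H : h' ∈ H := H.mul_mem hm.1 hh
    have hh'x : ∀ x : T, ((α x : T) : G) = h' * (x : G) * h'⁻¹ := fun x => by
      have h1 := hhx x
      have h2 := hm.2 _ (α x).2
      rw [h1] at h2 ⊢
      calc h * (x : G) * h⁻¹ = h * (x : G) * h⁻¹ * m * m⁻¹ := by group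
        _ = m * (h * (x : G) * h⁻¹) * m⁻¹ := by rw [h2]
        _ = _ := by rw [hh']; group
    have hC' : ∀ x ∈ C, h' * x * h'⁻¹ ∈ C := fun x hx => by
      have h1 : k * (h * x * h⁻¹) * k⁻¹ ∈ C := hkC (conj_mem_conjSub (conj_mem_conjSub hx))
      have h2 := C.mul_mem (C.mul_mem (C.inv_mem hc) h1) hc
      have e : h' * x * h'⁻¹ = c⁻¹ * (k * (h * x * h⁻¹) * k⁻¹) * c := by
        rw [hh', ← hcm]
        group
      rw [e]
      exact h2
    set W := T ⊔ C with hWdef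
    have hWS : W ≤ (S : Subgroup G) := sup_le hTS inf_le_left
    have hWim : conjSub h' W = W := by
      haveI : Finite W := inferInstance
      refine eq_of_le_of_card_le ?_ (card_conjSub h' W).ge
      rw [conjSub, Subgroup.map_sup, sup_le_iff]
      constructor
      · rintro _ ⟨x, hx, rfl⟩
        exact Subgroup.mem_sup_left ((mem_normalizer_of_aut hh'x x).1 hx)
      · rintro _ ⟨x, hx, rfl⟩
        exact Subgroup.mem_sup_right (hC' x hx)
    have hWn : h' ∈ Subgroup.normalizer (W : Set G) := fun x => by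
      constructor
      · intro hx
        exact hWim.le (conj_mem_conjSub hx)
      · intro hx
        have h1 : h' * x * h'⁻¹ ∈ conjSub h' W := hWim.ge hx
        rw [mem_conjSub] at h1
        simpa [mul_assoc] using h1
    refine ⟨W.normalizerMonoidHom ⟨h', hWn⟩, ?_, fun x => (hh'x x).symm, fun y hy => ?_⟩
    · rw [hF.autGroup_eq hWS]
      exact mem_autInducedBy_iff.2 ⟨h', Subgroup.mem_top _, fun x => rfl⟩
    · show (y : G)⁻¹ * (h' * (y : G) * h'⁻¹) ∈ T ⊓ Subgroup.centralizer (T : Set G)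
      have h1 : (y : G)⁻¹ * (h' * (y : G) * h'⁻¹) ∈ C := C.mul_mem (C.inv_mem hy) (hC' _ hy)
      refine ⟨⟨h1.1, ?_⟩, h1.2⟩
      rw [show (y : G)⁻¹ * (h' * (y : G) * h'⁻¹) = ((y : G)⁻¹ * h' * (y : G)⁻¹⁻¹) * h'⁻¹ by group]
      exact H.mul_mem (‹H.Normal›.conj_mem _ hh'H _) (H.inv_mem hh'H)

end CfsgLib.Fusion
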