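import Cfsg.Agent.Lib.Fusion.Alperin
import Cfsg.Agent.Lib.Fusion.Centric

/-!
Generating families of subgroups: for a fully normalized subgroup `Q`, a fusion system containing
every automizer of a subgroup not conjugate to `Q`, in which the automizer of `Q` is as small as
possible.
-/

set_option autoImplicit false
set_option linter.style.haveILetI false
set_option linter.unusedVariables false
set_option linter.unusedSectionVars false

universe u

namespace CfsgLib.Fusion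

open Cfsg Cfsg.FusionSystem Subgroup

variable {Ω : Type u} [Group Ω] {S : Subgroup Ω} {F : FusionSystem S} {P Q R : Subgroup Ω}
  {p : ℕ} {f g : Ω → Ω}

/-- The compositions of restrictions of maps on larger subgroups and of conjugations. -/
inductive ExtMap (F : FusionSystem S) : Subgroup Ω → (Ω → Ω) → Prop
  | big {P N : Subgroup Ω} {f : Ω → Ω} (h : IsMap F N f) (hlt : P < N) : ExtMap F P f
  | conj {P : Subgroup Ω} {a : Ω} (hP : P ≤ S) (ha : a ∈ S) : ExtMap F P fun x => a * x * a⁻¹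
  | comp {P : Subgroup Ω} {f g : Ω → Ω} (h₁ : ExtMap F P f) (h₂ : ExtMap F (img P f) g) :
      ExtMap F P fun x => g (f x)
  | congr {P : Subgroup Ω} {f g : Ω → Ω} (h : ExtMap F P f) (hfg : ∀ x ∈ P, f x = g x) :
      ExtMap F P g

theorem ExtMap.isMap {h : Ω → Ω} (hh : ExtMap F P h) : IsMap F P h := by
  induction hh with
  | big h hlt => exact h.mono hlt.le
  | conj hP ha => exact isMap_conj F hP ha
  | comp _ _ ih₁ ih₂ => exact ih₁.comp ih₂ fun x hx => ih₁.apply_mem_img hx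
  | congr _ hfg ih => exact ih.congr hfg

theorem img_lt_img [Finite S] (h : IsMap F R f) (hlt : P < R) : img P f < img R f := by
  refine lt_of_le_of_ne (img_mono hlt.le) fun he => hlt.ne ?_
  haveI := finite_of_le h.le
  exact eq_of_le_of_card_le hlt.le (by rw [← (h.mono hlt.le).card_img, he, h.card_img])

theorem ExtMap.exists_inv [Finite S] {h : Ω → Ω} (hh : ExtMap F P h) :
    ∃ k, ExtMap F (img P h) k ∧ ∀ x ∈ P, k (h x) = x := by
  induction hh with
  | big h hlt =>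
    obtain ⟨k, hk, hkx, -, -⟩ := h.exists_inv
    exact ⟨k, .big hk (img_lt_img h hlt), fun x hx => hkx x (hlt.le hx)⟩
  | @conj P a hP ha =>
    refine ⟨_, .conj (isMap_conj F hP ha).img_le (S.inv_mem ha), fun x hx => ?_⟩
    simp [mul_assoc]
  | @comp P f g h₁ h₂ ih₁ ih₂ =>
    obtain ⟨k₁, hk₁, hkx₁⟩ := ih₁
    obtain ⟨k₂, hk₂, hkx₂⟩ := ih₂
    have e : img P (fun x => g (f x)) = img (img P f) g :=
      (img_comp_eq h₁.isMap h₂.isMap fun x hx => h₁.isMap.apply_mem_img hx).trans rfl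
    have e2 : img (img (img P f) g) k₂ = img P f := by
      refine le_antisymm (fun y hy => ?_) fun y hy => ?_
      · obtain ⟨z, hz, rfl⟩ := hk₂.isMap.mem_img.1 hy
        obtain ⟨w, hw, rfl⟩ := h₂.isMap.mem_img.1 hz
        rwa [hkx₂ w hw]
      · exact hk₂.isMap.mem_img.2 ⟨g y, h₂.isMap.apply_mem_img hy, hkx₂ y hy⟩
    refine ⟨fun x => k₁ (k₂ x), e.symm ▸ ExtMap.comp hk₂ (e2.symm ▸ hk₁), fun x hx => ?_⟩
    show k₁ (k₂ (g (f x))) = x
    rw [hkx₂ _ (h₁.isMap.apply_mem_img hx), hkx₁ x hx]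
  | @congr P f g _ hfg ih =>
    obtain ⟨k, hk, hkx⟩ := ih
    exact ⟨k, img_congr hfg ▸ hk, fun x hx => by rw [← hfg x hx]; exact hkx x hx⟩

/-- The system of the maps whose restrictions to the conjugates of `Q` come from larger
subgroups. -/
noncomputable def avoidSys [Finite S] (F : FusionSystem S) (Q : Subgroup Ω) : FusionSystem S where
  Hom P := {φ | φ ∈ F.Hom P ∧ ∀ R ≤ P, F.IsConj Q R → ExtMap F R (toFun φ)}
  le_of_mem h := F.le_of_mem h.1
  injective_of_mem h := F.injective_of_mem h.1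
  conj_mem {P a} hP ha := ⟨F.conj_mem hP ha, fun R hR _ => (ExtMap.conj (hR.trans hP) ha).congr
    fun x hx => by rw [toFun_of_mem _ (hR hx)]; rfl⟩
  comp_mem {P P' φ ψ} hφ hψ h := by
    refine ⟨F.comp_mem hφ.1 hψ.1 h, fun R hR hRQ => ?_⟩
    have h1 := hφ.2 R hR hRQ
    have hle : img R (toFun φ) ≤ P' := fun y hy => by
      obtain ⟨x, hx, rfl⟩ := h1.isMap.mem_img.1 hy
      rw [toFun_of_mem φ (hR hx)]
      exact h _
    refine (h1.comp (hψ.2 _ hle (isConj_trans hRQ h1.isMap.isConj))).congr fun x hx => ?_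
    show toFun ψ (toFun φ x) = _
    rw [toFun_of_mem φ (hR hx), toFun_of_mem (ψ.comp _) (hR hx), toFun_of_mem ψ (h _)]
    rfl
  inv_mem {P φ} hφ := by
    obtain ⟨ψ, hψ, hψx⟩ := F.inv_mem hφ.1
    refine ⟨ψ, ⟨hψ, fun R hR hRQ => ?_⟩, hψx⟩
    have hm := isMap_of_hom hψ
    have hval : ∀ y ∈ R, ∃ hy : toFun ψ y ∈ P, φ ⟨toFun ψ y, hy⟩ = y := fun y hy => by
      obtain ⟨x, rfl⟩ := hR hy
      have e : toFun ψ (φ x) = x := by rw [toFun_of_mem ψ ⟨x, rfl⟩]; exact hψx x
      exact ⟨e.symm ▸ x.2, congrArg φ (Subtype.ext e)⟩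
    have hR' : img R (toFun ψ) ≤ P := fun y hy => by
      obtain ⟨x, hx, rfl⟩ := (hm.mono hR).mem_img.1 hy
      exact (hval x hx).1
    have h1 := hφ.2 _ hR' (isConj_trans hRQ (hm.mono hR).isConj)
    obtain ⟨k, hk, hkx⟩ := h1.exists_inv
    have e : img (img R (toFun ψ)) (toFun φ) = R := by
      refine le_antisymm (fun y hy => ?_) fun y hy => ?_
      · obtain ⟨x, hx, rfl⟩ := h1.isMap.mem_img.1 hy
        obtain ⟨z, hz, rfl⟩ := (hm.mono hR).mem_img.1 hx
        obtain ⟨h', he⟩ := hval z hz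
        rwa [toFun_of_mem φ h', he]
      · obtain ⟨h', he⟩ := hval y hy
        refine h1.isMap.mem_img.2 ⟨toFun ψ y, (hm.mono hR).apply_mem_img hy, ?_⟩
        rw [toFun_of_mem φ h', he]
    rw [e] at hk
    refine hk.congr fun y hy => ?_
    obtain ⟨h', he⟩ := hval y hy
    have h2 := hkx _ ((hm.mono hR).apply_mem_img hy)
    rwa [toFun_of_mem φ h', he] at h2

theorem isMap_avoidSys [Finite S] (hf : IsMap F P f)
    (h : ∀ R ≤ P, F.IsConj Q R → ExtMap F R f) : IsMap (avoidSys F Q) P f :=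
  ⟨hf.toHom, ⟨hf.toHom_mem, fun R hR hRQ =>
    (h R hR hRQ).congr fun x hx => by rw [toFun_of_mem _ (hR hx)]; rfl⟩, fun x => rfl⟩

section Saturated

variable [Fact p.Prime] [Finite S] (hS : IsPGroup p S) (hF : F.IsSaturated p)

theorem autGroup_le_avoidSys (hR : R ≤ S) (hn : ¬ F.IsConj Q R) :
    F.autGroup R ≤ (avoidSys F Q).autGroup R := by
  intro α hα
  have hm := isMap_of_autGroup hR hα
  refine (autGroup_iff_isMap hR fun x => (toFun_aut_apply α x.2).symm).2
    (isMap_avoidSys hm fun R' hR' hRQ => ?_)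
  rcases hR'.eq_or_lt with rfl | hlt
  · exact absurd hRQ hn
  · exact .big hm hlt

include hS hF

/-- In `avoidSys` the automorphisms of `Q` are generated by extendable ones and conjugations. -/
theorem autGroup_avoidSys_le (hQ : F.IsFullyNormalized Q) :
    (avoidSys F Q).autGroup Q ≤ extAut F Q ⊔ autInducedBy S Q := by
  have hQS := hQ.1
  haveI := finite_of_le hQS
  set K := extAut F Q ⊔ autInducedBy S Q with hK
  let Tr : Subgroup Ω → (Ω → Ω) → Prop := fun R ψ =>
    (R = Q → ψ = id) ∧ IsMap F (normalizerIn S R) ψ ∧ img R ψ = Q ∧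
      ∀ a ∈ normalizerIn S R, ψ a ∈ normalizerIn S Q
  have hid : Tr Q id := ⟨fun _ => rfl, isMap_id F inf_le_left, by simp [img], fun a ha => ha⟩
  have hex : ∀ R, F.IsConj Q R → ∃ ψ, Tr R ψ := fun R hRQ => by
    by_cases h : R = Q
    · exact ⟨id, h.symm ▸ hid⟩
    · obtain ⟨ψ, h1, h2, h3⟩ :=
        exists_map_normalizerIn_of_fullyNormalized hS hF hQ (isConj_symm hRQ)
      exact ⟨ψ, fun e => absurd e h, h1, h2, h3⟩
  have hpre : ∀ {R : Subgroup Ω} {ψ : Ω → Ω}, R ≤ S → Tr R ψ → ∀ z : Q, ∃ x ∈ R, ψ x = z := by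
    intro R ψ hRS h z
    exact ((h.2.1.mono (le_normalizerIn hRS)).mem_img (y := (z : Ω))).1 (h.2.2.1.symm ▸ z.2)
  have hbig : ∀ (R N : Subgroup Ω) (f : Ω → Ω), IsMap F N f → R < N →
      ∀ ψ, Tr R ψ → ∀ ψ', Tr (img R f) ψ' → ∀ β : MulAut Q,
        (∀ (x : Ω) (hx : x ∈ R) (hψx : ψ x ∈ Q), ((β ⟨ψ x, hψx⟩ : Q) : Ω) = ψ' (f x)) → β ∈ K := by
    intro R N f h hlt ψ hψ ψ' hψ' β hβ
    have hRS : R ≤ S := hlt.le.trans h.le
    set N₁ := normalizerIn N R with hN₁
    haveI := finite_of_le h.le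
    have hlt₁ : R < N₁ := lt_normalizerIn (hS.to_le h.le) hlt
    have hN₁N : N₁ ≤ N := inf_le_left
    have hN₁R : N₁ ≤ normalizerIn S R := fun a ha => ⟨h.le ha.1, ha.2⟩
    have hψN := hψ.2.1.mono hN₁R
    obtain ⟨k, hk, hkx, hky, -⟩ := hψN.exists_inv
    have hf' : ∀ a ∈ N₁, f a ∈ normalizerIn S (img R f) := fun a ha =>
      h.apply_mem_normalizerIn hlt.le (hN₁N ha) ha.2
    have hQM : Q < img N₁ ψ := by
      have := img_lt_img hψN hlt₁
      rwa [hψ.2.2.1] at this
    have hmap : IsMap F (img N₁ ψ) fun y => ψ' (f (k y)) :=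
      (hk.comp h fun y hy => hN₁N (hky y hy).1).comp hψ'.2.1 fun y hy => hf' _ (hky y hy).1
    refine Subgroup.mem_sup_left (Subgroup.subset_closure ⟨_, hQM, _, hmap, fun z => ?_⟩)
    obtain ⟨x, hx, hxz⟩ := hpre hRS hψ z
    show ψ' (f (k z)) = ((β z : Q) : Ω)
    rw [← hxz, hkx x (hlt₁.le hx), ← hβ x hx (hxz ▸ z.2)]
    congr 2
    exact Subtype.ext hxz
  suffices main : ∀ (R : Subgroup Ω) (f : Ω → Ω), ExtMap F R f → F.IsConj Q R →
      ∀ ψ, Tr R ψ → ∀ ψ', Tr (img R f) ψ' → ∀ β : MulAut Q,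
        (∀ (x : Ω) (hx : x ∈ R) (hψx : ψ x ∈ Q), ((β ⟨ψ x, hψx⟩ : Q) : Ω) = ψ' (f x)) → β ∈ K by
    intro α hα
    obtain ⟨φ, hφ, hφx⟩ := isMap_of_autGroup hQS hα
    have h0 : ∀ x : Q, φ x = ((α x : Q) : Ω) := fun x => (hφx x).trans (toFun_aut_apply α x.2)
    have h1 := hφ.2 Q le_rfl (isConj_refl hQS)
    have hi : img Q (toFun φ) = Q := eq_of_le_of_card_le (fun y hy => by
      obtain ⟨x, hx, rfl⟩ := h1.isMap.mem_img.1 hy
      rw [toFun_of_mem φ hx, h0]
      exact (α _).2) h1.isMap.card_img.ge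
    refine main Q _ h1 (isConj_refl hQS) id hid id (hi.symm ▸ hid) α fun x hx _ => ?_
    show ((α ⟨x, hx⟩ : Q) : Ω) = toFun φ x
    rw [toFun_of_mem φ hx, h0]
  intro R f hf
  induction hf with
  | @big R N f h hlt => exact fun _ => hbig R N f h hlt
  | @conj R a hRS ha =>
    intro hRQ
    rcases hRS.eq_or_lt with hRS' | hlt
    · intro ψ hψ ψ' hψ' β hβ
      subst hRS'
      have hQeq : R = Q := (eq_of_le_of_card_le hQS (isConj_card hRQ).le).symm
      subst hQeq
      have hm := isMap_conj F (le_refl R) ha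
      have hi : img R (fun x => a * x * a⁻¹) = R := eq_of_le_of_card_le hm.img_le hm.card_img.ge
      have e1 := hψ.1 rfl
      have e2 := hψ'.1 hi
      subst e1 e2
      refine Subgroup.mem_sup_right ((mem_autInducedBy_iff).2 ⟨a, ha, fun x => ?_⟩)
      exact hβ x x.2 x.2
    · exact hbig R S _ (isMap_conj F le_rfl ha) hlt
  | @comp R f g h₁ h₂ ih₁ ih₂ =>
    intro hRQ ψ hψ ψ' hψ' β hβ
    have hRS := h₁.isMap.le
    have hmid : F.IsConj Q (img R f) := isConj_trans hRQ h₁.isMap.isConj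
    obtain ⟨χ, hχ⟩ := hex _ hmid
    obtain ⟨k, hk, hkx, hky, -⟩ := (hψ.2.1.mono (le_normalizerIn hRS)).exists_inv
    rw [hψ.2.2.1] at hk hky
    have hm : IsMap F Q fun z => χ (f (k z)) :=
      (hk.comp h₁.isMap fun z hz => (hky z hz).1).comp (hχ.2.1.mono (le_normalizerIn h₁.isMap.img_le))
        fun z hz => h₁.isMap.apply_mem_img (hky z hz).1
    have hi : img Q (fun z => χ (f (k z))) = Q := eq_of_le_of_card_le (fun y hy => by
      obtain ⟨z, hz, rfl⟩ := hm.mem_img.1 hy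
      exact hχ.2.2.1.le ((hχ.2.1.mono (le_normalizerIn h₁.isMap.img_le)).apply_mem_img
        (h₁.isMap.apply_mem_img (hky z hz).1))) hm.card_img.ge
    have h1 : hm.toAut hi ∈ K := ih₁ hRQ ψ hψ χ hχ _ fun x hx hψx => by
      rw [IsMap.toAut_apply]
      show χ (f (k (ψ x))) = _
      rw [hkx x hx]
    have e : img R (fun x => g (f x)) = img (img R f) g :=
      img_comp_eq h₁.isMap h₂.isMap fun x hx => h₁.isMap.apply_mem_img hx
    have h2 : β * (hm.toAut hi)⁻¹ ∈ K := ih₂ hmid χ hχ ψ' (e ▸ hψ') _ fun y hy hχy => by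
      obtain ⟨x, hx, rfl⟩ := h₁.isMap.mem_img.1 hy
      have hψx : ψ x ∈ Q :=
        hψ.2.2.1.le ((hψ.2.1.mono (le_normalizerIn hRS)).apply_mem_img hx)
      have e' : (⟨χ (f x), hχy⟩ : Q) = hm.toAut hi ⟨ψ x, hψx⟩ := Subtype.ext (by
        rw [IsMap.toAut_apply]
        show χ (f x) = χ (f (k (ψ x)))
        rw [hkx x hx])
      rw [e', MulAut.mul_apply, MulAut.inv_apply_self]
      exact hβ x hx hψx
    simpa using K.mul_mem h2 h1
  | @congr R f g _ hfg ih =>
    intro hRQ ψ hψ ψ' hψ' β hβ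
    exact ih hRQ ψ hψ ψ' (by rwa [img_congr hfg]) β fun x hx hψx => by rw [hβ x hx hψx, hfg x hx]

theorem autInducedBy_le_extAut (hQ : Q ≤ S) (hQS : Q ≠ S) : autInducedBy S Q ≤ extAut F Q := by
  refine (Subgroup.closure_le _).2 fun α hα => Subgroup.subset_closure ?_
  obtain ⟨a, ha, hax⟩ := hα
  exact ⟨S, lt_of_le_of_ne hQ hQS, _, isMap_conj F le_rfl ha, fun x => (hax x).symm⟩

/-- The subgroups not conjugate to an essential one do not generate. -/
theorem exists_not_le_of_essential (hQ : F.IsEssential p Q) :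
    ∃ E : FusionSystem S, (∀ R, R ≤ S → ¬ F.IsConj Q R → F.autGroup R ≤ E.autGroup R) ∧
      ¬ F ≤ E := by
  refine ⟨avoidSys F Q, fun R hR hn => autGroup_le_avoidSys hR hn, fun hle => ?_⟩
  refine extAut_ne_of_essential hS hF hQ (le_antisymm extAut_le ?_)
  have hQS := lt_of_essential hS hF hQ
  refine le_trans (fun α hα => ?_) ((autGroup_avoidSys_le hS hF hQ.2.1).trans
    (sup_le le_rfl (autInducedBy_le_extAut hS hF hQS.le hQS.ne)))
  exact (autGroup_iff_isMap hQS.le fun x => (toFun_aut_apply α x.2).symm).2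
    (le_iff_isMap.1 hle _ _ (isMap_of_autGroup hQS.le hα))

/-- If the automizers of the fully normalized subgroups of order above `c` lie in `E`, so do the
maps on the subgroups of order above `c`. -/
theorem isMap_of_large_automizers {E : FusionSystem S} {c : ℕ}
    (h : ∀ T, F.IsFullyNormalized T → c < Nat.card T → F.autGroup T ≤ E.autGroup T)
    {M : Subgroup Ω} {f : Ω → Ω} (hf : IsMap F M f) (hc : c < Nat.card M) : IsMap E M f := by
  let Hc : Subgroup Ω → (Ω → Ω) → Prop := fun P f =>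
    ∀ R ≤ P, c < Nat.card R → IsMap E R f
  let F' : FusionSystem S :=
    { Hom := fun P => {φ | φ ∈ F.Hom P ∧ Hc P (toFun φ)}
      le_of_mem := fun h => F.le_of_mem h.1
      injective_of_mem := fun h => F.injective_of_mem h.1
      conj_mem := fun {P a} hP ha => ⟨F.conj_mem hP ha, fun R hR _ =>
        (isMap_conj E (hR.trans hP) ha).congr fun x hx => by rw [toFun_of_mem _ (hR hx)]; rfl⟩
      comp_mem := fun {P P' φ ψ} hφ hψ h => ⟨F.comp_mem hφ.1 hψ.1 h, fun R hR hRc => by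
        have h1 := hφ.2 R hR hRc
        have hmem : ∀ x ∈ R, toFun φ x ∈ P' := fun x hx => by
          rw [toFun_of_mem φ (hR hx)]; exact h _
        have hle : img R (toFun φ) ≤ P' := fun y hy => by
          obtain ⟨x, hx, rfl⟩ := h1.mem_img.1 hy
          exact hmem x hx
        refine (h1.comp (hψ.2 _ hle (h1.card_img.symm ▸ hRc)) fun x hx =>
          h1.apply_mem_img hx).congr fun x hx => ?_
        show toFun ψ (toFun φ x) = _
        rw [toFun_of_mem φ (hR hx), toFun_of_mem (ψ.comp _) (hR hx), toFun_of_mem ψ (h _)]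
        rfl⟩
      inv_mem := fun {P φ} hφ => by
        obtain ⟨ψ, hψ, hψx⟩ := F.inv_mem hφ.1
        refine ⟨ψ, ⟨hψ, fun R hR hRc => ?_⟩, hψx⟩
        have hm := (isMap_of_hom hψ).mono hR
        have hval : ∀ y ∈ R, ∃ hy : toFun ψ y ∈ P, φ ⟨toFun ψ y, hy⟩ = y := fun y hy => by
          obtain ⟨x, rfl⟩ := hR hy
          have e : toFun ψ (φ x) = x := by rw [toFun_of_mem ψ ⟨x, rfl⟩]; exact hψx x
          exact ⟨e.symm ▸ x.2, congrArg φ (Subtype.ext e)⟩
        have hR' : img R (toFun ψ) ≤ P := fun y hy => by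
          obtain ⟨x, hx, rfl⟩ := hm.mem_img.1 hy
          exact (hval x hx).1
        have h1 := hφ.2 _ hR' (hm.card_img.symm ▸ hRc)
        obtain ⟨k, hk, hkx, -, -⟩ := h1.exists_inv
        refine (hk.mono fun y hy => ?_).congr fun y hy => ?_
        · obtain ⟨h', he⟩ := hval y hy
          refine h1.mem_img.2 ⟨toFun ψ y, hm.apply_mem_img hy, ?_⟩
          rw [toFun_of_mem φ h', he]
        · obtain ⟨h', he⟩ := hval y hy
          have h2 := hkx _ (hm.apply_mem_img hy)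
          rwa [toFun_of_mem φ h', he] at h2 }
  have hle : F ≤ F' := alperin hS hF fun T hT α hα => by
    have hTn : F.IsFullyNormalized T := hT.elim (fun e => e ▸ fullyNormalized_top F) fun e => e.2.1
    have hm := isMap_of_autGroup hTn.1 hα
    refine (autGroup_iff_isMap hTn.1 fun x => (toFun_aut_apply α x.2).symm).2
      ⟨hm.toHom, ⟨hm.toHom_mem, fun R hR hRc => ?_⟩, fun x => rfl⟩
    haveI := finite_of_le hTn.1
    have hTc : c < Nat.card T := hRc.trans_le (Subgroup.card_le_of_le hR)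
    exact ((isMap_of_autGroup hTn.1 (h T hTn hTc hα)).mono hR).congr fun x hx => by
      rw [toFun_of_mem hm.toHom (hR hx)]
      rfl
  obtain ⟨φ, hφ, hφx⟩ := le_iff_isMap.1 hle M f hf
  exact (hφ.2 M le_rfl hc).congr fun x hx => by rw [toFun_of_mem φ hx, hφx ⟨x, hx⟩]

/-- The intersection of two closed generating families is generating. -/
theorem le_of_inter_generating (𝒬₁ 𝒬₂ : Set (Subgroup Ω))
    (h₁ : ∀ R ∈ 𝒬₁, ∀ R', F.IsConj R R' → R' ∈ 𝒬₁)
    (h₂ : ∀ R ∈ 𝒬₂, ∀ R', F.IsConj R R' → R' ∈ 𝒬₂)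
    (hg₁ : ∀ E : FusionSystem S, (∀ R ∈ 𝒬₁, F.autGroup R ≤ E.autGroup R) → F ≤ E)
    (hg₂ : ∀ E : FusionSystem S, (∀ R ∈ 𝒬₂, F.autGroup R ≤ E.autGroup R) → F ≤ E)
    (E : FusionSystem S) (hE : ∀ R ∈ 𝒬₁ ∩ 𝒬₂, F.autGroup R ≤ E.autGroup R) : F ≤ E := by
  suffices key : ∀ n, ∀ R, F.IsFullyNormalized R → Nat.card S - Nat.card R = n →
      F.autGroup R ≤ E.autGroup R from
    alperin hS hF fun R hR => by
      rcases hR with rfl | hR
      · exact key _ _ (fullyNormalized_top F) rfl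
      · exact key _ R hR.2.1 rfl
  intro n
  induction n using Nat.strong_induction_on with
  | _ n ih =>
    intro R hR hn
    have hone : ∀ 𝒬 : Set (Subgroup Ω), (∀ T ∈ 𝒬, ∀ T', F.IsConj T T' → T' ∈ 𝒬) →
        (∀ E : FusionSystem S, (∀ T ∈ 𝒬, F.autGroup T ≤ E.autGroup T) → F ≤ E) → R ∉ 𝒬 →
        F.autGroup R ≤ E.autGroup R := by
      intro 𝒬 hc hg hRn
      have hle : F ≤ avoidSys F R := hg _ fun T hT => by
        by_cases hTS : T ≤ S
        · exact autGroup_le_avoidSys hTS fun h => hRn (hc T hT R (isConj_symm h))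
        · rw [autGroup_eq_bot hTS]
          exact bot_le
      refine le_trans (fun α hα => (autGroup_iff_isMap hR.1 fun x => (toFun_aut_apply α x.2).symm).2
        (le_iff_isMap.1 hle _ _ (isMap_of_autGroup hR.1 hα)))
        ((autGroup_avoidSys_le hS hF hR).trans (sup_le ?_ (autInducedBy_le_autGroup hR.1)))
      refine (Subgroup.closure_le _).2 fun α hα => ?_
      obtain ⟨N, hlt, g, hg, hgx⟩ := hα
      haveI := finite_of_le hR.1
      haveI := finite_of_le hg.le
      -- maps on the larger subgroups are in `E`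
      suffices hbig : ∀ (M : Subgroup Ω) (f : Ω → Ω), IsMap F M f → Nat.card R < Nat.card M →
          IsMap E M f from
        (autGroup_iff_isMap hR.1 fun x => (hgx x).symm).2 ((hbig N g hg
          (lt_of_not_ge fun h => hlt.ne (eq_of_le_of_card_le hlt.le h))).mono hlt.le)
      intro M f hf hcard
      exact isMap_of_large_automizers hS hF (fun T hT hRT => ih _ (by
        have := Subgroup.card_le_of_le hT.1
        omega) T hT rfl) hf hcard
    by_cases h : R ∈ 𝒬₁
    · by_cases h' : R ∈ 𝒬₂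
      · exact hE R ⟨h, h'⟩
      · exact hone 𝒬₂ h₂ hg₂ h'
    · exact hone 𝒬₁ h₁ hg₁ h

end Saturated

end CfsgLib.Fusion
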