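import Cfsg.Agent.Lib.Fusion.LocalSaturationClass

/-!
Restriction of stabilizers and the subgroup of `N_S(x)` inducing `O_p` of the automizer.
-/

set_option autoImplicit false
set_option linter.unusedVariables false
set_option linter.unusedSectionVars false
set_option linter.style.haveILetI false

namespace CfsgLib.Fusion

open Cfsg Cfsg.FusionSystem Subgroup

/-! ### Groups -/

section Groups

variable {G : Type*} [Group G] [Finite G] {p : ℕ} [Fact p.Prime] {T : Subgroup G}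

/-- A `p`-subgroup into which all `p`-subgroups can be conjugated is a Sylow subgroup. -/
theorem exists_sylow_of_conjInto (hT : IsPGroup p T)
    (h : ∀ U : Subgroup G, IsPGroup p U → ∃ w : G, ∀ u ∈ U, w * u * w⁻¹ ∈ T) :
    ∃ P : Sylow p G, (P : Subgroup G) = T := by
  obtain ⟨P⟩ := (inferInstance : Nonempty (Sylow p G))
  obtain ⟨w, hw⟩ := h P P.isPGroup'
  obtain ⟨Q, hQ⟩ := hT.exists_le_sylow
  have h1 : Nat.card (P : Subgroup G) ≤ Nat.card T :=
    Nat.card_le_card_of_injective (fun u : (P : Subgroup G) => (⟨w * u * w⁻¹, hw u u.2⟩ : T))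
      fun a b hab => Subtype.ext (mul_left_cancel (mul_right_cancel (congrArg Subtype.val hab)))
  refine ⟨Q, ((eq_of_le_of_card_le hQ ?_)).symm⟩
  rw [Q.card_eq_multiplicity, ← P.card_eq_multiplicity]
  exact h1

/-- The Frattini argument for the intersection of a Sylow subgroup with a normal subgroup. -/
theorem exists_frattini_conj (P : Sylow p G) (N : Subgroup G) [N.Normal] (b : G) :
    ∃ c ∈ N, ∀ t ∈ (P : Subgroup G) ⊓ N, c * b * t * (c * b)⁻¹ ∈ (P : Subgroup G) ⊓ N := by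
  set T := (P : Subgroup G) ⊓ N with hT
  have hTp : IsPGroup p T := P.isPGroup'.to_le inf_le_left
  obtain ⟨T₁, hT₁⟩ :=
    (hTp.of_equiv (Subgroup.subgroupOfEquivOfLe (inf_le_right : T ≤ N)).symm).exists_le_sylow
  obtain ⟨U, hU⟩ := (T₁.isPGroup'.map N.subtype).exists_le_sylow
  obtain ⟨g, hg⟩ := MulAction.exists_smul_eq G U P
  have hle : (T₁ : Subgroup N) ≤ T.subgroupOf N := by
    have h1 : Nat.card (T₁ : Subgroup N) ≤ Nat.card (T.subgroupOf N) := by
      refine Nat.card_le_card_of_injective (fun u : (T₁ : Subgroup N) =>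
        (⟨⟨g * (u : N) * g⁻¹, Subgroup.Normal.conj_mem inferInstance _ (u : N).2 g⟩, ⟨?_,
          Subgroup.Normal.conj_mem inferInstance _ (u : N).2 g⟩⟩ : T.subgroupOf N)) fun a c hac => ?_
      · rw [← hg, Sylow.coe_subgroup_smul]
        exact ⟨_, hU ⟨u, u.2, rfl⟩, rfl⟩
      · exact Subtype.ext (Subtype.ext (mul_left_cancel (mul_right_cancel
          (congrArg (fun z : T.subgroupOf N => ((z : N) : G)) hac))))
    exact (eq_of_le_of_card_le hT₁ h1).ge
  have hconj : T.map (MulAut.conj b).toMonoidHom ≤ N := by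
    rintro _ ⟨t, ht, rfl⟩
    exact Subgroup.Normal.conj_mem inferInstance t ht.2 b
  obtain ⟨T₂, hT₂⟩ := ((hTp.map (MulAut.conj b).toMonoidHom).of_equiv
    (Subgroup.subgroupOfEquivOfLe hconj).symm).exists_le_sylow
  obtain ⟨c, hc⟩ := MulAction.exists_smul_eq N T₂ T₁
  refine ⟨c, c.2, fun t ht => ?_⟩
  have h2 : (⟨b * t * b⁻¹, hconj ⟨t, ht, rfl⟩⟩ : N) ∈ (T₂ : Subgroup N) := hT₂ ⟨t, ht, rfl⟩
  have h3 : c * ⟨b * t * b⁻¹, hconj ⟨t, ht, rfl⟩⟩ * c⁻¹ ∈ (T₁ : Subgroup N) := by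
    rw [← hc, Sylow.coe_subgroup_smul]
    exact ⟨_, h2, rfl⟩
  have e : (c : G) * b * t * ((c : G) * b)⁻¹ = c * (b * t * b⁻¹) * (c : G)⁻¹ := by group
  rw [e]
  exact hle h3

/-- An element of a normal subgroup with a `p`-group image agrees with one in the Sylow part. -/
theorem exists_mem_inf_eq {H : Type*} [Group H] (P : Sylow p G) (N : Subgroup G) [N.Normal]
    (f : G →* H) (hf : IsPGroup p (N.map f)) {c : G} (hc : c ∈ N) :
    ∃ t ∈ (P : Subgroup G) ⊓ N, f t = f c := by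
  set T := (P : Subgroup G) ⊓ N with hT
  have hTp : IsPGroup p T := P.isPGroup'.to_le inf_le_left
  obtain ⟨T₁, hT₁⟩ :=
    (hTp.of_equiv (Subgroup.subgroupOfEquivOfLe (inf_le_right : T ≤ N)).symm).exists_le_sylow
  let φ : N →* N.map f := f.subgroupMap N
  have hφ : Function.Surjective φ := f.subgroupMap_surjective N
  haveI : Finite (N.map f) := Finite.of_surjective φ hφ
  set T₁' := T₁.mapSurjective hφ with hT₁'
  have htop : ⊤ = (T₁' : Subgroup (N.map f)) :=
    T₁'.is_maximal' (hf.to_subgroup ⊤) le_top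
  have hmem : (φ ⟨c, hc⟩) ∈ (T₁' : Subgroup (N.map f)) := htop ▸ Subgroup.mem_top _
  rw [hT₁', Sylow.coe_mapSurjective] at hmem
  obtain ⟨t, ht, hte⟩ := hmem
  obtain ⟨U, hU⟩ := (T₁.isPGroup'.map N.subtype).exists_le_sylow
  obtain ⟨g, hg⟩ := MulAction.exists_smul_eq G U P
  have hle : (T₁ : Subgroup N) ≤ T.subgroupOf N := by
    have h1 : Nat.card (T₁ : Subgroup N) ≤ Nat.card (T.subgroupOf N) := by
      refine Nat.card_le_card_of_injective (fun u : (T₁ : Subgroup N) =>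
        (⟨⟨g * (u : N) * g⁻¹, Subgroup.Normal.conj_mem inferInstance _ (u : N).2 g⟩, ⟨?_,
          Subgroup.Normal.conj_mem inferInstance _ (u : N).2 g⟩⟩ : T.subgroupOf N)) fun a c hac => ?_
      · rw [← hg, Sylow.coe_subgroup_smul]
        exact ⟨_, hU ⟨u, u.2, rfl⟩, rfl⟩
      · exact Subtype.ext (Subtype.ext (mul_left_cancel (mul_right_cancel
          (congrArg (fun z : T.subgroupOf N => ((z : N) : G)) hac))))
    exact (eq_of_le_of_card_le hT₁ h1).ge
  exact ⟨t, hle ht, congrArg Subtype.val hte⟩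

end Groups

variable {Ω : Type*} [Group Ω] {S : Subgroup Ω} {F : FusionSystem S} {p : ℕ}
  {P Q R X Y L : Subgroup Ω} {f g : Ω → Ω}

/-! ### Restriction of stabilizers -/

/-- Restriction from the stabilizer of `Q` in `Aut_F(R)` to `Aut_F(Q)`. -/
noncomputable def resHom (hR : R ≤ S) (hQR : Q ≤ R) : locStabAut F R Q →* F.autGroup Q where
  toFun v := ⟨
    { toFun := fun y => ⟨((v : MulAut R) ⟨y, hQR y.2⟩ : R), (v.2.2 ⟨y, hQR y.2⟩).1 y.2⟩
      invFun := fun y => ⟨((v : MulAut R)⁻¹ ⟨y, hQR y.2⟩ : R), (v.2.2.inv ⟨y, hQR y.2⟩).1 y.2⟩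
      left_inv := fun y => Subtype.ext (by
        show (((v : MulAut R)⁻¹ ⟨((v : MulAut R) ⟨y, hQR y.2⟩ : R), _⟩ : R) : Ω) = y
        rw [Subtype.coe_eta, MulAut.inv_apply_self])
      right_inv := fun y => Subtype.ext (by
        show (((v : MulAut R) ⟨((v : MulAut R)⁻¹ ⟨y, hQR y.2⟩ : R), _⟩ : R) : Ω) = y
        rw [Subtype.coe_eta, MulAut.apply_inv_self])
      map_mul' := fun a b => Subtype.ext (by
        show (((v : MulAut R) (⟨a, hQR a.2⟩ * ⟨b, hQR b.2⟩) : R) : Ω) = _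
        rw [map_mul]
        rfl) },
    (autGroup_iff_isMap (hQR.trans hR) (f := autFun (v : MulAut R))
      fun y => (autFun_apply (v : MulAut R) (hQR y.2)).symm).2 ((isMap_autFun hR v.2.1).mono hQR)⟩
  map_one' := Subtype.ext (MulEquiv.ext fun y => rfl)
  map_mul' v w := Subtype.ext (MulEquiv.ext fun y => rfl)

theorem resHom_apply (hR : R ≤ S) (hQR : Q ≤ R) (v : locStabAut F R Q) (y : Q) :
    ((((resHom hR hQR v : F.autGroup Q) : MulAut Q) y : Q) : Ω) =
      (((v : MulAut R) ⟨y, hQR y.2⟩ : R) : Ω) := rfl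

/-! ### The elements inducing `O_p` of the automizer -/

/-- The elements of `N_S(x)` inducing on `x` an element of `O_p(Aut_F(x))`. -/
def kNorm (F : FusionSystem S) (p : ℕ) (x : Subgroup Ω) : Subgroup Ω where
  carrier := {a | a ∈ normalizerIn S x ∧ ∃ κ ∈ Cfsg.pCore p (F.autGroup x),
    ∀ u : x, ((((κ : F.autGroup x) : MulAut x) u : x) : Ω) = a * u * a⁻¹}
  one_mem' := ⟨one_mem _, 1, one_mem _, fun u => by simp⟩
  mul_mem' := by
    rintro a b ⟨ha, κ, hκ, hκx⟩ ⟨hb, μ, hμ, hμx⟩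
    refine ⟨mul_mem ha hb, κ * μ, mul_mem hκ hμ, fun u => ?_⟩
    rw [Subgroup.coe_mul, MulAut.mul_apply, hκx, hμx]
    group
  inv_mem' := by
    rintro a ⟨ha, κ, hκ, hκx⟩
    refine ⟨inv_mem ha, κ⁻¹, inv_mem hκ, fun u => ?_⟩
    have h := hκx ((((κ⁻¹ : F.autGroup x) : MulAut x)) u)
    rw [Subgroup.coe_inv, MulAut.apply_inv_self] at h
    rw [Subgroup.coe_inv, h]
    group

theorem kNorm_le {x : Subgroup Ω} : kNorm F p x ≤ normalizerIn S x := fun _ h => h.1

theorem self_le_kNorm [Fact p.Prime] [Finite S] (hS : IsPGroup p S) (hP : P ≤ S) :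
    P ≤ kNorm F p P := by
  intro a ha
  haveI := finite_of_le hP
  have hinn : ((Inn P).subgroupOf (F.autGroup P)).Normal := by
    refine ⟨fun b ⟨u, hu⟩ γ => ⟨(γ : MulAut P) u, ?_⟩⟩
    simp only [Subgroup.coe_subtype, Subgroup.coe_mul, Subgroup.coe_inv] at hu ⊢
    rw [← hu]
    ext z
    simp [MulAut.mul_apply, map_mul, map_inv]
  have hp : IsPGroup p ((Inn P).subgroupOf (F.autGroup P)) :=
    ((isPGroup_autInducedBy hS P).to_le (inn_le_autInducedBy hP)).comap_of_injective _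
      (Subgroup.subtype_injective _)
  refine ⟨le_normalizerIn hP ha, ⟨MulAut.conj ⟨a, ha⟩, inn_le_autGroup hP ⟨⟨a, ha⟩, rfl⟩⟩,
    CfsgLib.Solvable.le_pCore hinn hp ⟨⟨a, ha⟩, rfl⟩, fun u => rfl⟩

/-- Maps carry `kNorm` into `kNorm`. -/
theorem apply_mem_kNorm (hg : IsMap F L g) {x : Subgroup Ω} (hxL : x ≤ L) {a : Ω} (haL : a ∈ L)
    (ha : a ∈ kNorm F p x) : g a ∈ kNorm F p (img x g) := by
  obtain ⟨han, κ, hκ, hκx⟩ := ha
  have hm := hg.mono hxL
  let e : F.autGroup x ≃* F.autGroup (img x g) :=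
    ((MulAut.congr hm.equivImg).subgroupMap (F.autGroup x)).trans
      (MulEquiv.subgroupCongr hm.map_autGroup)
  refine ⟨hg.apply_mem_normalizerIn hxL haL han.2, e κ, ?_, fun u => ?_⟩
  · rw [← CfsgLib.Solvable.map_pCore_equiv e p]
    exact ⟨κ, hκ, rfl⟩
  · obtain ⟨v, hv, hvu⟩ := hm.mem_img.1 u.2
    have hsymm : hm.equivImg.symm u = ⟨v, hv⟩ := by
      rw [MulEquiv.symm_apply_eq]
      exact Subtype.ext hvu.symm
    show ((hm.equivImg ((κ : MulAut x) (hm.equivImg.symm u)) : img x g) : Ω) = _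
    rw [hsymm, IsMap.coe_equivImg, hκx, ← hvu]
    exact hg.map_conj haL (hxL hv)

theorem kNorm_conj_mem (hQ : Q ≤ S) {a b : Ω} (ha : a ∈ normalizerIn S Q) (hb : b ∈ kNorm F p Q) :
    a * b * a⁻¹ ∈ kNorm F p Q := by
  have hm := isMap_conj F (P := normalizerIn S Q) inf_le_left ha.1
  have h1 := apply_mem_kNorm hm (le_normalizerIn hQ) hb.1 hb
  have h2 : img Q (fun y => a * y * a⁻¹) = Q := by
    ext y
    rw [(hm.mono (le_normalizerIn hQ)).mem_img]
    constructor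
    · rintro ⟨u, hu, rfl⟩
      exact (ha.2 u).1 hu
    · exact fun hy => ⟨a⁻¹ * y * a, (Subgroup.mem_normalizer_iff''.1 ha.2 y).1 hy, by group⟩
  rwa [h2] at h1

theorem normalizerIn_le_normalizer_kNorm (hQ : Q ≤ S) :
    normalizerIn S Q ≤ Subgroup.normalizer (kNorm F p Q : Set Ω) := fun a ha b =>
  ⟨fun hb => kNorm_conj_mem hQ ha hb, fun hb => by
    have := kNorm_conj_mem hQ (inv_mem ha) hb
    simpa [mul_assoc] using this⟩

/-- Outside a subgroup not containing `kNorm Q` some element of it normalizes the subgroup. -/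
theorem exists_outside [Fact p.Prime] [Finite S] (hS : IsPGroup p S) (hQ : Q ≤ S)
    (hR : R ≤ normalizerIn S Q) (hnle : ¬ kNorm F p Q ≤ R) :
    ∃ b ∈ kNorm F p Q, b ∉ R ∧ b ∈ Subgroup.normalizer (R : Set Ω) := by
  have hJ : R ⊔ kNorm F p Q ≤ S :=
    sup_le (hR.trans inf_le_left) (kNorm_le.trans inf_le_left)
  haveI := finite_of_le hJ
  obtain ⟨u, hu, huR⟩ := SetLike.exists_of_lt
    (lt_normalizerIn (hS.to_le hJ) (left_lt_sup.2 hnle : R < R ⊔ kNorm F p Q))
  have h1 : u ∈ ((R ⊔ kNorm F p Q : Subgroup Ω) : Set Ω) := hu.1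
  rw [coe_mul_of_left_le_normalizer_right _ _
    (hR.trans (normalizerIn_le_normalizer_kNorm hQ))] at h1
  obtain ⟨r, hr, b, hb, hrb⟩ := h1
  refine ⟨b, hb, fun hbR => huR (hrb ▸ R.mul_mem hr hbR), ?_⟩
  have : b = r⁻¹ * u := by rw [← hrb]; group
  rw [this]
  exact mul_mem (inv_mem (Subgroup.le_normalizer hr)) hu.2

end CfsgLib.Fusion
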