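import Cfsg.Agent.Lib.Fusion.Center
import Cfsg.Agent.Lib.Fusion.Simple
import Cfsg.Agent.Lib.Fusion.ModelMain
import Cfsg.Agent.Lib.Fusion.ModelBasic

/-!
Elements of `Z(S)` fixed locally are central: the engine behind weak closure functors.
-/

set_option autoImplicit false
set_option linter.style.haveILetI false
set_option linter.unusedVariables false
set_option linter.unusedSectionVars false
set_option maxHeartbeats 400000

namespace CfsgLib.Fusion

open Cfsg Cfsg.FusionSystem Subgroup

variable {Ω : Type*} [Group Ω] {S : Subgroup Ω} {F : FusionSystem S}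
  {P Q R : Subgroup Ω} {f g : Ω → Ω} {p : ℕ} [Fact p.Prime] [Finite S]

/-- The automorphisms in `F` of every subgroup with larger normalizer than `U` fix `z`. -/
def FixedAbove (F : FusionSystem S) (z : Ω) (U : Subgroup Ω) : Prop :=
  ∀ V : Subgroup Ω, V ≤ S → Nat.card (normalizerIn S U) < Nat.card (normalizerIn S V) →
    ∀ α ∈ F.autGroup V, ∀ hz : z ∈ V, ((α ⟨z, hz⟩ : V) : Ω) = z

theorem lex_measure_lt {s a b a' b' : ℕ} (ha' : a' ≤ s) (hb : b ≤ s) (hb' : b' ≤ s)
    (h : a < a' ∨ (a ≤ a' ∧ b < b')) :
    (s + 1) * (s + 1) - (a' * (s + 1) + b') < (s + 1) * (s + 1) - (a * (s + 1) + b) := by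
  have h3 : a' * (s + 1) + b' < (s + 1) * (s + 1) := by nlinarith
  have h4 : a * (s + 1) + b < a' * (s + 1) + b' := by
    rcases h with h | ⟨h, h'⟩ <;> nlinarith
  omega

theorem normalizerIn_le_sup_centralizer (U : Subgroup Ω) :
    normalizerIn S U ≤ normalizerIn S (U ⊔ centralizerIn S U) := by
  have key : ∀ b ∈ normalizerIn S U, ∀ y ∈ U ⊔ centralizerIn S U,
      b * y * b⁻¹ ∈ U ⊔ centralizerIn S U := by
    intro b hb y hy
    have hb' : U ⊔ centralizerIn S U ≤
        (U ⊔ centralizerIn S U).comap (MulAut.conj b).toMonoidHom := by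
      refine sup_le (fun u hu => Subgroup.mem_sup_left ((hb.2 u).1 hu))
        fun c hc => Subgroup.mem_sup_right ⟨S.mul_mem (S.mul_mem hb.1 hc.1)
          (S.inv_mem hb.1), fun u hu => ?_⟩
      have h2 := hc.2 _ ((Subgroup.mem_normalizer_iff''.1 hb.2 u).1 hu)
      show u * (b * c * b⁻¹) = b * c * b⁻¹ * u
      calc u * (b * c * b⁻¹) = b * ((b⁻¹ * u * b) * c) * b⁻¹ := by group
        _ = b * (c * (b⁻¹ * u * b)) * b⁻¹ := by rw [h2]
        _ = b * c * b⁻¹ * u := by group
    exact hb' hy
  intro a ha
  refine ⟨ha.1, fun x => ⟨fun hx => key a ha x hx, fun hx => ?_⟩⟩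
  have h3 := key a⁻¹ ((normalizerIn S U).inv_mem ha) _ hx
  simpa [mul_assoc] using h3

theorem mem_center_of_local (hS : IsPGroup p S) (hF : F.IsSaturated p) {z : Ω}
    (hz : z ∈ S) (hzC : ∀ a ∈ S, a * z * a⁻¹ = z)
    (hloc : ∀ U, F.IsCentric U → F.IsFullyNormalized U → FixedAbove F z U →
      ∀ α ∈ F.autGroup U, ∀ hzU : z ∈ U, ((α ⟨z, hzU⟩ : U) : Ω) = z) :
    z ∈ F.center := by
  have hzS : Subgroup.zpowers z ≤ S := Subgroup.zpowers_le.2 hz
  have hC : centralizerIn S (Subgroup.zpowers z) = S := by
    refine inf_eq_left.2 fun a ha w hw => ?_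
    obtain ⟨n, rfl⟩ := Subgroup.mem_zpowers_iff.1 hw
    have h1 : Commute z a := by
      show z * a = a * z
      calc z * a = a * z * a⁻¹ * a := by rw [hzC a ha]
        _ = a * z := by group
    exact (h1.zpow_left n).eq
  set E := fixingSys F (Subgroup.zpowers z) hzS hC with hE
  have hfix : ∀ {P : Subgroup Ω} {f : Ω → Ω}, IsMap E P f → z ∈ P → f z = z := by
    intro P f hf hzP
    obtain ⟨-, -, g, hg, hgx, hgz⟩ := (isMap_fixingSys_iff hzS hC).1 hf
    rw [← hgx z hzP, hgz z (Subgroup.mem_zpowers z)]
  have hmk : ∀ {P : Subgroup Ω} {f : Ω → Ω}, IsMap F P f → z ∈ P → f z = z → IsMap E P f := by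
    intro P f hf hzP hfz
    refine mem_fixingSys_of_fixed hzS hC hf (Subgroup.zpowers_le.2 hzP) fun x hx => ?_
    have hle : Subgroup.zpowers z ≤ (hf.toHom.eqLocus P.subtype).map P.subtype :=
      Subgroup.zpowers_le.2 ⟨⟨z, hzP⟩, hfz, rfl⟩
    obtain ⟨v, hv, rfl⟩ := hle hx
    exact hv
  have hle : F ≤ E := by
    refine alperin_inductive hS hF fun R hR hlarge => ?_
    haveI := finite_of_le hR.1
    rcases hR.1.eq_or_lt with rfl | hRS
    · intro α hα
      refine (autGroup_iff_isMap le_rfl fun x => (toFun_aut_apply α x.2).symm).2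
        (hmk (isMap_of_autGroup le_rfl hα) hz ?_)
      rw [toFun_aut_apply α hz]
      refine hloc R (centric_of_fullyCentralized hS hF
        (fullyCentralized_of_fullyNormalized hS hF hR) inf_le_left) hR
        (fun V hV hlt => absurd hlt (not_lt.2 ?_)) α hα hz
      rw [show normalizerIn R R = R from inf_eq_left.2 Subgroup.le_normalizer]
      exact Subgroup.card_le_of_le inf_le_left
    by_cases hRc : F.IsCentric R
    · have inner : ∀ n, ∀ U : Subgroup Ω, U ≤ S →
          Nat.card R < Nat.card (normalizerIn S U) →
          (Nat.card S + 1) * (Nat.card S + 1) -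
            (Nat.card (normalizerIn S U) * (Nat.card S + 1) + Nat.card U) = n →
          ∀ α ∈ F.autGroup U, ∀ hzU : z ∈ U, ((α ⟨z, hzU⟩ : U) : Ω) = z := by
        intro n
        induction n using Nat.strong_induction_on with
        | _ n ih =>
          intro U hU hRU hn α hα hzU
          have hN1 : Nat.card (normalizerIn S U) ≤ Nat.card S := Subgroup.card_le_of_le inf_le_left
          have hU1 : Nat.card U ≤ Nat.card S := Subgroup.card_le_of_le hU
          haveI := finite_of_le hU
          by_cases hUn : F.IsFullyNormalized U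
          · by_cases hUc : F.IsCentric U
            · refine hloc U hUc hUn (fun V hV hlt β hβ hzV => ?_) α hα hzU
              have hV1 : Nat.card (normalizerIn S V) ≤ Nat.card S :=
                Subgroup.card_le_of_le inf_le_left
              have hV2 : Nat.card V ≤ Nat.card S := Subgroup.card_le_of_le hV
              exact ih _ (hn ▸ lex_measure_lt hV1 hU1 hV2 (Or.inl hlt)) V hV (lt_trans hRU hlt)
                rfl β hβ hzV
            · -- pass to `U C_S(U)`
              set Q := U ⊔ centralizerIn S U with hQdef
              have hQS : Q ≤ S := sup_le hU inf_le_left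
              haveI := finite_of_le hQS
              have hUQ : U < Q := by
                refine lt_of_le_of_ne le_sup_left fun he => hUc ?_
                exact centric_of_fullyCentralized hS hF (fullyCentralized_of_fullyNormalized hS hF hUn)
                  ((le_sup_right : centralizerIn S U ≤ Q).trans he.ge)
              have hm := isMap_of_autGroup hU hα
              obtain ⟨g, hg, hgx⟩ := receptive_extend_centralizer
                (receptive_of_fullyNormalized hS hF hUn) hm (img_toFun_aut α)
              have hgi : img Q g = Q := by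
                refine eq_of_le_of_card_le ?_ hg.card_img.ge
                have hgU : img U g = U := (img_congr hgx).trans (img_toFun_aut α)
                refine hg.img_sup_le le_sup_left le_sup_right (hgU.le.trans le_sup_left) ?_
                intro y hy
                obtain ⟨x, hx, rfl⟩ := (hg.mono le_sup_right).mem_img.1 hy
                have h1 := hg.apply_mem_centralizerIn le_sup_left (Subgroup.mem_sup_right hx) hx.2
                rw [hgU] at h1
                exact Subgroup.mem_sup_right h1
              have hNle : normalizerIn S U ≤ normalizerIn S Q := normalizerIn_le_sup_centralizer U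
              haveI := finite_normalizerIn (S := S) (P := Q)
              have h4 : Nat.card (normalizerIn S U) ≤ Nat.card (normalizerIn S Q) :=
                Subgroup.card_le_of_le hNle
              have h5 : Nat.card U < Nat.card Q :=
                lt_of_not_ge fun h => hUQ.ne (eq_of_le_of_card_le hUQ.le h)
              have h6 : Nat.card (normalizerIn S Q) ≤ Nat.card S :=
                Subgroup.card_le_of_le inf_le_left
              have h7 : Nat.card Q ≤ Nat.card S := Subgroup.card_le_of_le hQS
              have h8 := ih _ (hn ▸ lex_measure_lt h6 hU1 h7 (Or.inr ⟨h4, h5⟩)) Q hQS (lt_of_lt_of_le hRU h4) rfl _ (hg.toAut_mem hgi)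
                (Subgroup.mem_sup_left hzU)
              rw [hg.toAut_apply, hgx z hzU, toFun_aut_apply α hzU] at h8
              exact h8
          · -- pass to a fully normalized conjugate
            obtain ⟨U', hUU', hU'⟩ := exists_fullyNormalized_conj F hU
            obtain ⟨ψ, hψ, hψi, hψN⟩ :=
              exists_map_normalizerIn_of_fullyNormalized hS hF hU' hUU'
            have hψE : IsMap E (normalizerIn S U) ψ := hlarge _ ψ hψ hRU
            have hψz : ψ z = z := hfix hψE (le_normalizerIn hU hzU)
            subst hψi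
            have hlt : Nat.card (normalizerIn S U) < Nat.card (normalizerIn S (img U ψ)) := by
              by_contra hge
              refine hUn ⟨hU, fun V hV => ?_⟩
              exact (hU'.2 V (isConj_trans (isConj_symm hUU') hV)).trans (not_lt.1 hge)
            have hψU := hψ.mono (le_normalizerIn hU)
            have h6 : Nat.card (normalizerIn S (img U ψ)) ≤ Nat.card S :=
              Subgroup.card_le_of_le inf_le_left
            have h7 := hψU.card_img
            have hzU' : z ∈ img U ψ := by
              have := hψU.apply_mem_img hzU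
              rwa [hψz] at this
            have h8 := ih _ (hn ▸ lex_measure_lt h6 hU1 (h7.le.trans hU1) (Or.inl hlt)) _ hψU.img_le (lt_trans hRU hlt) rfl _
              (hψU.congr_mem_autGroup hα) hzU'
            have e : hψU.equivImg.symm ⟨z, hzU'⟩ = ⟨z, hzU⟩ := by
              rw [MulEquiv.symm_apply_eq]
              exact Subtype.ext hψz.symm
            have h9 : ψ ((α ⟨z, hzU⟩ : U) : Ω) = ψ z := by
              rw [hψz, ← e]
              exact h8
            exact hψU.inj (α ⟨z, hzU⟩).2 hzU h9
      intro α hα
      have hzR : z ∈ R := hRc.2 R (isConj_refl hR.1) ⟨hz, fun y hy => by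
        have h1 := hzC y (hR.1 hy)
        calc y * z = y * z * y⁻¹ * y := by group
          _ = z * y := by rw [h1]⟩
      haveI := finite_normalizerIn (S := S) (P := R)
      have hlt : Nat.card R < Nat.card (normalizerIn S R) := lt_of_not_ge fun h =>
        (lt_normalizerIn hS hRS).ne (eq_of_le_of_card_le (le_normalizerIn hR.1) h)
      refine (autGroup_iff_isMap hR.1 fun x => (toFun_aut_apply α x.2).symm).2
        (hmk (isMap_of_autGroup hR.1 hα) hzR ?_)
      rw [toFun_aut_apply α hzR]
      exact inner _ R hR.1 hlt rfl α hα hzR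
    · rw [← extAut_eq_of_not_centric hS hF hR hRc]
      refine (Subgroup.closure_le _).2 fun β hβ => ?_
      obtain ⟨V, hRV, g, hg, hgx⟩ := hβ
      haveI := finite_of_le hg.le
      have hlt : Nat.card R < Nat.card V :=
        lt_of_not_ge fun h => hRV.ne (eq_of_le_of_card_le hRV.le h)
      exact (autGroup_iff_isMap hR.1 fun x => (hgx x).symm).2 ((hlarge _ g hg hlt).mono hRV.le)
  exact IsCentral.le_center (isCentral_of_le_fixingSys hzS hC hle) (Subgroup.mem_zpowers z)

end CfsgLib.Fusion
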