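import Cfsg.Agent.Lib.Fusion.InvariantTransport
import Cfsg.Agent.Lib.Solvable.PCore
import Mathlib.Logic.Relation

/-!
The conjugacy class of a subgroup in a system saturated on all larger subgroups and generated by
maps on larger subgroups: every member maps with its normalizer to a fully normalized one.
-/

set_option autoImplicit false
set_option linter.unusedVariables false
set_option linter.unusedSectionVars false
set_option linter.style.haveILetI false

namespace CfsgLib.Fusion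

open Cfsg Cfsg.FusionSystem Subgroup

variable {Ω : Type*} [Group Ω] {S : Subgroup Ω} {F : FusionSystem S} {p : ℕ}
  {P R X Y Z L : Subgroup Ω} {f g : Ω → Ω}

/-- The class of `R` has a fully automized receptive member. -/
def LocSat (F : FusionSystem S) (p : ℕ) (R : Subgroup Ω) : Prop :=
  ∃ Q, F.IsConj R Q ∧ F.IsFullyAutomized p Q ∧ F.IsReceptive Q

/-- `α` carries `X` exactly to `Z`. -/
def Carries (α : MulAut R) (X Z : Subgroup Ω) : Prop :=
  ∀ a : R, (a : Ω) ∈ X ↔ ((α a : R) : Ω) ∈ Z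

theorem Carries.comp {α β : MulAut R} (hβ : Carries β X Y) (hα : Carries α Y Z) :
    Carries (α * β) X Z := fun a => (hβ a).trans (hα (β a))

theorem Carries.inv {α : MulAut R} (h : Carries α X Z) : Carries α⁻¹ Z X := fun a => by
  have := h (α⁻¹ a)
  rw [MulAut.apply_inv_self] at this
  exact this.symm

theorem carries_one : Carries (1 : MulAut R) X X := fun _ => Iff.rfl

/-- The automorphisms of the system on `R` stabilizing `X`. -/
def locStabAut (F : FusionSystem S) (R X : Subgroup Ω) : Subgroup (MulAut R) where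
  carrier := {α | α ∈ F.autGroup R ∧ Carries α X X}
  one_mem' := ⟨one_mem _, carries_one⟩
  mul_mem' := fun ha hb => ⟨mul_mem ha.1 hb.1, hb.2.comp ha.2⟩
  inv_mem' := fun ha => ⟨inv_mem ha.1, ha.2.inv⟩

theorem Carries.img_eq (hR : R ≤ S) {α : MulAut R} (hα : α ∈ F.autGroup R) (hX : X ≤ R)
    (hZ : Z ≤ R) (h : Carries α X Z) : img X (autFun α) = Z := by
  ext y
  rw [mem_img_autFun (isMap_autFun hR hα) hX]
  constructor
  · rintro ⟨x, hx, rfl⟩
    rw [autFun_apply α (hX hx)]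
    exact (h ⟨x, hX hx⟩).1 hx
  · intro hy
    refine ⟨(α⁻¹ ⟨y, hZ hy⟩ : R), (h.inv ⟨y, hZ hy⟩).1 hy, ?_⟩
    rw [autFun_apply α (SetLike.coe_mem _), Subtype.coe_eta, MulAut.apply_inv_self]

theorem carries_img (hR : R ≤ S) {α : MulAut R} (hα : α ∈ F.autGroup R) (hX : X ≤ R) :
    Carries α X (img X (autFun α)) := fun a => by
  rw [mem_img_autFun (isMap_autFun hR hα) hX]
  constructor
  · exact fun ha => ⟨a, ha, autFun_apply α a.2⟩
  · rintro ⟨x, hx, he⟩
    rw [autFun_apply α (hX hx)] at he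
    rw [← α.injective (Subtype.ext he : α ⟨x, hX hx⟩ = α a)]
    exact hx

theorem img_autFun_le (hR : R ≤ S) {α : MulAut R} (hα : α ∈ F.autGroup R) (hX : X ≤ R) :
    img X (autFun α) ≤ R := fun y hy => by
  obtain ⟨x, hx, rfl⟩ := (mem_img_autFun (isMap_autFun hR hα) hX).1 hy
  exact autFun_mem α (hX hx)

theorem autInducedBy_mono {K K' : Subgroup Ω} (h : K ≤ K') :
    autInducedBy K R ≤ autInducedBy K' R := fun α hα => by
  obtain ⟨a, ha, hax⟩ := mem_autInducedBy_iff.1 hα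
  exact mem_autInducedBy_iff.2 ⟨a, h ha, hax⟩

theorem autInducedBy_normalizerIn_le_stabAut (hR : R ≤ S) :
    autInducedBy (normalizerIn S X) R ≤ locStabAut F R X := fun α hα => by
  refine ⟨autInducedBy_le_autGroup hR (autInducedBy_mono inf_le_left hα), fun a => ?_⟩
  obtain ⟨g, hg, hgx⟩ := mem_autInducedBy_iff.1 hα
  rw [hgx]
  exact hg.2 (a : Ω)

/-- An automorphism of a receptive subgroup carrying the automorphisms induced by `L` into those
induced by `S` extends to `L`. -/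
theorem exists_extend (hr : F.IsReceptive R) {β : MulAut R} (hβ : β ∈ F.autGroup R) (hRL : R ≤ L)
    (hL : L ≤ normalizerIn S R)
    (hconj : ∀ κ ∈ autInducedBy L R, β * κ * β⁻¹ ∈ autInducedBy S R) :
    ∃ g, IsMap F L g ∧ ∀ x ∈ R, g x = autFun β x := by
  have hm := isMap_autFun hr.1 hβ
  refine receptive_extend hr hm (img_toFun_aut β) hRL fun a ha => ⟨(hL ha).1, (hL ha).2, ?_⟩
  let κ : MulAut R := R.normalizerMonoidHom ⟨a, (hL ha).2⟩
  obtain ⟨b, hb, hbx⟩ := mem_autInducedBy_iff.1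
    (hconj κ (mem_autInducedBy_iff.2 ⟨a, ha, fun x => rfl⟩))
  refine ⟨b, hb, fun x hx => ?_⟩
  have h1 := hbx (β ⟨x, hx⟩)
  rw [MulAut.mul_apply, MulAut.mul_apply, MulAut.inv_apply_self] at h1
  rw [autFun_apply β hx, autFun_apply β (((hL ha).2 x).1 hx), ← h1]
  rfl

section Sylow

variable [Fact p.Prime] [Finite S] (hS : IsPGroup p S)

include hS

theorem isPGroup_autInducedBy_le {K : Subgroup Ω} (hK : K ≤ S) (R : Subgroup Ω) :
    IsPGroup p (autInducedBy K R) :=
  (isPGroup_autInducedBy hS R).to_le (autInducedBy_mono hK)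

/-- Move `X` inside `R` so that the automorphisms induced by `S` contain a Sylow subgroup of the
stabilizer of the image. -/
theorem exists_carries_sylow (ha : F.IsFullyAutomized p R) (hX : X ≤ R) :
    ∃ β ∈ F.autGroup R, ∃ Y, Y ≤ R ∧ Carries β X Y ∧
      (∀ κ ∈ autInducedBy (normalizerIn S X) R, β * κ * β⁻¹ ∈ autInducedBy S R) ∧
      ∀ U : Subgroup (MulAut R), IsPGroup p U → U ≤ locStabAut F R Y →
        ∃ w ∈ locStabAut F R Y, ∀ u ∈ U, w * u * w⁻¹ ∈ autInducedBy S R := by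
  haveI := finite_of_le ha.1
  set B := locStabAut F R X with hB
  have hU₀ := autInducedBy_normalizerIn_le_stabAut (F := F) (X := X) ha.1
  obtain ⟨T₁, hT₁⟩ := ((isPGroup_autInducedBy_le hS (K := normalizerIn S X) inf_le_left R).of_equiv
    (Subgroup.subgroupOfEquivOfLe hU₀).symm).exists_le_sylow
  obtain ⟨β, hβ, hconj⟩ := exists_conj_le_autInducedBy ha ((T₁ : Subgroup B).map B.subtype)
    (T₁.isPGroup'.map _) ((Subgroup.map_subtype_le _).trans fun _ h => h.1)
  have hc := carries_img ha.1 hβ hX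
  refine ⟨β, hβ, _, img_autFun_le ha.1 hβ hX, hc, fun κ hκ => hconj κ ⟨⟨κ, hU₀ hκ⟩, hT₁ hκ, rfl⟩,
    fun U hU hUle => ?_⟩
  set U' := U.map (MulAut.conj β⁻¹).toMonoidHom with hU'
  have hU'le : U' ≤ B := by
    rintro _ ⟨u, hu, rfl⟩
    show β⁻¹ * u * β⁻¹⁻¹ ∈ B
    rw [inv_inv]
    refine ⟨mul_mem (mul_mem (inv_mem hβ) (hUle hu).1) hβ, ?_⟩
    exact hc.comp ((hUle hu).2.comp hc.inv)
  obtain ⟨T₂, hT₂⟩ := ((hU.map (MulAut.conj β⁻¹).toMonoidHom).of_equiv
    (Subgroup.subgroupOfEquivOfLe hU'le).symm).exists_le_sylow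
  obtain ⟨b, hb⟩ := MulAction.exists_smul_eq B T₂ T₁
  refine ⟨β * b * β⁻¹, ⟨mul_mem (mul_mem hβ b.2.1) (inv_mem hβ), hc.inv.comp (b.2.2.comp hc)⟩,
    fun u hu => ?_⟩
  have hv : β⁻¹ * u * β ∈ U' := ⟨u, hu, by simp⟩
  have h1 : b * ⟨_, hU'le hv⟩ * b⁻¹ ∈ (T₁ : Subgroup B) := by
    rw [← hb, Sylow.coe_subgroup_smul, Subgroup.mem_pointwise_smul_iff_inv_smul_mem]
    have h2 : (MulAut.conj b)⁻¹ • (b * ⟨_, hU'le hv⟩ * b⁻¹) = (⟨_, hU'le hv⟩ : B) := by
      rw [MulAut.smul_def, MulAut.conj_inv_apply]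
      group
    rw [h2]
    exact hT₂ hv
  have h3 := hconj _ ⟨_, h1, rfl⟩
  have e : β * b * β⁻¹ * u * (β * b * β⁻¹)⁻¹ =
      β * ((b : MulAut R) * (β⁻¹ * u * β) * (b : MulAut R)⁻¹) * β⁻¹ := by group
  rw [e]
  exact h3

end Sylow

/-! ### Steps inside a class -/

/-- `y` is the image of `x` under a map on a subgroup of `N_S(x)` of order at least `k`. -/
def WStep (F : FusionSystem S) (k : ℕ) (x y : Subgroup Ω) : Prop :=
  ∃ (R : Subgroup Ω) (g : Ω → Ω), IsMap F R g ∧ x ≤ R ∧ R ≤ normalizerIn S x ∧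
    k ≤ Nat.card R ∧ img x g = y

/-- Connected by steps of width at least `k`. -/
def WConn (F : FusionSystem S) (k : ℕ) : Subgroup Ω → Subgroup Ω → Prop :=
  Relation.EqvGen (WStep F k)

variable {k : ℕ} {x y z : Subgroup Ω}

theorem WStep.isConj (h : WStep F k x y) : F.IsConj x y := by
  obtain ⟨R, g, hg, hxR, -, -, rfl⟩ := h
  exact (hg.mono hxR).isConj

theorem img_le_normalizerIn (hg : IsMap F R g) (hxR : x ≤ R) (hR : R ≤ normalizerIn S x) :
    img R g ≤ normalizerIn S (img x g) := fun y hy => by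
  obtain ⟨a, ha, rfl⟩ := hg.mem_img.1 hy
  exact hg.apply_mem_normalizerIn hxR ha (hR ha).2

theorem WStep.symm (h : WStep F k x y) : WStep F k y x := by
  obtain ⟨R, g, hg, hxR, hR, hk, rfl⟩ := h
  obtain ⟨g', hg', hg'x, -, -⟩ := hg.exists_inv
  refine ⟨img R g, g', hg', img_mono hxR, img_le_normalizerIn hg hxR hR, by rw [hg.card_img]; exact hk,
    ?_⟩
  rw [← img_comp_eq (hg.mono hxR) hg' fun a ha => hg.apply_mem_img (hxR ha),
    img_congr (g := id) fun a ha => hg'x a (hxR ha)]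
  rw [img, Set.image_id, Subgroup.closure_eq]

theorem WStep.card_le (h : WStep F k x y) [Finite S] : k ≤ Nat.card (normalizerIn S x) := by
  obtain ⟨R, g, hg, hxR, hR, hk, -⟩ := h
  haveI := finite_normalizerIn (S := S) (P := x)
  exact hk.trans (Subgroup.card_le_of_le hR)

/-- Two steps from a vertex whose normalizer has order `k` give a step between the ends. -/
theorem WStep.through [Finite S] (hx : Nat.card (normalizerIn S x) = k) (h₁ : WStep F k x y)
    (h₂ : WStep F k x z) : WStep F k y z := by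
  haveI := finite_normalizerIn (S := S) (P := x)
  obtain ⟨R, g, hg, hxR, hR, hk, rfl⟩ := h₁
  obtain ⟨R', g', hg', hxR', hR', hk', rfl⟩ := h₂
  obtain rfl : R = normalizerIn S x := eq_of_le_of_card_le hR (by omega)
  obtain rfl : R' = normalizerIn S x := eq_of_le_of_card_le hR' (by omega)
  obtain ⟨gi, hgi, hgix, hgiy, -⟩ := hg.exists_inv
  refine ⟨img (normalizerIn S x) g, fun a => g' (gi a), hgi.comp hg' fun a ha => (hgiy a ha).1,
    img_mono hxR, img_le_normalizerIn hg hxR le_rfl, by rw [hg.card_img]; omega, ?_⟩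
  rw [img_comp_eq (hgi.mono (img_mono hxR)) hg' fun a ha => (hgiy a (img_mono hxR ha)).1,
    ← img_comp_eq (hg.mono hxR) hgi fun a ha => hg.apply_mem_img (hxR ha),
    img_congr (g := id) fun a ha => hgix a (hxR ha)]
  congr 1
  rw [img, Set.image_id, Subgroup.closure_eq]

section Widen

variable [Fact p.Prime] [Finite S] (hS : IsPGroup p S) {n : ℕ}
  (hbig : ∀ R ≤ S, n < Nat.card R → LocSat F p R)

include hS hbig

/-- A step that is full at neither end is replaced by wider ones. -/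
theorem WStep.widen (h : WStep F k x y) (hk : n < k) (hx : k < Nat.card (normalizerIn S x))
    (hy : k < Nat.card (normalizerIn S y)) : WConn F (k + 1) x y := by
  obtain ⟨R, g, hg, hxR, hR, hkR, rfl⟩ := h
  rcases lt_or_ge k (Nat.card R) with hlt | hge
  · exact Relation.EqvGen.rel _ _ ⟨R, g, hg, hxR, hR, hlt, rfl⟩
  obtain ⟨R₀, hRR₀, ha, hr⟩ := hbig R (hR.trans inf_le_left) (by omega)
  obtain ⟨f, hf, hfi⟩ := isConj_iff.1 hRR₀
  obtain ⟨τ, hτ, hτi, hτN, -⟩ := exists_map_normalizerIn hS ha hr hf hfi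
  obtain ⟨f', hf', hf'i⟩ := isConj_iff.1 (isConj_trans (isConj_symm hg.isConj) hRR₀)
  obtain ⟨τ', hτ', hτ'i, hτ'N, -⟩ := exists_map_normalizerIn hS ha hr hf' hf'i
  -- widen at the two ends
  have key : ∀ (R x : Subgroup Ω) (τ : Ω → Ω), x ≤ R → R ≤ normalizerIn S x →
      Nat.card R = k → k < Nat.card (normalizerIn S x) → IsMap F (normalizerIn S R) τ →
      img R τ = R₀ → (∀ a ∈ normalizerIn S R, τ a ∈ normalizerIn S R₀) →
      ∃ L : Subgroup Ω, k < Nat.card L ∧ R₀ ≤ L ∧ L ≤ normalizerIn S R₀ ∧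
        L ≤ normalizerIn S (img x τ) ∧ WStep F (k + 1) x (img x τ) := by
    intro R x τ hxR hR hRk hxk hτ hτi hτN
    haveI := finite_normalizerIn (S := S) (P := x)
    have hlt : R < normalizerIn S x := lt_of_le_of_ne hR fun e => by rw [e] at hRk; omega
    have h1 : R < normalizerIn (normalizerIn S x) R :=
      lt_normalizerIn (hS.to_le inf_le_left) hlt
    have h2 : normalizerIn (normalizerIn S x) R ≤ normalizerIn S R :=
      inf_le_inf_right _ inf_le_left
    have h3 : normalizerIn (normalizerIn S x) R ≤ normalizerIn S x := inf_le_left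
    have hm := hτ.mono h2
    haveI : Finite (normalizerIn (normalizerIn S x) R) := finite_normalizerIn
    have h4 : k < Nat.card (normalizerIn (normalizerIn S x) R) := by
      by_contra hge
      exact h1.ne (eq_of_le_of_card_le h1.le (by omega))
    refine ⟨img (normalizerIn (normalizerIn S x) R) τ, by rw [hm.card_img]; exact h4,
      hτi ▸ img_mono h1.le, fun z hz => ?_, img_le_normalizerIn hm (hxR.trans h1.le) h3,
      ⟨_, τ, hm, hxR.trans h1.le, h3, h4, rfl⟩⟩
    obtain ⟨a, ha, rfl⟩ := hm.mem_img.1 hz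
    exact hτN a (h2 ha)
  obtain ⟨L, hLk, hR₀L, hLR, hLx, hstep⟩ := key R x τ hxR hR (by omega) hx hτ hτi hτN
  obtain ⟨L', hL'k, hR₀L', hL'R, hL'x, hstep'⟩ := key (img R g) (img x g) τ' (img_mono hxR)
    (img_le_normalizerIn hg hxR hR) (by rw [hg.card_img]; omega) hy hτ' hτ'i hτ'N
  -- the automorphism between them
  have hRN : R ≤ normalizerIn S R := le_normalizerIn hg.le
  have hR'N : img R g ≤ normalizerIn S (img R g) := le_normalizerIn hg.img_le
  obtain ⟨ti, hti, htix, htiy, -⟩ := (hτ.mono hRN).exists_inv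
  have hm1 := hti.comp hg fun a ha => (htiy a ha).1
  have hm2 := hm1.comp hτ' fun a ha => hR'N (hg.apply_mem_img (htiy a ha).1)
  rw [hτi] at hm2
  have hm2i : img R₀ (fun a => τ' (g (ti a))) = R₀ := by
    haveI := finite_of_le ha.1
    refine eq_of_le_of_card_le (fun b hb => ?_) hm2.card_img.ge
    obtain ⟨a, haR, rfl⟩ := hm2.mem_img.1 hb
    rw [← hτ'i]
    exact (hτ'.mono hR'N).apply_mem_img (hg.apply_mem_img (htiy a (hτi.symm ▸ haR)).1)
  set α := hm2.toAut hm2i with hα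
  have hαA : α ∈ F.autGroup R₀ := hm2.toAut_mem hm2i
  have hxτ : img x τ ≤ R₀ := hτi ▸ img_mono hxR
  have hyτ : img (img x g) τ' ≤ R₀ := hτ'i ▸ img_mono (img_mono hxR)
  have hcα : Carries α (img x τ) (img (img x g) τ') := by
    intro a
    rw [IsMap.toAut_apply, (hτ.mono (hxR.trans hRN)).mem_img,
      (hτ'.mono ((img_mono hxR).trans hR'N)).mem_img]
    have haR : (a : Ω) ∈ img R τ := hτi.symm ▸ a.2
    constructor
    · rintro ⟨u, hu, hua⟩
      exact ⟨g u, (hg.mono hxR).apply_mem_img hu, by rw [← hua, htix u (hxR hu)]⟩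
    · rintro ⟨v, hv, hva⟩
      obtain ⟨u, hu, rfl⟩ := (hg.mono hxR).mem_img.1 hv
      refine ⟨u, hu, ?_⟩
      obtain ⟨hti1, hti2⟩ := htiy a haR
      have h1 := hτ'.inj (hR'N (hg.apply_mem_img (hxR hu))) (hR'N (hg.apply_mem_img hti1)) hva
      rw [hg.inj (hxR hu) hti1 h1, hti2]
  obtain ⟨β, hβ, Y, hY, hcβ, hβc, hsyl⟩ := exists_carries_sylow hS ha hxτ
  set δ := β * α⁻¹ with hδ
  have hcδ : Carries δ (img (img x g) τ') Y := hcα.inv.comp hcβ
  obtain ⟨w, hw, hwc⟩ := hsyl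
    ((autInducedBy (normalizerIn S (img (img x g) τ')) R₀).map (MulAut.conj δ).toMonoidHom)
    ((isPGroup_autInducedBy_le hS inf_le_left R₀).map _) (by
      rintro _ ⟨u, hu, rfl⟩
      have hu' := autInducedBy_normalizerIn_le_stabAut (F := F) ha.1 hu
      exact ⟨mul_mem (mul_mem (mul_mem hβ (inv_mem hαA)) hu'.1) (inv_mem (mul_mem hβ (inv_mem hαA))),
        hcδ.inv.comp (hu'.2.comp hcδ)⟩)
  obtain ⟨gb, hgb, hgbx⟩ := exists_extend hr hβ hR₀L hLR
    fun κ hκ => hβc κ (autInducedBy_mono hLx hκ)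
  have hwδ : w * δ ∈ F.autGroup R₀ := mul_mem hw.1 (mul_mem hβ (inv_mem hαA))
  obtain ⟨gw, hgw, hgwx⟩ := exists_extend hr hwδ hR₀L' hL'R fun κ hκ => by
    have := hwc _ ⟨κ, autInducedBy_mono hL'x hκ, rfl⟩
    rw [mul_inv_rev]
    simp only [MulEquiv.coe_toMonoidHom, MulAut.conj_apply] at this
    simpa only [mul_assoc] using this
  have s2 : WStep F (k + 1) (img x τ) Y := ⟨L, gb, hgb, hxτ.trans hR₀L, hLx, hLk, by
    rw [img_congr fun a ha => hgbx a (hxτ ha)]
    exact hcβ.img_eq ha.1 hβ hxτ hY⟩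
  have s3 : WStep F (k + 1) (img (img x g) τ') Y := ⟨L', gw, hgw, hyτ.trans hR₀L', hL'x, hL'k, by
    rw [img_congr fun a ha => hgwx a (hyτ ha)]
    exact (hcδ.comp hw.2).img_eq ha.1 hwδ hyτ hY⟩
  exact .trans _ _ _ (.rel _ _ hstep) (.trans _ _ _ (.rel _ _ s2)
    (.trans _ _ _ (.rel _ _ s3.symm) (.rel _ _ hstep'.symm)))

end Widen

end CfsgLib.Fusion
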