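import Cfsg.Agent.Lib.Fusion.OffenderMain
import Cfsg.Agent.Lib.Complement.AbelianThompson
import Cfsg.Agent.Lib.Complement.SymFour
import Cfsg.Agent.Lib.Complement.TwoTools

/-!
Glauberman's theorem for groups without a section `S₄`: an element of a normal abelian `2`-subgroup
fixed by a Sylow `2`-subgroup and by the normalizer of its Thompson subgroup is central.
-/

set_option autoImplicit false
set_option linter.style.haveILetI false
set_option linter.unusedVariables false
set_option linter.unusedSectionVars false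

universe u v

namespace CfsgLib.Fusion

open Cfsg Subgroup

section Image

variable {G : Type u} [Group G] [Finite G] {D : Type v} [Group D] {p : ℕ} [Fact p.Prime]
  (ρ : G →* D) {P J : Subgroup G}

theorem conjSub_map_hom (a : G) (J : Subgroup G) :
    conjSub (ρ a) (J.map ρ) = (conjSub a J).map ρ := by
  ext y
  constructor
  · rintro ⟨_, ⟨j, hj, rfl⟩, rfl⟩
    exact ⟨a * j * a⁻¹, conj_mem_conjSub hj, by simp⟩
  · rintro ⟨_, ⟨j, hj, rfl⟩, rfl⟩
    exact ⟨ρ j, ⟨j, hj, rfl⟩, by simp⟩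

theorem weaklyClosed_of_isPGroup (hP : IsPGroup p P) (hidx : ¬ p ∣ P.relIndex ⊤)
    (hw : ∀ a : G, conjSub a J ≤ P → conjSub a J = J) {T : Subgroup G} (hT : IsPGroup p T)
    (hJT : J ≤ T) {a : G} (ha : conjSub a J ≤ T) : conjSub a J = J := by
  obtain ⟨m, -, hmT⟩ := exists_conj_le_of_sylow hP le_top hidx hT le_top
  have h1 := hw m ((conjSub_mono hJT).trans hmT)
  have h2 := hw (m * a) (by rw [conjSub_mul]; exact (conjSub_mono ha).trans hmT)
  rw [conjSub_mul] at h2
  exact Subgroup.map_injective (f := (MulAut.conj m).toMonoidHom) (MulAut.conj m).injective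
    (h2.trans h1.symm)

/-- A weakly closed subgroup stays weakly closed in an image. -/
theorem conjSub_map_eq_of_le (hP : IsPGroup p P) (hidx : ¬ p ∣ P.relIndex ⊤) (hJP : J ≤ P)
    (hw : ∀ a : G, conjSub a J ≤ P → conjSub a J = J) {a : G}
    (ha : conjSub (ρ a) (J.map ρ) ≤ P.map ρ) : conjSub (ρ a) (J.map ρ) = J.map ρ := by
  set K := (P.map ρ).comap ρ with hK
  have hPK : P ≤ K := Subgroup.le_comap_map ρ P
  have hidxK : ¬ p ∣ P.relIndex K := fun h => hidx (h.trans
    (Dvd.intro _ (Subgroup.relIndex_mul_relIndex P K ⊤ hPK le_top)))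
  have hle : conjSub a J ≤ K := by
    rw [hK, ← Subgroup.map_le_iff_le_comap, ← conjSub_map_hom]
    exact ha
  obtain ⟨m, hm, hmP⟩ := exists_conj_le_of_sylow hP hPK hidxK ((hP.to_le hJP).map _) hle
  obtain ⟨s, hs, hsm⟩ := hm
  have h1 := hw (m * a) (by rw [conjSub_mul]; exact hmP)
  have h2 : conjSub s J = J := hw s (by
    rintro _ ⟨j, hj, rfl⟩
    exact P.mul_mem (P.mul_mem hs (hJP hj)) (P.inv_mem hs))
  have h3 : conjSub (ρ m) (conjSub (ρ a) (J.map ρ)) = conjSub (ρ m) (J.map ρ) := by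
    rw [← conjSub_mul, ← map_mul, conjSub_map_hom, h1, ← hsm, conjSub_map_hom, h2]
  exact Subgroup.map_injective (f := (MulAut.conj (ρ m)).toMonoidHom) (MulAut.conj (ρ m)).injective h3

/-- The normalizer of the image of a weakly closed subgroup comes from the normalizer. -/
theorem exists_normalizer_lift (hP : IsPGroup p P) (hidx : ¬ p ∣ P.relIndex ⊤) (hJP : J ≤ P)
    (hw : ∀ a : G, conjSub a J ≤ P → conjSub a J = J) {a : G}
    (ha : conjSub (ρ a) (J.map ρ) = J.map ρ) :
    ∃ j ∈ J, ∃ n : G, conjSub n J = J ∧ ρ j * ρ a = ρ n := by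
  set K := (J.map ρ).comap ρ with hK
  have hJK : J ≤ K := Subgroup.le_comap_map ρ J
  obtain ⟨T₀, hT₀⟩ := ((hP.to_le hJP).of_equiv
    (Subgroup.subgroupOfEquivOfLe hJK).symm).exists_le_sylow
  set T := (T₀ : Subgroup K).map K.subtype with hT
  have hJT : J ≤ T := fun j hj => ⟨⟨j, hJK hj⟩, hT₀ hj, rfl⟩
  have hle : conjSub a J ≤ K := by
    rw [hK, ← Subgroup.map_le_iff_le_comap, ← conjSub_map_hom, ha]
  obtain ⟨m, hm, hmT⟩ := exists_conj_le_of_sylow (T₀.isPGroup'.map K.subtype)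
    (Subgroup.map_subtype_le _) (not_dvd_relIndex_of_sylow T₀) ((hP.to_le hJP).map _) hle
  obtain ⟨j, hj, hjm⟩ := hm
  exact ⟨j, hj, m * a, weaklyClosed_of_isPGroup hP hidx hw (T₀.isPGroup'.map _) hJT
    (by rw [conjSub_mul]; exact hmT), by rw [hjm, map_mul]⟩

end Image

/-- Conjugates of the Thompson subgroup inside `P` equal it. -/
theorem thompsonAOf_weaklyClosed {G : Type u} [Group G] [Finite G] (P : Subgroup G) {a : G}
    (ha : conjSub a (Cfsg.thompsonSubgroupAOf P) ≤ P) :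
    conjSub a (Cfsg.thompsonSubgroupAOf P) = Cfsg.thompsonSubgroupAOf P := by
  refine Subgroup.eq_of_le_of_card_ge ?_ (card_conjSub a _).ge
  rw [conjSub, Subgroup.map_le_iff_le_comap]
  refine le_trans (CfsgLib.Complement.thompsonAOf_eq P).le (sSup_le fun A hA => ?_)
  rw [← Subgroup.map_le_iff_le_comap]
  refine CfsgLib.Complement.le_thompsonAOf ⟨(conjSub_mono
    (CfsgLib.Complement.le_thompsonAOf hA)).trans ha,
    CfsgLib.Complement.isMulCommutative_map _ hA.2.1, fun B hB hBc => ?_⟩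
  rw [Subgroup.card_map_of_injective (MulAut.conj a).injective]
  exact hA.2.2 B hB hBc

/-- Without a section `S₄`, no automorphism group induced on a normal abelian subgroup has a
section `S₃` on an elementary section. -/
theorem noThree_conjNormal {G : Type u} [Group G] [Finite G]
    (hfree : ¬ Cfsg.Involves (Equiv.Perm (Fin 4)) G) (V : Subgroup G) [V.Normal]
    [CfsgLibComm : IsMulCommutative V] :
    letI : CommGroup V := { (inferInstance : Group V) with mul_comm := fun a b => CfsgLibComm.is_comm.comm a b }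
    Offender.NoThree (MulAut.conjNormal (H := V)).range := by
  letI : CommGroup V := { (inferInstance : Group V) with mul_comm := fun a b => CfsgLibComm.is_comm.comm a b }
  rintro U F _ _ ⟨c, rfl⟩ ⟨l, rfl⟩ hFU hsq hcU hlU hcF hlF hcc hl3 hdih
  by_contra hnot
  push Not at hnot
  obtain ⟨u₀, hu₀, hne⟩ := hnot
  set U₂ := U.map V.subtype with hU₂
  set F₂ := F.map V.subtype with hF₂
  have hnorm : ∀ (A : Subgroup V) (g : G), (∀ u ∈ A, MulAut.conjNormal (H := V) g u ∈ A) →
      g ∈ Subgroup.normalizer ((A.map V.subtype : Subgroup G) : Set G) := by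
    intro A g h
    refine Subgroup.mem_normalizer_iff_map_conj_eq.2 (Subgroup.eq_of_le_of_card_ge ?_
      (Subgroup.card_map_of_injective (MulAut.conj g).injective).ge)
    rintro _ ⟨_, ⟨u, hu, rfl⟩, rfl⟩
    exact ⟨_, h u hu, MulAut.conjNormal_apply g u⟩
  set N := Subgroup.normalizer (U₂ : Set G) ⊓ Subgroup.normalizer (F₂ : Set G) with hN
  have hVN : ∀ A : Subgroup V, V ≤ Subgroup.normalizer ((A.map V.subtype : Subgroup G) : Set G) :=
    fun A g hg => hnorm A g fun u hu => by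
      have : MulAut.conjNormal (H := V) g u = u := Subtype.ext (by
        rw [MulAut.conjNormal_apply, show g * (u : G) = u * g from
          congrArg Subtype.val (CfsgLibComm.is_comm.comm (⟨g, hg⟩ : V) u), mul_inv_cancel_right])
      rwa [this]
  have hU₂N : U₂ ≤ N := le_inf ((Subgroup.map_subtype_le U).trans (hVN U))
    ((Subgroup.map_subtype_le U).trans (hVN F))
  have hcN : c ∈ N := ⟨hnorm U c hcU, hnorm F c hcF⟩
  have hlN : l ∈ N := ⟨hnorm U l hlU, hnorm F l hlF⟩
  haveI : (F₂.subgroupOf N).Normal :=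
    (Subgroup.normal_subgroupOf_iff_le_normalizer ((Subgroup.map_mono hFU).trans hU₂N)).2 inf_le_right
  let q := QuotientGroup.mk' (F₂.subgroupOf N)
  set W := (U₂.subgroupOf N).map q with hW
  have hmemW : ∀ u : V, ∀ hu : u ∈ U, q ⟨u, hU₂N ⟨u, hu, rfl⟩⟩ ∈ W := fun u hu =>
    ⟨⟨u, hU₂N ⟨u, hu, rfl⟩⟩, ⟨u, hu, rfl⟩, rfl⟩
  have hWsurj : ∀ y ∈ W, ∃ u : V, ∃ hu : u ∈ U, q ⟨u, hU₂N ⟨u, hu, rfl⟩⟩ = y := by
    rintro _ ⟨⟨_, h⟩, ⟨u, hu, rfl⟩, rfl⟩
    exact ⟨u, hu, rfl⟩
  have hcent : ∀ g : N, q g ∈ Subgroup.centralizer (W : Set (N ⧸ F₂.subgroupOf N)) ↔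
      ∀ u ∈ U, MulAut.conjNormal (H := V) (g : G) u * u⁻¹ ∈ F := by
    intro g
    have key : ∀ u : V, ∀ hu : u ∈ U, (q g * q ⟨u, hU₂N ⟨u, hu, rfl⟩⟩ * (q g)⁻¹ *
        (q ⟨u, hU₂N ⟨u, hu, rfl⟩⟩)⁻¹ = 1 ↔ MulAut.conjNormal (H := V) (g : G) u * u⁻¹ ∈ F) := by
      intro u hu
      rw [← map_inv, ← map_inv, ← map_mul, ← map_mul, ← map_mul, QuotientGroup.mk'_apply,
        QuotientGroup.eq_one_iff, Subgroup.mem_subgroupOf,
        ← Subgroup.mem_map_iff_mem V.subtype_injective]
      simp [hF₂]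
    constructor
    · intro h u hu
      refine (key u hu).1 ?_
      rw [← h _ (hmemW u hu), mul_inv_cancel_right, mul_inv_cancel]
    · intro h y hy
      obtain ⟨u, hu, rfl⟩ := hWsurj y hy
      have h1 := (key u hu).2 (h u hu)
      rw [mul_inv_eq_one, mul_inv_eq_iff_eq_mul] at h1
      exact h1.symm
  refine hfree (CfsgLib.Complement.involves_of_subgroup (L := N) (CfsgLib.Complement.involves_of_quotient
    (N := F₂.subgroupOf N)
    (CfsgLib.Complement.involves_symFour (W := W) (a := q ⟨c, hcN⟩) (k := q ⟨l, hlN⟩) ?_ ?_ ?_ ?_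
      ?_ ?_ ?_ ?_)))
  · intro x hx y hy
    obtain ⟨u, hu, rfl⟩ := hWsurj x hx
    obtain ⟨w, hw, rfl⟩ := hWsurj y hy
    rw [← map_mul, ← map_mul]
    congr 1
    refine Subtype.ext ?_
    show (u : G) * w = w * u
    exact congrArg Subtype.val (mul_comm u w)
  · intro x hx
    obtain ⟨u, hu, rfl⟩ := hWsurj x hx
    rw [← map_mul, QuotientGroup.mk'_apply, QuotientGroup.eq_one_iff, Subgroup.mem_subgroupOf]
    exact ⟨u * u, hsq u hu, rfl⟩
  all_goals first
    | (refine Subgroup.mem_normalizer_iff_map_conj_eq.2 (Subgroup.eq_of_le_of_card_ge ?_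
        (Subgroup.card_map_of_injective (MulAut.conj _).injective).ge)
       rintro _ ⟨y, hy, rfl⟩
       obtain ⟨u, hu, rfl⟩ := hWsurj y hy
       first
        | exact ⟨⟨_, hU₂N ⟨_, hcU u hu, rfl⟩⟩, ⟨_, hcU u hu, rfl⟩, congrArg q (Subtype.ext (MulAut.conjNormal_apply c u))⟩
        | exact ⟨⟨_, hU₂N ⟨_, hlU u hu, rfl⟩⟩, ⟨_, hlU u hu, rfl⟩, congrArg q (Subtype.ext (MulAut.conjNormal_apply l u))⟩)
    | skip
  · rw [← map_pow]
    exact (hcent _).2 fun u hu => by simpa using hl3 u hu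
  · exact fun h => hne ((hcent _).1 h u₀ hu₀)
  · rw [← map_mul]
    exact (hcent _).2 fun u hu => by simpa using hcc u hu
  · rw [← map_inv, ← map_mul, ← map_mul, ← map_mul]
    exact (hcent _).2 fun u hu => by simpa using hdih u hu

/-- The images of the abelian subgroups of largest order are good. -/
theorem good_conjNormal {G : Type u} [Group G] [Finite G] {P A : Subgroup G}
    (hP : IsPGroup 2 P) (hA : A ∈ CfsgLib.Complement.maxAbIn P) (V : Subgroup G) [V.Normal]
    (hVP : V ≤ P) [CfsgLibComm : IsMulCommutative V] :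
    letI : CommGroup V := { (inferInstance : Group V) with mul_comm := fun a b => CfsgLibComm.is_comm.comm a b }
    Offender.Good (A.map (MulAut.conjNormal (H := V))) := by
  letI : CommGroup V := { (inferInstance : Group V) with mul_comm := fun a b => CfsgLibComm.is_comm.comm a b }
  have hAc : ∀ a ∈ A, ∀ b ∈ A, a * b = b * a := fun a ha b hb =>
    congrArg Subtype.val (hA.2.1.is_comm.comm (⟨a, ha⟩ : A) ⟨b, hb⟩)
  refine ⟨(hP.to_le hA.1).map _, ?_, fun U hU => ?_⟩
  · rintro _ ⟨a, ha, rfl⟩ _ ⟨b, hb, rfl⟩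
    rw [← map_mul, ← map_mul, hAc a ha b hb]
  set ρ : G →* MulAut V := MulAut.conjNormal (H := V) with hρ
  set U₂ := U.map V.subtype with hU₂
  set A₀ := A ⊓ Subgroup.centralizer (U₂ : Set G) with hA₀
  have hU₂c : U₂ ≤ Subgroup.centralizer (U₂ : Set G) := by
    rintro _ ⟨u, hu, rfl⟩ _ ⟨w, hw, rfl⟩
    exact congrArg Subtype.val (mul_comm w u)
  set K := A₀ ⊔ U₂ with hK
  have hKc : IsMulCommutative K := by
    rw [← Subgroup.le_centralizer_iff_isMulCommutative]
    have h1 : K ≤ Subgroup.centralizer (A₀ : Set G) := sup_le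
      (fun a ha b hb => hAc b hb.1 a ha.1)
      (fun u hu b hb => (hb.2 u hu).symm)
    have h2 : K ≤ Subgroup.centralizer (U₂ : Set G) := sup_le inf_le_right hU₂c
    exact sup_le (Subgroup.le_centralizer_iff.1 h1) (Subgroup.le_centralizer_iff.1 h2)
  have hKP : K ≤ P := sup_le (inf_le_left.trans hA.1) ((Subgroup.map_subtype_le _).trans hVP)
  have hprod : Nat.card A₀ * Nat.card U₂ ≤ Nat.card ↥(A₀ ⊓ U₂) * Nat.card K := by
    have h1 := Subgroup.card_mul_index ((A₀ ⊓ U₂).subgroupOf A₀)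
    have h2 := Subgroup.card_mul_index (U₂.subgroupOf K)
    rw [Nat.card_congr (Subgroup.subgroupOfEquivOfLe (inf_le_left : A₀ ⊓ U₂ ≤ A₀)).toEquiv] at h1
    rw [Nat.card_congr (Subgroup.subgroupOfEquivOfLe (le_sup_right : U₂ ≤ K)).toEquiv] at h2
    rw [← h1, ← h2, mul_assoc]
    refine Nat.mul_le_mul le_rfl ?_
    rw [mul_comm (((A₀ ⊓ U₂).subgroupOf A₀).index)]
    refine Nat.mul_le_mul le_rfl ?_
    show (A₀ ⊓ U₂).relIndex A₀ ≤ U₂.relIndex K
    rw [Subgroup.inf_relIndex_left]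
    refine Subgroup.relIndex_le_of_le_right le_sup_left ?_
    intro h0
    exact absurd h2 (by
      rw [show (U₂.subgroupOf K).index = 0 from h0, mul_zero]
      exact Nat.card_pos.ne)
  have hfix : (U₂ ⊓ Subgroup.centralizer (A : Set G)) = (U ⊓ Offender.fixOf (A.map ρ)).map V.subtype := by
    ext g
    constructor
    · rintro ⟨⟨u, hu, rfl⟩, hg⟩
      refine ⟨u, ⟨hu, ?_⟩, rfl⟩
      rintro _ ⟨a, ha, rfl⟩
      refine Subtype.ext ((MulAut.conjNormal_apply a u).trans ?_)
      rw [show a * (u : G) = u * a from hg a ha]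
      exact mul_inv_cancel_right _ _
    · rintro ⟨u, ⟨hu, hf⟩, rfl⟩
      refine ⟨⟨u, hu, rfl⟩, fun a ha => ?_⟩
      have h1 := congrArg Subtype.val (hf (ρ a) ⟨a, ha, rfl⟩)
      rw [MulAut.conjNormal_apply, mul_inv_eq_iff_eq_mul] at h1
      exact h1
  have hsmall : Nat.card ↥(A₀ ⊓ U₂) ≤ Nat.card ↥(U ⊓ Offender.fixOf (A.map ρ)) := by
    rw [← Subgroup.card_map_of_injective V.subtype_injective, ← hfix]
    exact Subgroup.card_le_of_le fun g hg => ⟨hg.2, fun a ha => hAc a ha g hg.1.1⟩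
  have h0 : Nat.card U * Nat.card A₀ ≤ Nat.card A * Nat.card ↥(U ⊓ Offender.fixOf (A.map ρ)) := by
    calc Nat.card U * Nat.card A₀ = Nat.card A₀ * Nat.card U₂ := by
          rw [hU₂, Subgroup.card_map_of_injective V.subtype_injective, mul_comm]
      _ ≤ Nat.card ↥(A₀ ⊓ U₂) * Nat.card K := hprod
      _ ≤ Nat.card ↥(U ⊓ Offender.fixOf (A.map ρ)) * Nat.card A :=
          Nat.mul_le_mul hsmall (hA.2.2 K hKP hKc)
      _ = _ := mul_comm _ _
  let φ : A →* MulAut V := ρ.comp A.subtype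
  have hrange : φ.range = A.map ρ := by
    rw [MonoidHom.range_comp, Subgroup.range_subtype]
  have hker : (A.map ρ ⊓ Offender.kerOn U).comap φ = A₀.subgroupOf A := by
    ext a
    rw [Subgroup.mem_comap, Subgroup.mem_subgroupOf]
    constructor
    · rintro ⟨-, ha⟩
      refine ⟨a.2, ?_⟩
      rintro _ ⟨u, hu, rfl⟩
      have h1 : ((ρ a u : V) : G) = u := congrArg Subtype.val (ha u hu)
      rw [MulAut.conjNormal_apply, mul_inv_eq_iff_eq_mul] at h1
      exact h1.symm
    · rintro ⟨-, ha⟩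
      refine ⟨hrange.le ⟨a, rfl⟩, fun u hu => Subtype.ext ?_⟩
      refine (MulAut.conjNormal_apply (a : G) u).trans ?_
      rw [← ha u ⟨u, hu, rfl⟩, mul_inv_cancel_right]
  have h1 := Subgroup.card_mul_index ((A.map ρ ⊓ Offender.kerOn U).comap φ)
  rw [Subgroup.index_comap, hrange, hker,
    Nat.card_congr (Subgroup.subgroupOfEquivOfLe (inf_le_left : A₀ ≤ A)).toEquiv] at h1
  have h2 := Subgroup.card_mul_index φ.ker
  rw [Subgroup.index_ker, hrange] at h2
  have h3 := Subgroup.card_mul_index ((A.map ρ ⊓ Offender.kerOn U).subgroupOf (A.map ρ))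
  rw [Nat.card_congr (Subgroup.subgroupOfEquivOfLe
    (inf_le_left : A.map ρ ⊓ Offender.kerOn U ≤ A.map ρ)).toEquiv] at h3
  have hX : Nat.card A₀ = Nat.card φ.ker * Nat.card ↥(A.map ρ ⊓ Offender.kerOn U) := by
    have hr : 0 < ((A.map ρ ⊓ Offender.kerOn U).subgroupOf (A.map ρ)).index :=
      Nat.pos_of_ne_zero fun h => by
        rw [h, mul_zero] at h3
        exact Nat.card_pos.ne h3
    refine Nat.eq_of_mul_eq_mul_right hr ?_
    rw [mul_assoc, h3, h2]
    exact h1
  rw [hX, ← h2] at h0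
  refine Nat.le_of_mul_le_mul_left ?_ (Nat.card_pos (α := φ.ker))
  calc Nat.card φ.ker * (Nat.card U * Nat.card ↥(A.map ρ ⊓ Offender.kerOn U))
      = Nat.card U * (Nat.card φ.ker * Nat.card ↥(A.map ρ ⊓ Offender.kerOn U)) := by ring
    _ ≤ _ := h0.trans (le_of_eq (by ring))

/-- An element of a normal abelian `2`-subgroup fixed by a Sylow `2`-subgroup and by the normalizer
of its Thompson subgroup is central, without a section `S₄`. -/
theorem fixed_of_symFour_free {G : Type u} [Group G] [Finite G]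
    (hfree : ¬ Cfsg.Involves (Equiv.Perm (Fin 4)) G) (P : Sylow 2 G) {V : Subgroup G}
    (hVn : V.Normal) (hV : IsPGroup 2 V) (hVc : ∀ a ∈ V, ∀ b ∈ V, a * b = b * a) :
    ∀ w ∈ V, (∀ x ∈ (P : Subgroup G), x * w * x⁻¹ = w) →
      (∀ g ∈ Subgroup.normalizer ((Cfsg.thompsonSubgroupAOf (P : Subgroup G) : Subgroup G) : Set G),
        g * w * g⁻¹ = w) →
      ∀ g : G, g * w * g⁻¹ = w := by
  intro w
  induction hord : orderOf w using Nat.strong_induction_on generalizing w with
  | _ n ih =>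
    intro hw hwP hwN g
    rcases eq_or_ne w 1 with rfl | hw1
    · simp
    haveI : Fact (Nat.Prime 2) := ⟨Nat.prime_two⟩
    have hdvd : 2 ∣ orderOf w := by
      obtain ⟨k, hk⟩ := IsPGroup.iff_orderOf.1 hV ⟨w, hw⟩
      rw [Subgroup.orderOf_mk] at hk
      rcases Nat.eq_zero_or_pos k with rfl | hk0
      · exact absurd (orderOf_eq_one_iff.1 hk) hw1
      · exact hk ▸ dvd_pow_self 2 hk0.ne'
    have hsq : ∀ a : G, a * (w * w) * a⁻¹ = w * w := by
      refine ih (orderOf (w * w)) ?_ (w * w) rfl (V.mul_mem hw hw) ?_ ?_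
      · rw [← hord, ← pow_two, orderOf_pow_of_dvd two_ne_zero hdvd]
        exact Nat.div_lt_self (orderOf_pos w) one_lt_two
      · intro x hx
        conv_rhs => rw [← hwP x hx]
        group
      · intro x hx
        conv_rhs => rw [← hwN x hx]
        group
    set U := Subgroup.normalClosure {w} with hU
    have hUV : U ≤ V := Subgroup.normalClosure_le_normal (Set.singleton_subset_iff.2 hw)
    haveI hUc : IsMulCommutative U :=
      ⟨⟨fun a b => Subtype.ext (hVc a (hUV a.2) b (hUV b.2))⟩⟩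
    letI : CommGroup U := { (inferInstance : Group U) with mul_comm := fun a b => hUc.is_comm.comm a b }
    have hwU : w ∈ U := Subgroup.subset_normalClosure rfl
    set ρ : G →* MulAut U := MulAut.conjNormal (H := U) with hρ
    have hUP : U ≤ (P : Subgroup G) := hUV.trans (hV.le_sylow_of_normal P)
    set J := Cfsg.thompsonSubgroupAOf (P : Subgroup G) with hJ
    have hJP : J ≤ (P : Subgroup G) := CfsgLib.Complement.thompsonAOf_le _
    have hidx : ¬ 2 ∣ (P : Subgroup G).relIndex ⊤ := by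
      rw [Subgroup.relIndex_top_right]
      exact P.not_dvd_index
    have hwk : ∀ a : G, conjSub a J ≤ (P : Subgroup G) → conjSub a J = J := fun a ha =>
      thompsonAOf_weaklyClosed _ ha
    have key := Offender.fixedGoal (Nat.card ρ.range + Nat.card U) U ρ.range
      ((P : Subgroup G).map ρ) (J.map ρ) ⟨w, hwU⟩ le_rfl (hV.to_le hUV) ?_
      (noThree_conjNormal hfree U) (Subgroup.map_le_range ρ _) (P.isPGroup'.map ρ) ?_ ?_
      (Subgroup.map_mono hJP) ?_
      ⟨(fun A : Subgroup G => A.map ρ) '' CfsgLib.Complement.maxAbIn (P : Subgroup G), ?_, ?_⟩ ?_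
      (ρ g) ⟨g, rfl⟩
    · have h1 : ((ρ g ⟨w, hwU⟩ : U) : G) = w := congrArg Subtype.val key
      rwa [MulAut.conjNormal_apply] at h1
    · rintro _ ⟨a, rfl⟩
      exact Subtype.ext ((MulAut.conjNormal_apply a _).trans (hsq a))
    · intro h
      have h1 : (P : Subgroup G).map ρ.rangeRestrict = ((P : Subgroup G).map ρ).subgroupOf ρ.range := by
        ext m
        exact ⟨fun ⟨a, ha, he⟩ => ⟨a, ha, congrArg Subtype.val he⟩,
          fun ⟨a, ha, he⟩ => ⟨a, ha, Subtype.ext he⟩⟩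
      rw [Subgroup.relIndex, ← h1] at h
      exact P.not_dvd_index (h.trans (Subgroup.index_map_dvd _ ρ.rangeRestrict_surjective))
    · rintro _ ⟨a, ha, rfl⟩
      exact Subtype.ext ((MulAut.conjNormal_apply a _).trans (hwP a ha))
    · rintro _ ⟨a, rfl⟩ ha
      exact conjSub_map_eq_of_le ρ P.isPGroup' hidx hJP hwk ha
    · rw [hJ, CfsgLib.Complement.thompsonAOf_eq, (Subgroup.gc_map_comap ρ).l_sSup, sSup_image]
    · rintro _ ⟨A, hA, rfl⟩
      exact good_conjNormal P.isPGroup' hA U hUP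
    · rintro _ ⟨a, rfl⟩ ha
      obtain ⟨j, hj, m, hm, hjm⟩ := exists_normalizer_lift ρ P.isPGroup' hidx hJP hwk ha
      have h1 : ρ m ⟨w, hwU⟩ = ⟨w, hwU⟩ := Subtype.ext ((MulAut.conjNormal_apply m _).trans
        (hwN m (Subgroup.mem_normalizer_iff_map_conj_eq.2 hm)))
      have h2 : ρ j ⟨w, hwU⟩ = ⟨w, hwU⟩ := Subtype.ext ((MulAut.conjNormal_apply j _).trans
        (hwP j (hJP hj)))
      rw [← hjm, MulAut.mul_apply] at h1
      exact (ρ j).injective (h1.trans h2.symm)

end CfsgLib.Fusion
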