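import Cfsg.Agent.Lib.Fusion.QuadraticFixed

/-!
The trace argument for odd `p`: no `p`-th power is lost.
-/

set_option autoImplicit false
set_option linter.style.haveILetI false
set_option linter.unusedVariables false
set_option linter.unusedSectionVars false

namespace CfsgLib.Fusion.QuadraticTrace

open Subgroup
open scoped commutatorElement

variable {G : Type*} [Group G] {A : Type*} [CommGroup A] [MulDistribMulAction G A] {p : ℕ}
  {X : Type*} [MulAction G X] (f : X → A) (hf : ∀ (g : G) (x : X), f (g • x) = g • f x)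

include hf in
/-- The product over an orbit of a `p`-group moved by a quadratic element. -/
theorem exists_root_orbit_odd [Fact p.Prime] [Finite G] (hp : p ≠ 2) (Γ : Set G)
    (hΓ : ∀ γ ∈ Γ, ∀ a : A, γ • ((γ • a) / a) = (γ • a) / a) :
    ∀ (n : ℕ) (R : Subgroup G), Nat.card R = n → IsPGroup p R → ∀ c : X,
      (∃ γ ∈ Γ, γ ∈ R ∧ γ • c ≠ c) →
      ∃ a : A, (∀ r ∈ R, r • a ^ p = a ^ p) ∧ (∏ x ∈ orb R c, f x) = a ^ p := by
  intro n
  induction n using Nat.strong_induction_on with
  | _ n ih =>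
    intro R hn hR c hc
    classical
    set St : Subgroup R := MulAction.stabilizer R c with hSt
    have hSt' : St ≠ ⊤ := by
      obtain ⟨γ, -, hγR, hγc⟩ := hc
      intro htop
      have h1 : (⟨γ, hγR⟩ : R) ∈ St := htop ▸ Subgroup.mem_top _
      exact hγc h1
    haveI := hR.isNilpotent
    obtain ⟨M, hM, hStM⟩ := (eq_top_or_exists_le_coatom St).resolve_left hSt'
    haveI hMn : M.Normal :=
      Group.normalizerCondition_of_isNilpotent.normal_of_coatom M hM
    have hidx : M.index = p := by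
      obtain ⟨k, hk⟩ := hR.index M
      rcases Nat.eq_zero_or_pos k with rfl | hk0
      · rw [pow_zero, Subgroup.index_eq_one] at hk
        exact absurd hk hM.1
      · obtain ⟨y, hy⟩ := exists_prime_orderOf_dvd_card' (G := R ⧸ M) p (by
          rw [← Subgroup.index_eq_card, hk]
          exact dvd_pow_self p hk0.ne')
        have h1 : M ≤ (Subgroup.zpowers y).comap (QuotientGroup.mk' M) := fun x hx => by
          rw [Subgroup.mem_comap, QuotientGroup.mk'_apply, (QuotientGroup.eq_one_iff x).2 hx]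
          exact Subgroup.one_mem _
        have hsurj := QuotientGroup.mk'_surjective M
        have h2 : M < (Subgroup.zpowers y).comap (QuotientGroup.mk' M) := by
          refine lt_of_le_of_ne h1 fun he => ?_
          have h3 : Subgroup.zpowers y = ⊥ := by
            rw [← Subgroup.map_comap_eq_self_of_surjective hsurj (Subgroup.zpowers y), ← he,
              QuotientGroup.map_mk'_self]
          rw [Subgroup.zpowers_eq_bot] at h3
          rw [h3, orderOf_one] at hy
          exact (Fact.out : p.Prime).one_lt.ne hy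
        have h4 : Subgroup.zpowers y = ⊤ := by
          rw [← Subgroup.map_comap_eq_self_of_surjective hsurj (Subgroup.zpowers y), hM.2 _ h2,
            Subgroup.map_top_of_surjective _ hsurj]
        rw [Subgroup.index_eq_card, ← hy, ← Nat.card_zpowers, h4, Subgroup.card_top]
    set R' : Subgroup G := M.map R.subtype with hR'def
    have hR'R : R' ≤ R := Subgroup.map_subtype_le _
    have hstab : ∀ r ∈ R, r • c = c → r ∈ R' := fun r hr hrc =>
      ⟨⟨r, hr⟩, hStM (show (⟨r, hr⟩ : R) ∈ St from hrc), rfl⟩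
    have hnorm : ∀ t ∈ R, ∀ s ∈ R', t * s * t⁻¹ ∈ R' := by
      rintro t ht _ ⟨s, hs, rfl⟩
      exact ⟨_, hMn.conj_mem s hs ⟨t, ht⟩, rfl⟩
    have hlt : Nat.card R' < n := by
      rw [hR'def, Subgroup.card_map_of_injective R.subtype_injective, ← hn,
        ← Subgroup.card_mul_index M, hidx]
      exact lt_mul_of_one_lt_right Nat.card_pos (Fact.out : p.Prime).one_lt
    -- decomposition of the orbit along an element outside `M`
    have hdec : ∀ t ∈ R, t ∉ R' → (∀ i < p, ∀ j < p, ∀ x ∈ orb R' c, ∀ y ∈ orb R' c,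
        t ^ i • x = t ^ j • y → i = j) ∧
        orb R c = (Finset.range p).biUnion fun i => (orb R' c).image (t ^ i • ·) := by
      intro t ht htR'
      have htM : (QuotientGroup.mk' M ⟨t, ht⟩ : R ⧸ M) ≠ 1 := fun h =>
        htR' ⟨⟨t, ht⟩, (QuotientGroup.eq_one_iff _).1 h, rfl⟩
      have hord : orderOf (QuotientGroup.mk' M ⟨t, ht⟩ : R ⧸ M) = p :=
        orderOf_eq_prime (by
          rw [← hidx, Subgroup.index_eq_card]
          exact pow_card_eq_one') htM
      constructor
      · intro i hi j hj x hx y hy he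
        obtain ⟨a, ha, rfl⟩ := mem_orb.1 hx
        obtain ⟨b, hb, rfl⟩ := mem_orb.1 hy
        rw [smul_smul, smul_smul] at he
        have h1 : (t ^ j * b)⁻¹ * (t ^ i * a) ∈ R' :=
          hstab _ (R.mul_mem (R.inv_mem (R.mul_mem (R.pow_mem ht j) (hR'R hb)))
            (R.mul_mem (R.pow_mem ht i) (hR'R ha))) (by rw [mul_smul, he, inv_smul_smul])
        have h2 : (t ^ j)⁻¹ * t ^ i ∈ R' := by
          have := R'.mul_mem (R'.mul_mem hb h1) (R'.inv_mem ha)
          simpa [mul_assoc] using this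
        obtain ⟨m, hm, hme⟩ := h2
        have h3 : (QuotientGroup.mk' M ⟨t, ht⟩ : R ⧸ M) ^ i =
            (QuotientGroup.mk' M ⟨t, ht⟩) ^ j := by
          refine eq_of_inv_mul_eq_one ?_ |>.symm
          rw [← map_pow, ← map_pow, ← map_inv, ← map_mul]
          refine (QuotientGroup.eq_one_iff _).2 ?_
          have : m = (⟨t, ht⟩ ^ j : R)⁻¹ * (⟨t, ht⟩ : R) ^ i := Subtype.ext (by
            rw [← Subgroup.coe_subtype, hme]
            simp)
          rwa [← this]
        exact pow_injOn_Iio_orderOf (by rwa [hord]) (by rwa [hord]) h3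
      · ext x
        simp only [Finset.mem_biUnion, Finset.mem_range, Finset.mem_image]
        constructor
        · intro hx
          obtain ⟨r, hr, rfl⟩ := mem_orb.1 hx
          have hgen : (QuotientGroup.mk' M ⟨r, hr⟩ : R ⧸ M) ∈
              Subgroup.zpowers (QuotientGroup.mk' M ⟨t, ht⟩ : R ⧸ M) := by
            have : Subgroup.zpowers (QuotientGroup.mk' M ⟨t, ht⟩ : R ⧸ M) = ⊤ := by
              refine Subgroup.eq_top_of_card_eq _ ?_
              rw [Nat.card_zpowers, hord, ← Subgroup.index_eq_card, hidx]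
            rw [this]
            exact Subgroup.mem_top _
          rw [mem_zpowers_iff_mem_range_orderOf, hord, Finset.mem_image] at hgen
          obtain ⟨i, hi, he⟩ := hgen
          refine ⟨i, Finset.mem_range.1 hi, ((t ^ i)⁻¹ * r) • c, mem_orb.2 ⟨_, ?_, rfl⟩,
            by rw [smul_smul, mul_inv_cancel_left]⟩
          refine ⟨(⟨t, ht⟩ ^ i : R)⁻¹ * ⟨r, hr⟩, ?_, by simp⟩
          refine (QuotientGroup.eq_one_iff _).1 ?_
          show QuotientGroup.mk' M _ = 1
          rw [map_mul, map_inv, map_pow, he, inv_mul_cancel]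
        · rintro ⟨i, hi, y, hy, rfl⟩
          obtain ⟨r, hr, rfl⟩ := mem_orb.1 hy
          exact mem_orb.2 ⟨t ^ i * r, R.mul_mem (R.pow_mem ht i) (hR'R hr), mul_smul _ _ _⟩
    have hprod : ∀ t ∈ R, t ∉ R' → ∏ x ∈ orb R c, f x =
        ∏ i ∈ Finset.range p, t ^ i • ∏ x ∈ orb R' c, f x := by
      intro t ht htR'
      obtain ⟨hdis, hun⟩ := hdec t ht htR'
      rw [hun, Finset.prod_biUnion]
      · refine Finset.prod_congr rfl fun i _ => ?_
        rw [Finset.prod_image fun x _ y _ h => MulAction.injective (t ^ i) h, Finset.smul_prod']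
        exact Finset.prod_congr rfl fun x _ => hf _ x
      · intro i hi j hj hij
        rw [Function.onFun, Finset.disjoint_left]
        intro x hx hx'
        rw [Finset.mem_image] at hx hx'
        obtain ⟨a, ha, rfl⟩ := hx
        obtain ⟨b, hb, hba⟩ := hx'
        exact hij (hdis i (by simpa using hi) j (by simpa using hj) a ha b hb hba.symm)
    have hsplit : ∀ t ∈ R, t ∉ R' → ∀ (y : A), (∀ s ∈ R', s • y = y) → t • y = y →
        ∀ r ∈ R, r • y = y := by
      intro t ht htR' y hy hty r hr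
      have hx : r • c ∈ orb R c := mem_orb.2 ⟨r, hr, rfl⟩
      rw [(hdec t ht htR').2, Finset.mem_biUnion] at hx
      obtain ⟨i, -, hi⟩ := hx
      rw [Finset.mem_image] at hi
      obtain ⟨x, hx, hxe⟩ := hi
      obtain ⟨s, hs, rfl⟩ := mem_orb.1 hx
      rw [smul_smul] at hxe
      have hm : (t ^ i * s)⁻¹ * r ∈ R' := hstab _
        (R.mul_mem (R.inv_mem (R.mul_mem (R.pow_mem ht i) (hR'R hs))) hr)
        (by rw [mul_smul, ← hxe, inv_smul_smul])
      have hti : ∀ k : ℕ, t ^ k • y = y := fun k => by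
        induction k with
        | zero => simp
        | succ k ihk => rw [pow_succ', mul_smul, ihk, hty]
      rw [show r = t ^ i * (s * ((t ^ i * s)⁻¹ * r)) by group, mul_smul, mul_smul, hy _ hm,
        hy _ hs, hti]
    by_cases hin : ∃ γ ∈ Γ, γ ∈ R' ∧ γ • c ≠ c
    · obtain ⟨a, ha, hae⟩ := ih _ hlt R' rfl (hR.to_le hR'R) c hin
      obtain ⟨t, ht, htR'⟩ : ∃ t ∈ R, t ∉ R' := by
        by_contra h
        push Not at h
        have : R' = R := le_antisymm hR'R h
        rw [this, hn] at hlt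
        exact lt_irrefl _ hlt
      refine ⟨∏ i ∈ Finset.range p, t ^ i • a, ?_, ?_⟩
      · have he : (∏ i ∈ Finset.range p, t ^ i • a) ^ p =
            ∏ i ∈ Finset.range p, t ^ i • a ^ p := by
          rw [← Finset.prod_pow]
          exact Finset.prod_congr rfl fun i _ => (smul_pow' _ _ _).symm
        rw [he]
        refine hsplit t ht htR' _ (fun s hs => ?_) ?_
        · rw [Finset.smul_prod']
          refine Finset.prod_congr rfl fun i _ => ?_
          have h1 : (t ^ i)⁻¹ * s * t ^ i ∈ R' := by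
            have := hnorm (t ^ i)⁻¹ (R.inv_mem (R.pow_mem ht i)) s hs
            simpa using this
          rw [smul_smul, show s * t ^ i = t ^ i * ((t ^ i)⁻¹ * s * t ^ i) by group, mul_smul,
            ha _ h1]
        · rw [Finset.smul_prod']
          have hp1 : p = (p - 1) + 1 := (Nat.sub_add_cancel (Fact.out : p.Prime).one_le).symm
          have htp : t ^ p • a ^ p = a ^ p := ha _ ⟨⟨t, ht⟩ ^ p, by
            rw [← hidx]; exact Subgroup.pow_index_mem M _, by simp⟩
          simp only [smul_smul, ← pow_succ']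
          rw [hp1, Finset.prod_range_succ, Finset.prod_range_succ' (fun i => t ^ i • a ^ (p - 1 + 1))]
          rw [← hp1, htp, pow_zero, one_smul]
      · rw [hprod t ht htR', ← Finset.prod_pow]
        refine Finset.prod_congr rfl fun i _ => ?_
        rw [hae, smul_pow']
    · push Not at hin
      obtain ⟨γ, hγ, hγR, hγc⟩ := hc
      have hγR' : γ ∉ R' := fun h => hγc (hin γ hγ h)
      set a := ∏ x ∈ orb R' c, f x with hadef
      have ha : ∀ s ∈ R', s • a = a := fun s hs => prod_orb_fixed f hf R' c hs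
      set d := (γ • a) / a with hddef
      have hd : γ • a = a * d := by rw [hddef, mul_div_cancel]
      have hγd : γ • d = d := hΓ γ hγ a
      have hdp : d ^ p = 1 := by
        have h1 : γ ^ p • a = a := ha _ ⟨⟨γ, hγR⟩ ^ p, by
          rw [← hidx]; exact Subgroup.pow_index_mem M _, by simp⟩
        rw [pow_smul_quadratic hd hγd] at h1
        exact mul_eq_left.1 h1
      refine ⟨a, hsplit γ hγR hγR' _ (fun s hs => by rw [smul_pow', ha s hs]) ?_, ?_⟩
      · rw [smul_pow', hd, mul_pow, hdp, mul_one]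
      · rw [hprod γ hγR hγR']
        simp only [pow_smul_quadratic hd hγd, Finset.prod_mul_distrib, Finset.prod_const,
          Finset.card_range]
        rw [Finset.prod_pow_eq_pow_sum, Finset.sum_range_id]
        obtain ⟨m, hm⟩ := (Fact.out : p.Prime).odd_of_ne_two hp
        have he : p * (p - 1) / 2 = p * m := by
          rw [show p - 1 = 2 * m by omega, show p * (2 * m) = p * m * 2 by ring,
            Nat.mul_div_cancel _ (by norm_num)]
        rw [he, pow_mul, hdp, one_pow, mul_one]

include hf in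
/-- The product over an invariant set all of whose points are moved by quadratic elements. -/
theorem exists_root_finset_odd [Fact p.Prime] [Finite G] (hp : p ≠ 2) (Γ : Set G)
    (hΓ : ∀ γ ∈ Γ, ∀ a : A, γ • ((γ • a) / a) = (γ • a) / a) (R : Subgroup G) (hR : IsPGroup p R) :
    ∀ (n : ℕ) (s : Finset X), s.card = n → (∀ r ∈ R, ∀ x ∈ s, r • x ∈ s) →
      (∀ x ∈ s, ∃ γ ∈ Γ, γ ∈ R ∧ γ • x ≠ x) →
      ∃ a : A, (∀ r ∈ R, r • a ^ p = a ^ p) ∧ (∏ x ∈ s, f x) = a ^ p := by
  intro n
  induction n using Nat.strong_induction_on with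
  | _ n ih =>
    intro s hn hinv hmov
    classical
    rcases s.eq_empty_or_nonempty with rfl | ⟨c, hc⟩
    · exact ⟨1, by simp, by simp⟩
    have hsub : orb R c ⊆ s := fun x hx => by
      obtain ⟨r, hr, rfl⟩ := mem_orb.1 hx
      exact hinv r hr c hc
    obtain ⟨a, ha, hae⟩ := exists_root_orbit_odd f hf hp Γ hΓ _ R rfl hR c (hmov c hc)
    have hcard : (s \ orb R c).card < n := by
      rw [← hn]
      refine Finset.card_lt_card (Finset.sdiff_ssubset hsub ⟨c, mem_orb.2 ⟨1, R.one_mem, ?_⟩⟩)
      exact one_smul _ _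
    obtain ⟨b, hb, hbe⟩ := ih _ hcard (s \ orb R c) rfl (fun r hr x hx => by
      rw [Finset.mem_sdiff] at hx ⊢
      refine ⟨hinv r hr x hx.1, fun h => hx.2 ?_⟩
      obtain ⟨t, ht, hte⟩ := mem_orb.1 h
      exact mem_orb.2 ⟨r⁻¹ * t, R.mul_mem (R.inv_mem hr) ht,
        by rw [mul_smul, hte, inv_smul_smul]⟩) fun x hx => hmov x (Finset.mem_sdiff.1 hx).1
    refine ⟨a * b, fun r hr => by rw [mul_pow, smul_mul', ha r hr, hb r hr], ?_⟩
    rw [← Finset.prod_sdiff hsub, hbe, hae, mul_pow, mul_comm]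

end CfsgLib.Fusion.QuadraticTrace

namespace CfsgLib.Fusion

open Cfsg Subgroup
open scoped commutatorElement

variable {G : Type*} [Group G] [Finite G] {p : ℕ} [Fact p.Prime]

/-- For odd `p` a `P`-fixed element fixed by a large enough subgroup is central. -/
theorem fixed_of_quadratic_odd (hp : p ≠ 2) (P : Sylow p G) {M : Subgroup G} (hPM : (P : Subgroup G) ≤ M)
    (Γ : Set G) (hΓc : ∀ γ ∈ Γ, ∀ g : G, g * γ * g⁻¹ ∈ Γ)
    (hN : Subgroup.normalizer
      ((Subgroup.closure {γ | γ ∈ Γ ∧ γ ∈ (P : Subgroup G)} : Subgroup G) : Set G) ≤ M) :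
    ∀ V : Subgroup G, V.Normal → IsPGroup p V → (∀ a ∈ V, ∀ b ∈ V, a * b = b * a) →
      (∀ γ ∈ Γ, ∀ a ∈ V, γ * (γ * a * γ⁻¹ * a⁻¹) * γ⁻¹ = γ * a * γ⁻¹ * a⁻¹) →
      ∀ w ∈ V, (∀ x ∈ (P : Subgroup G), x * w * x⁻¹ = w) →
        (∀ m ∈ M, m * w * m⁻¹ = w) → ∀ g : G, g * w * g⁻¹ = w := by
  intro V
  induction V using WellFoundedLT.induction with
  | _ V ih =>
    intro hVn hVp hVc hquad w hw hwP hwM g
    haveI := hVn
    classical
    letI : CommGroup V :=
      { (inferInstance : Group V) with mul_comm := fun a b => Subtype.ext (hVc a a.2 b b.2) }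
    letI : MulDistribMulAction G V := conjNormalAction V
    have hsm : ∀ (g : G) (a : V), ((g • a : V) : G) = g * (a : G) * g⁻¹ := fun g a =>
      MulAut.conjNormal_apply g a
    by_cases hV : V = ⊥
    · subst hV
      rw [Subgroup.mem_bot.1 hw]
      simp
    set w₀ : V := ⟨w, hw⟩ with hw₀
    set PM := (P : Subgroup G).subgroupOf M with hPMdef
    letI : Fintype (M ⧸ PM) := Fintype.ofFinite _
    have hw₀P : ∀ m ∈ PM, (m : G) • w₀ = w₀ := fun m hm =>
      Subtype.ext ((hsm _ _).trans (hwP m hm))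
    let e : M ⧸ PM → V := fun c => ((c.out : M) : G) • w₀
    have he : ∀ (m : M) (c : M ⧸ PM), e (m • c) = (m : G) • e c := fun m c => by
      obtain ⟨⟨k, hk⟩, hk'⟩ := QuotientGroup.mk_out_eq_mul PM (m * c.out)
      have h1 : m • c = ((m * c.out : M) : M ⧸ PM) := by
        conv_lhs => rw [← QuotientGroup.out_eq' c]
        rfl
      show (((m • c).out : M) : G) • w₀ = (m : G) • ((c.out : M) : G) • w₀
      rw [h1, hk', Subgroup.coe_mul, Subgroup.coe_mul, mul_smul, hw₀P k hk, mul_smul]
    set wM : V := ∏ c : M ⧸ PM, e c with hwMdef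
    have hwMfix : ∀ m ∈ M, m • wM = wM := fun m hm => by
      rw [hwMdef, Finset.smul_prod']
      exact Fintype.prod_equiv (MulAction.toPerm (⟨m, hm⟩ : M)) _ _ fun c => (he ⟨m, hm⟩ c).symm
    have hz : ∀ m ∈ M, m • w₀ = w₀ := fun m hm =>
      Subtype.ext ((hsm _ _).trans (hwM m hm))
    have hwMp : wM = w₀ ^ Nat.card (M ⧸ PM) := by
      rw [hwMdef]
      simp only [e, Nat.card_eq_fintype_card]
      rw [Finset.prod_congr rfl fun c _ => hz _ (c.out : M).2, Finset.prod_const, Finset.card_univ]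
    have hn : ¬ p ∣ Nat.card (M ⧸ PM) := fun hd => P.not_dvd_index
      (hd.trans (Subgroup.relIndex_dvd_index_of_le hPM))
    obtain ⟨k, hk⟩ := IsPGroup.iff_card.1 hVp
    have hbij : Function.Bijective (fun a : V => a ^ Nat.card (M ⧸ PM)) := by
      refine (powCoprime ?_).bijective
      rw [hk]
      exact Nat.Coprime.pow_left k ((Fact.out : p.Prime).coprime_iff_not_dvd.2 hn)
    obtain ⟨v, hv⟩ := hbij.2 wM
    replace hv : v ^ Nat.card (M ⧸ PM) = wM := hv
    have hvM : ∀ m ∈ M, m • v = v := fun m hm => hbij.1 (by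
      show (m • v) ^ _ = v ^ _
      rw [← smul_pow', hv, hwMfix m hm])
    have hvp : v = w₀ := hbij.1 (by
      show v ^ _ = w₀ ^ _
      rw [hv, hwMp])
    letI : Fintype (G ⧸ M) := Fintype.ofFinite _
    let f : G ⧸ M → V := fun c => c.out • v
    have hf : ∀ (g : G) (c : G ⧸ M), f (g • c) = g • f c := fun g c => by
      obtain ⟨⟨k, hk⟩, hk'⟩ := QuotientGroup.mk_out_eq_mul M (g * c.out)
      have h1 : g • c = ((g * c.out : G) : G ⧸ M) := by
        conv_lhs => rw [← QuotientGroup.out_eq' c]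
        rfl
      show (g • c).out • v = g • c.out • v
      rw [h1, hk', mul_smul, hvM k hk, mul_smul]
    have hmov : ∀ x ∈ (Finset.univ.erase ((1 : G) : G ⧸ M)),
        ∃ γ ∈ Γ, γ ∈ (P : Subgroup G) ∧ γ • x ≠ x := by
      intro x hx
      by_contra hno
      push Not at hno
      refine (Finset.mem_erase.1 hx).1 ?_
      obtain ⟨a, rfl⟩ := QuotientGroup.mk_surjective x
      refine QuotientGroup.eq.2 ?_
      rw [mul_one]
      set Q := Subgroup.closure {γ | γ ∈ Γ ∧ γ ∈ (P : Subgroup G)} with hQ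
      have hQP : Q ≤ (P : Subgroup G) := (Subgroup.closure_le _).2 fun γ hγ => hγ.2
      have hQM : conjSub a⁻¹ Q ≤ M := by
        rw [conjSub, Subgroup.map_le_iff_le_comap, Subgroup.closure_le]
        rintro γ ⟨hγ, hγP⟩
        have h1 := QuotientGroup.eq.1 (hno γ hγ hγP : ((γ * a : G) : G ⧸ M) = (a : G ⧸ M))
        show a⁻¹ * γ * a⁻¹⁻¹ ∈ M
        have h2 : ((γ * a)⁻¹ * a)⁻¹ ∈ M := M.inv_mem h1
        rw [inv_inv]
        rwa [show ((γ * a)⁻¹ * a)⁻¹ = a⁻¹ * γ * a by group] at h2
      obtain ⟨m, hm, hmQ⟩ := exists_conj_le_of_sylow P.isPGroup' hPM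
        (fun hd => P.not_dvd_index (hd.trans (Subgroup.relIndex_dvd_index_of_le hPM)))
        (IsPGroup.map (P.isPGroup'.to_le hQP) _) hQM
      have hle : conjSub (m * a⁻¹) Q ≤ Q := by
        rw [conjSub, Subgroup.map_le_iff_le_comap, Subgroup.closure_le]
        rintro γ ⟨hγ, hγP⟩
        refine Subgroup.subset_closure ⟨hΓc γ hγ _, hmQ ?_⟩
        show m * a⁻¹ * γ * (m * a⁻¹)⁻¹ ∈ conjSub m (conjSub a⁻¹ Q)
        rw [← conjSub_mul]
        exact conj_mem_conjSub (Subgroup.subset_closure ⟨hγ, hγP⟩)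
      have hQeq : conjSub (m * a⁻¹) Q = Q :=
        eq_of_le_of_card_le hle (card_conjSub _ _).ge
      have hmem : m * a⁻¹ ∈ M := hN fun x => by
        constructor
        · intro hx
          exact hQeq.le (conj_mem_conjSub hx)
        · intro hx
          have h1 : _ ∈ conjSub (m * a⁻¹) Q := hQeq.ge hx
          rw [mem_conjSub] at h1
          simpa [mul_assoc] using h1
      have h3 := M.mul_mem (M.inv_mem hm) hmem
      simpa using h3
    have hΓ : ∀ γ ∈ Γ, ∀ a : V, γ • ((γ • a) / a) = (γ • a) / a := fun γ hγ a => by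
      have h1 : (((γ • a) / a : V) : G) = γ * (a : G) * γ⁻¹ * (a : G)⁻¹ := by
        rw [div_eq_mul_inv, Subgroup.coe_mul, hsm]
        rfl
      apply Subtype.ext
      rw [hsm, h1]
      exact hquad γ hγ a a.2
    obtain ⟨a, haP, hae⟩ := QuadraticTrace.exists_root_finset_odd f hf hp Γ hΓ (P : Subgroup G)
      P.isPGroup' _ _ rfl (fun r hr x hx => by
        rw [Finset.mem_erase] at hx ⊢
        refine ⟨fun h => hx.1 ?_, Finset.mem_univ _⟩
        rw [← inv_smul_smul r x, h]
        exact QuotientGroup.eq.2 (by simpa using hPM hr)) hmov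
    set T : V := ∏ c : G ⧸ M, f c with hTdef
    have hT : ∀ g : G, g • T = T := fun g => by
      rw [hTdef, Finset.smul_prod']
      exact Fintype.prod_equiv (MulAction.toPerm g) _ _ fun c => (hf g c).symm
    have hsplit : T = w₀ * a ^ p := by
      rw [hTdef, ← Finset.mul_prod_erase _ _ (Finset.mem_univ ((1 : G) : G ⧸ M)), hae]
      congr 1
      obtain ⟨⟨k, hk⟩, hk'⟩ := QuotientGroup.mk_out_eq_mul M (1 : G)
      show (((1 : G) : G ⧸ M).out) • v = _
      rw [hk', one_mul, hvM k hk, hvp]
    have haM : ∀ m ∈ M, m • a ^ p = a ^ p := fun m hm => by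
      have h1 : m • T = T := hT m
      rw [hsplit, smul_mul', hz m hm] at h1
      exact mul_left_cancel h1
    set V' : Subgroup G := (powMonoidHom p : V →* V).range.map V.subtype with hV'
    have hV'V : V' ≤ V := Subgroup.map_subtype_le _
    have hV'n : V'.Normal := ⟨by
      rintro _ ⟨b, ⟨c, rfl⟩, rfl⟩ g
      refine ⟨(g • c) ^ p, ⟨g • c, rfl⟩, ?_⟩
      rw [← smul_pow']
      exact hsm _ _⟩
    have hlt : V' < V := by
      refine lt_of_le_of_ne hV'V fun hEq => ?_
      have hsurj : Function.Surjective (fun b : V => b ^ p) := fun b => by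
        obtain ⟨c, ⟨d, hd⟩, hc⟩ := hEq.ge b.2
        exact ⟨d, hd.trans (Subtype.ext hc)⟩
      haveI : Nontrivial V := V.nontrivial_iff_ne_bot.2 hV
      obtain ⟨j, hj, hcard⟩ := (IsPGroup.nontrivial_iff_card hVp).1 inferInstance
      obtain ⟨b, hb⟩ := exists_prime_orderOf_dvd_card' (G := V) p (hcard ▸ dvd_pow_self p hj.ne')
      have hinj := Finite.injective_iff_surjective.2 hsurj
      have h1 : b = 1 := hinj (by
        show b ^ p = 1 ^ p
        rw [one_pow, ← hb, pow_orderOf_eq_one])
      rw [h1, orderOf_one] at hb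
      exact (Fact.out : p.Prime).one_lt.ne hb
    have hfix := ih V' hlt hV'n (hVp.to_le hV'V) (fun b hb c hc => hVc b (hV'V hb) c (hV'V hc))
      (fun γ hγ b hb => hquad γ hγ b (hV'V hb)) ((a ^ p : V) : G) ⟨a ^ p, ⟨a, rfl⟩, rfl⟩
      (fun x hx => (hsm x (a ^ p)).symm.trans (congrArg Subtype.val (haP x hx)))
      (fun m hm => by
        have h1 := congrArg Subtype.val (haM m hm)
        rw [hsm] at h1
        exact h1) g
    have h2 : g • w₀ = w₀ := by
      have h3 : g • T = T := hT g
      have h4 : g • (a ^ p) = a ^ p := Subtype.ext (by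
        rw [hsm]
        exact hfix)
      rw [hsplit, smul_mul', h4] at h3
      exact mul_right_cancel h3
    have h5 := congrArg Subtype.val h2
    rw [hsm] at h5
    exact h5

end CfsgLib.Fusion
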