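import Cfsg.Agent.Lib.Fusion.FunctorGroup
import Cfsg.Agent.Lib.Fusion.QuadraticOdd
import Cfsg.Agent.Lib.Fusion.ThompsonQuad
import Cfsg.Agent.Lib.Fusion.OffenderGroup
import Cfsg.Prelude.Def_FusionReduction

/-!
Glauberman's theorem: the centre of the normalizer system of `J(S)` and the centre of the system.
-/

set_option autoImplicit false
set_option linter.style.haveILetI false
set_option linter.unusedVariables false
set_option linter.unusedSectionVars false

universe u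

namespace CfsgLib.Fusion

open Cfsg Cfsg.FusionSystem Subgroup
open scoped commutatorElement

/-- The group theorem for odd `p`: quadratic elements outside `O_p` whenever `W(P)` is not normal
make elements of the centre of `P` fixed by `N_G(W(P))` central. -/
theorem central_of_functor_odd {p : ℕ} [Fact p.Prime] (hp : p ≠ 2)
    (W : ∀ (Q : Type u) [Group Q], Subgroup Q)
    (hW2 : ∀ (Q R : Type u) [Group Q] [Group R] [Finite Q], IsPGroup p Q → ∀ φ : Q ≃* R,
      (W Q).map φ.toMonoidHom = W R)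
    (hq : ∀ (G : Type u) [Group G] [Finite G] (P : Sylow p G),
      Subgroup.centralizer ((Cfsg.pCore p G : Subgroup G) : Set G) ≤ Cfsg.pCore p G →
      ¬ (((W ↥(P : Subgroup G)).map (P : Subgroup G).subtype : Subgroup G)).Normal →
      ∃ g : G, g ∈ (P : Subgroup G) ∧ g ∉ Cfsg.pCore p G ∧
        ⁅⁅Subgroup.center ↥(Cfsg.pCore p G) |>.map (Cfsg.pCore p G).subtype, Subgroup.zpowers g⁆,
          Subgroup.zpowers g⁆ = ⊥) :
    ∀ (n : ℕ) (G : Type u) [Group G] [Finite G] (P : Sylow p G), Nat.card G = n →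
      Subgroup.centralizer ((Cfsg.pCore p G : Subgroup G) : Set G) ≤ Cfsg.pCore p G →
      ∀ w ∈ Cfsg.pCore p G, (∀ x ∈ (P : Subgroup G), x * w * x⁻¹ = w) →
      (∀ g ∈ Subgroup.normalizer (((W ↥(P : Subgroup G)).map (P : Subgroup G).subtype :
          Subgroup G) : Set G), g * w * g⁻¹ = w) →
      ∀ g : G, g * w * g⁻¹ = w := by
  intro n
  induction n using Nat.strong_induction_on with
  | _ n ih =>
    intro G _ _ P hn hc w hw hwP hwN g
    by_cases hWn : (((W ↥(P : Subgroup G)).map (P : Subgroup G).subtype : Subgroup G)).Normal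
    · exact hwN g (by rw [Subgroup.normalizer_eq_top_iff.2 hWn]; exact Subgroup.mem_top g)
    obtain ⟨g₀, hg₀P, hg₀, hquad⟩ := hq G P hc hWn
    haveI hcn : (Cfsg.pCore p G).Normal := CfsgLib.Solvable.pCore_normal p G
    set V : Subgroup G :=
      (Subgroup.center ↥(Cfsg.pCore p G)).map (Cfsg.pCore p G).subtype with hV
    have hVn : V.Normal := by rw [hV]; infer_instance
    have hVc : ∀ a ∈ V, ∀ b ∈ V, a * b = b * a := by
      rintro _ ⟨a, ha, rfl⟩ _ ⟨b, hb, rfl⟩
      exact congrArg Subtype.val (Subgroup.mem_center_iff.1 hb a)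
    have hwV : w ∈ V := ⟨⟨w, hw⟩, Subgroup.mem_center_iff.2 fun x => Subtype.ext (by
      have h1 := hwP x (pCore_le_sylow P x.2)
      show (x : G) * w = w * x
      calc (x : G) * w = x * w * (x : G)⁻¹ * x := by group
        _ = w * x := by rw [h1]), rfl⟩
    set Γ : Set G := Set.range fun x => x * g₀ * x⁻¹ with hΓ
    have hΓc : ∀ γ ∈ Γ, ∀ g : G, g * γ * g⁻¹ ∈ Γ := by
      rintro _ ⟨x, rfl⟩ g
      exact ⟨g * x, by group⟩
    have hΓq : ∀ γ ∈ Γ, ∀ a ∈ V, γ * (γ * a * γ⁻¹ * a⁻¹) * γ⁻¹ = γ * a * γ⁻¹ * a⁻¹ := by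
      rintro _ ⟨x, rfl⟩ a ha
      have ha' : x⁻¹ * a * x ∈ V := by simpa using hVn.conj_mem a ha x⁻¹
      have h1 : ⁅g₀, x⁻¹ * a * x⁆ ∈ ⁅V, Subgroup.zpowers g₀⁆ := by
        rw [Subgroup.commutator_comm]
        exact Subgroup.commutator_mem_commutator (Subgroup.mem_zpowers g₀) ha'
      have h2 := Subgroup.commutator_mem_commutator h1 (Subgroup.mem_zpowers g₀)
      rw [hquad, Subgroup.mem_bot, commutatorElement_eq_one_iff_mul_comm] at h2
      rw [commutatorElement_def] at h2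
      have h3 : g₀ * (g₀ * (x⁻¹ * a * x) * g₀⁻¹ * (x⁻¹ * a * x)⁻¹) * g₀⁻¹ =
          g₀ * (x⁻¹ * a * x) * g₀⁻¹ * (x⁻¹ * a * x)⁻¹ := by
        rw [← h2, mul_inv_cancel_right]
      calc x * g₀ * x⁻¹ * (x * g₀ * x⁻¹ * a * (x * g₀ * x⁻¹)⁻¹ * a⁻¹) * (x * g₀ * x⁻¹)⁻¹
          = x * (g₀ * (g₀ * (x⁻¹ * a * x) * g₀⁻¹ * (x⁻¹ * a * x)⁻¹) * g₀⁻¹) * x⁻¹ := by group
        _ = x * (g₀ * (x⁻¹ * a * x) * g₀⁻¹ * (x⁻¹ * a * x)⁻¹) * x⁻¹ := by rw [h3]
        _ = _ := by group
    set Q : Subgroup G := Subgroup.closure {γ | γ ∈ Γ ∧ γ ∈ (P : Subgroup G)} with hQ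
    set L : Subgroup G := Subgroup.normalizer (Q : Set G) with hLdef
    have hQP : Q ≤ (P : Subgroup G) := (Subgroup.closure_le _).2 fun γ hγ => hγ.2
    have hg₀Q : g₀ ∈ Q := Subgroup.subset_closure ⟨⟨1, by simp⟩, hg₀P⟩
    have hPL : (P : Subgroup G) ≤ L := fun x hx => by
      have key : ∀ y ∈ (P : Subgroup G), ∀ q ∈ Q, y * q * y⁻¹ ∈ Q := fun y hy q hq => by
        have hle : Q ≤ Q.comap (MulAut.conj y).toMonoidHom := by
          rw [hQ, Subgroup.closure_le]
          rintro γ ⟨hγ, hγP⟩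
          exact Subgroup.subset_closure ⟨hΓc γ hγ y,
            (P : Subgroup G).mul_mem ((P : Subgroup G).mul_mem hy hγP)
              ((P : Subgroup G).inv_mem hy)⟩
        exact hle hq
      intro q
      refine ⟨fun hq => key x hx q hq, fun hq => ?_⟩
      have := key x⁻¹ ((P : Subgroup G).inv_mem hx) _ hq
      simpa [mul_assoc] using this
    have hLne : L ≠ ⊤ := fun h => hg₀ (CfsgLib.Solvable.le_pCore
      (Subgroup.normalizer_eq_top_iff.1 h) (P.isPGroup'.to_le hQP) hg₀Q)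
    have hcoreL : Cfsg.pCore p G ≤ L := (pCore_le_sylow P).trans hPL
    have hLfix : ∀ m ∈ L, m * w * m⁻¹ = w := by
      intro m hm
      have hlt : Nat.card L < n := hn ▸ lt_of_le_of_ne (Subgroup.card_le_card_group L)
        fun h => hLne (Subgroup.eq_top_of_card_eq _ h)
      have hsub : (Cfsg.pCore p G).subgroupOf L ≤ Cfsg.pCore p L :=
        CfsgLib.Solvable.le_pCore inferInstance
          ((CfsgLib.Solvable.pCore_isPGroup p).of_equiv
            (Subgroup.subgroupOfEquivOfLe hcoreL).symm)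
      have hcL : Subgroup.centralizer ((Cfsg.pCore p L : Subgroup L) : Set L) ≤ Cfsg.pCore p L := by
        intro x hx
        refine hsub (hc fun y hy => ?_)
        exact congrArg Subtype.val (hx ⟨y, hcoreL hy⟩ (hsub hy))
      have hPLc : ((P.subtype hPL : Sylow p L) : Subgroup L) = (P : Subgroup G).subgroupOf L := rfl
      have hW' : (W ↥((P.subtype hPL : Sylow p L) : Subgroup L)).map
          ((P.subtype hPL : Sylow p L) : Subgroup L).subtype =
          ((W ↥(P : Subgroup G)).map (P : Subgroup G).subtype).subgroupOf L := by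
        rw [← hW2 ↥(P : Subgroup G) ↥((P.subtype hPL : Sylow p L) : Subgroup L) P.isPGroup'
          (Subgroup.subgroupOfEquivOfLe hPL).symm]
        ext y
        constructor
        · rintro ⟨_, ⟨v, hv, rfl⟩, rfl⟩
          exact ⟨v, hv, rfl⟩
        · rintro ⟨v, hv, hvy⟩
          exact ⟨_, ⟨v, hv, rfl⟩, Subtype.ext hvy⟩
      have h1 := ih _ hlt L (P.subtype hPL) rfl hcL ⟨w, hcoreL hw⟩ (hsub hw)
        (fun x hx => Subtype.ext (hwP x hx)) (fun x hx => Subtype.ext ?_) ⟨m, hm⟩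
      · exact congrArg Subtype.val h1
      · rw [hW'] at hx
        refine hwN x fun y => ?_
        have hWle : (W ↥(P : Subgroup G)).map (P : Subgroup G).subtype ≤ L :=
          (Subgroup.map_subtype_le _).trans hPL
        constructor
        · intro hy
          exact (hx ⟨y, hWle hy⟩).1 hy
        · intro hy
          have hyL : y ∈ L := by
            have := L.mul_mem (L.mul_mem (L.inv_mem x.2) (hWle hy)) x.2
            simpa [mul_assoc] using this
          exact (hx ⟨y, hyL⟩).2 hy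
    exact fixed_of_quadratic_odd hp P hPL Γ hΓc le_rfl V hVn
      (IsPGroup.to_le (CfsgLib.Solvable.pCore_isPGroup p) (Subgroup.map_subtype_le _)) hVc hΓq
      w hwV hwP hLfix g

section Center

variable {Ω : Type u} [Group Ω] {S : Subgroup Ω} [Finite S] {F : FusionSystem S} {p : ℕ}
  [Fact p.Prime] {N : FusionSystem (normalizerIn S (Cfsg.thompsonSubgroupAOf S))}

theorem normalizerIn_thompsonAOf (hS : IsPGroup p S) :
    normalizerIn S (Cfsg.thompsonSubgroupAOf S) = S :=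
  normalizerIn_funcOn_top (fun Q _ => Cfsg.thompsonSubgroupA Q)
    (fun Q R _ _ _ _ φ => thompsonA_map Q R φ) hS

theorem mem_center_normalizer (hS : IsPGroup p S)
    (hN : F.IsNormalizerSystem (Cfsg.thompsonSubgroupAOf S) N) {z : Ω} (hz : z ∈ N.center) :
    z ∈ S ∧ (∀ a ∈ S, a * z * a⁻¹ = z) ∧
      ∀ (P : Subgroup Ω) (f : Ω → Ω), IsMap F P f → Cfsg.thompsonSubgroupAOf S ≤ P →
        img (Cfsg.thompsonSubgroupAOf S) f = Cfsg.thompsonSubgroupAOf S → z ∈ P → f z = z := by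
  have hNS := normalizerIn_thompsonAOf (p := p) hS
  haveI : Finite ↥(normalizerIn S (Cfsg.thompsonSubgroupAOf S)) := finite_normalizerIn
  have hzS : z ∈ S := (center_le N hz).1
  have hfix : ∀ (P : Subgroup Ω) (f : Ω → Ω), IsMap F P f → Cfsg.thompsonSubgroupAOf S ≤ P →
      img (Cfsg.thompsonSubgroupAOf S) f = Cfsg.thompsonSubgroupAOf S → z ∈ P → f z = z := by
    intro P f hf hJP hi hzP
    refine IsCentral.apply_eq center_isCentral ((isMap_normalizerSystem_iff hN).2
      ⟨hf.le.trans hNS.ge, fun x hx => hNS.ge (hf.mem hx), f, ?_, fun _ _ => rfl, hi⟩) hz hzP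
    rwa [sup_eq_left.2 hJP]
  refine ⟨hzS, fun a ha => ?_, hfix⟩
  refine hfix S _ (isMap_conj F le_rfl ha) (CfsgLib.Complement.thompsonAOf_le S) ?_ hzS
  rw [img_conj]
  exact Subgroup.mem_normalizer_iff_map_conj_eq.1 (hNS.ge ha).2

theorem center_le_center_normalizer (hS : IsPGroup p S)
    (hN : F.IsNormalizerSystem (Cfsg.thompsonSubgroupAOf S) N) : F.center ≤ N.center := by
  have hNS := normalizerIn_thompsonAOf (p := p) hS
  refine IsCentral.le_center (isCentral_iff.2 ⟨(center_le F).trans hNS.ge, fun P f hf => ?_⟩)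
  obtain ⟨hPn, hfn, g, hg, hgx, hgJ⟩ := (isMap_normalizerSystem_iff hN).1 hf
  obtain ⟨g', hg', hg'x, hg'Z⟩ := (isCentral_iff.1 (center_isCentral (F := F))).2 _ g hg
  have hJg : img (Cfsg.thompsonSubgroupAOf S) g' = Cfsg.thompsonSubgroupAOf S :=
    (img_congr fun x hx => hg'x x (Subgroup.mem_sup_right hx)).trans hgJ
  refine ⟨g', (isMap_normalizerSystem_iff hN).2 ⟨?_, fun x hx => hNS.ge (hg'.mem ?_), g', hg'.mono ?_,
    fun _ _ => rfl, hJg⟩, fun x hx => (hg'x x (Subgroup.mem_sup_left hx)).trans (hgx x hx), hg'Z⟩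
  · exact sup_le hPn ((center_le F).trans hNS.ge)
  · exact (sup_le (le_trans le_sup_left le_sup_left) le_sup_right :
      P ⊔ F.center ≤ (P ⊔ Cfsg.thompsonSubgroupAOf S) ⊔ F.center) hx
  · exact sup_le (sup_le (le_trans le_sup_left le_sup_left) le_sup_right)
      (le_trans le_sup_right le_sup_left)

/-- The local input for the centre: the normal image of `U` lies in `O_p` of the model. -/
theorem model_data (hS : IsPGroup p S) {U : Subgroup Ω} {G : Type u} [Group G] [Finite G]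
    {ι : normalizerIn S U →* G} (hUnorm : ((U.subgroupOf (normalizerIn S U)).map ι).Normal)
    (hUcent : Subgroup.centralizer (((U.subgroupOf (normalizerIn S U)).map ι : Subgroup G) : Set G) ≤
      (U.subgroupOf (normalizerIn S U)).map ι) :
    (U.subgroupOf (normalizerIn S U)).map ι ≤ Cfsg.pCore p G ∧
      Subgroup.centralizer ((Cfsg.pCore p G : Subgroup G) : Set G) ≤ Cfsg.pCore p G := by
  have hle : (U.subgroupOf (normalizerIn S U)).map ι ≤ Cfsg.pCore p G :=
    le_sSup ⟨hUnorm, (((hS.to_le inf_le_left : IsPGroup p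
      ↥(normalizerIn S U))).to_subgroup _).map ι⟩
  exact ⟨hle, ((Subgroup.centralizer_le hle).trans hUcent).trans hle⟩

theorem model_fixed_sylow {U : Subgroup Ω} {G : Type u} [Group G] [Finite G] {Ps : Sylow p G}
    {ι : normalizerIn S U →* G} (hPs : (Ps : Subgroup G) = ι.range) {z : Ω}
    (hzC : ∀ a ∈ S, a * z * a⁻¹ = z) (hzT : z ∈ normalizerIn S U) :
    ∀ x ∈ (Ps : Subgroup G), x * ι ⟨z, hzT⟩ * x⁻¹ = ι ⟨z, hzT⟩ := by
  intro x hx
  rw [hPs] at hx
  obtain ⟨s, rfl⟩ := hx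
  rw [← map_inv, ← map_mul, ← map_mul]
  exact congrArg ι (Subtype.ext (hzC s s.2.1))

/-- `p`-th powers in `Z(S)` central in the normalizer of `J(S)` are central. -/
theorem pow_mem_center_of_normalizer (hS : IsPGroup p S) (hF : F.IsSaturated p)
    (hN : F.IsNormalizerSystem (Cfsg.thompsonSubgroupAOf S) N) :
    Subgroup.closure ((fun z : Ω => z ^ p) '' ((S ⊓ Subgroup.centralizer (S : Set Ω) : Subgroup Ω) : Set Ω))
      ⊓ N.center ≤ F.center := by
  rintro z ⟨hz1, hz2⟩
  have hpow : ∃ w ∈ S ⊓ Subgroup.centralizer (S : Set Ω), w ^ p = z := by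
    refine Subgroup.closure_induction (fun x hx => ?_) ⟨1, one_mem _, one_pow p⟩ ?_ ?_ hz1
    · obtain ⟨w, hw, rfl⟩ := hx
      exact ⟨w, hw, rfl⟩
    · rintro _ _ _ _ ⟨a, ha, rfl⟩ ⟨b, hb, rfl⟩
      have hcomm : Commute a b := hb.2 a ha.1
      exact ⟨a * b, mul_mem ha hb, hcomm.mul_pow p⟩
    · rintro _ _ ⟨a, ha, rfl⟩
      exact ⟨a⁻¹, inv_mem ha, inv_pow a p⟩
  obtain ⟨w, hw, rfl⟩ := hpow
  obtain ⟨hzS, hzC, hfixN⟩ := mem_center_normalizer hS hN hz2
  refine mem_center_of_functor' (fun Q _ => Cfsg.thompsonSubgroupA Q)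
    (fun Q R _ _ _ _ φ => thompsonA_map Q R φ) (fun Q _ _ _ => center_le_thompsonA Q) hS hF hzS hzC
    hfixN fun U hUc hUn G _ _ Ps ι hr hPs hUnorm hUcent hzT hfixW => ?_
  haveI : Finite ↥(normalizerIn S U) := finite_normalizerIn
  obtain ⟨hle, hc⟩ := model_data (p := p) hS hUnorm hUcent
  have hwU : w ∈ U := hUc.2 U (isConj_refl hUc.1) ⟨hw.1, fun y hy => hw.2 y (hUc.1 hy)⟩
  have hwT : w ∈ normalizerIn S U := le_normalizerIn hUc.1 hwU
  have hwC : ∀ a ∈ S, a * w * a⁻¹ = w := fun a ha => by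
    rw [hw.2 a ha, mul_inv_cancel_right]
  have hz : ι ⟨w ^ p, hzT⟩ = ι ⟨w, hwT⟩ ^ p := by rw [← map_pow]; rfl
  rw [hz] at hfixW ⊢
  exact central_pow_of_functor (fun Q _ => Cfsg.thompsonSubgroupA Q)
    (fun Q R _ _ _ _ φ => thompsonA_map Q R φ)
    (fun G _ _ P hc hn => exists_quadratic_thompsonA P hc hn) _ G Ps rfl hc _
    (hle ⟨⟨w, hwT⟩, hwU, rfl⟩) (model_fixed_sylow hPs hwC hwT) hfixW

/-- For odd `p`, or without a section `S₄`, the centre of the normalizer of `J(S)` is the centre. -/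
theorem center_normalizer_thompson_eq (hS : IsPGroup p S) (hF : F.IsSaturated p)
    (hN : F.IsNormalizerSystem (Cfsg.thompsonSubgroupAOf S) N)
    (h : p ≠ 2 ∨ F.IsSectionFree p (Equiv.Perm (Fin 4))) : N.center = F.center := by
  refine le_antisymm (fun z hz => ?_) (center_le_center_normalizer hS hN)
  obtain ⟨hzS, hzC, hfixN⟩ := mem_center_normalizer hS hN hz
  refine mem_center_of_functor' (fun Q _ => Cfsg.thompsonSubgroupA Q)
    (fun Q R _ _ _ _ φ => thompsonA_map Q R φ) (fun Q _ _ _ => center_le_thompsonA Q) hS hF hzS hzC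
    hfixN fun U hUc hUn G _ _ Ps ι hr hPs hUnorm hUcent hzT hfixW => ?_
  haveI : Finite ↥(normalizerIn S U) := finite_normalizerIn
  obtain ⟨hle, hc⟩ := model_data (p := p) hS hUnorm hUcent
  have hzU : z ∈ U := hUc.2 U (isConj_refl hUc.1) ⟨hzS, fun y hy => by
    have h1 := hzC y (hUc.1 hy)
    rw [mul_inv_eq_iff_eq_mul] at h1
    exact h1⟩
  have hmem : ι ⟨z, hzT⟩ ∈ Cfsg.pCore p G := hle ⟨⟨z, hzT⟩, hzU, rfl⟩
  by_cases hp : p = 2
  · subst hp
    have hfree : ¬ Cfsg.Involves (Equiv.Perm (Fin 4)) G :=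
      (h.resolve_left fun h2 => h2 rfl) U hUn hUc _ (isNormalizerSystem_normalizerSys F U hUn.1) G ι
        ⟨inferInstance, hr, ⟨Ps, hPs⟩, hc⟩
    set V : Subgroup G := (Subgroup.center ↥(Cfsg.pCore 2 G)).map (Cfsg.pCore 2 G).subtype with hV
    haveI : (Cfsg.pCore 2 G).Normal := CfsgLib.Solvable.pCore_normal 2 G
    have hVn : V.Normal := by rw [hV]; infer_instance
    have hVc : ∀ a ∈ V, ∀ b ∈ V, a * b = b * a := by
      rintro _ ⟨a, ha, rfl⟩ _ ⟨b, hb, rfl⟩
      exact congrArg Subtype.val (Subgroup.mem_center_iff.1 hb a)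
    refine fixed_of_symFour_free hfree Ps hVn
      ((CfsgLib.Solvable.pCore_isPGroup 2).to_le (Subgroup.map_subtype_le _)) hVc _
      ⟨⟨_, hmem⟩, Subgroup.mem_center_iff.2 fun x => Subtype.ext ?_, rfl⟩
      (model_fixed_sylow hPs hzC hzT) hfixW
    have h1 := model_fixed_sylow hPs hzC hzT _ (pCore_le_sylow Ps x.2)
    rw [mul_inv_eq_iff_eq_mul] at h1
    exact h1
  · exact central_of_functor_odd hp (fun Q _ => Cfsg.thompsonSubgroupA Q)
      (fun Q R _ _ _ _ φ => thompsonA_map Q R φ)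
      (fun G _ _ P hc hn => exists_quadratic_thompsonA P hc hn) _ G Ps rfl hc _ hmem
      (model_fixed_sylow hPs hzC hzT) hfixW

end Center

end CfsgLib.Fusion
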