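import Cfsg.Agent.Lib.Fusion.ModelSection
import Cfsg.Agent.Lib.Fusion.FactorSystem

/-!
Factor systems modulo a normal subgroup inherit the absence of a section in their models.
-/

set_option autoImplicit false
set_option linter.style.haveILetI false
set_option linter.unusedVariables false
set_option linter.unusedSectionVars false

universe u v w

namespace CfsgLib.Fusion

open Cfsg Cfsg.FusionSystem Subgroup

theorem involves_of_surjective {H : Type*} [Group H] {L : Type*} [Group L] {G : Type*} [Group G]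
    (f : G →* L) (hf : Function.Surjective f) (h : Cfsg.Involves H L) : Cfsg.Involves H G := by
  obtain ⟨K, R, hR, ⟨e⟩⟩ := h
  haveI := hR
  let φ : K.comap f →* K ⧸ R.subgroupOf K :=
    (QuotientGroup.mk' (R.subgroupOf K)).comp (f.subgroupComap K)
  have hφ : Function.Surjective φ := by
    intro y
    obtain ⟨⟨k, hk⟩, rfl⟩ := QuotientGroup.mk'_surjective _ y
    obtain ⟨g, rfl⟩ := hf k
    exact ⟨⟨g, hk⟩, rfl⟩
  have hker : φ.ker = (R.comap f).subgroupOf (K.comap f) := by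
    ext x
    rw [MonoidHom.mem_ker]
    exact QuotientGroup.eq_one_iff _
  have hn : ((R.comap f).subgroupOf (K.comap f)).Normal := hker ▸ φ.normal_ker
  exact ⟨K.comap f, R.comap f, hn, ⟨(QuotientGroup.quotientMulEquivOfEq hker.symm).trans
    ((QuotientGroup.quotientKerEquivOfSurjective φ hφ).trans e)⟩⟩

/-- A group with all `p`-subgroups of the centralizer of a normal `p`-subgroup `A` inside `A` has
a normal `p'`-subgroup centralizing `A`, modulo which `A` is self-centralizing. -/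
theorem exists_coprime_kernel {G : Type*} [Group G] [Finite G] {p : ℕ} [Fact p.Prime]
    {A : Subgroup G} (hA : A.Normal) (hAp : IsPGroup p A)
    (hmax : ∀ P : Subgroup G, IsPGroup p P → P ≤ Subgroup.centralizer (A : Set G) → P ≤ A) :
    ∃ K : Subgroup G, K.Normal ∧ K ≤ Subgroup.centralizer (A : Set G) ∧
      (∀ x ∈ K, (orderOf x).Coprime p) ∧
      ∀ x ∈ Subgroup.centralizer (A : Set G), ∃ a ∈ A, ∃ k ∈ K, x = k * a := by
  haveI := hA
  set C := Subgroup.centralizer (A : Set G) with hC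
  obtain ⟨P⟩ := (inferInstance : Nonempty (Sylow p C))
  have hPA : ∀ z : C, z ∈ (P : Subgroup C) → (z : G) ∈ A := fun z hz =>
    hmax ((P : Subgroup C).map C.subtype) (P.isPGroup'.map _) (Subgroup.map_subtype_le _)
      ⟨z, hz, rfl⟩
  have hP : Subgroup.normalizer ((P : Subgroup C) : Set C) ≤
      Subgroup.centralizer ((P : Subgroup C) : Set C) :=
    fun y _ z hz => Subtype.ext (y.2 _ (hPA z hz))
  set K' := (MonoidHom.transferSylow P hP).ker with hK'
  have hcop : ∀ z : C, z ∈ K' ↔ (orderOf z).Coprime p := by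
    intro z
    constructor
    · intro hz
      have h1 := MonoidHom.not_dvd_card_ker_transferSylow P hP
      rw [← (Fact.out : p.Prime).coprime_iff_not_dvd] at h1
      refine (Nat.Coprime.symm h1).coprime_dvd_left ?_
      have := orderOf_dvd_natCard (⟨z, hz⟩ : K')
      rwa [Subgroup.orderOf_mk] at this
    · intro hz
      rw [hK', MonoidHom.mem_ker]
      obtain ⟨t, ht⟩ := P.isPGroup' (MonoidHom.transferSylow P hP z)
      refine orderOf_eq_one_iff.1 (Nat.eq_one_of_dvd_coprimes (hz.pow_right t) ?_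
        (orderOf_dvd_of_pow_eq_one ht))
      exact orderOf_map_dvd _ z
  refine ⟨K'.map C.subtype, ?_, Subgroup.map_subtype_le _, ?_, fun x hx => ?_⟩
  · constructor
    rintro _ ⟨z, hz, rfl⟩ g
    haveI hCn : C.Normal := by rw [hC]; infer_instance
    refine ⟨⟨g * z * g⁻¹, hCn.conj_mem _ z.2 g⟩, (hcop _).2 ?_, rfl⟩
    have e : orderOf (⟨g * z * g⁻¹, hCn.conj_mem _ z.2 g⟩ : C) = orderOf z := by
      rw [Subgroup.orderOf_mk, ← Subgroup.orderOf_coe z]
      exact orderOf_injective (MulAut.conj g).toMonoidHom (MulAut.conj g).injective _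
    rw [e]
    exact (hcop z).1 hz
  · rintro _ ⟨z, hz, rfl⟩
    have := (hcop z).1 hz
    rwa [← Subgroup.orderOf_coe] at this
  · obtain ⟨⟨k, a⟩, hka⟩ := (MonoidHom.ker_transferSylow_isComplement' P hP).2 ⟨x, hx⟩
    exact ⟨_, hPA a a.2, _, ⟨k, k.2, rfl⟩, (congrArg Subtype.val hka).symm⟩

section Factor

variable {Ω : Type u} [Group Ω] {S : Subgroup Ω} [Finite S] {F : FusionSystem S} {Q : Subgroup Ω}
  {p : ℕ} [Fact p.Prime] {Ω' : Type v} [Group Ω'] {S' : Subgroup Ω'} {θ : S →* Ω'}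

theorem card_preimageAlong {A : Subgroup Ω'} (hA : A ≤ θ.range) :
    Nat.card (preimageAlong θ A) = Nat.card A * Nat.card θ.ker := by
  rw [preimageAlong, Subgroup.card_map_of_injective S.subtype_injective]
  let f := θ.subgroupComap A
  have hf : Function.Surjective f := fun a => by
    obtain ⟨s, hs⟩ := hA a.2
    exact ⟨⟨s, Subgroup.mem_comap.2 (hs ▸ a.2)⟩, Subtype.ext hs⟩
  rw [Subgroup.card_eq_card_quotient_mul_card_subgroup f.ker,
    Nat.card_congr (QuotientGroup.quotientKerEquivOfSurjective f hf).toEquiv]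
  congr 1
  refine Nat.card_congr ⟨fun x => ⟨x.1.1, congrArg Subtype.val x.2⟩,
    fun x => ⟨⟨x.1, Subgroup.mem_comap.2 ((x.2 : θ x.1 = 1) ▸ A.one_mem)⟩, Subtype.ext x.2⟩,
    fun _ => rfl, fun _ => rfl⟩

theorem normalizerIn_preimageAlong {A : Subgroup Ω'} (hA : A ≤ θ.range) :
    normalizerIn S (preimageAlong θ A) = preimageAlong θ (normalizerIn θ.range A) := by
  ext t
  constructor
  · rintro ⟨ht, htn⟩
    refine mem_preimageAlong.2 ⟨ht, ⟨_, rfl⟩, fun y => ?_⟩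
    by_cases hy : y ∈ θ.range
    · obtain ⟨x, rfl⟩ := hy
      rw [← map_inv, ← map_mul, ← map_mul]
      constructor
      · intro h
        exact (mem_preimageAlong.1 ((htn x).1 (mem_preimageAlong.2 ⟨x.2, h⟩))).2
      · intro h
        exact (mem_preimageAlong.1 ((htn x).2 (mem_preimageAlong.2
          ⟨S.mul_mem (S.mul_mem ht x.2) (S.inv_mem ht), h⟩))).2
    · refine ⟨fun h => absurd (hA h) hy, fun h => absurd ?_ hy⟩
      have := θ.range.mul_mem (θ.range.mul_mem (θ.range.inv_mem ⟨⟨t, ht⟩, rfl⟩) (hA h))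
        ⟨⟨t, ht⟩, rfl⟩
      simpa [mul_assoc] using this
  · intro h
    obtain ⟨ht, -, htn⟩ := mem_preimageAlong.1 h
    refine ⟨ht, fun x => ?_⟩
    constructor
    · intro hx
      obtain ⟨hxS, hxA⟩ := mem_preimageAlong.1 hx
      refine mem_preimageAlong.2 ⟨S.mul_mem (S.mul_mem ht hxS) (S.inv_mem ht), ?_⟩
      have := (htn (θ ⟨x, hxS⟩)).1 hxA
      rwa [← map_inv, ← map_mul, ← map_mul] at this
    · intro hx
      obtain ⟨hxS', hxA⟩ := mem_preimageAlong.1 hx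
      have hxS : x ∈ S := by
        have := S.mul_mem (S.mul_mem (S.inv_mem ht) hxS') ht
        simpa [mul_assoc] using this
      refine mem_preimageAlong.2 ⟨hxS, (htn (θ ⟨x, hxS⟩)).2 ?_⟩
      rw [← map_inv, ← map_mul, ← map_mul]
      exact hxA

/-- Factor systems modulo normal subgroups inherit the absence of a section. -/
theorem isSectionFree_factor {H : Type w} [Group H] (hS : IsPGroup p S) (hF : F.IsSaturated p)
    (hQn : F.IsNormal Q) {E : FusionSystem S'} (hE : F.IsFactorSystem Q θ E)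
    (hfree : F.IsSectionFree p H) : E.IsSectionFree p H := by
  obtain ⟨hQS, hker, hθ, hhom⟩ := hE
  subst hθ
  have hQc := IsNormal.stronglyClosed hQn
  have hEs : E.IsSaturated p := isSaturated_image hS hF
    (isSurjectiveMorphism_factor hS hF hQc ⟨hQS, hker, rfl, hhom⟩)
  haveI : Finite θ.range := Finite.of_surjective θ.rangeRestrict θ.rangeRestrict_surjective
  have hS'p : IsPGroup p θ.range := hS.of_surjective θ.rangeRestrict θ.rangeRestrict_surjective
  have hiff := fun (A : Subgroup Ω') (k : Ω' → Ω') =>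
    isMap_induced_iff (P' := A) (f' := k) (S' := θ.range) (E := E) hhom rfl
  intro R' hR' hR'c N' hN' L _ ι hm
  haveI := hm.1
  set R := preimageAlong θ R' with hRdef
  have hRS : R ≤ S := preimageAlong_le
  have hQR : Q ≤ R := le_preimageAlong_of_ker hker hQS
  -- maps on subgroups over `Q` induce maps
  have hdown : ∀ (A : Subgroup Ω'), A ≤ θ.range → ∀ f, IsMap F (preimageAlong θ A) f →
      ∃ k, IsMap E A k ∧ ∀ (x : Ω) (hx : x ∈ preimageAlong θ A) (hfx : f x ∈ S),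
        k (θ ⟨x, preimageAlong_le hx⟩) = θ ⟨f x, hfx⟩ := by
    intro A hA f hf
    obtain ⟨χ, hχ⟩ := exists_inducedAlong (θ := θ) preimageAlong_le hf fun y hy hy1 =>
      (hker _).2 (StronglyClosed.apply_mem hQc hf hy ((hker _).1 hy1))
    have hval : ∀ (x : Ω) (hx : x ∈ preimageAlong θ A),
        toFun χ (θ ⟨x, preimageAlong_le hx⟩) = θ ⟨f x, hf.mem hx⟩ := fun x hx => by
      rw [toFun_of_mem χ (mem_imageAlong.2 ⟨x, preimageAlong_le hx, hx, rfl⟩), hχ x hx]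
    exact ⟨toFun χ, (hiff A _).2 ⟨hA, f, hf, hval⟩, fun x hx hfx => hval x hx⟩
  -- `R` is centric
  have hRc : F.IsCentric R := by
    refine ⟨hRS, fun R₁ hR₁ c hc => ?_⟩
    obtain ⟨ψ, hψ, rfl⟩ := isConj_iff.1 hR₁
    obtain ⟨k, hk, hkv⟩ := hdown R' hR'.1 ψ hψ
    have h1 : θ ⟨c, hc.1⟩ ∈ img R' k := by
      refine hR'c.2 _ hk.isConj ⟨⟨_, rfl⟩, fun y hy => ?_⟩
      obtain ⟨z, hz, rfl⟩ := hk.mem_img.1 hy
      obtain ⟨s, rfl⟩ := hR'.1 hz
      have hs : (s : Ω) ∈ R := mem_preimageAlong.2 ⟨s.2, hz⟩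
      rw [hkv s hs (hψ.mem hs), ← map_mul, ← map_mul]
      exact congrArg θ (Subtype.ext (hc.2 _ (hψ.apply_mem_img hs)))
    obtain ⟨z, hz, hzc⟩ := hk.mem_img.1 h1
    obtain ⟨s, rfl⟩ := hR'.1 hz
    have hs : (s : Ω) ∈ R := mem_preimageAlong.2 ⟨s.2, hz⟩
    rw [hkv s hs (hψ.mem hs)] at hzc
    have h2 := (hker ((⟨ψ s, hψ.mem hs⟩ : S)⁻¹ * ⟨c, hc.1⟩)).1
      (by rw [map_mul, map_inv, hzc, inv_mul_cancel])
    have h3 : (ψ s)⁻¹ * c ∈ img R ψ := by
      haveI := finite_of_le hQS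
      exact img_mono hQR ((StronglyClosed.img_eq hQc hψ hQR).ge h2)
    have := Subgroup.mul_mem _ (hψ.apply_mem_img hs) h3
    rwa [mul_inv_cancel_left] at this
  -- `R` is fully normalized
  have hRn : F.IsFullyNormalized R := by
    refine ⟨hRS, fun R₁ hR₁ => ?_⟩
    obtain ⟨ψ, hψ, rfl⟩ := isConj_iff.1 hR₁
    obtain ⟨k, hk, hkv⟩ := hdown R' hR'.1 ψ hψ
    have hA : img R' k ≤ θ.range := hk.img_le
    have e : img R ψ = preimageAlong θ (img R' k) := by
      haveI := finite_of_le (preimageAlong_le : preimageAlong θ (img R' k) ≤ S)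
      refine eq_of_le_of_card_le (fun y hy => ?_) ?_
      · obtain ⟨x, hx, rfl⟩ := hψ.mem_img.1 hy
        refine mem_preimageAlong.2 ⟨hψ.mem hx, ?_⟩
        rw [← hkv x hx (hψ.mem hx)]
        exact hk.apply_mem_img (mem_preimageAlong.1 hx).2
      · rw [hψ.card_img, card_preimageAlong hA, hk.card_img, hRdef, card_preimageAlong hR'.1]
    rw [e, normalizerIn_preimageAlong hA, hRdef, normalizerIn_preimageAlong hR'.1,
      card_preimageAlong (A := normalizerIn θ.range (img R' k)) inf_le_left,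
      card_preimageAlong (A := normalizerIn θ.range R') inf_le_left]
    exact Nat.mul_le_mul_right _ (hR'.2 _ hk.isConj)
  set T := normalizerIn S R with hTdef
  haveI : Finite T := finite_normalizerIn
  haveI : Finite (normalizerIn θ.range R') := finite_of_le inf_le_left
  have hTeq : T = preimageAlong θ (normalizerIn θ.range R') := normalizerIn_preimageAlong hR'.1
  have hR'T : R' ≤ (normalizerIn θ.range R') := le_normalizerIn hR'.1
  have hRT : R ≤ T := le_normalizerIn hRS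
  have hN := isNormalizerSystem_normalizerSys F R hRS
  obtain ⟨G, hG, κ, hfin, hr, ⟨Ps, hPs⟩, hM, hMc⟩ :=
    Model.exists_model_normalizer F hS hF hRc hRn hN
  haveI := hfin
  have hQT : Q ≤ T := hQR.trans hRT
  set MQ : Subgroup G := (Q.subgroupOf T).map κ with hMQ
  haveI hMQn : MQ.Normal := by
    constructor
    rintro _ ⟨x, hx, rfl⟩ g
    obtain ⟨f, hf, hfx⟩ := realized_exists_map hr hRT g fun y hy => by
      obtain ⟨v, -, hv⟩ := hM.conj_mem _ ⟨⟨y, hRT hy⟩, hy, rfl⟩ g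
      exact ⟨v, hv⟩
    obtain ⟨hfT, he⟩ := hfx x (hQR hx)
    obtain ⟨-, -, f2, hf2, hf2x, -⟩ := (isMap_normalizerSystem_iff hN).1 hf
    exact ⟨⟨f x, hfT⟩, StronglyClosed.apply_mem hQc ((hf2.mono le_sup_left).congr hf2x)
      (hQR hx) hx, he⟩
  let q : G →* G ⧸ MQ := QuotientGroup.mk' MQ
  let θT : T →* (normalizerIn θ.range R') := (θ.comp (Subgroup.inclusion (inf_le_left : T ≤ S))).codRestrict (normalizerIn θ.range R')
    fun t => (mem_preimageAlong.1 (hTeq.le t.2)).2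
  have hθT : ∀ t : T, ((θT t : (normalizerIn θ.range R')) : Ω') = θ ⟨t, t.2.1⟩ := fun t => rfl
  have hθTs : Function.Surjective θT := by
    intro y
    obtain ⟨s, hs⟩ := (inf_le_left : (normalizerIn θ.range R') ≤ θ.range) y.2
    exact ⟨⟨s, hTeq.ge (mem_preimageAlong.2 ⟨s.2, hs ▸ y.2⟩)⟩, Subtype.ext hs⟩
  have hkerT : θT.ker ≤ (q.comp κ).ker := by
    intro t ht
    rw [MonoidHom.mem_ker, MonoidHom.comp_apply]
    refine (QuotientGroup.eq_one_iff _).2 ⟨t, ?_, rfl⟩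
    exact (hker ⟨t, t.2.1⟩).1 (congrArg Subtype.val ht)
  let ι' : (normalizerIn θ.range R') →* G ⧸ MQ := θT.liftOfSurjective hθTs ⟨q.comp κ, hkerT⟩
  have hι' : ∀ t : T, ι' (θT t) = q (κ t) := fun t =>
    θT.liftOfRightInverse_comp_apply _ _ ⟨q.comp κ, hkerT⟩ t
  have hι'inj : Function.Injective ι' := by
    refine (injective_iff_map_eq_one _).2 fun y hy => ?_
    obtain ⟨t, rfl⟩ := hθTs y
    rw [hι'] at hy
    obtain ⟨t', ht', hte⟩ := (QuotientGroup.eq_one_iff _).1 hy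
    rw [← hr.1 hte]
    exact Subtype.ext ((hker ⟨t', t'.2.1⟩).2 ht')
  have hι'range : ι'.range = (Ps : Subgroup G).map q := by
    rw [hPs]
    ext y
    constructor
    · rintro ⟨z, rfl⟩
      obtain ⟨t, rfl⟩ := hθTs z
      exact ⟨κ t, ⟨t, rfl⟩, (hι' t).symm⟩
    · rintro ⟨_, ⟨t, rfl⟩, rfl⟩
      exact ⟨θT t, hι' t⟩
  -- maps of `N'` are realized
  have hA : ∀ (A : Subgroup Ω') (k : Ω' → Ω'), IsMap N' A k → R' ≤ A →
      ∃ g : G ⧸ MQ, ∀ (y : Ω') (hy : y ∈ (normalizerIn θ.range R')) (hyA : y ∈ A) (hky : k y ∈ (normalizerIn θ.range R')),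
        ι' ⟨k y, hky⟩ = g * ι' ⟨y, hy⟩ * g⁻¹ := by
    intro A k hk hRA
    obtain ⟨hAT, hkT, k2, hk2, hk2x, hk2R⟩ := (isMap_normalizerSystem_iff hN').1 hk
    obtain ⟨-, f, hf, hfk⟩ := (hiff _ _).1 ((hk2.mono le_sup_left))
    set X := preimageAlong θ A
    have hXT : X ≤ T := fun x hx => hTeq.ge (mem_preimageAlong.2
      ⟨preimageAlong_le hx, hAT (mem_preimageAlong.1 hx).2⟩)
    have hRX : R ≤ X := fun x hx => mem_preimageAlong.2
      ⟨preimageAlong_le hx, hRA (mem_preimageAlong.1 hx).2⟩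
    have hval : ∀ (x : Ω) (hx : x ∈ X), θ ⟨f x, hf.mem hx⟩ = k (θ ⟨x, preimageAlong_le hx⟩) :=
      fun x hx => by rw [← hfk x hx, hk2x _ (mem_preimageAlong.1 hx).2]
    have hfT : ∀ x ∈ X, f x ∈ T := fun x hx => hTeq.ge (mem_preimageAlong.2
      ⟨hf.mem hx, by rw [hval x hx]; exact hkT _ (mem_preimageAlong.1 hx).2⟩)
    have hfR : img R f = R := by
      haveI := finite_of_le hRS
      refine hf.img_eq_of_forall hRX fun x hx => mem_preimageAlong.2 ⟨hf.mem (hRX hx), ?_⟩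
      have hyR := (mem_preimageAlong.1 hx).2
      rw [hval x (hRX hx), ← hk2x _ (hRA hyR)]
      exact hk2R.le ((hk2.mono le_sup_right).apply_mem_img hyR)
    have hfN : IsMap (normalizerSys F R hRS) X f := (isMap_normalizerSystem_iff hN).2
      ⟨hXT, hfT, f, by rwa [sup_eq_left.2 hRX], fun _ _ => rfl, hfR⟩
    obtain ⟨g, hg⟩ := realized_exists_elem hr hfN
    refine ⟨q g, fun y hy hyA hky => ?_⟩
    obtain ⟨s, rfl⟩ := (inf_le_left : (normalizerIn θ.range R') ≤ θ.range) hy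
    have hsX : (s : Ω) ∈ X := mem_preimageAlong.2 ⟨s.2, hyA⟩
    have e1 : θT ⟨s, hXT hsX⟩ = ⟨θ s, hy⟩ := rfl
    have e2 : θT ⟨f s, hfT s hsX⟩ = ⟨k (θ s), hky⟩ := Subtype.ext (hval s hsX)
    rw [← e1, ← e2, hι', hι', hg s hsX (hXT hsX) (hfT s hsX), map_mul, map_mul, map_inv]
  -- elements of the quotient act on `R'`
  set A0 : Subgroup (G ⧸ MQ) := (R'.subgroupOf (normalizerIn θ.range R')).map ι' with hA0
  have hA0eq : A0 = ((R.subgroupOf T).map κ).map q := by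
    ext y
    constructor
    · rintro ⟨z, hz, rfl⟩
      obtain ⟨t, rfl⟩ := hθTs z
      exact ⟨κ t, ⟨t, mem_preimageAlong.2 ⟨t.2.1, hz⟩, rfl⟩, (hι' t).symm⟩
    · rintro ⟨_, ⟨t, ht, rfl⟩, rfl⟩
      exact ⟨θT t, (mem_preimageAlong.1 ht).2, hι' t⟩
  haveI hA0n : A0.Normal := hA0eq ▸ hM.map q (QuotientGroup.mk'_surjective MQ)
  have hB : ∀ g : G ⧸ MQ, ∃ k, IsMap N' R' k ∧ img R' k = R' ∧
      ∀ (y : Ω') (hy : y ∈ R'), ∃ hky : k y ∈ (normalizerIn θ.range R'),
        ι' ⟨k y, hky⟩ = g * ι' ⟨y, hR'T hy⟩ * g⁻¹ := by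
    intro g
    obtain ⟨g, rfl⟩ := QuotientGroup.mk'_surjective MQ g
    obtain ⟨f, hf, hfx⟩ := realized_exists_map hr hRT g fun y hy => by
      obtain ⟨v, -, hv⟩ := hM.conj_mem _ ⟨⟨y, hRT hy⟩, hy, rfl⟩ g
      exact ⟨v, hv⟩
    obtain ⟨-, -, f2, hf2, hf2x, hf2R⟩ := (isMap_normalizerSystem_iff hN).1 hf
    have hfF : IsMap F R f := (hf2.mono le_sup_left).congr hf2x
    have hfR : ∀ x ∈ R, f x ∈ R := fun x hx => by
      rw [← hf2x x hx]
      exact hf2R.le ((hf2.mono le_sup_right).apply_mem_img hx)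
    obtain ⟨k, hk, hkv⟩ := hdown R' hR'.1 f hfF
    have hkR : ∀ y ∈ R', k y ∈ R' := fun y hy => by
      obtain ⟨s, rfl⟩ := hR'.1 hy
      have hs : (s : Ω) ∈ R := mem_preimageAlong.2 ⟨s.2, hy⟩
      rw [hkv s hs (hfF.mem hs)]
      exact (mem_preimageAlong.1 (hfR s hs)).2
    have hki : img R' k = R' := by
      haveI := finite_of_le hR'.1
      exact hk.img_eq_of_forall le_rfl hkR
    refine ⟨k, (isMap_normalizerSystem_iff hN').2 ⟨hR'T, fun y hy => hR'T (hkR y hy), k,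
      by rwa [sup_idem], fun _ _ => rfl, hki⟩, hki, fun y hy => ⟨hR'T (hkR y hy), ?_⟩⟩
    obtain ⟨s, rfl⟩ := hR'.1 hy
    have hs : (s : Ω) ∈ R := mem_preimageAlong.2 ⟨s.2, hy⟩
    obtain ⟨hfs, he⟩ := hfx s hs
    have e1 : θT ⟨s, hRT hs⟩ = ⟨θ s, hR'T hy⟩ := rfl
    have e2 : θT ⟨f s, hfs⟩ = ⟨k (θ s), hR'T (hkR _ hy)⟩ :=
      Subtype.ext (hkv s hs (hfF.mem hs)).symm
    rw [← e1, ← e2, hι', hι', he, map_mul, map_mul, map_inv]
  -- the coprime kernel
  have hA0p : IsPGroup p A0 :=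
    ((hS'p.to_le hR'.1).of_equiv (Subgroup.subgroupOfEquivOfLe hR'T).symm).map ι'
  obtain ⟨Pq, hPq⟩ : ∃ Pq : Sylow p (G ⧸ MQ), (Pq : Subgroup (G ⧸ MQ)) = ι'.range :=
    ⟨Ps.mapSurjective (QuotientGroup.mk'_surjective MQ), by rw [hι'range]; rfl⟩
  have hcen : ∀ z : (normalizerIn θ.range R'), ι' z ∈ Subgroup.centralizer (A0 : Set (G ⧸ MQ)) → ι' z ∈ A0 := by
    intro z hz
    refine ⟨z, hR'c.2 R' (isConj_refl hR'.1) ⟨z.2.1, fun y hy => ?_⟩, rfl⟩
    have h1 := hz (ι' ⟨y, hR'T hy⟩) ⟨⟨y, hR'T hy⟩, hy, rfl⟩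
    rw [← map_mul, ← map_mul] at h1
    exact congrArg Subtype.val (hι'inj h1)
  have hmax : ∀ P : Subgroup (G ⧸ MQ), IsPGroup p P →
      P ≤ Subgroup.centralizer (A0 : Set (G ⧸ MQ)) → P ≤ A0 := by
    intro P hP hPC y hy
    obtain ⟨W, hW⟩ := hP.exists_le_sylow
    obtain ⟨g, hg⟩ := MulAction.exists_smul_eq (G ⧸ MQ) W Pq
    have h1 : g * y * g⁻¹ ∈ ι'.range := by
      rw [← hPq, ← hg]
      exact ⟨y, hW hy, rfl⟩
    obtain ⟨z, hz⟩ := h1
    have h2 : ι' z ∈ Subgroup.centralizer (A0 : Set (G ⧸ MQ)) := by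
      rw [hz]
      exact (inferInstance : (Subgroup.centralizer (A0 : Set (G ⧸ MQ))).Normal).conj_mem _
        (hPC hy) g
    have h3 := hA0n.conj_mem _ (hcen z h2) g⁻¹
    rw [hz] at h3
    simpa [mul_assoc] using h3
  obtain ⟨K, hKn, hKC, hKord, hKdec⟩ := exists_coprime_kernel hA0n hA0p hmax
  haveI := hKn
  let q0 : (G ⧸ MQ) →* (G ⧸ MQ) ⧸ K := QuotientGroup.mk' K
  let ι0 : (normalizerIn θ.range R') →* (G ⧸ MQ) ⧸ K := q0.comp ι'
  have hι0 : Function.Injective ι0 := by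
    refine (injective_iff_map_eq_one _).2 fun z hz => ?_
    have h1 := hKord _ ((QuotientGroup.eq_one_iff _).1 hz)
    rw [orderOf_injective ι' hι'inj] at h1
    obtain ⟨t, ht⟩ := (hS'p.to_le inf_le_left : IsPGroup p (normalizerIn θ.range R')) z
    exact eq_one_of_pow_prime_pow h1 ht
  set A1 : Subgroup ((G ⧸ MQ) ⧸ K) := (R'.subgroupOf (normalizerIn θ.range R')).map ι0 with hA1
  have hA1eq : A1 = A0.map q0 := (Subgroup.map_map _ _ _).symm
  haveI hA1n : A1.Normal := hA1eq ▸ hA0n.map q0 (QuotientGroup.mk'_surjective K)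
  have hA1c : Subgroup.centralizer (A1 : Set ((G ⧸ MQ) ⧸ K)) ≤ A1 := by
    intro x hx
    obtain ⟨x, rfl⟩ := QuotientGroup.mk'_surjective K x
    have hxC : x ∈ Subgroup.centralizer (A0 : Set (G ⧸ MQ)) := by
      intro a ha
      have h1 := hx (q0 a) (hA1eq ▸ ⟨a, ha, rfl⟩)
      rw [← map_mul, ← map_mul] at h1
      have h2 : (x * a)⁻¹ * (a * x) ∈ K := QuotientGroup.eq.1 h1.symm
      have h3 : (x * a)⁻¹ * (a * x) ∈ A0 := by
        have := A0.mul_mem (A0.inv_mem ha) (hA0n.conj_mem a ha x⁻¹)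
        simpa [mul_assoc] using this
      obtain ⟨t, ht⟩ := hA0p ⟨_, h3⟩
      exact (inv_mul_eq_one.1
        (eq_one_of_pow_prime_pow (hKord _ h2) (congrArg Subtype.val ht))).symm
    obtain ⟨a, ha, k, hk, rfl⟩ := hKdec x hxC
    have hk1 : q0 k = 1 := (QuotientGroup.eq_one_iff k).2 hk
    show q0 (k * a) ∈ A1
    rw [map_mul, hk1, one_mul]
    exact hA1eq ▸ ⟨a, ha, rfl⟩
  have hN's : N'.IsSaturated p := isSaturated_normalizerSystem hS'p hEs hR' hN'
  have hT'p : IsPGroup p (normalizerIn θ.range R') := hS'p.to_le inf_le_left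
  have hR'N : N'.IsNormal R' := isNormal_normalizerSystem_self hR'.1 hN'
  have hR'Nc : N'.IsCentric R' := (IsNormal.centric_iff hR'N).2 fun y hy =>
    hR'c.2 R' (isConj_refl hR'.1) ⟨hy.1.1, hy.2⟩
  have hr0 : N'.IsRealizedBy ι0 := by
    refine ⟨hι0, fun P hP φ hφ => ⟨fun hφN => ?_, ?_⟩⟩
    · obtain ⟨k, hk, hkx, -⟩ := (isNormal_iff.1 hR'N).2 P _ (isMap_of_hom hφN)
      obtain ⟨g, hg⟩ := hA _ k hk le_sup_right
      refine ⟨q0 g, fun x => ?_⟩
      have hxP := hP x.2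
      have hkx' : k x = φ x := by rw [hkx x x.2, toFun_apply]
      have h1 := hg x hxP (Subgroup.mem_sup_left x.2) (by rw [hkx']; exact hφ x)
      show q0 (ι' _) = _
      rw [show (⟨φ x, hφ x⟩ : (normalizerIn θ.range R')) = ⟨k x, by rw [hkx']; exact hφ x⟩ from Subtype.ext hkx'.symm,
        h1, map_mul, map_mul, map_inv]
      rfl
    · rintro ⟨g, hg⟩
      obtain ⟨g, rfl⟩ := QuotientGroup.mk'_surjective K g
      obtain ⟨k, hk, hki, hkv⟩ := hB g
      have hkR : ∀ y ∈ R', k y ∈ R' := fun y hy => hki.le (hk.apply_mem_img hy)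
      set U := preimage ι0 (ι0.range.comap (MulAut.conj (q0 g)).toMonoidHom) with hUdef
      have hUT : U ≤ (normalizerIn θ.range R') := preimage_le _
      have hPU : P ≤ U := fun x hx => mem_preimage.2 ⟨hP hx, ⟨_, hg ⟨x, hx⟩⟩⟩
      have hkv0 : ∀ (y : Ω') (hy : y ∈ R'), q0 g * ι0 ⟨y, hR'T hy⟩ * (q0 g)⁻¹ =
          ι0 ⟨k y, hR'T (hkR y hy)⟩ := fun y hy => by
        obtain ⟨hky, he⟩ := hkv y hy
        show _ = q0 (ι' _)
        rw [show (⟨k y, hR'T (hkR y hy)⟩ : (normalizerIn θ.range R')) = ⟨k y, hky⟩ from rfl, he, map_mul, map_mul,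
          map_inv]
        rfl
      have hRU : R' ≤ U := fun y hy =>
        mem_preimage.2 ⟨hR'T hy, ⟨_, (hkv0 y hy).symm⟩⟩
      obtain ⟨k', hk', hk'x⟩ := receptive_extend (R := U)
        (receptive_of_fullyNormalized hT'p hN's (IsNormal.fullyNormalized hR'N)) hk hki hRU
        fun a ha => by
          obtain ⟨haT, b, hb⟩ := mem_preimage.1 ha
          refine ⟨haT, (hUT ha).2, b, b.2, fun y hy => ?_⟩
          have hay : a * y * a⁻¹ ∈ R' := ((hUT ha).2 y).1 hy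
          have h1 := hkv0 _ hay
          rw [show (⟨a * y * a⁻¹, hR'T hay⟩ : (normalizerIn θ.range R')) = ⟨a, haT⟩ * ⟨y, hR'T hy⟩ * ⟨a, haT⟩⁻¹ from
            rfl, map_mul, map_mul, map_inv] at h1
          have hb' : ι0 b = q0 g * ι0 ⟨a, haT⟩ * (q0 g)⁻¹ := hb
          have h2 : ι0 ⟨k (a * y * a⁻¹), hR'T (hkR _ hay)⟩ =
              ι0 (b * ⟨k y, hR'T (hkR y hy)⟩ * b⁻¹) := by
            rw [← h1, map_mul, map_mul, map_inv, hb', ← hkv0 y hy]
            group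
          exact congrArg Subtype.val (hι0 h2)
      obtain ⟨g2, hg2⟩ := hA U k' hk' hRU
      have hg2' : ∀ (y : Ω') (hy : y ∈ U) (hky : k' y ∈ (normalizerIn θ.range R')),
          ι0 ⟨k' y, hky⟩ = q0 g2 * ι0 ⟨y, hUT hy⟩ * (q0 g2)⁻¹ := fun y hy hky => by
        show q0 (ι' _) = _
        rw [hg2 y (hUT hy) hy hky, map_mul, map_mul, map_inv]
        rfl
      have hdiff : (q0 g2)⁻¹ * q0 g ∈ A1 := hA1c <| by
        rintro _ ⟨y, hy, rfl⟩
        have h1 := hg2' y (hRU hy) (by rw [hk'x y hy]; exact hR'T (hkR y hy))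
        have h2 := hkv0 y hy
        simp only [hk'x y hy] at h1
        rw [h1] at h2
        replace h2 : q0 g * ι0 y * (q0 g)⁻¹ = q0 g2 * ι0 y * (q0 g2)⁻¹ := h2
        calc ι0 y * ((q0 g2)⁻¹ * q0 g)
            = (q0 g2)⁻¹ * (q0 g2 * ι0 y * (q0 g2)⁻¹) * q0 g := by group
          _ = (q0 g2)⁻¹ * (q0 g * ι0 y * (q0 g)⁻¹) * q0 g := by rw [h2]
          _ = (q0 g2)⁻¹ * q0 g * ι0 y := by group
      obtain ⟨r, hr', hre⟩ := hdiff
      have hge : q0 g = q0 g2 * ι0 r := by rw [hre, mul_inv_cancel_left]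
      have hrU : ∀ y ∈ U, (r : Ω') * y * (r : Ω')⁻¹ ∈ U := fun y hy =>
        U.mul_mem (U.mul_mem (hRU hr') hy) (U.inv_mem (hRU hr'))
      have hcomp : IsMap N' U (fun y => k' ((r : Ω') * y * (r : Ω')⁻¹)) :=
        (isMap_conj N' hUT r.2).comp hk' hrU
      refine (hcomp.mono hPU).mem_hom fun x => ?_
      have h1 := hg2' _ (hrU x (hPU x.2)) (hk'.mem (hrU x (hPU x.2)))
      have h2 := hg x
      change ι0 _ = q0 g * ι0 _ * (q0 g)⁻¹ at h2
      rw [show (⟨(r : Ω') * x * (r : Ω')⁻¹, hUT (hrU x (hPU x.2))⟩ : (normalizerIn θ.range R')) =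
        r * ⟨x, hP x.2⟩ * r⁻¹ from rfl, map_mul, map_mul, map_inv] at h1
      have h3 : ι0 ⟨φ x, hφ x⟩ = ι0 ⟨k' ((r : Ω') * x * (r : Ω')⁻¹),
          hk'.mem (hrU x (hPU x.2))⟩ := by
        rw [h1, h2, hge]
        group
      exact congrArg Subtype.val (hι0 h3)
  -- compare with the given model
  obtain ⟨hM0, hc0⟩ := centralizer_le_of_model hT'p hN's hm hR'N hR'Nc
  obtain ⟨θ₁, -, Φ₁, -⟩ := Model.exists_iso_grp N' hR'T hT'p hN's hR'Nc hR'N hm.2.1 hM0 hc0
  obtain ⟨θ₂, -, Φ₂, -⟩ := Model.exists_iso_grp N' hR'T hT'p hN's hR'Nc hR'N hr0 hA1n hA1c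
  intro h
  have hH0 : Cfsg.Involves H ((G ⧸ MQ) ⧸ K) :=
    involves_of_hom (Φ₁.trans Φ₂.symm).toMonoidHom (Φ₁.trans Φ₂.symm).injective h
  have hHG : Cfsg.Involves H G := involves_of_surjective (q0.comp q)
    ((QuotientGroup.mk'_surjective K).comp (QuotientGroup.mk'_surjective MQ)) hH0
  exact hfree R hRn hRc _ hN G κ
    (isModel_of_normal_centric (hS.to_le inf_le_left) hr ⟨Ps, hPs⟩ hRT hM hMc) hHG

end Factor

end CfsgLib.Fusion
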