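import Mathlib
import Cfsg.Agent.Lib.Fusion.GroupFusion
import Cfsg.Agent.Lib.Solvable.PCore
import Cfsg.Prelude.Def_LocalEven

/-!
# `p`-stability of a group and of its fusion system
-/

set_option autoImplicit false

namespace CfsgLib.Fusion

open Cfsg Subgroup
open scoped commutatorElement

variable {G : Type*} [Group G] {p : ℕ}

/-- A fusion system in which quadratic automorphisms of fully normalized subgroups lie in `O_p`. -/
def IsPStableSystem {Ω : Type*} [Group Ω] {S : Subgroup Ω} (p : ℕ) (F : FusionSystem S) : Prop :=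
  ∀ Q : Subgroup Ω, F.IsFullyNormalized Q → ∀ χ : MulAut ↥Q, χ ∈ F.autGroup Q →
    (∀ a : ↥Q, (χ a⁻¹) * a * (χ a⁻¹) * (χ (χ a)) = 1) →
    χ ∈ ((pCore p ↥(F.autGroup Q)).map (F.autGroup Q).subtype : Subgroup (MulAut ↥Q))

theorem quad_iff_fix {Q : Type*} [Group Q] (χ : MulAut Q) (a : Q) :
    χ a⁻¹ * a * χ a⁻¹ * χ (χ a) = 1 ↔ χ (a * χ a⁻¹) = a * χ a⁻¹ := by
  simp only [map_mul, map_inv]
  constructor
  · intro h
    have e : a * (χ a)⁻¹ = χ a * (χ (χ a))⁻¹ := by
      have := congrArg (fun x => χ a * x * (χ (χ a))⁻¹) h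
      simpa [mul_assoc] using this
    exact e.symm
  · intro h
    have e := congrArg (fun x => (χ a)⁻¹ * x * χ (χ a)) h.symm
    simpa [mul_assoc] using e

theorem quad_bot_iff {Q : Subgroup G} {g : G} :
    ⁅⁅Q, zpowers g⁆, zpowers g⁆ = ⊥ ↔ ∀ q ∈ Q, Commute g ⁅q, g⁆ := by
  rw [commutator_eq_bot_iff_le_centralizer]
  constructor
  · intro h q hq
    exact (mem_centralizer_iff.1 (h (commutator_mem_commutator hq (mem_zpowers g)))
      g (mem_zpowers g))
  · intro h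
    refine commutator_le.2 fun q hq y hy => ?_
    obtain ⟨n, rfl⟩ := mem_zpowers_iff.1 hy
    suffices Commute g ⁅q, g ^ n⁆ from mem_centralizer_iff.2 fun z hz => by
      obtain ⟨m, rfl⟩ := mem_zpowers_iff.1 hz
      exact this.zpow_left m
    clear hy
    induction n using Int.induction_on with
    | zero => simp
    | succ k ih =>
      have e : ⁅q, g ^ ((k : ℤ) + 1)⁆ = ⁅q, g⁆ * (g * ⁅q, g ^ (k : ℤ)⁆ * g⁻¹) := by
        simp only [commutatorElement_def, add_comm (k : ℤ) 1, zpow_add, zpow_one]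
        group
      rw [e, ih.eq, mul_inv_cancel_right]
      exact (h q hq).mul_right ih
    | pred k ih =>
      have e : ⁅q, g ^ (-(k : ℤ) - 1)⁆ = g⁻¹ * (⁅q, g⁆⁻¹ * ⁅q, g ^ (-(k : ℤ))⁆) * g := by
        simp only [commutatorElement_def, zpow_sub, zpow_one]
        group
      have hg : Commute g (⁅q, g⁆⁻¹ * ⁅q, g ^ (-(k : ℤ))⁆) := (h q hq).inv_right.mul_right ih
      rw [e, mul_assoc, ← hg.eq, inv_mul_cancel_left]
      exact hg

theorem quad_aut_iff {Q : Subgroup G} {g : G} {χ : MulAut Q}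
    (hχ : ∀ x : Q, ((χ x : Q) : G) = g * x * g⁻¹) :
    (∀ a : Q, χ a⁻¹ * a * χ a⁻¹ * χ (χ a) = 1) ↔ ⁅⁅Q, zpowers g⁆, zpowers g⁆ = ⊥ := by
  rw [quad_bot_iff]
  have key : ∀ a : Q, ((a * χ a⁻¹ : Q) : G) = ⁅(a : G), g⁆ := fun a => by
    rw [coe_mul, hχ, commutatorElement_def, coe_inv]
    group
  constructor
  · intro h q hq
    have h1 := congrArg Subtype.val ((quad_iff_fix χ ⟨q, hq⟩).1 (h ⟨q, hq⟩))
    rw [hχ, key, mul_inv_eq_iff_eq_mul] at h1
    exact h1
  · intro h a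
    refine (quad_iff_fix χ a).2 (Subtype.ext ?_)
    rw [hχ, key, mul_inv_eq_iff_eq_mul]
    exact h a a.2

/-- The restriction of conjugation to a subgroup, from its normalizer to its induced automorphisms. -/
noncomputable def normAutHom (Q : Subgroup G) :
    ↥(normalizer (Q : Set G)) →* ↥(autInducedBy ⊤ Q) :=
  (normalizerMonoidHom Q).codRestrict _ fun n =>
    mem_autInducedBy_iff.2 ⟨(n : G), mem_top _, fun _ => rfl⟩

theorem normAutHom_surjective (Q : Subgroup G) : Function.Surjective (normAutHom Q) := by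
  rintro ⟨α, hα⟩
  obtain ⟨g, -, hg⟩ := mem_autInducedBy_iff.1 hα
  have hN : g ∈ normalizer (Q : Set G) := by
    refine mem_normalizer_iff.2 fun x => ⟨fun hx => (hg ⟨x, hx⟩) ▸ (α ⟨x, hx⟩).2, fun hx => ?_⟩
    obtain ⟨y, hy⟩ := α.surjective ⟨g * x * g⁻¹, hx⟩
    have h1 : g * (y : G) * g⁻¹ = g * x * g⁻¹ := (hg y).symm.trans (congrArg Subtype.val hy)
    exact (mul_left_cancel (mul_right_cancel h1)) ▸ y.2
  exact ⟨⟨g, hN⟩, Subtype.ext (MulEquiv.ext fun x => Subtype.ext (hg x).symm)⟩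

theorem normAutHom_ker (Q : Subgroup G) :
    (normAutHom Q).ker = (centralizer (Q : Set G)).subgroupOf (normalizer (Q : Set G)) := by
  rw [← normalizerMonoidHom_ker, normAutHom, MonoidHom.ker_codRestrict]

theorem mem_pCore_autInduced_iff (Q : Subgroup G) {g : G} (hg : g ∈ normalizer (Q : Set G)) :
    normalizerMonoidHom Q ⟨g, hg⟩ ∈
        ((pCore p ↥(autInducedBy ⊤ Q)).map (autInducedBy ⊤ Q).subtype : Subgroup (MulAut ↥Q)) ↔
      (QuotientGroup.mk ⟨g, hg⟩ : ↥(normalizer (Q : Set G)) ⧸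
          (centralizer (Q : Set G)).subgroupOf (normalizer (Q : Set G))) ∈ pCore p _ := by
  let e := (QuotientGroup.quotientMulEquivOfEq (normAutHom_ker Q).symm).trans
    (QuotientGroup.quotientKerEquivOfSurjective _ (normAutHom_surjective Q))
  have he : e (QuotientGroup.mk ⟨g, hg⟩) = normAutHom Q ⟨g, hg⟩ := rfl
  constructor
  · rintro ⟨y, hy, hye⟩
    have hy' : y = e (QuotientGroup.mk ⟨g, hg⟩) := he ▸ Subtype.ext hye
    rw [hy', ← CfsgLib.Solvable.map_pCore_equiv e p] at hy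
    obtain ⟨z, hz, hze⟩ := hy
    exact e.injective hze ▸ hz
  · intro h
    refine ⟨normAutHom Q ⟨g, hg⟩, ?_, rfl⟩
    rw [← he, ← CfsgLib.Solvable.map_pCore_equiv e p]
    exact mem_map_of_mem _ h

/-- `g` acts on `Q` inside a normal `p`-subgroup modulo the centralizer. -/
theorem mk_mem_pCore_iff [Fact p.Prime] [Finite G] (Q : Subgroup G) {g : G}
    (hg : g ∈ normalizer (Q : Set G)) :
    (QuotientGroup.mk ⟨g, hg⟩ : ↥(normalizer (Q : Set G)) ⧸
          (centralizer (Q : Set G)).subgroupOf (normalizer (Q : Set G))) ∈ pCore p _ ↔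
      ∃ M : Subgroup G, g ∈ M ∧ M ≤ normalizer (Q : Set G) ∧
        (∀ n ∈ normalizer (Q : Set G), ∀ x ∈ M, n * x * n⁻¹ ∈ M) ∧
        ∀ x ∈ M, ∃ k : ℕ, x ^ p ^ k ∈ centralizer (Q : Set G) := by
  set N := normalizer (Q : Set G) with hN
  set C := (centralizer (Q : Set G)).subgroupOf N with hC
  constructor
  · intro h
    haveI := Cfsg.pCore_normal p (↥N ⧸ C)
    refine ⟨((pCore p (↥N ⧸ C)).comap (QuotientGroup.mk' C)).map N.subtype,
      ⟨⟨g, hg⟩, h, rfl⟩, map_subtype_le _, ?_, ?_⟩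
    · rintro n hn _ ⟨x, hx, rfl⟩
      exact ⟨⟨n, hn⟩ * x * ⟨n, hn⟩⁻¹, (Normal.comap inferInstance _).conj_mem x hx _, rfl⟩
    · rintro _ ⟨x, hx, rfl⟩
      obtain ⟨k, hk⟩ := CfsgLib.Solvable.pCore_isPGroup (G := ↥N ⧸ C) p ⟨_, hx⟩
      refine ⟨k, ?_⟩
      have h1 : QuotientGroup.mk' C (x ^ p ^ k) = 1 := (map_pow _ _ _).trans (congrArg Subtype.val hk)
      exact ((QuotientGroup.eq_one_iff _).1 h1 : x ^ p ^ k ∈ C)
  · rintro ⟨M, hgM, hMN, hMn, hMp⟩
    have hn : (M.subgroupOf N).Normal := ⟨fun x hx n => hMn n n.2 x hx⟩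
    have hp' : IsPGroup p ((M.subgroupOf N).map (QuotientGroup.mk' C)) := by
      rintro ⟨_, x, hx, rfl⟩
      obtain ⟨k, hk⟩ := hMp x hx
      exact ⟨k, Subtype.ext ((map_pow _ _ _).symm.trans ((QuotientGroup.eq_one_iff _).2 hk))⟩
    exact CfsgLib.Solvable.le_pCore (hn.map _ (QuotientGroup.mk'_surjective _)) hp'
      (mem_map_of_mem _ (x := (⟨g, hg⟩ : ↥N)) hgM)

/-- A finite group is `p`-stable in the normalizer form if and only if its fusion system is. -/
theorem isNormalizerPStable_iff_group [Fact p.Prime] [Finite G] (P : Sylow p G) :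
    IsNormalizerPStable p G ↔ IsPStableSystem p (groupFusionSystem (P : Subgroup G)) := by
  constructor
  · intro hst Q hQ χ hχ hq
    rw [group_autGroup_eq P hQ.1] at hχ ⊢
    obtain ⟨⟨g, hg⟩, hgχ⟩ := normAutHom_surjective Q ⟨χ, hχ⟩
    have e : normalizerMonoidHom Q ⟨g, hg⟩ = χ := congrArg Subtype.val hgχ
    rw [← e]
    refine (mem_pCore_autInduced_iff Q hg).2 (hst Q (P.isPGroup'.to_le hQ.1) g hg
      ((quad_aut_iff (χ := χ) fun x => ?_).1 hq))
    rw [← e]
    rfl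
  · intro hst Q hQp g hg hq
    obtain ⟨W, hQW⟩ := hQp.exists_le_sylow
    obtain ⟨h₀, hh₀⟩ := MulAction.exists_smul_eq G W P
    have hQ' : conjSub h₀ Q ≤ P := by
      rw [← hh₀]
      exact map_mono hQW
    obtain ⟨R, hR, hRn⟩ := exists_fullyNormalized_conj (groupFusionSystem (P : Subgroup G)) hQ'
    obtain ⟨-, -, h₁, hh₁⟩ := (group_isConj_iff P).1 hR
    set φ : G ≃* G := MulAut.conj (h₁ * h₀) with hφdef
    have hQR : Q.map φ.toMonoidHom = R := by
      rw [← hh₁, ← conjSub_mul]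
      rfl
    have hnorm : ∀ x, x ∈ normalizer (Q : Set G) ↔ φ x ∈ normalizer (R : Set G) := by
      intro x
      rw [← hQR, ← map_equiv_normalizer_eq Q φ]
      exact (mem_map_equiv (f := φ)).trans (by rw [φ.symm_apply_apply]) |>.symm
    have hcent : ∀ x, φ x ∈ centralizer (R : Set G) → x ∈ centralizer (Q : Set G) := by
      intro x hx
      refine mem_centralizer_iff.2 fun q hqQ => φ.injective ?_
      rw [map_mul, map_mul]
      exact mem_centralizer_iff.1 hx _ (hQR ▸ mem_map_of_mem φ.toMonoidHom hqQ)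
    have hg' := (hnorm g).1 hg
    have hq' : ⁅⁅R, zpowers (φ g)⁆, zpowers (φ g)⁆ = ⊥ := by
      refine quad_bot_iff.2 fun r hr => ?_
      rw [← hQR] at hr
      obtain ⟨q, hqQ, rfl⟩ := hr
      have h1 := (quad_bot_iff.1 hq q hqQ).map φ.toMonoidHom
      rwa [map_commutatorElement] at h1
    have h2 := hst R hRn (normalizerMonoidHom R ⟨φ g, hg'⟩)
      (by rw [group_autGroup_eq P hRn.1]; exact (normAutHom R ⟨φ g, hg'⟩).2)
      ((quad_aut_iff fun _ => rfl).2 hq')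
    rw [group_autGroup_eq P hRn.1] at h2
    obtain ⟨M, hgM, hMN, hMn, hMp⟩ :=
      (mk_mem_pCore_iff R hg').1 ((mem_pCore_autInduced_iff R hg').1 h2)
    refine (mk_mem_pCore_iff Q hg).2 ⟨M.comap φ.toMonoidHom, hgM, fun x hx => (hnorm x).2 (hMN hx),
      fun n hn x hx => ?_, fun x hx => ?_⟩
    · show φ (n * x * n⁻¹) ∈ M
      rw [map_mul, map_mul, map_inv]
      exact hMn _ ((hnorm n).1 hn) _ hx
    · obtain ⟨k, hk⟩ := hMp _ hx
      refine ⟨k, hcent _ ?_⟩
      rw [map_pow]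
      exact hk

end CfsgLib.Fusion
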