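import Cfsg.Agent.Lib.Fusion.Center
import Cfsg.Agent.Lib.Fusion.GroupFusion
import Cfsg.Agent.Lib.Invol.BrauerSuzuki

/-!
The centre of a `2`-fusion system of a group and `Z*`.
-/

set_option autoImplicit false
set_option linter.style.haveILetI false
set_option linter.unusedVariables false
set_option linter.unusedSectionVars false

universe u

namespace CfsgLib.Fusion

open Cfsg Cfsg.FusionSystem Subgroup

variable {G : Type u} [Group G] [Finite G]

/-- A weakly closed element stays weakly closed in a quotient. -/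
theorem weaklyClosedElt_quotient {p : ℕ} [Fact p.Prime] (P : Sylow p G) (N : Subgroup G) [N.Normal] {x : G}
    (hx : x ∈ (P : Subgroup G))
    (hw : ∀ g : G, g * x * g⁻¹ ∈ (P : Subgroup G) → g * x * g⁻¹ = x) :
    ∀ g : G ⧸ N, g * (x : G ⧸ N) * g⁻¹ ∈ (P : Subgroup G).map (QuotientGroup.mk' N) →
      g * (x : G ⧸ N) * g⁻¹ = x := by
  intro g hg
  obtain ⟨g, rfl⟩ := QuotientGroup.mk_surjective g
  obtain ⟨s, hs, hsg⟩ := hg
  set L := (P : Subgroup G) ⊔ N with hL
  have hgL : g * x * g⁻¹ ∈ L := by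
    have h1 : s⁻¹ * (g * x * g⁻¹) ∈ N := QuotientGroup.eq.1 hsg
    have h2 := Subgroup.mul_mem_sup hs h1
    rwa [mul_inv_cancel_left] at h2
  have hidx : ¬ p ∣ (P : Subgroup G).relIndex L := fun hd =>
    P.not_dvd_index (hd.trans (Subgroup.relIndex_dvd_index_of_le le_sup_left))
  have hp2 : IsPGroup p (Subgroup.zpowers (g * x * g⁻¹)) := by
    have := (P.isPGroup'.to_le (Subgroup.zpowers_le.2 hx)).map (MulAut.conj g).toMonoidHom
    rwa [MonoidHom.map_zpowers] at this
  obtain ⟨m, hm, hmP⟩ := exists_conj_le_of_sylow P.isPGroup' le_sup_left hidx hp2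
    (Subgroup.zpowers_le.2 hgL)
  have h1 := hw (m * g) (by
    have := hmP (conj_mem_conjSub (Subgroup.mem_zpowers (g * x * g⁻¹)))
    simpa [mul_assoc] using this)
  obtain ⟨n, hn, t, ht, rfl⟩ := Subgroup.mem_sup_of_normal_left.1 (sup_comm (P : Subgroup G) N ▸ hm :
    m ∈ N ⊔ (P : Subgroup G))
  have ht1 : t * x * t⁻¹ = x := hw t
    ((P : Subgroup G).mul_mem ((P : Subgroup G).mul_mem ht hx) ((P : Subgroup G).inv_mem ht))
  have h2 := congrArg (QuotientGroup.mk' N) h1
  have hn' : QuotientGroup.mk' N n = 1 := (QuotientGroup.eq_one_iff n).2 hn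
  simp only [map_mul, map_inv, mul_inv_rev, hn', one_mul, inv_one, mul_one] at h2
  have h3 := congrArg (QuotientGroup.mk' N) ht1
  simp only [map_mul, map_inv] at h3
  have hcan : ∀ a b c : G ⧸ N, a * b * c * (b⁻¹ * a⁻¹) = c → a * c * a⁻¹ = c → b * c * b⁻¹ = c := by
    intro a b c h h'
    have h4 : a * (b * c * b⁻¹) * a⁻¹ = a * c * a⁻¹ :=
      calc a * (b * c * b⁻¹) * a⁻¹ = a * b * c * (b⁻¹ * a⁻¹) := by group
        _ = c := h
        _ = a * c * a⁻¹ := h'.symm
    exact mul_left_cancel (mul_right_cancel h4)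
  exact hcan _ _ _ h2 h3

theorem oddCore_quotient_oddCore : Cfsg.oddCore (G ⧸ Cfsg.oddCore G) = ⊥ := by
  haveI : (Cfsg.oddCore G).Normal := CfsgLib.Solvable.pPrimeCore_normal 2 G
  haveI : (Cfsg.oddCore (G ⧸ Cfsg.oddCore G)).Normal := CfsgLib.Solvable.pPrimeCore_normal 2 _
  set O := Cfsg.oddCore G with hO
  set K := (Cfsg.oddCore (G ⧸ O)).comap (QuotientGroup.mk' O) with hK
  have hcard : Odd (Nat.card K) := by
    let f : K →* Cfsg.oddCore (G ⧸ O) := (QuotientGroup.mk' O).subgroupComap _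
    have h1 := Subgroup.card_mul_index f.ker
    rw [← h1]
    refine Nat.odd_mul.2 ⟨Odd.of_dvd_nat (CfsgLib.Invol.odd_card_oddCore G) ?_, ?_⟩
    · have hle : f.ker.map K.subtype ≤ O := by
        rintro _ ⟨a, ha, rfl⟩
        exact (QuotientGroup.eq_one_iff (a : G)).1 (congrArg Subtype.val ha)
      rw [← Subgroup.card_map_of_injective K.subtype_injective]
      exact Subgroup.card_dvd_of_le hle
    · rw [Subgroup.index_ker]
      exact Odd.of_dvd_nat (CfsgLib.Invol.odd_card_oddCore _) (Subgroup.card_subgroup_dvd_card _)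
  have hle : K ≤ O := CfsgLib.Invol.le_oddCore (by rw [hK]; infer_instance) hcard
  refine (Subgroup.eq_bot_iff_forall _).2 fun y hy => ?_
  obtain ⟨y, rfl⟩ := QuotientGroup.mk_surjective y
  exact (QuotientGroup.eq_one_iff y).2 (hle hy)

/-- Above a central `2`-subgroup there is no odd quotient in a group without odd core. -/
theorem le_of_central_of_odd (hO : Cfsg.oddCore G = ⊥) {Z M : Subgroup G} (hM : M.Normal)
    (hZM : Z ≤ M) (hZc : Z ≤ Subgroup.center G) (hodd : Odd (Z.relIndex M)) : M ≤ Z := by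
  haveI : Finite M := Subtype.finite
  have hoddN : ∀ (N : Subgroup M), (N.map M.subtype).Normal → (∀ a ∈ N, ∃ i, Odd i ∧ a ^ i = 1) →
      N = ⊥ := by
    intro N hN ha
    have h1 : Odd (Nat.card N) := by
      rw [← Nat.not_even_iff_odd]
      intro he
      haveI : Fact (Nat.Prime 2) := ⟨Nat.prime_two⟩
      obtain ⟨⟨a, haN⟩, ho⟩ := exists_prime_orderOf_dvd_card' (G := N) 2 (even_iff_two_dvd.1 he)
      obtain ⟨i, hi, hai⟩ := ha a haN
      rw [Subgroup.orderOf_mk] at ho
      have := orderOf_dvd_of_pow_eq_one hai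
      rw [ho] at this
      exact (Nat.not_even_iff_odd.2 hi) (even_iff_two_dvd.2 this)
    rw [← Subgroup.card_map_of_injective M.subtype_injective] at h1
    have h2 := CfsgLib.Invol.le_oddCore hN h1
    rw [hO] at h2
    exact (Subgroup.map_eq_bot_iff_of_injective _ M.subtype_injective).1 (le_bot_iff.1 h2)
  have hZ' : Z.subgroupOf M ≤ Subgroup.center M := fun a ha => Subgroup.mem_center_iff.2 fun b =>
    Subtype.ext (Subgroup.mem_center_iff.1 (hZc ha) b)
  have hc : Odd (Subgroup.center M).index :=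
    Odd.of_dvd_nat hodd (Subgroup.index_dvd_of_le hZ')
  let τ := MonoidHom.transferCenterPow M
  have hτ : τ.ker = ⊥ := by
    refine hoddN _ ⟨fun y hy g => ?_⟩ fun a ha => ⟨_, hc, ?_⟩
    · obtain ⟨a, ha, rfl⟩ := hy
      refine ⟨⟨g * a * g⁻¹, hM.conj_mem a a.2 g⟩, ?_, rfl⟩
      have h1 : (a : G) ^ (Subgroup.center M).index = 1 :=
        congrArg (fun v : Subgroup.center M => ((v : M) : G)) (MonoidHom.mem_ker.1 ha)
      refine MonoidHom.mem_ker.2 (Subtype.ext (Subtype.ext ?_))
      show (g * (a : G) * g⁻¹) ^ (Subgroup.center M).index = 1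
      rw [conj_pow, h1, mul_one, mul_inv_cancel]
    · exact congrArg Subtype.val (MonoidHom.mem_ker.1 ha)
  have hcomm : ∀ a b : M, a * b = b * a := fun a b => (MonoidHom.ker_eq_bot_iff τ).1 hτ (by
    rw [map_mul, map_mul]
    exact Subtype.ext (Subgroup.mem_center_iff.1 (τ b).2 (τ a : M)))
  -- the power map by the odd index
  set d := Z.relIndex M with hd
  have hpow : ∀ a : M, (a : G) ^ d ∈ Z := fun a => by
    haveI : (Z.subgroupOf M).Normal := ⟨fun z hz b => by
      rwa [hcomm b z, mul_inv_cancel_right]⟩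
    exact Subgroup.pow_index_mem (Z.subgroupOf M) a
  let π : M →* M :=
    { toFun := fun a => a ^ d
      map_one' := one_pow d
      map_mul' := fun a b => (show Commute a b from hcomm a b).mul_pow d }
  have hπ : π.ker = ⊥ := by
    refine hoddN _ ⟨fun y hy g => ?_⟩ fun a ha => ⟨d, hodd, ha⟩
    obtain ⟨a, ha, rfl⟩ := hy
    refine ⟨⟨g * a * g⁻¹, hM.conj_mem a a.2 g⟩, ?_, rfl⟩
    refine MonoidHom.mem_ker.2 (Subtype.ext ?_)
    show (g * (a : G) * g⁻¹) ^ d = 1
    have h1 : (a : G) ^ d = 1 := congrArg Subtype.val (MonoidHom.mem_ker.1 ha)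
    rw [conj_pow, h1, mul_one, mul_inv_cancel]
  intro m hm
  obtain ⟨a, ha⟩ := Finite.surjective_of_injective ((MonoidHom.ker_eq_bot_iff π).1 hπ) ⟨m, hm⟩
  rw [← show (a : G) ^ d = m from congrArg Subtype.val ha]
  exact hpow a

/-- Elements of the centre of the fusion system are central modulo the odd core. -/
theorem zstar_of_mem_center (S : Sylow 2 G) : ∀ (n : ℕ) (x : G), orderOf x = n →
    x ∈ (groupFusionSystem (S : Subgroup G)).center → ∀ g : G, g * x * g⁻¹ * x⁻¹ ∈ Cfsg.oddCore G := by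
  intro n
  induction n using Nat.strong_induction_on with
  | _ n ih =>
    intro x hn hx g
    haveI hOn : (Cfsg.oddCore G).Normal := CfsgLib.Solvable.pPrimeCore_normal 2 G
    have hS : IsPGroup 2 (S : Subgroup G) := S.isPGroup'
    have hFs := group_isSaturated S
    have hxS : x ∈ (S : Subgroup G) := center_le _ hx
    have hwc : ∀ y ∈ (groupFusionSystem (S : Subgroup G)).center, ∀ a : G,
        a * y * a⁻¹ ∈ (S : Subgroup G) → a * y * a⁻¹ = y := by
      intro y hy a ha
      refine IsCentral.apply_eq center_isCentral (P := Subgroup.zpowers y)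
        (f := fun z => a * z * a⁻¹) ?_ hy (Subgroup.mem_zpowers y)
      refine ((isSystemOf_group _).2 _ _).2 ⟨Subgroup.zpowers_le.2 (center_le _ hy), fun z hz => ?_, a,
        Subgroup.mem_top a, fun _ _ => rfl⟩
      obtain ⟨k, rfl⟩ := Subgroup.mem_zpowers_iff.1 hz
      rw [← conj_zpow]
      exact (S : Subgroup G).zpow_mem ha k
    have hw := hwc x hx
    rcases eq_or_ne x 1 with rfl | hx1
    · simp
    obtain ⟨k, hk⟩ := IsPGroup.iff_orderOf.1 hS ⟨x, hxS⟩
    rw [Subgroup.orderOf_mk] at hk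
    have hdvd : 2 ∣ orderOf x := by
      rcases Nat.eq_zero_or_pos k with rfl | hk0
      · exact absurd (orderOf_eq_one_iff.1 hk) hx1
      · exact hk ▸ dvd_pow_self 2 hk0.ne'
    have hlt : orderOf (x * x) < n := by
      rw [← hn, ← pow_two, orderOf_pow_of_dvd two_ne_zero hdvd]
      exact Nat.div_lt_self (orderOf_pos x) one_lt_two
    have hxx := ih _ hlt (x * x) rfl (Subgroup.mul_mem _ hx hx)
    set O := Cfsg.oddCore G with hO
    set π := QuotientGroup.mk' O with hπ
    set Sb := (S : Subgroup G).map π with hSb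
    let Sbar : Sylow 2 (G ⧸ O) := S.mapSurjective (QuotientGroup.mk'_surjective O)
    have hSbar : (Sbar : Subgroup (G ⧸ O)) = Sb := rfl
    have hw1 := weaklyClosedElt_quotient S O hxS hw
    set Z := Subgroup.zpowers (π (x * x)) with hZ
    have hZc : Z ≤ Subgroup.center (G ⧸ O) := Subgroup.zpowers_le.2 (Subgroup.mem_center_iff.2 fun a => by
      obtain ⟨a, rfl⟩ := QuotientGroup.mk'_surjective O a
      have h1 := (QuotientGroup.eq_one_iff _).2 (hxx a)
      rw [← mul_inv_eq_iff_eq_mul, ← mul_inv_eq_one]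
      simpa [hπ] using h1)
    haveI hZn : Z.Normal := ⟨fun z hz a => by
      rwa [Subgroup.mem_center_iff.1 (hZc hz) a, mul_inv_cancel_right]⟩
    have hZS : Z ≤ Sb := Subgroup.zpowers_le.2 ⟨_, (S : Subgroup G).mul_mem hxS hxS, rfl⟩
    set ρ := QuotientGroup.mk' Z with hρ
    have hxS1 : π x ∈ (Sbar : Subgroup (G ⧸ O)) := ⟨x, hxS, rfl⟩
    have hw2 := weaklyClosedElt_quotient Sbar Z hxS1 hw1
    let Sbb : Sylow 2 ((G ⧸ O) ⧸ Z) := Sbar.mapSurjective (QuotientGroup.mk'_surjective Z)
    set O₂ := Cfsg.oddCore ((G ⧸ O) ⧸ Z) with hO₂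
    haveI hO₂n : O₂.Normal := CfsgLib.Solvable.pPrimeCore_normal 2 _
    have hkey : ∀ a : G ⧸ O, ρ (a * π x * a⁻¹ * (π x)⁻¹) ∈ O₂ := by
      intro a
      by_cases h1 : ρ (π x) = 1
      · rw [map_mul, map_mul, map_mul, map_inv, map_inv, h1, mul_one, mul_inv_cancel, inv_one, one_mul]
        exact O₂.one_mem
      have ho : orderOf (ρ (π x)) = 2 := by
        refine orderOf_eq_prime ?_ h1
        rw [pow_two, ← map_mul, ← map_mul]
        exact (QuotientGroup.eq_one_iff _).2 (Subgroup.mem_zpowers _)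
      have hiso := CfsgLib.Invol.isolated_of_sylow Sbb ho ⟨π x, hxS1, rfl⟩ hw2
      have h2 := O₂.inv_mem (CfsgLib.Invol.zstar _ hiso (ρ a))
      simpa [mul_assoc] using h2
    set M := O₂.comap ρ with hM
    have hMZ : M ≤ Z := by
      refine le_of_central_of_odd oddCore_quotient_oddCore (by rw [hM]; infer_instance)
        (fun z hz => ?_) hZc ?_
      · show ρ z ∈ O₂
        rw [show ρ z = 1 from (QuotientGroup.eq_one_iff z).2 hz]
        exact O₂.one_mem
      · let f : M →* O₂ := ρ.subgroupComap O₂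
        have hker : f.ker = Z.subgroupOf M := by
          ext a
          rw [MonoidHom.mem_ker, Subgroup.mem_subgroupOf]
          exact ⟨fun h => (QuotientGroup.eq_one_iff (a : G ⧸ O)).1 (congrArg Subtype.val h),
            fun h => Subtype.ext ((QuotientGroup.eq_one_iff (a : G ⧸ O)).2 h)⟩
        rw [Subgroup.relIndex, ← hker, Subgroup.index_ker]
        exact Odd.of_dvd_nat (CfsgLib.Invol.odd_card_oddCore _) (Subgroup.card_subgroup_dvd_card _)
    have h1 : π g * π x * (π g)⁻¹ * (π x)⁻¹ ∈ Z := hMZ (hkey (π g))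
    have h2 : π g * π x * (π g)⁻¹ ∈ Sb := by
      have := Sb.mul_mem (hZS h1) (⟨x, hxS, rfl⟩ : π x ∈ Sb)
      rwa [inv_mul_cancel_right] at this
    refine (QuotientGroup.eq_one_iff _).1 ?_
    show π (g * x * g⁻¹ * x⁻¹) = 1
    rw [map_mul, map_mul, map_mul, map_inv, map_inv, mul_inv_eq_one]
    exact hw1 (π g) h2

/-- The centre of the `2`-fusion system of a group consists of the elements central modulo `O(G)`. -/
theorem center_groupFusion_eq (S : Sylow 2 G) :
    (groupFusionSystem (S : Subgroup G)).center = (S : Subgroup G) ⊓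
      (Subgroup.center (G ⧸ Cfsg.oddCore G)).comap (QuotientGroup.mk' (Cfsg.oddCore G)) := by
  haveI hOn : (Cfsg.oddCore G).Normal := CfsgLib.Solvable.pPrimeCore_normal 2 G
  set π := QuotientGroup.mk' (Cfsg.oddCore G) with hπ
  apply le_antisymm
  · intro x hx
    refine ⟨center_le _ hx, ?_⟩
    show π x ∈ Subgroup.center _
    rw [Subgroup.mem_center_iff]
    intro a
    obtain ⟨a, rfl⟩ := QuotientGroup.mk'_surjective _ a
    have h1 := (QuotientGroup.eq_one_iff _).2 (zstar_of_mem_center S _ x rfl hx a)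
    rw [← mul_inv_eq_iff_eq_mul, ← mul_inv_eq_one]
    simpa [hπ] using h1
  · intro x hx
    refine (mem_center_iff S.isPGroup' (group_isSaturated S)).2 ⟨hx.1, fun P f hf hxP => ?_⟩
    obtain ⟨-, hfS, a, -, ha⟩ := ((isSystemOf_group _).2 _ f).1 hf
    have h2 := hfS x hxP
    rw [ha x hxP] at h2 ⊢
    have h3 : π (a * x * a⁻¹) = π x := by
      rw [map_mul, map_mul, map_inv, Subgroup.mem_center_iff.1 hx.2 (π a), mul_inv_cancel_right]
    have h4 : (a * x * a⁻¹) * x⁻¹ ∈ Cfsg.oddCore G := by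
      refine (QuotientGroup.eq_one_iff _).1 ?_
      show π (a * x * a⁻¹ * x⁻¹) = 1
      rw [map_mul, h3, ← map_mul, mul_inv_cancel, map_one]
    set y := (a * x * a⁻¹) * x⁻¹ with hy
    obtain ⟨k, hk⟩ := IsPGroup.iff_orderOf.1 S.isPGroup'
      ⟨y, (S : Subgroup G).mul_mem h2 ((S : Subgroup G).inv_mem hx.1)⟩
    rw [Subgroup.orderOf_mk] at hk
    have h5 : orderOf y ∣ Nat.card (Cfsg.oddCore G) := by
      rw [← Subgroup.orderOf_mk y h4]
      exact orderOf_dvd_natCard _
    have h6 : orderOf y = 1 := by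
      have hoy := Odd.of_dvd_nat (CfsgLib.Invol.odd_card_oddCore G) h5
      rw [hk] at hoy ⊢
      rcases Nat.eq_zero_or_pos k with rfl | hk0
      · rfl
      · exact absurd hoy (Nat.not_odd_iff_even.2 ((Nat.even_pow' hk0.ne').2 even_two))
    exact mul_inv_eq_one.1 (orderOf_eq_one_iff.1 h6)

end CfsgLib.Fusion
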