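import Cfsg.Agent.Lib.Fusion.ComplementCriterion
import Cfsg.Agent.Lib.Complement.CenterAbelian

/-!
A system with a non-trivial automorphism of order prime to `p` contains a constrained one with the
same property, and one of the characteristic subgroups of `S` has a non-trivial `p'`-automizer,
whenever a functor with the complement criterion is available.
-/

set_option autoImplicit false
set_option linter.style.haveILetI false
set_option linter.unusedVariables false
set_option linter.unusedSectionVars false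

universe u

namespace CfsgLib.Fusion

open Cfsg Cfsg.FusionSystem Subgroup

variable {Ω : Type u} [Group Ω] {S : Subgroup Ω} {F : FusionSystem S} {P Q R X U : Subgroup Ω}
  {p : ℕ} {f g : Ω → Ω}

/-- The normalizer system of a subgroup normalized by `S`, over `S`. -/
noncomputable def normSys (F : FusionSystem S) (X : Subgroup Ω) (hX : X ≤ S) (hn : normalizerIn S X = S) :
    FusionSystem S :=
  castSys hn (normalizerSys F X hX)

theorem isMap_normSys_iff (hX : X ≤ S) (hn : normalizerIn S X = S) :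
    IsMap (normSys F X hX hn) P f ↔ P ≤ S ∧ (∀ x ∈ P, f x ∈ S) ∧
      ∃ g, IsMap F (P ⊔ X) g ∧ (∀ x ∈ P, g x = f x) ∧ img X g = X := by
  rw [normSys, isMap_castSys,
    isMap_normalizerSystem_iff (isNormalizerSystem_normalizerSys F X hX), hn]

theorem IsMap.of_normSys {hX : X ≤ S} {hn : normalizerIn S X = S}
    (h : IsMap (normSys F X hX hn) P f) : IsMap F P f := by
  obtain ⟨-, -, g, hg, hgx, -⟩ := (isMap_normSys_iff hX hn).1 h
  exact (hg.mono le_sup_left).congr hgx

theorem normSys_le (hX : X ≤ S) (hn : normalizerIn S X = S) : normSys F X hX hn ≤ F :=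
  le_iff_isMap.2 fun _ _ h => h.of_normSys

theorem isSaturated_normSys [Fact p.Prime] [Finite S] (hS : IsPGroup p S) (hF : F.IsSaturated p)
    (hX : X ≤ S) (hn : normalizerIn S X = S) : (normSys F X hX hn).IsSaturated p :=
  isSaturated_castSys hn (isSaturated_normalizerSystem hS hF
    ⟨hX, fun R _ => by rw [hn]; exact Subgroup.card_le_of_le inf_le_left⟩
    (isNormalizerSystem_normalizerSys F X hX))

theorem isNormal_normSys_self (hX : X ≤ S) (hn : normalizerIn S X = S) :
    (normSys F X hX hn).IsNormal X := by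
  refine isNormal_iff.2 ⟨hX, fun P f hf => ?_⟩
  obtain ⟨h1, h2, g, hg, hgx, hgX⟩ := (isMap_normSys_iff hX hn).1 hf
  exact ⟨g, (isMap_normSys_iff hX hn).2 ⟨sup_le h1 hX, fun x hx => hg.mem hx, g,
    by rwa [sup_assoc, sup_idem], fun _ _ => rfl, hgX⟩, hgx, hgX⟩

theorem isNormal_normSys_of_isNormal (hX : X ≤ S) (hn : normalizerIn S X = S)
    (hQ : F.IsNormal Q) : (normSys F X hX hn).IsNormal Q := by
  refine isNormal_iff.2 ⟨hQ.1, fun P f hf => ?_⟩
  obtain ⟨h1, h2, g, hg, hgx, hgX⟩ := (isMap_normSys_iff hX hn).1 hf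
  obtain ⟨k, hk, hkx, hkQ⟩ := (isNormal_iff.1 hQ).2 _ g hg
  have hle' : P ⊔ Q ⊔ X ≤ P ⊔ X ⊔ Q :=
    sup_le (sup_le (le_sup_left.trans le_sup_left) le_sup_right) (le_sup_right.trans le_sup_left)
  refine ⟨k, (isMap_normSys_iff hX hn).2 ⟨sup_le h1 hQ.1, fun x hx =>
    hk.mem (hle' (Subgroup.mem_sup_left hx)), k, hk.mono hle', fun _ _ => rfl, ?_⟩,
    fun x hx => (hkx x (Subgroup.mem_sup_left hx)).trans (hgx x hx), hkQ⟩
  exact (img_congr fun x hx => hkx x (Subgroup.mem_sup_right hx)).trans hgX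

theorem mem_autGroup_normSys [Finite S] (hX : X ≤ S) (hn : normalizerIn S X = S) (hXP : X ≤ P)
    (hP : P ≤ S) {α : MulAut P} (hα : α ∈ F.autGroup P)
    (hinv : ∀ x : P, (x : Ω) ∈ X → ((α x : P) : Ω) ∈ X) :
    α ∈ (normSys F X hX hn).autGroup P := by
  have hm := isMap_of_autGroup hP hα
  refine (autGroup_iff_isMap hP fun x => (toFun_aut_apply α x.2).symm).2
    ((isMap_normSys_iff hX hn).2 ⟨hP, fun x hx => hm.mem hx, _, by rwa [sup_eq_left.2 hXP],
      fun _ _ => rfl, ?_⟩)
  haveI := finite_of_le hX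
  exact hm.img_eq_of_forall hXP fun x hx => by
    rw [toFun_aut_apply α (hXP hx)]
    exact hinv ⟨x, hXP hx⟩ hx

theorem eq_one_of_coprimeTrivial_normSys [Finite S] {hX : X ≤ S} {hn : normalizerIn S X = S}
    (h : CoprimeTrivial (normSys F X hX hn) p) (hXP : X ≤ P) (hP : P ≤ S) {α : MulAut P}
    (hα : α ∈ F.autGroup P) (hinv : ∀ x : P, (x : Ω) ∈ X → ((α x : P) : Ω) ∈ X)
    (hc : (orderOf α).Coprime p) : α = 1 :=
  h P hP α (mem_autGroup_normSys hX hn hXP hP hα hinv) hc

theorem exists_coprime_pow [Fact p.Prime] {G : Type*} [Monoid G] (a : G) (ha : IsOfFinOrder a) :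
    ∃ j : ℕ, (orderOf (a ^ p ^ j)).Coprime p := by
  refine ⟨(orderOf a).factorization p, ?_⟩
  rw [orderOf_pow_of_dvd (pow_ne_zero _ (Fact.out : p.Prime).ne_zero) (Nat.ordProj_dvd _ p)]
  exact (Nat.coprime_ordCompl (Fact.out : p.Prime) ha.orderOf_pos.ne').symm

theorem IsMap.toAut_pow_mem (hg : IsMap F U g) (hi : img U g = U) (h : ∀ x ∈ X, g x ∈ X) (n : ℕ) :
    ∀ x : U, (x : Ω) ∈ X → (((hg.toAut hi ^ n) x : U) : Ω) ∈ X := by
  induction n with
  | zero => exact fun x hx => hx
  | succ n ih =>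
    intro x hx
    rw [pow_succ, MulAut.mul_apply]
    exact ih _ (by rw [IsMap.toAut_apply]; exact h _ hx)

/-- An extension without automorphisms of order prime to `p` forces the automorphism to be
trivial. -/
theorem eq_one_of_extension [Fact p.Prime] [Finite U] (hg : IsMap F U g) (hi : img U g = U)
    (hRU : R ≤ U) {α : MulAut R} (hgx : ∀ x : R, g x = ((α x : R) : Ω))
    (hc : (orderOf α).Coprime p)
    (h : ∀ n : ℕ, (orderOf (hg.toAut hi ^ n)).Coprime p → hg.toAut hi ^ n = 1) : α = 1 := by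
  have hval : ∀ (n : ℕ) (x : R), (((hg.toAut hi ^ n) ⟨x, hRU x.2⟩ : U) : Ω) = ((α ^ n) x : R) := by
    intro n
    induction n with
    | zero => intro x; rfl
    | succ n ih =>
      intro x
      rw [pow_succ, MulAut.mul_apply, pow_succ, MulAut.mul_apply, ← ih (α x)]
      congr 2
      refine Subtype.ext ?_
      rw [IsMap.toAut_apply, hgx x]
  obtain ⟨j, hj⟩ := exists_coprime_pow (p := p) (hg.toAut hi) (isOfFinOrder_of_finite _)
  refine eq_one_of_pow_prime_pow (k := j) hc (MulEquiv.ext fun x => Subtype.ext ?_)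
  rw [← hval, h _ hj]
  rfl

/-- An automorphism of order prime to `p` whose restriction to an invariant subgroup is a
`p`-element fixes that subgroup. -/
theorem fixes_of_pGroup [Fact p.Prime] [Finite S] (hQS : Q ≤ S) (hQR : Q ≤ R) (hR : R ≤ S)
    (hp : IsPGroup p (F.autGroup Q)) {α : MulAut R} (hα : α ∈ F.autGroup R)
    (hc : (orderOf α).Coprime p) (hinv : ∀ x : R, (x : Ω) ∈ Q → ((α x : R) : Ω) ∈ Q) (x : R)
    (hx : (x : Ω) ∈ Q) : ((α x : R) : Ω) = x := by
  haveI := finite_of_le hQS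
  have hm := (isMap_of_autGroup hR hα).mono hQR
  have hi : img Q (toFun (R.subtype.comp α.toMonoidHom)) = Q :=
    hm.img_eq_of_forall le_rfl fun y hy => by
      rw [toFun_aut_apply α (hQR hy)]
      exact hinv ⟨y, hQR hy⟩ hy
  have hval : ∀ (n : ℕ) (y : Q), (((hm.toAut hi ^ n) y : Q) : Ω) =
      ((α ^ n) ⟨y, hQR y.2⟩ : R) := by
    intro n
    induction n with
    | zero => intro y; rfl
    | succ n ih =>
      intro y
      rw [pow_succ, MulAut.mul_apply, ih, pow_succ, MulAut.mul_apply]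
      congr 2
      refine Subtype.ext ?_
      rw [IsMap.toAut_apply, toFun_aut_apply α (hQR y.2)]
  obtain ⟨k, hk⟩ := hp ⟨hm.toAut hi, hm.toAut_mem hi⟩
  have hk' : hm.toAut hi ^ p ^ k = 1 := congrArg Subtype.val hk
  obtain ⟨m, hm'⟩ := exists_pow_eq_self_of_coprime (hc.pow_right k).symm
  have h1 := hval (p ^ k * m) ⟨x, hx⟩
  rw [pow_mul, hk', one_pow, pow_mul, hm'] at h1
  exact h1.symm

section Quotient

variable [Fact p.Prime] [Finite S] (hS : IsPGroup p S) (hF : F.IsSaturated p)

include hS hF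

/-- A normal subgroup `Q` is contained in a larger subgroup whose normalizer system controls the
automorphisms of order prime to `p` modulo `Q`. -/
theorem exists_quotient_control (W : ComplementFunctor.{u} p) (hQn : F.IsNormal Q) (hne : Q ≠ S) :
    ∃ (X : Subgroup Ω) (hX : X ≤ S) (hn : normalizerIn S X = S), Q < X ∧
      ((Q.subgroupOf S).Characteristic → (X.subgroupOf S).Characteristic) ∧
      (CoprimeTrivial (normSys F X hX hn) p → ∀ R ≤ S, Q ≤ R → ∀ β ∈ F.autGroup R,
        (orderOf β).Coprime p → ∀ x : R, (x : Ω)⁻¹ * ((β x : R) : Ω) ∈ Q) := by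
  have hQc := IsNormal.stronglyClosed hQn
  haveI hQnn : (Q.subgroupOf S).Normal := by
    rw [Subgroup.normal_subgroupOf_iff_le_normalizer hQn.1]
    exact StronglyClosed.le_normalizer hQc
  set θ := QuotientGroup.mk' (Q.subgroupOf S) with hθ
  have hker : ∀ s : S, θ s = 1 ↔ (s : Ω) ∈ Q := fun s => QuotientGroup.eq_one_iff s
  set E := factorSys F hQc θ hker with hEdef
  have hiff := fun (Y : Subgroup (S ⧸ Q.subgroupOf S))
      (k : S ⧸ Q.subgroupOf S → S ⧸ Q.subgroupOf S) =>
    isMap_induced_iff (P' := Y) (f' := k) (S' := θ.range) (E := E) (fun P' φ' => Iff.rfl) rfl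
  have hEs : E.IsSaturated p := isSaturated_image hS hF
    (isSurjectiveMorphism_factor hS hF hQc ⟨hQn.1, hker, rfl, fun P' φ' => Iff.rfl⟩)
  haveI : Finite θ.range := Subtype.finite
  have hp' : IsPGroup p θ.range := hS.of_surjective θ.rangeRestrict θ.rangeRestrict_surjective
  have hbot : θ.range ≠ ⊥ := fun h => hne (le_antisymm hQn.1 fun s hs =>
    (hker ⟨s, hs⟩).1 (Subgroup.mem_bot.1 (h ▸ ⟨⟨s, hs⟩, rfl⟩)))
  set X := preimageAlong θ (W.W θ.range) with hXdef
  have hX : X ≤ S := preimageAlong_le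
  have hXn : normalizerIn S X = S := by
    refine inf_eq_left.2 fun a ha => ?_
    haveI : Finite (X : Set Ω) := (finite_of_le hX : Finite X)
    refine Subgroup.mem_normalizer_fintype fun y hy => ?_
    obtain ⟨hyS, hy'⟩ := mem_preimageAlong.1 hy
    refine mem_preimageAlong.2 ⟨S.mul_mem (S.mul_mem ha hyS) (S.inv_mem ha), ?_⟩
    exact ((W.normalizer_le θ.range) (Subgroup.le_normalizer ⟨⟨a, ha⟩, rfl⟩) _).1 hy'
  have hQX : Q < X := by
    refine lt_of_le_of_ne (fun q hq => mem_preimageAlong.2 ⟨hQn.1 hq, ?_⟩) fun h =>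
      W.ne_bot θ.range hp' hbot ?_
    · rw [(hker ⟨q, hQn.1 hq⟩).2 hq]
      exact Subgroup.one_mem _
    · refine (Subgroup.eq_bot_iff_forall _).2 fun y hy => ?_
      obtain ⟨s, rfl⟩ := W.le θ.range hy
      exact (hker s).2 (h ▸ mem_preimageAlong.2 ⟨s.2, hy⟩)
  refine ⟨X, hX, hXn, hQX, fun hQchar => ?_, fun hsys => ?_⟩
  · have hXeq : X.subgroupOf S = (W.W θ.range).comap θ :=
      Subgroup.comap_map_eq_self_of_injective S.subtype_injective _
    rw [hXeq]
    refine Subgroup.characteristic_iff_comap_eq.2 fun e => ?_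
    have he : (Q.subgroupOf S).map e.toMonoidHom = Q.subgroupOf S :=
      Subgroup.characteristic_iff_map_eq.1 hQchar e
    set e' := QuotientGroup.congr (Q.subgroupOf S) (Q.subgroupOf S) e he with he'
    have hcomp : ∀ s : S, θ (e s) = e' (θ s) := fun s => rfl
    have hrange : θ.range = ⊤ := MonoidHom.range_eq_top.2 (QuotientGroup.mk'_surjective _)
    have hW : (W.W θ.range).map e'.toMonoidHom = W.W θ.range := by
      rw [W.map e'.toMonoidHom θ.range (fun a _ b _ h => e'.injective h), hrange,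
        ← MonoidHom.range_eq_map, (MonoidHom.range_eq_top (f := e'.toMonoidHom)).2 e'.surjective]
    ext s
    simp only [Subgroup.mem_comap, MulEquiv.coe_toMonoidHom]
    rw [hcomp]
    conv_lhs => rw [← hW]
    exact Subgroup.mem_map_iff_mem (f := e'.toMonoidHom) e'.injective
  have hloc : LocallyPGroup E p (W.W θ.range) := by
    intro P' hP' hWP' α' hα' hinv' hc'
    obtain ⟨-, g, hg, hgx⟩ := (hiff _ _).1 (isMap_of_autGroup hP' hα')
    set P := preimageAlong θ P'
    haveI := finite_of_le (preimageAlong_le : P ≤ S)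
    have hXP : X ≤ P := fun y hy => by
      obtain ⟨hyS, hy'⟩ := mem_preimageAlong.1 hy
      exact mem_preimageAlong.2 ⟨hyS, hWP' hy'⟩
    have hgθ : ∀ (y : Ω) (hy : y ∈ P), θ ⟨g y, hg.mem hy⟩ =
        ((α' ⟨θ ⟨y, preimageAlong_le hy⟩, (mem_preimageAlong.1 hy).2⟩ : P') :
          S ⧸ Q.subgroupOf S) := fun y hy => by
      rw [← hgx y hy, toFun_aut_apply _ (mem_preimageAlong.1 hy).2]
    have hi : img P g = P := hg.img_eq_of_forall le_rfl fun y hy => mem_preimageAlong.2
      ⟨hg.mem hy, by rw [hgθ y hy]; exact SetLike.coe_mem _⟩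
    have hgX : ∀ y ∈ X, g y ∈ X := fun y hy => by
      refine mem_preimageAlong.2 ⟨hg.mem (hXP hy), ?_⟩
      rw [hgθ y (hXP hy)]
      exact (hinv' _).1 (mem_preimageAlong.1 hy).2
    set a := hg.toAut hi with hadef
    have hval : ∀ (n : ℕ) (y : P), θ ⟨((a ^ n) y : P), preimageAlong_le (SetLike.coe_mem _)⟩ =
        (((α' ^ n) ⟨θ ⟨y, preimageAlong_le y.2⟩, (mem_preimageAlong.1 y.2).2⟩ : P') :
          S ⧸ Q.subgroupOf S) := by
      intro n
      induction n with
      | zero => intro y; rfl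
      | succ n ih =>
        intro y
        simp only [pow_succ, MulAut.mul_apply]
        rw [ih (a y)]
        congr 2
        exact Subtype.ext (hgθ y y.2)
    obtain ⟨j, hj⟩ := exists_coprime_pow (p := p) a (isOfFinOrder_of_finite _)
    have h1 : a ^ p ^ j = 1 := eq_one_of_coprimeTrivial_normSys hsys hXP preimageAlong_le
      (Subgroup.pow_mem _ (hg.toAut_mem hi) _) (IsMap.toAut_pow_mem hg hi hgX _) hj
    refine eq_one_of_pow_prime_pow (k := j) hc' (MulEquiv.ext fun y => Subtype.ext ?_)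
    obtain ⟨s, hs⟩ := hP' y.2
    have hsP : (s : Ω) ∈ P := mem_preimageAlong.2 ⟨s.2, hs ▸ y.2⟩
    have h2 := hval (p ^ j) ⟨s, hsP⟩
    rw [h1] at h2
    have e : y = ⟨θ s, hs ▸ y.2⟩ := Subtype.ext hs.symm
    rw [e]
    exact h2.symm
  have hEt : CoprimeTrivial E p := coprimeTrivial_of_functor W _ θ.range E θ.range hp' hEs
    (stronglyClosed_iff.2 ⟨le_rfl, fun R f _ hf x hx => hf.mem hx⟩) hloc
  intro R hR hQR β hβ hc x
  have hpre : preimageAlong θ (imageAlong θ R) = R := by
    refine le_antisymm (fun t ht => ?_) fun t ht =>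
      mem_preimageAlong.2 ⟨hR ht, mem_imageAlong.2 ⟨t, hR ht, ht, rfl⟩⟩
    obtain ⟨htS, ht⟩ := mem_preimageAlong.1 ht
    obtain ⟨y, hy, hyR, hyt⟩ := mem_imageAlong.1 ht
    have h1 := (hker ((⟨y, hy⟩ : S)⁻¹ * ⟨t, htS⟩)).1
      (by rw [map_mul, map_inv, hyt, inv_mul_cancel])
    have := R.mul_mem hyR (hQR h1)
    simpa using this
  have hm := isMap_of_autGroup hR hβ
  set R' := imageAlong θ R
  have hR' : R' ≤ θ.range := fun y hy => by
    obtain ⟨z, hz, -, rfl⟩ := mem_imageAlong.1 hy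
    exact ⟨_, rfl⟩
  obtain ⟨χ, hχ⟩ := exists_inducedAlong (θ := θ) hR hm fun y hy hy1 =>
    (hker _).2 (StronglyClosed.apply_mem hQc hm hy ((hker _).1 hy1))
  have hm' : IsMap F (preimageAlong θ R') (toFun (R.subtype.comp β.toMonoidHom)) :=
    hm.mono hpre.le
  have hχmem : χ ∈ E.Hom R' := ⟨hR', hm'.toHom, hm'.toHom_mem, preimageAlong_le,
    fun y => hm'.mem y.2, fun y => (mem_preimageAlong.1 y.2).2, fun y => hχ y (hpre.le y.2)⟩
  have hmχ := isMap_of_hom hχmem
  haveI := finite_of_le hR'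
  have hχv : ∀ (y : Ω) (hy : y ∈ R), toFun χ (θ ⟨y, hR hy⟩) = θ ⟨(β ⟨y, hy⟩ : R), hR (β ⟨y, hy⟩).2⟩ :=
    fun y hy => by
      rw [toFun_of_mem χ (mem_imageAlong.2 ⟨y, hR hy, hy, rfl⟩), hχ y hy]
      exact congrArg θ (Subtype.ext (toFun_aut_apply _ hy))
  have hχi : img R' (toFun χ) = R' := hmχ.img_eq_of_forall le_rfl fun y hy => by
    obtain ⟨z, hz, hzR, rfl⟩ := mem_imageAlong.1 hy
    rw [hχv z hzR]
    exact mem_imageAlong.2 ⟨_, _, SetLike.coe_mem _, rfl⟩
  set γ := hmχ.toAut hχi with hγ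
  have hγval : ∀ (n : ℕ) (y : R), (((γ ^ n) ⟨θ ⟨y, hR y.2⟩,
      mem_imageAlong.2 ⟨y, hR y.2, y.2, rfl⟩⟩ : R') : S ⧸ Q.subgroupOf S) =
        θ ⟨((β ^ n) y : R), hR (SetLike.coe_mem _)⟩ := by
    intro n
    induction n with
    | zero => intro y; rfl
    | succ n ih =>
      intro y
      simp only [pow_succ, MulAut.mul_apply]
      rw [← ih (β y)]
      congr 2
      refine Subtype.ext ?_
      rw [hγ, IsMap.toAut_apply]
      exact hχv y y.2
  have hγ1 : γ = 1 := by
    refine hEt R' hR' γ (hmχ.toAut_mem hχi) (hc.coprime_dvd_left ?_)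
    refine orderOf_dvd_of_pow_eq_one (MulEquiv.ext fun y => Subtype.ext ?_)
    obtain ⟨z, hz, hzR, hzy⟩ := mem_imageAlong.1 y.2
    have h2 := hγval (orderOf β) ⟨z, hzR⟩
    rw [pow_orderOf_eq_one] at h2
    have e : y = ⟨θ ⟨z, hz⟩, hzy.symm ▸ y.2⟩ := Subtype.ext hzy.symm
    rw [e]
    exact h2
  have h := hγval 1 x
  rw [hγ1] at h
  simp only [pow_one, MulAut.one_apply] at h
  exact (hker ((⟨x, hR x.2⟩ : S)⁻¹ * ⟨(β x : R), hR (SetLike.coe_mem _)⟩)).1
    (by rw [map_mul, map_inv, ← h, inv_mul_cancel])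

/-- A system fixing a normal subgroup and trivial modulo it has no automorphisms of order prime
to `p`. -/
theorem coprimeTrivial_of_normal (hQn : F.IsNormal Q)
    (hfix : ∀ R ≤ S, Q ≤ R → ∀ α ∈ F.autGroup R, (orderOf α).Coprime p →
      ∀ x : R, (x : Ω) ∈ Q → ((α x : R) : Ω) = x)
    (hmod : ∀ R ≤ S, Q ≤ R → ∀ α ∈ F.autGroup R, (orderOf α).Coprime p →
      ∀ x : R, (x : Ω)⁻¹ * ((α x : R) : Ω) ∈ Q) : CoprimeTrivial F p := by
  have key : ∀ T ≤ S, Q ≤ T → ∀ α ∈ F.autGroup T, (orderOf α).Coprime p → α = 1 :=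
    fun T hT hQT α hα hc => eq_one_of_fixes_sub (hS.to_le hT) hc fun x =>
      Subtype.ext (hfix T hT hQT α hα hc _ (hmod T hT hQT α hα hc x))
  intro R hR α hα hc
  obtain ⟨g, hg, hgx, hgQ⟩ := (isNormal_iff.1 hQn).2 R _ (isMap_of_autGroup hR hα)
  haveI := finite_of_le hg.le
  have hi : img (R ⊔ Q) g = R ⊔ Q := by
    rw [hg.img_sup le_sup_left le_sup_right, hgQ, img_congr hgx, img_toFun_aut]
  exact eq_one_of_extension hg hi le_sup_left
    (fun x => (hgx x x.2).trans (toFun_aut_apply α x.2)) hc fun n hn =>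
      key _ hg.le le_sup_right _ (Subgroup.pow_mem _ (hg.toAut_mem hi) _) hn

/-- A non-trivial system contains a non-trivial constrained one. -/
theorem exists_constrained_of_not_trivial (h : ¬ CoprimeTrivial F p) (W : ComplementFunctor.{u} p) :
    ∃ E : FusionSystem S, E ≤ F ∧ E.IsConstrained p ∧ ¬ CoprimeTrivial E p := by
  suffices H : ∀ (n : ℕ) (E : FusionSystem S), Nat.card S - Nat.card E.core = n → E ≤ F →
      E.IsSaturated p → ¬ CoprimeTrivial E p →
      ∃ E' : FusionSystem S, E' ≤ F ∧ E'.IsConstrained p ∧ ¬ CoprimeTrivial E' p from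
    H _ F rfl (fun _ => Set.Subset.rfl) hF h
  intro n
  induction n using Nat.strong_induction_on with
  | _ n ih =>
    intro E hn hle hE hEt
    set Q := E.core with hQ
    have hQn : E.IsNormal Q := core_isNormal
    by_cases hcen : E.IsCentric Q
    · exact ⟨E, hle, ⟨hE, Q, hQn, hcen⟩, hEt⟩
    have hQc := IsNormal.stronglyClosed hQn
    set C := centralizerIn S Q with hC
    have hCQ : ¬ C ≤ Q := fun hC => hcen ((IsNormal.centric_iff hQn).2 hC)
    have hrec : ∀ (Y : Subgroup Ω) (hY : Y ≤ S) (hYn : normalizerIn S Y = S),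
        ¬ Y ≤ Q → ¬ CoprimeTrivial (normSys E Y hY hYn) p →
        ∃ E' : FusionSystem S, E' ≤ F ∧ E'.IsConstrained p ∧ ¬ CoprimeTrivial E' p := by
      intro Y hY hYn hYQ hYt
      refine ih _ ?_ (normSys E Y hY hYn) rfl (fun P => (normSys_le hY hYn P).trans (hle P))
        (isSaturated_normSys hS hE hY hYn) hYt
      have h1 : Q ⊔ Y ≤ (normSys E Y hY hYn).core :=
        sup_le (IsNormal.le_core (isNormal_normSys_of_isNormal hY hYn hQn))
          (IsNormal.le_core (isNormal_normSys_self hY hYn))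
      haveI := finite_of_le (core_le (normSys E Y hY hYn))
      have h2 : Nat.card Q < Nat.card (normSys E Y hY hYn).core := lt_of_not_ge fun h3 => hYQ <| by
        rw [eq_of_le_of_card_le (le_sup_left.trans h1) h3]
        exact le_sup_right.trans h1
      have h3 := Subgroup.card_le_of_le (core_le (normSys E Y hY hYn))
      omega
    have hCc : E.StronglyClosed C := by
      refine stronglyClosed_iff.2 ⟨inf_le_left, fun X f hX hf x hx => ?_⟩
      obtain ⟨g, hg, hgx, hgQ⟩ := (isNormal_iff.1 hQn).2 X f hf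
      have h1 := hg.apply_mem_centralizerIn le_sup_right (Subgroup.mem_sup_left hx) (hX hx).2
      rw [hgQ, hgx x hx] at h1
      exact h1
    set Y := Q ⊔ C with hYdef
    have hY : Y ≤ S := sup_le hQn.1 inf_le_left
    have hYc : E.StronglyClosed Y := StronglyClosed.sup hS hE hQc hCc
    by_cases hYt : CoprimeTrivial (normSys E Y hY (StronglyClosed.normalizerIn_eq hYc)) p
    swap
    · exact hrec Y hY _ (fun h => hCQ (le_sup_right.trans h)) hYt
    have hne : Q ≠ S := fun h => hCQ (h ▸ inf_le_left)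
    obtain ⟨X, hX, hXn, hQX, -, hctl⟩ := exists_quotient_control hS hE W hQn hne
    by_cases hXt : CoprimeTrivial (normSys E X hX hXn) p
    swap
    · exact hrec X hX hXn (fun h => hQX.not_ge h) hXt
    refine absurd (coprimeTrivial_of_normal hS hE hQn (fun R hR hQR α hα hc x hx => ?_)
      (fun R hR hQR α hα hc => hctl hXt R hR hQR α hα hc)) hEt
    haveI := finite_of_le hQn.1
    haveI := finite_of_le hY
    have hm := (isMap_of_autGroup hR hα).mono hQR
    have hiQ : img Q (toFun (R.subtype.comp α.toMonoidHom)) = Q :=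
      StronglyClosed.img_eq hQc hm le_rfl
    obtain ⟨g, hg, hgx⟩ := receptive_extend_centralizer
      (receptive_of_fullyNormalized hS hE (IsNormal.fullyNormalized hQn)) hm hiQ
    have hiY : img Y g = Y := StronglyClosed.img_eq hYc hg le_rfl
    -- the restriction of `α` to `Q`
    obtain ⟨k, hk⟩ : ∃ k, hg.toAut hiY ^ p ^ k = 1 := by
      obtain ⟨j, hj⟩ := exists_coprime_pow (p := p) (hg.toAut hiY) (isOfFinOrder_of_finite _)
      exact ⟨j, eq_one_of_coprimeTrivial_normSys hYt le_rfl hY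
        (Subgroup.pow_mem _ (hg.toAut_mem hiY) _) (fun y _ => SetLike.coe_mem _) hj⟩
    have hval : ∀ (n : ℕ) (y : Ω) (hy : y ∈ Q), (((hg.toAut hiY ^ n) ⟨y, Subgroup.mem_sup_left hy⟩ : Y) :
        Ω) = ((α ^ n) ⟨y, hQR hy⟩ : R) := by
      intro n
      induction n with
      | zero => intro y hy; rfl
      | succ n ih =>
        intro y hy
        rw [pow_succ, MulAut.mul_apply, pow_succ, MulAut.mul_apply]
        have h1 : g y ∈ Q := by
          rw [hgx y hy]
          exact StronglyClosed.apply_mem hQc hm hy hy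
        rw [show hg.toAut hiY ⟨y, Subgroup.mem_sup_left hy⟩ = ⟨g y, Subgroup.mem_sup_left h1⟩ from
          Subtype.ext (IsMap.toAut_apply hg hiY _), ih (g y) h1]
        congr 2
        refine Subtype.ext ?_
        show g y = _
        rw [hgx y hy, toFun_aut_apply α (hQR hy)]
    obtain ⟨m, hm'⟩ := exists_pow_eq_self_of_coprime (hc.pow_right k).symm
    have h1 := hval (p ^ k * m) x hx
    rw [pow_mul, hk, one_pow, pow_mul, hm'] at h1
    exact h1.symm

/-- If every characteristic subgroup of `S` has a `p`-group of automorphisms, the system has no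
automorphisms of order prime to `p`. -/
theorem coprimeTrivial_of_characteristic (W : ComplementFunctor.{u} p)
    (h : ∀ Q : Subgroup Ω, Q ≤ S → Q ≠ ⊥ → (Q.subgroupOf S).Characteristic →
      IsPGroup p (F.autGroup Q)) : CoprimeTrivial F p := by
  suffices H : ∀ (n : ℕ) (Q : Subgroup Ω) (E : FusionSystem S), Nat.card S - Nat.card Q = n →
      E ≤ F → E.IsSaturated p → E.IsNormal Q → (Q.subgroupOf S).Characteristic →
      CoprimeTrivial E p from
    H _ ⊥ F rfl (fun _ => Set.Subset.rfl) hF isNormal_bot (by rw [Subgroup.bot_subgroupOf]; infer_instance)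
  intro n
  induction n using Nat.strong_induction_on with
  | _ n ih =>
    intro Q E hn hle hE hQn hQchar
    have hfix : ∀ R ≤ S, Q ≤ R → ∀ α ∈ E.autGroup R, (orderOf α).Coprime p →
        ∀ x : R, (x : Ω) ∈ Q → ((α x : R) : Ω) = x := by
      intro R hR hQR α hα hc x hx
      rcases eq_or_ne Q ⊥ with rfl | hQ0
      · rw [Subgroup.mem_bot] at hx
        have : x = 1 := Subtype.ext hx
        rw [this, map_one]
      refine fixes_of_pGroup (F := F) hQn.1 hQR hR (h Q hQn.1 hQ0 hQchar) ?_ hc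
        (fun y hy => ?_) x hx
      · exact (autGroup_iff_isMap hR fun y => (toFun_aut_apply α y.2).symm).2
          (le_iff_isMap.1 hle _ _ (isMap_of_autGroup hR hα))
      · have := StronglyClosed.apply_mem (IsNormal.stronglyClosed hQn) (isMap_of_autGroup hR hα)
          y.2 hy
        rwa [toFun_aut_apply α y.2] at this
    by_cases hne : Q = S
    · intro R hR α hα hc
      obtain ⟨g, hg, hgx, hgQ⟩ := (isNormal_iff.1 hQn).2 R _ (isMap_of_autGroup hR hα)
      have hRQ : R ⊔ Q = S := by rw [hne, sup_eq_right.2 hR]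
      haveI := finite_of_le hg.le
      have hi : img (R ⊔ Q) g = R ⊔ Q := by
        rw [hg.img_sup le_sup_left le_sup_right, hgQ, img_congr hgx, img_toFun_aut]
      refine eq_one_of_extension hg hi le_sup_left
        (fun x => (hgx x x.2).trans (toFun_aut_apply α x.2)) hc fun n hn => ?_
      refine MulEquiv.ext fun x => Subtype.ext ?_
      exact hfix _ hRQ.le le_sup_right _ (Subgroup.pow_mem _ (hg.toAut_mem hi) _) hn x
        (hne.ge (hRQ.le x.2))
    obtain ⟨X, hX, hXn, hQX, hchar, hctl⟩ := exists_quotient_control hS hE W hQn hne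
    refine coprimeTrivial_of_normal hS hE hQn hfix (hctl (ih _ ?_ X (normSys E X hX hXn) rfl
      (fun P => (normSys_le hX hXn P).trans (hle P)) (isSaturated_normSys hS hE hX hXn)
      (isNormal_normSys_self hX hXn) (hchar hQchar)))
    haveI := finite_of_le hX
    have h2 : Nat.card Q < Nat.card X :=
      lt_of_not_ge fun h3 => hQX.ne (eq_of_le_of_card_le hQX.le h3)
    have h3 := Subgroup.card_le_of_le hX
    omega

end Quotient

theorem center_le_centerThompsonAOf [Finite S] :
    S ⊓ Subgroup.centralizer (S : Set Ω) ≤ Cfsg.centerThompsonAOf S := by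
  intro z hz
  have h1 : (Cfsg.centerThompsonAOf (⊤ : Subgroup S)).map S.subtype = Cfsg.centerThompsonAOf S := by
    rw [CfsgLib.Complement.centerThompsonAOf_map _ S.subtype_injective.injOn,
      ← MonoidHom.range_eq_map, Subgroup.range_subtype]
  rw [← h1]
  refine ⟨⟨z, hz.1⟩, ?_, rfl⟩
  have hc : ∀ A : Subgroup S, (⟨z, hz.1⟩ : S) ∈ Subgroup.centralizer (A : Set S) :=
    fun A a _ => Subtype.ext (hz.2 a a.2)
  obtain ⟨A, hA⟩ := CfsgLib.Complement.exists_maxAbIn (⊤ : Subgroup S)
  exact ⟨CfsgLib.Complement.le_thompsonAOf hA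
    (CfsgLib.Complement.mem_maxAbIn_of_centralizes hA (Subgroup.mem_top _) (hc A)), hc _⟩

theorem thompsonAOf_eq_of_le_of_le [Finite S] (h : Cfsg.thompsonSubgroupAOf S ≤ P) (hP : P ≤ S) :
    Cfsg.thompsonSubgroupAOf P = Cfsg.thompsonSubgroupAOf S := by
  have h1 : (Cfsg.thompsonSubgroupAOf (⊤ : Subgroup S)).map S.subtype =
      Cfsg.thompsonSubgroupAOf S := by
    rw [CfsgLib.Complement.thompsonAOf_map _ S.subtype_injective.injOn,
      ← MonoidHom.range_eq_map, Subgroup.range_subtype]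
  have h2 : (Cfsg.thompsonSubgroupAOf (P.subgroupOf S)).map S.subtype =
      Cfsg.thompsonSubgroupAOf P := by
    rw [CfsgLib.Complement.thompsonAOf_map _ S.subtype_injective.injOn,
      Subgroup.map_subgroupOf_eq_of_le hP]
  rw [← h1, ← h2]
  congr 1
  refine CfsgLib.Complement.thompsonAOf_eq_of_le ?_ le_top
  intro x hx
  exact h (h1 ▸ ⟨x, hx, rfl⟩)

/-- Thompson's criterion for odd primes. -/
theorem coprimeTrivial_of_center_thompson [Fact p.Prime] [Finite S] (hS : IsPGroup p S)
    (hF : F.IsSaturated p) (hp : p ≠ 2)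
    (hC : ∀ R ≤ S, (S ⊓ Subgroup.centralizer (S : Set Ω)) ≤ R → ∀ α ∈ F.autGroup R,
      (∀ x : R, (x : Ω) ∈ S ⊓ Subgroup.centralizer (S : Set Ω) → ((α x : R) : Ω) = x) →
      (orderOf α).Coprime p → α = 1)
    (hN : ∀ R ≤ S, Cfsg.thompsonSubgroupAOf S ≤ R → ∀ α ∈ F.autGroup R,
      (∀ x : R, (x : Ω) ∈ Cfsg.thompsonSubgroupAOf S →
        ((α x : R) : Ω) ∈ Cfsg.thompsonSubgroupAOf S) →
      (orderOf α).Coprime p → α = 1) : CoprimeTrivial F p := by
  refine coprimeTrivial_of_functor (centerThompsonComplement p hp) Ω S F S hS hF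
    (stronglyClosed_iff.2 ⟨le_rfl, fun R f _ hf x hx => hf.mem hx⟩) fun P hP hZP α hα hinv hc => ?_
  set Z := Cfsg.centerThompsonAOf S with hZdef
  have hZP : Z ≤ P := hZP
  have hZS : Z ≤ S := CfsgLib.Complement.centerThompsonAOf_le S
  have hfixZ : ∀ x : P, (x : Ω) ∈ Z → ((α x : P) : Ω) = x := by
    haveI := finite_of_le hZS
    have hm := (isMap_of_autGroup hP hα).mono hZP
    have hiZ : img Z (toFun (P.subtype.comp α.toMonoidHom)) = Z :=
      hm.img_eq_of_forall le_rfl fun y hy => by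
        rw [toFun_aut_apply α (hZP hy)]
        exact (hinv ⟨y, hZP hy⟩).1 hy
    have hZn : normalizerIn S Z = S := inf_eq_left.2 (Subgroup.le_normalizer.trans
      (CfsgLib.Complement.normalizer_le_normalizer_centerThompsonAOf S))
    obtain ⟨g, hg, hgx⟩ := receptive_extend_centralizer (receptive_of_fullyNormalized hS hF
      ⟨hZS, fun R _ => by rw [hZn]; exact Subgroup.card_le_of_le inf_le_left⟩) hm hiZ
    set Y := Z ⊔ centralizerIn S Z
    have hY : Y ≤ S := hg.le
    haveI := finite_of_le hY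
    have hiC : img (centralizerIn S Z) g = centralizerIn S Z := by
      haveI := finite_centralizerIn (S := S) (P := Z)
      refine hg.img_eq_of_forall le_sup_right fun y hy => ?_
      have h1 := hg.apply_mem_centralizerIn le_sup_left (Subgroup.mem_sup_right hy) hy.2
      rwa [img_congr hgx, hiZ] at h1
    have hiY : img Y g = Y := by
      rw [hg.img_sup le_sup_left le_sup_right, hiC, img_congr hgx, hiZ]
    set J := Cfsg.thompsonSubgroupAOf S with hJdef
    have hJC : J ≤ centralizerIn S Z := le_inf (CfsgLib.Complement.thompsonAOf_le S)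
      fun j hj z hz => (hz.2 j hj).symm
    have hgJ : ∀ y ∈ J, g y ∈ J := by
      have hJeq : Cfsg.thompsonSubgroupAOf Y = J :=
        thompsonAOf_eq_of_le_of_le (hJC.trans le_sup_right) hY
      intro y hy
      have hyY : y ∈ Y := Subgroup.mem_sup_right (hJC hy)
      have h1 : (Cfsg.thompsonSubgroupAOf (⊤ : Subgroup Y)).map Y.subtype = J := by
        rw [CfsgLib.Complement.thompsonAOf_map _ Y.subtype_injective.injOn,
          ← MonoidHom.range_eq_map, Subgroup.range_subtype, hJeq]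
      have h2 : (⟨y, hyY⟩ : Y) ∈ Cfsg.thompsonSubgroupAOf (⊤ : Subgroup Y) := by
        rw [← Subgroup.mem_map_iff_mem Y.subtype_injective, h1]
        exact hy
      have h3 : (Cfsg.thompsonSubgroupAOf (⊤ : Subgroup Y)).map (hg.toAut hiY).toMonoidHom =
          Cfsg.thompsonSubgroupAOf (⊤ : Subgroup Y) := by
        rw [CfsgLib.Complement.thompsonAOf_map _ (hg.toAut hiY).injective.injOn,
          ← MonoidHom.range_eq_map, MonoidHom.range_eq_top.2 (hg.toAut hiY).surjective]
      rw [← h1]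
      have h4 : hg.toAut hiY ⟨y, hyY⟩ ∈ Cfsg.thompsonSubgroupAOf (⊤ : Subgroup Y) := by
        rw [← h3]
        exact ⟨_, h2, rfl⟩
      exact ⟨_, h4, IsMap.toAut_apply hg hiY _⟩
    obtain ⟨j, hj⟩ := exists_coprime_pow (p := p) (hg.toAut hiY) (isOfFinOrder_of_finite _)
    have hk : hg.toAut hiY ^ p ^ j = 1 := hN Y hY (hJC.trans le_sup_right) _
      (Subgroup.pow_mem _ (hg.toAut_mem hiY) _) (IsMap.toAut_pow_mem hg hiY hgJ _) hj
    have hval : ∀ (n : ℕ) (y : Ω) (hy : y ∈ Z),
        (((hg.toAut hiY ^ n) ⟨y, Subgroup.mem_sup_left hy⟩ : Y) : Ω) =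
          ((α ^ n) ⟨y, hZP hy⟩ : P) := by
      intro n
      induction n with
      | zero => intro y hy; rfl
      | succ n ih =>
        intro y hy
        rw [pow_succ, MulAut.mul_apply, pow_succ, MulAut.mul_apply]
        have h1 : g y ∈ Z := by
          rw [hgx y hy, toFun_aut_apply α (hZP hy)]
          exact (hinv ⟨y, hZP hy⟩).1 hy
        rw [show hg.toAut hiY ⟨y, Subgroup.mem_sup_left hy⟩ = ⟨g y, Subgroup.mem_sup_left h1⟩ from
          Subtype.ext (IsMap.toAut_apply hg hiY _), ih (g y) h1]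
        congr 2
        refine Subtype.ext ?_
        show g y = _
        rw [hgx y hy, toFun_aut_apply α (hZP hy)]
    obtain ⟨m, hm'⟩ := exists_pow_eq_self_of_coprime (hc.pow_right j).symm
    intro x hx
    have h1 := hval (p ^ j * m) x hx
    rw [pow_mul, hk, one_pow, pow_mul, hm'] at h1
    exact h1.symm
  exact hC P hP (center_le_centerThompsonAOf.trans hZP) α hα
    (fun x hx => hfixZ x (center_le_centerThompsonAOf hx)) hc

end CfsgLib.Fusion
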