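import Cfsg.Agent.Lib.Fusion.HyperFocal
import Cfsg.Agent.Lib.Fusion.ConstrainedPart
import Cfsg.Agent.Lib.PGroup.GInvariantCritical
import Mathlib.Data.ZMod.Basic

/-!
An abelian `2`-group whose cyclic factors have distinct orders carries only the inner saturated
fusion system.
-/

set_option autoImplicit false
set_option linter.style.haveILetI false
set_option linter.unusedVariables false
set_option linter.unusedSectionVars false

universe u

namespace CfsgLib.Fusion

open Cfsg Cfsg.FusionSystem Subgroup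

theorem eq_zero_or_eq_half {a : ℕ} (ha : 1 ≤ a) {w : ZMod (2 ^ a)} (h : 2 * w = 0) :
    w = 0 ∨ w = ((2 ^ (a - 1) : ℕ) : ZMod (2 ^ a)) := by
  haveI : NeZero (2 ^ a) := ⟨pow_ne_zero _ two_ne_zero⟩
  have h1 : ((2 * w.val : ℕ) : ZMod (2 ^ a)) = 0 := by
    push_cast
    rwa [ZMod.natCast_zmod_val]
  obtain ⟨c, hc⟩ := (ZMod.natCast_eq_zero_iff _ _).1 h1
  have hp : 2 ^ a = 2 * 2 ^ (a - 1) := by
    rw [← pow_succ']
    congr 1
    omega
  have hlt := ZMod.val_lt w
  have hc2 : c < 2 := by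
    by_contra hge
    have := Nat.mul_le_mul_left (2 ^ a) (not_lt.1 hge)
    omega
  interval_cases c
  · left
    rw [← ZMod.natCast_zmod_val w, show w.val = 0 by omega, Nat.cast_zero]
  · right
    rw [← ZMod.natCast_zmod_val w, show w.val = 2 ^ (a - 1) by omega]

variable {A : Type*} [Group A] {n : ℕ} {a : Fin n → ℕ}

/-- The involutions with a `2 ^ k`-th root. -/
def DivInvol (A : Type*) [Group A] (k : ℕ) (u : A) : Prop := u ^ 2 = 1 ∧ ∃ y : A, y ^ 2 ^ k = u

theorem divInvol_mul (ha : StrictMono a) (ha1 : ∀ i, 1 ≤ a i)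
    (e : A ≃* Multiplicative ((i : Fin n) → ZMod (2 ^ a i))) {k : ℕ} {u v : A}
    (hu : DivInvol A k u) (hv : DivInvol A k v) (hu' : ¬ DivInvol A (k + 1) u)
    (hv' : ¬ DivInvol A (k + 1) v) : DivInvol A (k + 1) (u * v) := by
  let c : A → (i : Fin n) → ZMod (2 ^ a i) := fun x => Multiplicative.toAdd (e x)
  have hcpow : ∀ (x : A) (m : ℕ) i, c (x ^ m) i = m * c x i := fun x m i => by
    simp [c, nsmul_eq_mul]
  have hcmul : ∀ (x y : A) i, c (x * y) i = c x i + c y i := fun x y i => by simp [c]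
  have hcinj : ∀ {x y : A}, (∀ i, c x i = c y i) → x = y := fun h =>
    e.injective (Multiplicative.toAdd.injective (funext h))
  have hc1 : ∀ i, c 1 i = 0 := fun i => by simp [c]
  have hsmall : ∀ {w : A} {j : ℕ}, DivInvol A j w → ∀ i, c w i ≠ 0 →
      j < a i ∧ c w i = ((2 ^ (a i - 1) : ℕ) : ZMod (2 ^ a i)) := by
    rintro w j ⟨hw, y, hy⟩ i hi
    refine ⟨?_, ((eq_zero_or_eq_half (ha1 i) ?_).resolve_left hi)⟩
    · by_contra hlt
      apply hi
      rw [← hy, hcpow]
      have : ((2 ^ j : ℕ) : ZMod (2 ^ a i)) = 0 :=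
        (ZMod.natCast_eq_zero_iff _ _).2 (pow_dvd_pow 2 (not_lt.1 hlt))
      rw [this, zero_mul]
    · have := hcpow w 2 i
      rw [hw, hc1] at this
      simpa using this.symm
  have hroot : ∀ {w : A}, w ^ 2 = 1 →
      (∀ i, c w i ≠ 0 → k + 1 < a i ∧ c w i = ((2 ^ (a i - 1) : ℕ) : ZMod (2 ^ a i))) →
      DivInvol A (k + 1) w := by
    intro w hw h
    refine ⟨hw, e.symm (Multiplicative.ofAdd fun i =>
      if c w i = 0 then 0 else ((2 ^ (a i - 1 - (k + 1)) : ℕ) : ZMod (2 ^ a i))), hcinj fun i => ?_⟩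
    rw [hcpow]
    by_cases hi : c w i = 0
    · simp [c, hi] at hi ⊢
    · have h' := h i hi
      simp only [c, MulEquiv.apply_symm_apply, toAdd_ofAdd]
      rw [if_neg hi, ← Nat.cast_mul, ← pow_add,
        show k + 1 + (a i - 1 - (k + 1)) = a i - 1 by omega]
      exact h'.2.symm
  have hex : ∀ {w : A}, DivInvol A k w → ¬ DivInvol A (k + 1) w →
      ∃ i, a i = k + 1 ∧ c w i = ((2 ^ (a i - 1) : ℕ) : ZMod (2 ^ a i)) := by
    intro w hw hw'
    by_contra hno
    refine hw' (hroot hw.1 fun i hi => ⟨?_, (hsmall hw i hi).2⟩)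
    have h1 := hsmall hw i hi
    by_contra hlt
    exact hno ⟨i, by omega, h1.2⟩
  have huv : (u * v) ^ 2 = 1 := by
    refine hcinj fun i => ?_
    have h1 := hcpow u 2 i
    have h2 := hcpow v 2 i
    rw [hu.1, hc1] at h1
    rw [hv.1, hc1] at h2
    rw [hcpow, hcmul, mul_add, ← h1, ← h2, hc1, add_zero]
  refine hroot huv fun i hi => ?_
  have h2 : ((2 ^ (a i - 1) : ℕ) : ZMod (2 ^ a i)) + ((2 ^ (a i - 1) : ℕ) : ZMod (2 ^ a i)) = 0 := by
    rw [← Nat.cast_add, ← two_mul, ← pow_succ', Nat.sub_add_cancel (ha1 i)]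
    exact ZMod.natCast_self _
  have hi1 : k + 1 < a i := by
    by_contra hlt
    obtain ⟨i₁, hi₁, hu1⟩ := hex hu hu'
    obtain ⟨i₂, hi₂, hv1⟩ := hex hv hv'
    have hle : a i = k + 1 := by
      rw [hcmul] at hi
      by_cases h0 : c u i = 0
      · rw [h0, zero_add] at hi
        have := (hsmall hv i hi).1
        omega
      · have := (hsmall hu i h0).1
        omega
    have e1 : i = i₁ := ha.injective (hle.trans hi₁.symm)
    have e2 : i = i₂ := ha.injective (hle.trans hi₂.symm)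
    subst e1 e2
    exact hi (by rw [hcmul, hu1, hv1, h2])
  refine ⟨hi1, ?_⟩
  rw [hcmul] at hi ⊢
  rcases eq_or_ne (c u i) 0 with hu0 | hu0
  · rw [hu0, zero_add] at hi ⊢
    exact (hsmall hv i hi).2
  · rw [(hsmall hu i hu0).2] at hi ⊢
    rcases eq_or_ne (c v i) 0 with hv0 | hv0
    · rw [hv0, add_zero]
    · rw [(hsmall hv i hv0).2] at hi
      exact absurd h2 hi

/-- An automorphism of odd order of such a group is trivial. -/
theorem aut_eq_one_of_distinct [Finite A] (hA : IsPGroup 2 A) (ha : StrictMono a)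
    (ha1 : ∀ i, 1 ≤ a i) (e : A ≃* Multiplicative ((i : Fin n) → ZMod (2 ^ a i)))
    (α : MulAut A) (hc : (orderOf α).Coprime 2) : α = 1 := by
  have hcomm : ∀ x y : A, x * y = y * x := fun x y => e.injective (by rw [map_mul, map_mul, mul_comm])
  obtain ⟨K, hK⟩ := hA.exists_card_eq
  have hfix : ∀ m k, K - k = m → ∀ u : A, DivInvol A k u → α u = u := by
    intro m
    induction m using Nat.strong_induction_on with
    | _ m ih =>
      intro k hm u hu
      rcases le_or_gt K k with hk | hk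
      · obtain ⟨y, hy⟩ := hu.2
        have : u = 1 := by
          rw [← hy]
          exact pow_eq_one_iff_of_dvd_card hK hk y
        rw [this, map_one]
      by_cases hu' : DivInvol A (k + 1) u
      · exact ih _ (by omega) (k + 1) rfl u hu'
      have hinv : ∀ {j : ℕ} {w : A} (β : MulAut A), DivInvol A j w → DivInvol A j (β w) :=
        fun β hw => ⟨by rw [← map_pow, hw.1, map_one], β hw.2.choose,
          by rw [← map_pow, hw.2.choose_spec]⟩
      have hαu' : ¬ DivInvol A (k + 1) (α u) := fun h => hu' (by simpa using hinv α⁻¹ h)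
      have hz := ih _ (by omega) (k + 1) rfl _
        (divInvol_mul ha ha1 e hu (hinv α hu) hu' hαu')
      have h2 : α (α u) = u := by
        rw [map_mul, mul_comm' hcomm] at hz
        exact mul_right_cancel hz
      obtain ⟨m', hm'⟩ : Odd (orderOf α) := Nat.coprime_two_right.1 hc
      have hev : ∀ j : ℕ, (α ^ (2 * j)) u = u := by
        intro j
        induction j with
        | zero => simp
        | succ j ihj => rw [Nat.mul_succ, pow_add, MulAut.mul_apply, pow_two, MulAut.mul_apply, h2, ihj]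
      have h3 : (α ^ (2 * m' + 1)) u = u := by rw [← hm', pow_orderOf_eq_one, MulAut.one_apply]
      rw [pow_succ', MulAut.mul_apply, hev] at h3
      exact h3
  refine MulEquiv.ext fun x => ?_
  obtain ⟨j, hj⟩ := hA x
  induction j generalizing x with
  | zero =>
    rw [pow_zero, pow_one] at hj
    rw [hj, map_one, MulAut.one_apply]
  | succ j ih =>
    have h2 : α (x ^ 2) = x ^ 2 := ih (x ^ 2) (by rw [← pow_mul, ← pow_succ']; exact hj)
    refine CfsgLib.PGroup.eq_of_fixed_diff hA hc (hfix _ 0 rfl _ ⟨?_, _, pow_one _⟩)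
    rw [Commute.mul_pow (hcomm _ _), inv_pow, ← map_pow, h2, inv_mul_cancel]
where
  pow_eq_one_iff_of_dvd_card {K k : ℕ} (hK : Nat.card A = 2 ^ K) (hk : K ≤ k) (y : A) :
      y ^ 2 ^ k = 1 := orderOf_dvd_iff_pow_eq_one.1
    ((orderOf_dvd_natCard y).trans (hK ▸ pow_dvd_pow 2 hk))
  mul_comm' (hcomm : ∀ x y : A, x * y = y * x) {x y : A} : x * y = y * x := hcomm x y

variable {Ω : Type u} [Group Ω] {S : Subgroup Ω}

/-- Only the inner system. -/
theorem eq_inner_of_distinct [Finite S] (F : FusionSystem S) (hF : F.IsSaturated 2) (ha : StrictMono a)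
    (ha1 : ∀ i, 1 ≤ a i) (e : S ≃* Multiplicative ((i : Fin n) → ZMod (2 ^ a i))) (P : Subgroup Ω) :
    F.Hom P = (innerFusionSystem S).Hom P := by
  haveI : Fact (Nat.Prime 2) := ⟨Nat.prime_two⟩
  haveI : ∀ i, NeZero (2 ^ a i) := fun i => ⟨pow_ne_zero _ two_ne_zero⟩
  have hS : IsPGroup 2 S := IsPGroup.of_card (n := ∑ i, a i) (by
    rw [Nat.card_congr e.toEquiv, Nat.card_congr Multiplicative.toAdd, Nat.card_pi,
      ← Finset.prod_pow_eq_pow_sum]
    exact Finset.prod_congr rfl fun i _ => Nat.card_zmod _)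
  refine eq_inner_of_coprime_trivial hS hF (fun R hR α hα hc => ?_) P
  have hC : centralizerIn S R = S := inf_eq_left.2 fun s hs => mem_centralizer_iff.2 fun r hr =>
    congrArg Subtype.val (e.injective
      (show e (⟨r, hR.1 hr⟩ * ⟨s, hs⟩) = e (⟨s, hs⟩ * ⟨r, hR.1 hr⟩) by
        rw [map_mul, map_mul, mul_comm]))
  haveI := finite_of_le hR.1
  have hm := isMap_of_autGroup hR.1 hα
  obtain ⟨g, hg, hgx⟩ := receptive_extend_centralizer (receptive_of_fullyNormalized hS hF hR) hm
    (img_toFun_aut α)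
  have eU : R ⊔ centralizerIn S R = S := by rw [hC, sup_eq_right.2 hR.1]
  haveI := finite_of_le hg.le
  have hi : img (R ⊔ centralizerIn S R) g = R ⊔ centralizerIn S R :=
    eq_of_le_of_card_le (hg.img_le.trans eU.ge) hg.card_img.ge
  refine eq_one_of_extension hg hi le_sup_left
    (fun x => (hgx x x.2).trans (toFun_aut_apply α x.2)) hc fun k hk => ?_
  exact aut_eq_one_of_distinct (hS.to_le hg.le) ha ha1
    ((MulEquiv.subgroupCongr eU).trans e) _ hk

end CfsgLib.Fusion
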