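import Cfsg.Agent.Lib.Fusion.AlternatingNormalForm
import Mathlib.FieldTheory.Finite.Basic

/-!
The `p`-elements normalizing the base group, and a product of `p`-elements acting on a block of
`p` columns as a diagonal matrix.
-/

set_option autoImplicit false
set_option linter.unusedSectionVars false
set_option linter.unusedVariables false
set_option linter.style.haveILetI false

namespace CfsgLib.Fusion.AltModel

open Equiv CfsgLib.BlockA.SylowSymGen

variable {n p k : ℕ} [hp : Fact p.Prime] (ι : Fin k × ZMod p ↪ Fin n)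

theorem addRight_pow_p (a : ZMod p) : (Equiv.addRight a : Perm (ZMod p)) ^ p = 1 := by
  have h : ∀ m : ℕ, ∀ x, ((Equiv.addRight a : Perm (ZMod p)) ^ m) x = x + m • a := by
    intro m
    induction m with
    | zero => simp
    | succ m ih =>
      intro x
      rw [pow_succ', Perm.mul_apply, ih, succ_nsmul, ← add_assoc]
      rfl
  refine Equiv.ext fun x => ?_
  rw [h]
  simp

/-- The `p`-cycle on the distinguished columns. -/
noncomputable def colShift (emb : ZMod p ↪ Fin k) (d : ZMod p) : Perm (Fin k) :=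
  Perm.viaEmbeddingHom emb (Equiv.addRight d)

variable (emb : ZMod p ↪ Fin k)

theorem colShift_apply (d x : ZMod p) : colShift emb d (emb x) = emb (x + d) := by
  show Perm.viaEmbedding _ emb (emb x) = _
  rw [Perm.viaEmbedding_apply]
  rfl

theorem colShift_outside (d : ZMod p) {i : Fin k} (hi : i ∉ Set.range emb) :
    colShift emb d i = i :=
  Perm.viaEmbedding_apply_of_notMem _ _ _ hi

theorem colShift_pow_p (d : ZMod p) : colShift emb d ^ p = 1 := by
  rw [colShift, ← map_pow, addRight_pow_p, map_one]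

theorem colShift_natCast (m : ℕ) : colShift emb (m : ZMod p) = colShift emb 1 ^ m := by
  rw [colShift, colShift, ← map_pow]
  congr 1
  induction m with
  | zero => ext x; simp
  | succ m ih =>
    rw [pow_succ, ← ih]
    ext x
    simp [add_assoc, add_comm (1 : ZMod p)]

theorem colShift_mem {W : Subgroup (Perm (Fin k))} (h : colShift emb 1 ∈ W) (d : ZMod p) :
    colShift emb d ∈ W := by
  haveI : NeZero p := ⟨hp.out.ne_zero⟩
  rw [← ZMod.natCast_zmod_val d, colShift_natCast]
  exact pow_mem h _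

/-! ### The closure of the `p`-elements normalizing the base group -/

/-- The even `p`-elements normalizing the base group. -/
def baseGenSet : Set (Perm (Fin n)) :=
  {g | Perm.sign g = 1 ∧ g ∈ Subgroup.normalizer (baseSub ι : Set (Perm (Fin n))) ∧
    ∃ j, orderOf g = p ^ j}

theorem mem_baseGenSet_of_pow (hodd : Odd p) {g : Perm (Fin n)}
    (hN : g ∈ Subgroup.normalizer (baseSub ι : Set (Perm (Fin n)))) (h : g ^ p = 1) :
    g ∈ baseGenSet ι := by
  refine ⟨sign_eq_one_of_pow (p := p) hodd (j := 1) (by rwa [pow_one]), hN, ?_⟩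
  obtain ⟨j, -, hj⟩ := (Nat.dvd_prime_pow hp.out).1
    ((orderOf_dvd_of_pow_eq_one h).trans (pow_one p).symm.dvd)
  exact ⟨j, hj⟩

theorem conj_mem_closure {m g : Perm (Fin n)}
    (hm : m ∈ Subgroup.normalizer (baseSub ι : Set (Perm (Fin n))))
    (hg : g ∈ Subgroup.closure (baseGenSet ι)) :
    m * g * m⁻¹ ∈ Subgroup.closure (baseGenSet ι) := by
  have h1 := Subgroup.mem_map_of_mem (MulAut.conj m).toMonoidHom hg
  rw [MonoidHom.map_closure] at h1
  refine Subgroup.closure_mono ?_ h1
  rintro _ ⟨z, ⟨hs, hz, j, hj⟩, rfl⟩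
  refine ⟨?_, ?_, j, ?_⟩
  · show Perm.sign (m * z * m⁻¹) = 1
    rw [map_mul, map_mul, map_inv, hs, mul_one, mul_inv_cancel]
  · show m * z * m⁻¹ ∈ Subgroup.normalizer (baseSub ι : Set (Perm (Fin n)))
    exact mul_mem (mul_mem hm hz) (inv_mem hm)
  · exact (MulEquiv.orderOf_eq (MulAut.conj m) z).trans hj

theorem li_mem_normalizer (σ : Perm (Fin k)) :
    li ι σ ∈ Subgroup.normalizer (baseSub ι : Set (Perm (Fin n))) :=
  mem_normalizer_base ι fun i => by
    rw [li_sh_single]
    exact sh_mem_baseSub ι _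

theorem sc_mem_normalizer (μ : Fin k → (ZMod p)ˣ) :
    sc ι μ ∈ Subgroup.normalizer (baseSub ι : Set (Perm (Fin n))) :=
  mem_normalizer_base ι fun i => by
    rw [sc_sh_single]
    exact sh_mem_baseSub ι _

theorem sh_mem_normalizer (c : Fin k → ZMod p) :
    sh ι c ∈ Subgroup.normalizer (baseSub ι : Set (Perm (Fin n))) :=
  Subgroup.le_normalizer (sh_mem_baseSub ι c)

theorem sh_mem_closure (hodd : Odd p) (c : Fin k → ZMod p) :
    sh ι c ∈ Subgroup.closure (baseGenSet ι) :=
  Subgroup.subset_closure (mem_baseGenSet_of_pow ι hodd (sh_mem_normalizer ι c) (sh_pow_p ι c))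

include emb in
/-- The lifts of even column permutations are products of `p`-elements. -/
theorem li_mem_closure (hodd : Odd p) {σ : Perm (Fin k)} (hσ : Perm.sign σ = 1) :
    li ι σ ∈ Subgroup.closure (baseGenSet ι) := by
  classical
  let A' : Subgroup (Perm (Fin k)) := (Subgroup.closure (baseGenSet ι)).comap (li ι)
  suffices h : alternatingGroup (Fin k) ≤ A' from h (Perm.mem_alternatingGroup.2 hσ)
  have hn : A'.Normal := ⟨fun a ha τ => by
    show li ι (τ * a * τ⁻¹) ∈ Subgroup.closure (baseGenSet ι)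
    rw [map_mul, map_mul, map_inv]
    exact conj_mem_closure ι (li_mem_normalizer ι τ) ha⟩
  have hpow : ∀ τ : Perm (Fin k), τ ^ p = 1 → τ ∈ A' := fun τ hτ =>
    Subgroup.subset_closure (mem_baseGenSet_of_pow ι hodd (li_mem_normalizer ι τ) (li_pow_p ι hτ))
  have hp3 : 3 ≤ p := by
    have h2 : p ≠ 2 := fun h => absurd (h ▸ hodd) (by decide)
    have := hp.out.two_le
    omega
  have hne : ∀ m : ℕ, 0 < m → m < p → ((m : ℕ) : ZMod p) ≠ 0 := fun m h0 h1 h => by
    have := Nat.le_of_dvd h0 ((ZMod.natCast_eq_zero_iff _ _).1 h)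
    omega
  have h1 : (1 : ZMod p) ≠ 0 := one_ne_zero
  have h2 : (2 : ZMod p) ≠ 0 := by exact_mod_cast hne 2 (by omega) (by omega)
  set i := emb 0
  set j := emb 1
  set i₀ := emb (-1)
  set c := colShift emb 1 with hc
  have hij : i ≠ j := emb.injective.ne (zero_ne_one)
  have hi0 : i ≠ i₀ := emb.injective.ne fun h => h1 (neg_eq_zero.1 h.symm)
  have hj0 : i₀ ≠ j := emb.injective.ne fun h => h2 (by linear_combination -h)
  have hci : c i = j := by rw [hc, colShift_apply, zero_add]
  have hci' : c⁻¹ i = i₀ := by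
    rw [Perm.inv_eq_iff_eq, hc, colShift_apply]
    simp [i]
  have hcj : c⁻¹ j = i := by
    rw [Perm.inv_eq_iff_eq, hci]
  have h3 : c⁻¹ * (Equiv.swap i j * c * (Equiv.swap i j)⁻¹) =
      Equiv.swap i i₀ * Equiv.swap i j := by
    have := swap_apply_apply c⁻¹ i j
    rw [hci', hcj, inv_inv] at this
    rw [swap_inv, show c⁻¹ * (Equiv.swap i j * c * Equiv.swap i j) =
      c⁻¹ * Equiv.swap i j * c * Equiv.swap i j by group, ← this, swap_comm i₀ i]
  have hmem : Equiv.swap i i₀ * Equiv.swap i j ∈ A' := by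
    rw [← h3]
    have hcA : c ∈ A' := hpow c (colShift_pow_p emb 1)
    exact mul_mem (inv_mem hcA) (hn.conj_mem _ hcA _)
  have hthree : (Equiv.swap i i₀ * Equiv.swap i j).IsThreeCycle :=
    Perm.isThreeCycle_swap_mul_swap_same hi0 hij hj0
  rw [← Perm.closure_three_cycles_eq_alternating, Subgroup.closure_le]
  intro τ hτ
  obtain ⟨g, rfl⟩ := _root_.isConj_iff.1 (Perm.isConj_iff_cycleType_eq.2
    ((Perm.IsThreeCycle.cycleType hthree).trans (Perm.IsThreeCycle.cycleType hτ).symm))
  exact hn.conj_mem _ hmem g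

include emb in
/-- The multiplications of product one are products of `p`-elements. -/
theorem sc_mem_closure (hodd : Odd p) (hk : 3 ≤ k) {μ : Fin k → (ZMod p)ˣ} (hμ : ∏ i, μ i = 1) :
    sc ι μ ∈ Subgroup.closure (baseGenSet ι) := by
  classical
  have hpair : ∀ (i j : Fin k) (u : (ZMod p)ˣ),
      sc ι (Pi.mulSingle j u) * (sc ι (Pi.mulSingle i u))⁻¹ ∈
        Subgroup.closure (baseGenSet ι) :=
    fun i j u => by
    obtain ⟨σ, hσ, hσi⟩ := exists_even_apply hk i j
    have hl := li_mem_closure ι emb hodd hσ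
    have hconj := conj_mem_closure ι (sc_mem_normalizer ι (Pi.mulSingle i u)) (inv_mem hl)
    have hshift : (fun x => (Pi.mulSingle i u : Fin k → (ZMod p)ˣ) (σ⁻¹ x)) = Pi.mulSingle j u := by
      funext x
      rcases eq_or_ne x j with rfl | hx
      · rw [← hσi, Perm.inv_eq_iff_eq.2 rfl, Pi.mulSingle_eq_same, Pi.mulSingle_eq_same]
      · rw [Pi.mulSingle_eq_of_ne hx, Pi.mulSingle_eq_of_ne]
        exact fun he => hx (by rw [← hσi, ← he]; simp)
    have h1 := mul_mem hl hconj
    rw [← hshift, ← li_sc]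
    simpa only [mul_assoc] using h1
  set i₀ : Fin k := ⟨0, by omega⟩
  have hsplit : μ = ∏ i, Pi.mulSingle i (μ i) / Pi.mulSingle i₀ (μ i) := by
    rw [Finset.prod_div_distrib, Finset.univ_prod_mulSingle]
    have : (∏ x, (Pi.mulSingle i₀ (μ x) : Fin k → (ZMod p)ˣ)) = Pi.mulSingle i₀ (∏ x, μ x) :=
      (map_prod (MonoidHom.mulSingle (fun _ : Fin k => (ZMod p)ˣ) i₀) μ Finset.univ).symm
    rw [this, hμ, Pi.mulSingle_one, div_one]
  rw [hsplit]
  refine Finset.prod_induction _ (fun ν => sc ι ν ∈ Subgroup.closure (baseGenSet ι)) ?_ ?_ ?_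
  · intro a b ha hb
    rw [map_mul]
    exact mul_mem ha hb
  · rw [map_one]
    exact one_mem _
  · intro x _
    rw [map_div, div_eq_mul_inv]
    exact hpair i₀ x (μ x)

/-! ### The block of `p` columns -/

/-- The block of `p` columns as a plane. -/
def block : ZMod p × ZMod p ↪ Fin n :=
  ⟨fun x => ι (emb x.1, x.2), fun x y h => by
    have h1 := ι.injective h
    exact Prod.ext (emb.injective (congrArg Prod.fst h1)) (congrArg Prod.snd h1 :)⟩

theorem block_apply (x : ZMod p × ZMod p) : block ι emb x = ι (emb x.1, x.2) := rfl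

theorem not_mem_range_block {i : Fin k} (hi : i ∉ Set.range emb) (a : ZMod p) :
    ι (i, a) ∉ Set.range (block ι emb) := by
  rintro ⟨x, hx⟩
  exact hi ⟨x.1, congrArg Prod.fst (ι.injective hx)⟩

theorem not_mem_range_block_of_outside {y : Fin n} (hy : y ∉ Set.range ι) :
    y ∉ Set.range (block ι emb) := by
  rintro ⟨x, hx⟩
  exact hy ⟨_, hx⟩

/-- The extension of a permutation of the plane. -/
noncomputable def bl : Perm (ZMod p × ZMod p) →* Perm (Fin n) :=
  Perm.viaEmbeddingHom (block ι emb)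

theorem bl_apply (f : Perm (ZMod p × ZMod p)) (x : ZMod p × ZMod p) :
    bl ι emb f (block ι emb x) = block ι emb (f x) :=
  Perm.viaEmbedding_apply f _ x

theorem bl_outside (f : Perm (ZMod p × ZMod p)) {y : Fin n}
    (hy : y ∉ Set.range (block ι emb)) : bl ι emb f y = y :=
  Perm.viaEmbedding_apply_of_notMem _ _ _ hy

theorem ext_block {f g : Perm (Fin n)} (h : ∀ x, f (block ι emb x) = g (block ι emb x))
    (h' : ∀ i a, i ∉ Set.range emb → f (ι (i, a)) = g (ι (i, a)))
    (h'' : ∀ y, y ∉ Set.range ι → f y = g y) : f = g := by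
  refine ext_pt ι (fun x => ?_) h''
  by_cases hx : x.1 ∈ Set.range emb
  · obtain ⟨u, hu⟩ := hx
    have := h (u, x.2)
    rwa [block_apply, show (emb u, x.2) = x from Prod.ext hu rfl] at this
  · exact h' x.1 x.2 hx

/-- The shears of the plane. -/
def shearU (a : ZMod p) : Perm (ZMod p × ZMod p) where
  toFun x := (x.1 + a * x.2, x.2)
  invFun x := (x.1 - a * x.2, x.2)
  left_inv x := by simp
  right_inv x := by simp

/-- The transposed shears of the plane. -/
def shearL (a : ZMod p) : Perm (ZMod p × ZMod p) where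
  toFun x := (x.1, x.2 + a * x.1)
  invFun x := (x.1, x.2 - a * x.1)
  left_inv x := by simp
  right_inv x := by simp

/-- The translations of the plane. -/
def transl (w : ZMod p × ZMod p) : Perm (ZMod p × ZMod p) := Equiv.addRight w

theorem shearU_pow_p (a : ZMod p) : shearU a ^ p = 1 := by
  have h : ∀ (m : ℕ) x, (shearU a ^ m) x = (x.1 + (m : ZMod p) * a * x.2, x.2) := by
    intro m
    induction m with
    | zero => simp
    | succ m ih =>
      intro x
      rw [pow_succ', Perm.mul_apply, ih]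
      refine Prod.ext ?_ rfl
      show x.1 + (m : ZMod p) * a * x.2 + a * x.2 = x.1 + ((m + 1 : ℕ) : ZMod p) * a * x.2
      push_cast
      ring
  refine Equiv.ext fun x => ?_
  rw [h]
  simp

theorem shearL_pow_p (a : ZMod p) : shearL a ^ p = 1 := by
  have h : ∀ (m : ℕ) x, (shearL a ^ m) x = (x.1, x.2 + (m : ZMod p) * a * x.1) := by
    intro m
    induction m with
    | zero => simp
    | succ m ih =>
      intro x
      rw [pow_succ', Perm.mul_apply, ih]
      refine Prod.ext rfl ?_
      show x.2 + (m : ZMod p) * a * x.1 + a * x.1 = x.2 + ((m + 1 : ℕ) : ZMod p) * a * x.1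
      push_cast
      ring
  refine Equiv.ext fun x => ?_
  rw [h]
  simp

theorem shear_word (u : (ZMod p)ˣ) (x : ZMod p × ZMod p) :
    (shearU (u : ZMod p) * shearL (-((u⁻¹ : (ZMod p)ˣ) : ZMod p)) * shearU (u : ZMod p) *
      shearU (-1) * shearL 1 * shearU (-1) : Perm (ZMod p × ZMod p)) x =
      ((u : ZMod p) * x.1, ((u⁻¹ : (ZMod p)ˣ) : ZMod p) * x.2) := by
  have hu : (u : ZMod p) * ((u⁻¹ : (ZMod p)ˣ) : ZMod p) = 1 := Units.mul_inv u
  simp only [Perm.mul_apply, shearU, shearL, Equiv.coe_fn_mk]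
  refine Prod.ext ?_ ?_
  · show _ = (u : ZMod p) * x.1
    linear_combination (-(-x.2 + (u : ZMod p) * x.1)) * hu
  · show _ = ((u⁻¹ : (ZMod p)ˣ) : ZMod p) * x.2
    linear_combination (-x.1) * hu

end CfsgLib.Fusion.AltModel
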