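import Cfsg.Agent.Lib.Fusion.AlternatingModel
import Cfsg.Agent.Lib.Fusion.SimpleGroupCriterion
import Cfsg.Agent.Lib.PLocal.Sylow

/-!
Strongly closed subgroups of the Sylow subgroup `C_p ≀ W` of an alternating group.
-/

set_option autoImplicit false
set_option linter.unusedSectionVars false
set_option linter.unusedVariables false
set_option linter.style.haveILetI false

namespace CfsgLib.Fusion.AltModel

open Equiv CfsgLib.BlockA.SylowSymGen

theorem exists_third {k : ℕ} (hk : 3 ≤ k) (i j : Fin k) : ∃ l, l ≠ i ∧ l ≠ j := by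
  have h : (({i, j} : Finset (Fin k))ᶜ).Nonempty := by
    rw [← Finset.card_pos, Finset.card_compl, Fintype.card_fin]
    have := Finset.card_le_two (a := i) (b := j)
    omega
  obtain ⟨l, hl⟩ := h
  exact ⟨l, by simpa using hl⟩

/-- An even permutation moving `i` to `j`. -/
theorem exists_even_apply {k : ℕ} (hk : 3 ≤ k) (i j : Fin k) :
    ∃ σ : Perm (Fin k), Perm.sign σ = 1 ∧ σ i = j := by
  rcases eq_or_ne i j with rfl | hij
  · exact ⟨1, map_one _, rfl⟩
  obtain ⟨l, hli, hlj⟩ := exists_third hk i j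
  refine ⟨Equiv.swap i l * Equiv.swap i j, ?_, ?_⟩
  · rw [map_mul, Perm.sign_swap hli.symm, Perm.sign_swap hij]
    exact Int.units_mul_self _
  · rw [Perm.mul_apply, swap_apply_left, swap_apply_of_ne_of_ne hij.symm hlj.symm]

variable {n p k : ℕ} [hp : Fact p.Prime] (ι : Fin k × ZMod p ↪ Fin n)

theorem sign_li_eq_one {W : Subgroup (Perm (Fin k))} (hW : IsPGroup p W) {σ : Perm (Fin k)}
    (hσ : σ ∈ W) : Perm.sign (li ι σ) = 1 :=
  (sign_via ι _).trans (sign_lift_eq_one hW hσ)

theorem li_pow_p {σ : Perm (Fin k)} (h : σ ^ p = 1) : li ι σ ^ p = 1 := by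
  rw [← map_pow, h, map_one]

/-- The Sylow subgroup of the alternating group is generated by elements of order `p`. -/
theorem genOrd_sylowSub (W : Sylow p (Perm (Fin k))) :
    GenOrd p (sylowSub ι (W : Subgroup (Perm (Fin k))) ⊓ alternatingGroup (Fin n)) := by
  rintro x ⟨hx, hev⟩
  obtain ⟨σ, hσ, c, rfl⟩ := (mem_sylowSub ι).1 hx
  have hsc : Perm.sign (sh ι c) = 1 := by
    have h1 : Perm.sign (li ι σ * sh ι c) = 1 := hev
    rwa [map_mul, sign_li_eq_one ι W.isPGroup' hσ, one_mul] at h1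
  refine Subgroup.mul_mem _ ?_
    (Subgroup.subset_closure ⟨⟨baseSub_le ι (sh_mem_baseSub ι c), hsc⟩, sh_pow_p ι c⟩)
  have h1 : li ι σ ∈ (Subgroup.closure {x | x ∈ (W : Subgroup (Perm (Fin k))) ∧ x ^ p = 1}).map (li ι) :=
    ⟨σ, genOrd_sylow_perm k W hσ, rfl⟩
  rw [MonoidHom.map_closure] at h1
  refine Subgroup.closure_mono ?_ h1
  rintro _ ⟨τ, ⟨hτ, hτp⟩, rfl⟩
  exact ⟨⟨li_mem_sylowSub ι hτ, sign_li_eq_one ι W.isPGroup' hτ⟩, li_pow_p ι hτp⟩

/-- An odd permutation normalizing the base group. -/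
theorem exists_odd_norm (hk : 2 ≤ k) : ∃ s : Perm (Fin n), Perm.sign s = -1 ∧
    ∀ c, s * sh ι c * s⁻¹ ∈ baseSub ι := by
  rcases hp.out.eq_two_or_odd' with rfl | ho
  · refine ⟨sh ι (Pi.single ⟨0, by omega⟩ 1), sign_sh_two_single ι _, fun c => ?_⟩
    rw [sh_comm, mul_inv_cancel_right]
    exact sh_mem_baseSub ι c
  · refine ⟨li ι (Equiv.swap ⟨0, by omega⟩ ⟨1, by omega⟩), ?_, fun c => ?_⟩
    · rw [sign_li, Perm.sign_swap (by simp), ho.neg_one_pow]
    · rw [li_sh]
      exact sh_mem_baseSub ι _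

/-- An element of order `p` is conjugate by an even permutation into the base group. -/
theorem exists_conj_base (hk : 2 ≤ k) (hnk : n < (k + 1) * p) {x : Perm (Fin n)}
    (hx : x ^ p = 1) : ∃ h, Perm.sign h = 1 ∧ h * x * h⁻¹ ∈ baseSub ι := by
  classical
  haveI : NeZero p := ⟨hp.out.ne_zero⟩
  rcases eq_or_ne x 1 with rfl | hne
  · exact ⟨1, map_one _, by simp⟩
  have ho : orderOf x = p := orderOf_eq_prime hx hne
  obtain ⟨m, hm⟩ := Perm.cycleType_prime_order (σ := x) (ho.symm ▸ hp.out)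
  rw [ho] at hm
  have hsum := Perm.sum_cycleType x
  rw [hm, Multiset.sum_replicate, smul_eq_mul] at hsum
  have hle : (m + 1) * p ≤ n := by
    rw [hsum]
    exact (Finset.card_le_univ _).trans (Fintype.card_fin n).le
  have hmk : m + 1 ≤ k := by
    have := lt_of_mul_lt_mul_right (hle.trans_lt hnk) (Nat.zero_le p)
    omega
  set c : Fin k → ZMod p := fun i => if (i : ℕ) < m + 1 then 1 else 0 with hc
  have hfil : (Finset.univ.filter fun i : Fin k => c i ≠ 0).card = m + 1 := by
    have : (Finset.univ.filter fun i : Fin k => c i ≠ 0) =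
        (Finset.univ : Finset (Fin (m + 1))).map (Fin.castLEEmb hmk) := by
      ext i
      simp only [hc, Finset.mem_filter, Finset.mem_univ, true_and, Finset.mem_map,
        ne_eq, ite_eq_right_iff, one_ne_zero, imp_false, not_not, Fin.castLEEmb_apply]
      constructor
      · exact fun h => ⟨⟨i, h⟩, rfl⟩
      · rintro ⟨a, rfl⟩
        exact a.2
    rw [this, Finset.card_map, Finset.card_univ, Fintype.card_fin]
  have hy : sh ι c ≠ 1 := fun h => by
    have h1 := card_support_sh ι c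
    rw [h, Perm.support_one, Finset.card_empty, hfil] at h1
    exact Nat.mul_ne_zero m.succ_ne_zero hp.out.ne_zero h1.symm
  have hoy : orderOf (sh ι c) = p := orderOf_eq_prime (sh_pow_p ι c) hy
  obtain ⟨m', hm'⟩ := Perm.cycleType_prime_order (σ := sh ι c) (hoy.symm ▸ hp.out)
  rw [hoy] at hm'
  have hsum' := Perm.sum_cycleType (sh ι c)
  rw [hm', Multiset.sum_replicate, smul_eq_mul, card_support_sh, hfil] at hsum'
  have hmm : m' = m := by
    have := Nat.eq_of_mul_eq_mul_right hp.out.pos hsum'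
    omega
  obtain ⟨h, hh⟩ := _root_.isConj_iff.1 (Perm.isConj_iff_cycleType_eq.2 (hm.trans (hmm ▸ hm'.symm)))
  rcases Int.units_eq_one_or (Perm.sign h) with hs | hs
  · exact ⟨h, hs, hh ▸ sh_mem_baseSub ι c⟩
  obtain ⟨s, hs', hsE⟩ := exists_odd_norm ι hk
  refine ⟨s * h, by rw [map_mul, hs, hs']; exact Int.units_mul_self _, ?_⟩
  rw [show s * h * x * (s * h)⁻¹ = s * (h * x * h⁻¹) * s⁻¹ by group, hh]
  exact hsE c

theorem sign_sc_mulSingle_eq (i j : Fin k) (u : (ZMod p)ˣ) :
    Perm.sign (sc ι (Pi.mulSingle i u)) = Perm.sign (sc ι (Pi.mulSingle j u)) := by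
  have h : li ι (Equiv.swap i j) * sc ι (Pi.mulSingle i u) * (li ι (Equiv.swap i j))⁻¹ =
      sc ι (Pi.mulSingle j u) := by
    rw [li_sc]
    congr 1
    funext a
    rw [swap_inv]
    rcases eq_or_ne a j with rfl | ha
    · rw [swap_apply_right, Pi.mulSingle_eq_same, Pi.mulSingle_eq_same]
    · rw [Pi.mulSingle_eq_of_ne ha, Pi.mulSingle_eq_of_ne]
      intro he
      exact ha ((Equiv.swap i j).injective (he.trans (swap_apply_right i j).symm))
  rw [← h, map_mul, map_mul, map_inv, mul_comm (Perm.sign (li ι (Equiv.swap i j))),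
    mul_inv_cancel_right]

/-- For odd `p` a nonzero closed part of the base group is everything. -/
theorem baseSub_le_of_closed (hodd : Odd p) (hk : 3 ≤ k) {T : Subgroup (Perm (Fin n))}
    (hcl : ∀ x ∈ T, ∀ h, Perm.sign h = 1 → h * x * h⁻¹ ∈ baseSub ι → h * x * h⁻¹ ∈ T)
    {c : Fin k → ZMod p} (hc : c ≠ 0) (hcT : sh ι c ∈ T) : baseSub ι ≤ T := by
  classical
  haveI : NeZero p := ⟨hp.out.ne_zero⟩
  let K : AddSubgroup (Fin k → ZMod p) :=
    { carrier := {c | sh ι c ∈ T}
      zero_mem' := by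
        show sh ι 0 ∈ T
        rw [sh_zero]
        exact one_mem _
      add_mem' := fun {a b} ha hb => by
        show sh ι (a + b) ∈ T
        rw [← sh_add]
        exact mul_mem ha hb
      neg_mem' := fun {a} ha => by
        show sh ι (-a) ∈ T
        rw [← sh_inv]
        exact inv_mem ha }
  have hflip : ∀ d ∈ K, ∀ a b : Fin k, a ≠ b →
      (fun x => if x = a ∨ x = b then 2 * d x else 0) ∈ K := fun d hd a b hab => by
    set μ : Fin k → (ZMod p)ˣ := Pi.mulSingle a (-1) * Pi.mulSingle b (-1) with hμ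
    have hs : Perm.sign (sc ι μ) = 1 := by
      rw [hμ, map_mul, map_mul, sign_sc_mulSingle_eq ι a b]
      exact Int.units_mul_self _
    have h1 : (fun x => (μ x : ZMod p) * d x) ∈ K := by
      show sh ι _ ∈ T
      rw [← sc_sh]
      exact hcl _ hd _ hs (by rw [sc_sh]; exact sh_mem_baseSub ι _)
    convert K.sub_mem hd h1 using 1
    funext x
    simp only [hμ, Pi.sub_apply, Pi.mul_apply, Units.val_mul]
    rcases eq_or_ne x a with rfl | hxa
    · simp [hab]
      ring
    · rcases eq_or_ne x b with rfl | hxb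
      · simp [hxa]
        ring
      · simp [hxa, hxb]
  obtain ⟨i, hi⟩ : ∃ i, c i ≠ 0 := Function.ne_iff.1 hc
  obtain ⟨j, hji, -⟩ := exists_third hk i i
  obtain ⟨l, hli, hlj⟩ := exists_third hk i j
  have h2 : Pi.single i (2 * (2 * c i)) ∈ K := by
    convert hflip _ (hflip c hcT i j hji.symm) i l hli.symm using 1
    funext x
    rcases eq_or_ne x i with rfl | hxi
    · simp
    · rcases eq_or_ne x l with rfl | hxl
      · simp [hxi, hlj]
      · simp [hxi, hxl]
  have h20 : (2 : ZMod p) ≠ 0 := fun h => by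
    have h' : ((2 : ℕ) : ZMod p) = 0 := by exact_mod_cast h
    have := (Nat.prime_dvd_prime_iff_eq hp.out Nat.prime_two).1
      ((ZMod.natCast_eq_zero_iff _ _).1 h')
    subst this
    exact absurd hodd (by decide)
  set u := 2 * (2 * c i) with hu
  have hu0 : u ≠ 0 := mul_ne_zero h20 (mul_ne_zero h20 hi)
  have hsing : ∀ a : ZMod p, Pi.single i a ∈ K := fun a => by
    have h3 : Pi.single i a = (a * u⁻¹).val • (Pi.single i u : Fin k → ZMod p) := by
      rw [← AddMonoidHom.single_apply (f := fun _ : Fin k => ZMod p),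
        ← AddMonoidHom.single_apply (f := fun _ : Fin k => ZMod p), ← map_nsmul]
      congr 1
      rw [nsmul_eq_mul, ZMod.natCast_zmod_val, mul_assoc, inv_mul_cancel₀ hu0, mul_one]
    rw [h3]
    exact nsmul_mem h2 _
  rintro _ ⟨d, rfl⟩
  show d ∈ K
  rw [← Finset.univ_sum_single d]
  refine sum_mem fun j _ => ?_
  obtain ⟨σ, hσ, hσi⟩ := exists_even_apply hk i j
  have h4 := hcl _ (hsing (d j)) (li ι σ) (by rw [sign_li, hσ, one_pow])
    (by rw [li_sh]; exact sh_mem_baseSub ι _)
  rw [li_sh] at h4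
  show sh ι _ ∈ T
  convert h4 using 2
  funext x
  rw [← hσi]
  simp [Pi.single_apply, Equiv.symm_apply_eq]

theorem zmod2_eq_one : ∀ a : ZMod 2, a ≠ 0 → a = 1 := by decide

section Two

variable {n k : ℕ} (ι : Fin k × ZMod 2 ↪ Fin n)

theorem sign_sh_two_pair (i j : Fin k) :
    Perm.sign (sh ι (Pi.single i 1 + Pi.single j 1)) = 1 := by
  rw [← sh_add, map_mul, sign_sh_two_single, sign_sh_two_single]
  exact Int.units_mul_self _

/-- The pairs generate the even part of the base group. -/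
theorem sh_mem_of_pairs {T : Subgroup (Perm (Fin n))}
    (h : ∀ i j : Fin k, i ≠ j → sh ι (Pi.single i 1 + Pi.single j 1) ∈ T) :
    baseSub ι ⊓ alternatingGroup (Fin n) ≤ T := by
  classical
  suffices H : ∀ m, ∀ c : Fin k → ZMod 2, (Finset.univ.filter fun i => c i ≠ 0).card = m →
      Perm.sign (sh ι c) = 1 → sh ι c ∈ T by
    rintro _ ⟨⟨c, rfl⟩, hev⟩
    exact H _ c rfl hev
  intro m
  induction m using Nat.strong_induction_on with
  | _ m ih =>
  intro c hm hev
  rcases eq_or_ne c 0 with rfl | hc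
  · rw [sh_zero]
    exact one_mem _
  obtain ⟨i, hi⟩ : ∃ i, c i ≠ 0 := Function.ne_iff.1 hc
  obtain ⟨j, hji, hj⟩ : ∃ j, j ≠ i ∧ c j ≠ 0 := by
    by_contra hno
    simp only [not_exists, not_and, not_not] at hno
    have hsingle : c = Pi.single i 1 := funext fun x => by
      rcases eq_or_ne x i with rfl | hx
      · rw [Pi.single_eq_same, zmod2_eq_one _ hi]
      · rw [Pi.single_eq_of_ne hx, hno x hx]
    rw [hsingle, sign_sh_two_single] at hev
    exact absurd hev (by decide)
  set d := c + (Pi.single i 1 + Pi.single j 1) with hd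
  have hsd : sh ι d = sh ι c * sh ι (Pi.single i 1 + Pi.single j 1) := (sh_add ι _ _).symm
  have hcard : (Finset.univ.filter fun x => d x ≠ 0).card < m := by
    rw [← hm]
    refine Finset.card_lt_card ((Finset.ssubset_iff_of_subset fun x hx => ?_).2
      ⟨i, by simpa using hi, ?_⟩)
    · simp only [Finset.mem_filter, Finset.mem_univ, true_and] at hx ⊢
      intro h0
      apply hx
      rcases eq_or_ne x i with rfl | hxi
      · exact absurd h0 hi
      rcases eq_or_ne x j with rfl | hxj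
      · exact absurd h0 hj
      simp [hd, h0, hxi, hxj]
    · simp [hd, hji.symm, zmod2_eq_one _ hi, CharTwo.add_self_eq_zero]
  have hT := ih _ hcard d rfl (by rw [hsd, map_mul, hev, one_mul, sign_sh_two_pair])
  rw [hsd] at hT
  exact (Subgroup.mul_mem_cancel_right T (h i j hji.symm)).1 hT

theorem baseSub_le_of_not_full (hk : 3 ≤ k) {T : Subgroup (Perm (Fin n))}
    (hcl : ∀ x ∈ T, ∀ h, Perm.sign h = 1 → h * x * h⁻¹ ∈ baseSub ι → h * x * h⁻¹ ∈ T)
    {c : Fin k → ZMod 2} (hcT : sh ι c ∈ T) {i j : Fin k} (hi : c i ≠ 0) (hj : c j = 0) :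
    baseSub ι ⊓ alternatingGroup (Fin n) ≤ T := by
  have hperm : ∀ σ : Perm (Fin k), ∀ d, sh ι d ∈ T → sh ι (fun x => d (σ⁻¹ x)) ∈ T := by
    intro σ d hd
    have h1 := hcl _ hd (li ι σ) (by rw [sign_li]; exact Int.units_sq _)
      (by rw [li_sh]; exact sh_mem_baseSub ι _)
    rwa [li_sh] at h1
  have hij : i ≠ j := fun h => hi (h ▸ hj)
  have hp0 : sh ι (Pi.single i 1 + Pi.single j 1) ∈ T := by
    have h1 := mul_mem hcT (hperm (Equiv.swap i j) c hcT)
    rw [sh_add] at h1
    convert h1 using 2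
    funext x
    rcases eq_or_ne x i with rfl | hxi
    · simp [hij, hj, zmod2_eq_one _ hi]
    rcases eq_or_ne x j with rfl | hxj
    · simp [hxi, hj, zmod2_eq_one _ hi]
    simp [hxi, hxj, swap_apply_of_ne_of_ne hxi hxj, CharTwo.add_self_eq_zero]
  refine sh_mem_of_pairs ι fun a b hab => ?_
  obtain ⟨σ, -, hσi⟩ := exists_even_apply hk i a
  set τ := Equiv.swap (σ j) b * σ
  have hτi : τ i = a := by
    show Equiv.swap (σ j) b (σ i) = a
    rw [hσi, swap_apply_of_ne_of_ne ?_ hab]
    exact fun he => hij (σ.injective (hσi.trans he))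
  have hτj : τ j = b := swap_apply_left _ _
  convert hperm τ _ hp0 using 2
  funext x
  simp [Pi.single_apply, ← hτi, ← hτj, Equiv.symm_apply_eq]

/-- For `p = 2` a nontrivial closed part of the base group is its even part. -/
theorem baseSub_le_of_closed_two (hk : 3 ≤ k) (hnk : n < (k + 1) * 2)
    (W : Sylow 2 (Perm (Fin k))) {T : Subgroup (Perm (Fin n))}
    (hTS : T ≤ sylowSub ι (W : Subgroup (Perm (Fin k))) ⊓ alternatingGroup (Fin n))
    (hcl : ∀ x ∈ T, ∀ h, Perm.sign h = 1 →
      h * x * h⁻¹ ∈ sylowSub ι (W : Subgroup (Perm (Fin k))) → h * x * h⁻¹ ∈ T)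
    {c : Fin k → ZMod 2} (hc : c ≠ 0) (hcT : sh ι c ∈ T) :
    baseSub ι ⊓ alternatingGroup (Fin n) ≤ T := by
  classical
  have hcl' : ∀ x ∈ T, ∀ h, Perm.sign h = 1 → h * x * h⁻¹ ∈ baseSub ι → h * x * h⁻¹ ∈ T :=
    fun x hx h hh hb => hcl x hx h hh (baseSub_le ι hb)
  by_cases hfull : ∃ j, c j = 0
  · obtain ⟨j, hj⟩ := hfull
    obtain ⟨i, hi⟩ : ∃ i, c i ≠ 0 := Function.ne_iff.1 hc
    exact baseSub_le_of_not_full ι hk hcl' hcT hi hj
  simp only [not_exists] at hfull
  have hc1 : ∀ x, c x = 1 := fun x => zmod2_eq_one _ (hfull x)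
  -- a transposition of two columns inside `W`
  obtain ⟨i, j, hij, hW⟩ : ∃ i j : Fin k, i ≠ j ∧ Equiv.swap i j ∈ (W : Subgroup (Perm (Fin k))) := by
    have h01 : (⟨0, by omega⟩ : Fin k) ≠ ⟨1, by omega⟩ := by simp
    have ho := orderOf_eq_prime
      (show Equiv.swap (⟨0, by omega⟩ : Fin k) ⟨1, by omega⟩ ^ 2 = 1 by
        rw [pow_two, swap_mul_self])
      (fun h => h01 (swap_eq_one_iff.1 h))
    obtain ⟨Q, hQ⟩ := (IsPGroup.of_card (p := 2) (n := 1)
      ((Nat.card_zpowers _).trans (ho.trans (pow_one 2).symm))).exists_le_sylow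
    obtain ⟨g, hg⟩ := MulAction.exists_smul_eq (Perm (Fin k)) Q W
    refine ⟨g ⟨0, by omega⟩, g ⟨1, by omega⟩, fun h => h01 (g.injective h), ?_⟩
    rw [swap_apply_apply, ← hg]
    exact ⟨_, hQ (Subgroup.mem_zpowers _), rfl⟩
  set d : Fin k → ZMod 2 := Pi.single i 1 + Pi.single j 1 with hd
  set x' := li ι (Equiv.swap i j) * sh ι (c + d) with hx'
  have hdval : ∀ x, x = i ∨ x = j → (c + d) x = 0 := by
    rintro x (rfl | rfl) <;> simp [hd, hij, hij.symm, hc1, CharTwo.add_self_eq_zero]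
  have hdne : ∀ x, x ≠ i → x ≠ j → (c + d) x = 1 := fun x hi hj => by
    simp [hd, hi, hj, hc1]
  have hx'S : x' ∈ sylowSub ι (W : Subgroup (Perm (Fin k))) :=
    (mem_sylowSub ι).2 ⟨_, hW, _, rfl⟩
  have hx'2 : x' ^ 2 = 1 := by
    refine ext_pt ι (fun x => ?_) fun y hy => ?_
    · simp only [pow_two, hx', Perm.mul_apply, sh_apply, li_apply, Perm.one_apply, swap_apply_self]
      congr 1
      refine Prod.ext rfl ?_
      have hswap : (c + d) (Equiv.swap i j x.1) = (c + d) x.1 := by
        rcases eq_or_ne x.1 i with h | hxi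
        · rw [h, swap_apply_left, hdval _ (Or.inl rfl), hdval _ (Or.inr rfl)]
        rcases eq_or_ne x.1 j with h | hxj
        · rw [h, swap_apply_right, hdval _ (Or.inl rfl), hdval _ (Or.inr rfl)]
        rw [swap_apply_of_ne_of_ne hxi hxj]
      show x.2 + (c + d) x.1 + (c + d) (Equiv.swap i j x.1) = x.2
      rw [hswap, add_assoc, CharTwo.add_self_eq_zero, add_zero]
    · simp [pow_two, hx', sh_outside ι _ hy, li_outside ι _ hy]
  have hsupp : x'.support = (sh ι c).support := by
    ext y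
    rw [mem_support_sh, Perm.mem_support]
    constructor
    · intro h
      by_cases hy : y ∈ Set.range ι
      · obtain ⟨x, rfl⟩ := hy
        exact ⟨x, rfl, hfull _⟩
      · exact absurd (by simp [hx', sh_outside ι _ hy, li_outside ι _ hy]) h
    · rintro ⟨x, rfl, -⟩ h
      rw [hx', Perm.mul_apply, sh_apply, li_apply, ι.injective.eq_iff] at h
      have h1 : Equiv.swap i j x.1 = x.1 := congrArg Prod.fst h
      have h2 : x.2 + (c + d) x.1 = x.2 := congrArg Prod.snd h
      obtain ⟨hxi, hxj⟩ : x.1 ≠ i ∧ x.1 ≠ j := by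
        constructor <;> intro he <;> rw [he] at h1
        · rw [swap_apply_left] at h1
          exact hij h1.symm
        · rw [swap_apply_right] at h1
          exact hij h1
      rw [hdne _ hxi hxj] at h2
      simp at h2
  have hx'1 : x' ≠ 1 := fun h => by
    rw [h, Perm.support_one] at hsupp
    have := card_support_sh ι c
    rw [← hsupp, Finset.card_empty, Finset.filter_true_of_mem (fun x _ => hfull x),
      Finset.card_univ, Fintype.card_fin] at this
    omega
  have hsc : sh ι c ≠ 1 := fun h => hc (sh_injective ι (h.trans (sh_zero ι).symm))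
  obtain ⟨m, hm⟩ := Perm.cycleType_prime_order (σ := sh ι c)
    ((orderOf_eq_prime (sh_pow_p ι c) hsc).symm ▸ Nat.prime_two)
  obtain ⟨m', hm'⟩ := Perm.cycleType_prime_order (σ := x')
    ((orderOf_eq_prime hx'2 hx'1).symm ▸ Nat.prime_two)
  rw [orderOf_eq_prime (sh_pow_p ι c) hsc] at hm
  rw [orderOf_eq_prime hx'2 hx'1] at hm'
  have hmm : m = m' := by
    have h1 := Perm.sum_cycleType x'
    have h2 := Perm.sum_cycleType (sh ι c)
    rw [hm', Multiset.sum_replicate, smul_eq_mul, hsupp] at h1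
    rw [hm, Multiset.sum_replicate, smul_eq_mul] at h2
    omega
  obtain ⟨h, hh⟩ := _root_.isConj_iff.1 (Perm.isConj_iff_cycleType_eq.2 (hm.trans (hmm ▸ hm'.symm)))
  obtain ⟨h', hh', hhs⟩ : ∃ h', h' * sh ι c * h'⁻¹ = x' ∧ Perm.sign h' = 1 := by
    rcases Int.units_eq_one_or (Perm.sign h) with hs | hs
    · exact ⟨h, hh, hs⟩
    set s := Equiv.swap (ι (i, 0)) (ι (j, 0)) with hsdef
    refine ⟨s * h, ?_, ?_⟩
    · rw [show s * h * sh ι c * (s * h)⁻¹ = s * (h * sh ι c * h⁻¹) * s⁻¹ by group, hh]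
      have h1 : x' * s * x'⁻¹ = s := by
        rw [hsdef, ← swap_apply_apply, hx', Perm.mul_apply, Perm.mul_apply, sh_apply, sh_apply,
          li_apply, li_apply, hdval _ (Or.inl rfl), hdval _ (Or.inr rfl), add_zero,
          swap_apply_left, swap_apply_right, swap_comm]
      rw [mul_inv_eq_iff_eq_mul] at h1 ⊢
      exact h1.symm
    · rw [map_mul, hs, hsdef, Perm.sign_swap (fun he => hij (congrArg Prod.fst (ι.injective he)))]
      exact Int.units_mul_self _
  have hx'T : x' ∈ T := hh' ▸ hcl _ hcT h' hhs (hh'.symm ▸ hx'S)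
  set z := sh ι c * x' with hz
  have hzT : z ∈ T := mul_mem hcT hx'T
  have hzeq : z = li ι (Equiv.swap i j) * sh ι d := by
    have hcomm : sh ι c * li ι (Equiv.swap i j) = li ι (Equiv.swap i j) * sh ι c := by
      have := li_sh ι (Equiv.swap i j) c
      rw [mul_inv_eq_iff_eq_mul, show (fun x => c ((Equiv.swap i j)⁻¹ x)) = c from
        funext fun x => by rw [hc1, hc1]] at this
      exact this.symm
    rw [hz, hx', ← mul_assoc, hcomm, mul_assoc, sh_add, show c + (c + d) = d from funext fun x => by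
      simp [← add_assoc, hc1, CharTwo.add_self_eq_zero]]
  have hzsupp : z.support.card ≤ 4 := by
    have hsub : z.support ⊆ (({i, j} : Finset (Fin k)) ×ˢ (Finset.univ : Finset (ZMod 2))).map ι := by
      intro y hy
      rw [Perm.mem_support, hzeq, Perm.mul_apply] at hy
      by_cases hyr : y ∈ Set.range ι
      · obtain ⟨x, rfl⟩ := hyr
        refine Finset.mem_map.2 ⟨x, ?_, rfl⟩
        by_contra hx
        simp only [Finset.mem_product, Finset.mem_insert, Finset.mem_singleton, Finset.mem_univ,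
          and_true, not_or] at hx
        rw [sh_apply, li_apply, swap_apply_of_ne_of_ne hx.1 hx.2] at hy
        exact hy (by simp [hd, hx.1, hx.2])
      · exact absurd (by rw [sh_outside ι _ hyr, li_outside ι _ hyr]) hy
    refine (Finset.card_le_card hsub).trans ?_
    rw [Finset.card_map, Finset.card_product, Finset.card_univ, ZMod.card]
    have := Finset.card_le_two (a := i) (b := j)
    omega
  have hz1 : z ≠ 1 := fun h => by
    rw [hzeq] at h
    have h1 := congrArg (fun f : Perm (Fin n) => f (ι (i, 0))) h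
    simp only [Perm.mul_apply, sh_apply, li_apply, Perm.one_apply, swap_apply_left] at h1
    exact hij (congrArg Prod.fst (ι.injective h1)).symm
  have hz2 : z ^ 2 = 1 := by
    rw [hzeq]
    have hcomm := li_sh ι (Equiv.swap i j) d
    rw [mul_inv_eq_iff_eq_mul, show (fun x => d ((Equiv.swap i j)⁻¹ x)) = d from funext fun x => by
      rw [swap_inv]
      rcases eq_or_ne x i with rfl | hxi
      · simp [hd, hij, hij.symm]
      rcases eq_or_ne x j with rfl | hxj
      · simp [hd, hij, hij.symm]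
      rw [swap_apply_of_ne_of_ne hxi hxj]] at hcomm
    rw [Commute.mul_pow (show Commute (li ι (Equiv.swap i j)) (sh ι d) from hcomm),
      sh_pow_p, li_pow_p ι (by rw [pow_two, swap_mul_self]), one_mul]
  obtain ⟨g, hg, hgb⟩ := exists_conj_base ι (by omega) hnk hz2
  have hgT := hcl' _ hzT g hg hgb
  obtain ⟨e, he⟩ := hgb
  rw [← he] at hgT
  have hesupp : (Finset.univ.filter fun x => e x ≠ 0).card * 2 ≤ 4 := by
    rw [← card_support_sh, he, Perm.card_support_conj]
    exact hzsupp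
  obtain ⟨a, ha⟩ : ∃ a, e a ≠ 0 := Function.ne_iff.1 fun h0 => hz1 (by
    rw [show e = 0 from h0, sh_zero] at he
    exact conj_eq_one_iff.1 he.symm)
  obtain ⟨b, hb⟩ : ∃ b, e b = 0 := by
    by_contra hno
    simp only [not_exists] at hno
    rw [Finset.filter_true_of_mem (fun x _ => hno x), Finset.card_univ, Fintype.card_fin] at hesupp
    omega
  exact baseSub_le_of_not_full ι hk hcl' hgT ha hb

end Two

/-- No proper nontrivial subgroup of the Sylow subgroup is strongly closed. -/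
theorem noStronglyClosed (hk : 3 ≤ k) (hnk : n < (k + 1) * p) (W : Sylow p (Perm (Fin k))) :
    NoStronglyClosed ((sylowSub ι (W : Subgroup (Perm (Fin k)))).subgroupOf
      (alternatingGroup (Fin n))) := by
  intro T hTS hTc
  rcases eq_or_ne T ⊥ with rfl | hne
  · exact Or.inl rfl
  refine Or.inr (le_antisymm hTS ?_)
  set T' := T.map (alternatingGroup (Fin n)).subtype with hT'
  have hT'S : T' ≤ sylowSub ι (W : Subgroup (Perm (Fin k))) ⊓ alternatingGroup (Fin n) := by
    rintro _ ⟨x, hx, rfl⟩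
    exact ⟨hTS hx, x.2⟩
  have hcl : ∀ x ∈ T', ∀ h, Perm.sign h = 1 →
      h * x * h⁻¹ ∈ sylowSub ι (W : Subgroup (Perm (Fin k))) → h * x * h⁻¹ ∈ T' := by
    rintro _ ⟨x, hx, rfl⟩ h hh hS
    exact ⟨_, hTc x hx ⟨h, hh⟩ hS, rfl⟩
  have hT'p : IsPGroup p T' := (isPGroup_sylowSub ι W.isPGroup').to_le (hT'S.trans inf_le_left)
  have hT'1 : T' ≠ ⊥ := fun h => hne ((Subgroup.map_eq_bot_iff_of_injective _
    (alternatingGroup (Fin n)).subtype_injective).1 h)
  obtain ⟨x, hx⟩ : ∃ x : T', orderOf x = p := by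
    haveI : Nontrivial T' := T'.nontrivial_iff_ne_bot.2 hT'1
    obtain ⟨m, hm⟩ := IsPGroup.iff_card.1 hT'p
    refine exists_prime_orderOf_dvd_card' p ?_
    rw [hm]
    refine dvd_pow_self p fun h0 => ?_
    rw [h0, pow_zero] at hm
    have := Finite.one_lt_card (α := T')
    omega
  have hxp : (x : Perm (Fin n)) ^ p = 1 := by
    rw [← SubgroupClass.coe_pow, ← hx, pow_orderOf_eq_one, Subgroup.coe_one]
  obtain ⟨h, hh, hb⟩ := exists_conj_base ι (by omega) hnk hxp
  have hbT := hcl _ x.2 h hh (baseSub_le ι hb)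
  obtain ⟨c, hc⟩ := hb
  rw [← hc] at hbT
  have hc0 : c ≠ 0 := fun h0 => by
    rw [h0, sh_zero] at hc
    have h1 := conj_eq_one_iff.1 hc.symm
    rw [← orderOf_eq_one_iff, Subgroup.orderOf_coe, hx] at h1
    exact hp.out.ne_one h1
  have hE : baseSub ι ⊓ alternatingGroup (Fin n) ≤ T' := by
    rcases hp.out.eq_two_or_odd' with rfl | ho
    · exact baseSub_le_of_closed_two ι hk hnk W hT'S hcl hc0 hbT
    · exact inf_le_left.trans (baseSub_le_of_closed ι ho hk
        (fun y hy g hg hyb => hcl y hy g hg (baseSub_le ι hyb)) hc0 hbT)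
  have hgen : sylowSub ι (W : Subgroup (Perm (Fin k))) ⊓ alternatingGroup (Fin n) ≤ T' := by
    refine (genOrd_sylowSub ι W).trans ((Subgroup.closure_le _).2 ?_)
    rintro y ⟨⟨hyS, hyA⟩, hyp⟩
    obtain ⟨g, hg, hgb⟩ := exists_conj_base ι (by omega) hnk hyp
    have hev : g * y * g⁻¹ ∈ alternatingGroup (Fin n) := by
      refine Perm.mem_alternatingGroup.2 ?_
      rw [map_mul, map_mul, map_inv, hg, Perm.mem_alternatingGroup.1 hyA]
      simp
    have h1 := hcl _ (hE ⟨hgb, hev⟩) g⁻¹ (by rw [map_inv, hg, inv_one])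
      (by simpa [mul_assoc] using hyS)
    simpa [mul_assoc] using h1
  intro y hy
  obtain ⟨z, hz, hzy⟩ := hgen ⟨hy, y.2⟩
  rwa [← (alternatingGroup (Fin n)).subtype_injective hzy]

/-- The index of the Sylow subgroup of the alternating group is prime to `p`. -/
theorem not_dvd_index (hn : k = n / p) (W : Sylow p (Perm (Fin k))) :
    ¬ p ∣ ((sylowSub ι (W : Subgroup (Perm (Fin k)))).subgroupOf
      (alternatingGroup (Fin n))).index := by
  have h := CfsgLib.PLocal.sylow_inf_normal_not_dvd (sylowPerm ι hn W) (alternatingGroup (Fin n))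
  rw [Subgroup.inf_relIndex_right] at h
  exact h

end CfsgLib.Fusion.AltModel
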