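import Cfsg.Agent.Lib.BlockA.SylowSymGen
import Mathlib.GroupTheory.Perm.Cycle.Type
import Mathlib.GroupTheory.Perm.Sign

/-!
The Sylow subgroup `C_p ≀ W` of a symmetric group, through an embedding of `Fin k × ZMod p`.
-/

set_option autoImplicit false
set_option linter.unusedSectionVars false
set_option linter.unusedVariables false
set_option linter.style.haveILetI false

namespace CfsgLib.Fusion.AltModel

open Equiv CfsgLib.BlockA.SylowSymGen

variable {n p k : ℕ} [hp : Fact p.Prime] (ι : Fin k × ZMod p ↪ Fin n)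

/-- The lifted column permutations. -/
noncomputable def li : Perm (Fin k) →* Perm (Fin n) :=
  (Perm.viaEmbeddingHom ι).comp CfsgLib.BlockA.SylowSymGen.lift

/-- The shifts. -/
noncomputable def sh (c : Fin k → ZMod p) : Perm (Fin n) := Perm.viaEmbeddingHom ι (wr c 1)

/-- The multiplications in the columns. -/
noncomputable def sc : (Fin k → (ZMod p)ˣ) →* Perm (Fin n) :=
  (Perm.viaEmbeddingHom ι).comp
    { toFun := fun μ => Equiv.prodCongrRight fun i => (μ i).mulLeft
      map_one' := by ext ⟨i, a⟩ <;> simp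
      map_mul' := fun μ ν => by ext ⟨i, a⟩ <;> simp [mul_assoc] }

theorem li_apply (σ : Perm (Fin k)) (x : Fin k × ZMod p) : li ι σ (ι x) = ι (σ x.1, x.2) := by
  show Perm.viaEmbedding _ ι (ι x) = _
  rw [Perm.viaEmbedding_apply]
  show ι (σ x.1, x.2 + 0) = _
  rw [add_zero]

theorem sh_apply (c : Fin k → ZMod p) (x : Fin k × ZMod p) :
    sh ι c (ι x) = ι (x.1, x.2 + c x.1) := by
  show Perm.viaEmbedding _ ι (ι x) = _
  rw [Perm.viaEmbedding_apply]
  rfl

theorem sc_apply (μ : Fin k → (ZMod p)ˣ) (x : Fin k × ZMod p) :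
    sc ι μ (ι x) = ι (x.1, (μ x.1 : ZMod p) * x.2) := by
  show Perm.viaEmbedding _ ι (ι x) = _
  rw [Perm.viaEmbedding_apply]
  rfl

variable {y : Fin n}

theorem li_outside (σ : Perm (Fin k)) (hy : y ∉ Set.range ι) : li ι σ y = y :=
  Perm.viaEmbedding_apply_of_notMem _ _ _ hy

theorem sh_outside (c : Fin k → ZMod p) (hy : y ∉ Set.range ι) : sh ι c y = y :=
  Perm.viaEmbedding_apply_of_notMem _ _ _ hy

theorem sc_outside (μ : Fin k → (ZMod p)ˣ) (hy : y ∉ Set.range ι) : sc ι μ y = y :=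
  Perm.viaEmbedding_apply_of_notMem _ _ _ hy

theorem ext_pt {f g : Perm (Fin n)} (h : ∀ x, f (ι x) = g (ι x))
    (h' : ∀ y, y ∉ Set.range ι → f y = g y) : f = g := by
  refine Equiv.ext fun y => ?_
  by_cases hy : y ∈ Set.range ι
  · obtain ⟨x, rfl⟩ := hy
    exact h x
  · exact h' y hy

theorem sh_zero : sh ι 0 = 1 :=
  ext_pt ι (fun x => by simp [sh_apply]) fun y hy => sh_outside ι 0 hy

theorem sh_add (c d : Fin k → ZMod p) : sh ι c * sh ι d = sh ι (c + d) :=
  ext_pt ι (fun x => by simp [sh_apply, add_comm, add_left_comm])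
    fun y hy => by simp [sh_outside ι _ hy]

theorem sh_comm (c d : Fin k → ZMod p) : sh ι c * sh ι d = sh ι d * sh ι c := by
  rw [sh_add, sh_add, add_comm]

theorem sh_inv (c : Fin k → ZMod p) : (sh ι c)⁻¹ = sh ι (-c) :=
  inv_eq_of_mul_eq_one_right (by rw [sh_add, add_neg_cancel, sh_zero])

theorem sh_pow (c : Fin k → ZMod p) (m : ℕ) : sh ι c ^ m = sh ι (m • c) := by
  induction m with
  | zero => rw [pow_zero, zero_smul, sh_zero]
  | succ m ih => rw [pow_succ, ih, sh_add, succ_nsmul]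

theorem sh_pow_p (c : Fin k → ZMod p) : sh ι c ^ p = 1 := by
  rw [sh_pow, show p • c = 0 from funext fun i => by simp, sh_zero]

theorem sh_injective : Function.Injective (sh ι) := fun c d h => funext fun i => by
  have h1 := congrArg (fun f : Perm (Fin n) => f (ι (i, 0))) h
  simpa [sh_apply] using h1

theorem li_sh (σ : Perm (Fin k)) (c : Fin k → ZMod p) :
    li ι σ * sh ι c * (li ι σ)⁻¹ = sh ι (fun i => c (σ⁻¹ i)) := by
  rw [mul_inv_eq_iff_eq_mul]
  exact ext_pt ι (fun x => by simp [sh_apply, li_apply])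
    fun y hy => by simp [sh_outside ι _ hy, li_outside ι _ hy]

theorem sc_sh (μ : Fin k → (ZMod p)ˣ) (c : Fin k → ZMod p) :
    sc ι μ * sh ι c * (sc ι μ)⁻¹ = sh ι (fun i => (μ i : ZMod p) * c i) := by
  rw [mul_inv_eq_iff_eq_mul]
  exact ext_pt ι (fun x => by simp [sh_apply, sc_apply, mul_add])
    fun y hy => by simp [sh_outside ι _ hy, sc_outside ι _ hy]

theorem li_sc (σ : Perm (Fin k)) (μ : Fin k → (ZMod p)ˣ) :
    li ι σ * sc ι μ * (li ι σ)⁻¹ = sc ι (fun i => μ (σ⁻¹ i)) := by
  rw [mul_inv_eq_iff_eq_mul]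
  exact ext_pt ι (fun x => by simp [sc_apply, li_apply])
    fun y hy => by simp [sc_outside ι _ hy, li_outside ι _ hy]

/-! ### Signs -/

theorem sign_via (f : Perm (Fin k × ZMod p)) :
    Perm.sign (Perm.viaEmbeddingHom ι f) = Perm.sign f := by
  classical
  rw [Perm.viaEmbeddingHom_apply, Perm.viaEmbedding]
  convert Perm.sign_extendDomain f _

theorem sign_li (σ : Perm (Fin k)) : Perm.sign (li ι σ) = Perm.sign σ ^ p :=
  (sign_via ι _).trans (sign_lift σ)

theorem sign_eq_one_of_pow {α : Type*} [Fintype α] [DecidableEq α] (hodd : Odd p) {x : Perm α}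
    {j : ℕ} (h : x ^ p ^ j = 1) : Perm.sign x = 1 := by
  have h1 : Perm.sign x ^ p ^ j = 1 := by rw [← map_pow, h, map_one]
  rcases Int.units_eq_one_or (Perm.sign x) with h2 | h2
  · exact h2
  · rw [h2, hodd.pow.neg_one_pow] at h1
    exact absurd h1 (by decide)

theorem sign_sh_two_single (ι : Fin k × ZMod 2 ↪ Fin n) (i : Fin k) :
    Perm.sign (sh ι (Pi.single i 1)) = -1 := by
  refine (sign_via ι _).trans ?_
  rw [show wr (Pi.single i 1) (1 : Perm (Fin k)) =
      Equiv.prodCongrRight fun j => Equiv.addRight ((Pi.single i (1 : ZMod 2) : Fin k → ZMod 2) j) from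
      rfl,
    Perm.sign_prodCongrRight, Finset.prod_eq_single i]
  · rw [Pi.single_eq_same]
    decide
  · intro j _ hj
    rw [Pi.single_eq_of_ne hj, Equiv.addRight_zero]
    exact Perm.sign_refl
  · exact fun h => absurd (Finset.mem_univ i) h

/-! ### The subgroups -/

/-- The base group. -/
def baseSub : Subgroup (Perm (Fin n)) where
  carrier := Set.range (sh ι)
  one_mem' := ⟨0, sh_zero ι⟩
  mul_mem' := by
    rintro _ _ ⟨c, rfl⟩ ⟨d, rfl⟩
    exact ⟨c + d, (sh_add ι c d).symm⟩
  inv_mem' := by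
    rintro _ ⟨c, rfl⟩
    exact ⟨-c, (sh_inv ι c).symm⟩

theorem sh_mem_baseSub (c : Fin k → ZMod p) : sh ι c ∈ baseSub ι := ⟨c, rfl⟩

/-- `C_p ≀ W` on the image of the embedding. -/
noncomputable def sylowSub (W : Subgroup (Perm (Fin k))) : Subgroup (Perm (Fin n)) :=
  (wreath (p := p) W).map (Perm.viaEmbeddingHom ι)

variable {W : Subgroup (Perm (Fin k))}

theorem mem_sylowSub {x : Perm (Fin n)} :
    x ∈ sylowSub ι W ↔ ∃ σ ∈ W, ∃ c, x = li ι σ * sh ι c := by
  constructor
  · rintro ⟨_, ⟨c, σ, hσ, rfl⟩, rfl⟩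
    exact ⟨σ, hσ, c, by rw [wr_split, map_mul]; rfl⟩
  · rintro ⟨σ, hσ, c, rfl⟩
    exact ⟨wr c σ, ⟨c, σ, hσ, rfl⟩, by rw [wr_split, map_mul]; rfl⟩

theorem baseSub_le : baseSub ι ≤ sylowSub ι W := by
  rintro _ ⟨c, rfl⟩
  exact (mem_sylowSub ι).2 ⟨1, W.one_mem, c, by rw [map_one, one_mul]⟩

theorem li_mem_sylowSub {σ : Perm (Fin k)} (hσ : σ ∈ W) : li ι σ ∈ sylowSub ι W :=
  (mem_sylowSub ι).2 ⟨σ, hσ, 0, by rw [sh_zero, mul_one]⟩

theorem sh_conj_mem_baseSub {g : Perm (Fin n)}
    (h : ∀ i, g * sh ι (Pi.single i 1) * g⁻¹ ∈ baseSub ι) (c : Fin k → ZMod p) :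
    g * sh ι c * g⁻¹ ∈ baseSub ι := by
  haveI : NeZero p := ⟨hp.out.ne_zero⟩
  let K : AddSubgroup (Fin k → ZMod p) :=
    { carrier := {c | g * sh ι c * g⁻¹ ∈ baseSub ι}
      zero_mem' := by
        show g * sh ι 0 * g⁻¹ ∈ baseSub ι
        rw [sh_zero, mul_one, mul_inv_cancel]
        exact one_mem _
      add_mem' := fun {a b} ha hb => by
        show g * sh ι (a + b) * g⁻¹ ∈ baseSub ι
        rw [show g * sh ι (a + b) * g⁻¹ = (g * sh ι a * g⁻¹) * (g * sh ι b * g⁻¹) by
          rw [← sh_add]; group]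
        exact mul_mem ha hb
      neg_mem' := fun {a} ha => by
        show g * sh ι (-a) * g⁻¹ ∈ baseSub ι
        rw [show g * sh ι (-a) * g⁻¹ = (g * sh ι a * g⁻¹)⁻¹ by rw [← sh_inv]; group]
        exact inv_mem ha }
  suffices hc : c ∈ K from hc
  rw [← Finset.univ_sum_single c]
  refine sum_mem fun i _ => ?_
  rw [← ZMod.natCast_zmod_val (c i), ← nsmul_one, ← AddMonoidHom.single_apply, map_nsmul,
    AddMonoidHom.single_apply]
  exact nsmul_mem (show Pi.single i 1 ∈ K from h i) _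

/-- A point of the column `i` moved by a shift. -/
theorem mem_support_sh {c : Fin k → ZMod p} {y : Fin n} :
    y ∈ (sh ι c).support ↔ ∃ x, ι x = y ∧ c x.1 ≠ 0 := by
  rw [Perm.mem_support]
  constructor
  · intro h
    by_cases hy : y ∈ Set.range ι
    · obtain ⟨x, rfl⟩ := hy
      refine ⟨x, rfl, fun h0 => h ?_⟩
      rw [sh_apply, h0, add_zero]
    · exact absurd (sh_outside ι c hy) h
  · rintro ⟨x, rfl, hc⟩ h
    rw [sh_apply, ι.injective.eq_iff] at h
    exact hc (by simpa using congrArg Prod.snd h)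

theorem card_support_sh (c : Fin k → ZMod p) :
    (sh ι c).support.card = (Finset.univ.filter fun i => c i ≠ 0).card * p := by
  classical
  haveI : NeZero p := ⟨hp.out.ne_zero⟩
  have h : (sh ι c).support =
      ((Finset.univ.filter fun i => c i ≠ 0) ×ˢ (Finset.univ : Finset (ZMod p))).map ι := by
    ext y
    rw [mem_support_sh, Finset.mem_map]
    constructor
    · rintro ⟨x, rfl, hx⟩
      exact ⟨x, by simp [hx], rfl⟩
    · rintro ⟨x, hx, rfl⟩
      exact ⟨x, rfl, by simpa using hx⟩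
  rw [h, Finset.card_map, Finset.card_product, Finset.card_univ, ZMod.card]

/-- An element of `C_p ≀ W` moving fewer than `2p` points is a shift. -/
theorem mem_baseSub_of_support {x : Perm (Fin n)} (hx : x ∈ sylowSub ι W)
    (hs : x.support.card < 2 * p) : x ∈ baseSub ι := by
  classical
  haveI : NeZero p := ⟨hp.out.ne_zero⟩
  obtain ⟨σ, -, c, rfl⟩ := (mem_sylowSub ι).1 hx
  suffices h : σ = 1 by
    rw [h, map_one, one_mul]
    exact sh_mem_baseSub ι c
  refine Equiv.ext fun i => ?_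
  by_contra hi
  have hsub : (({i, σ i} : Finset (Fin k)) ×ˢ (Finset.univ : Finset (ZMod p))).map ι ⊆
      (li ι σ * sh ι c).support := fun y hy => by
    obtain ⟨x, hx', rfl⟩ := Finset.mem_map.1 hy
    rw [Perm.mem_support, Perm.mul_apply, sh_apply, li_apply]
    intro h
    have h1 : σ x.1 = x.1 := congrArg Prod.fst (ι.injective h)
    have hx1 : x.1 = i ∨ x.1 = σ i := by simpa using (Finset.mem_product.1 hx').1
    rcases hx1 with he | he
    · exact hi (by rw [he] at h1; simpa using h1)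
    · rw [he] at h1
      exact hi (by simpa using σ.injective h1)
  have h2 := Finset.card_le_card hsub
  rw [Finset.card_map, Finset.card_product, Finset.card_univ, ZMod.card,
    Finset.card_pair (fun h => hi (by simpa using h.symm))] at h2
  omega

theorem isPGroup_sylowSub (hW : IsPGroup p W) : IsPGroup p (sylowSub ι W) := by
  obtain ⟨j, hj⟩ := IsPGroup.iff_card.1 hW
  refine IsPGroup.of_card (n := k + j) ?_
  rw [sylowSub, Subgroup.card_map_of_injective (Perm.viaEmbeddingHom_injective ι), card_wreath, hj,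
    ← pow_add]

theorem card_sylowSub (hn : k = n / p) (W : Sylow p (Perm (Fin k))) :
    Nat.card (sylowSub ι (W : Subgroup (Perm (Fin k)))) = p ^ padicValNat p n.factorial := by
  rw [sylowSub, Subgroup.card_map_of_injective (Perm.viaEmbeddingHom_injective ι), card_wreath,
    W.card_eq_multiplicity, Nat.card_perm, Nat.card_fin, Nat.factorization_def _ hp.out, ← pow_add,
    ← padicValNat_mul_div_factorial (p := p) n, padicValNat_factorial_mul, hn, add_comm]

/-- The Sylow subgroup of the symmetric group. -/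
noncomputable def sylowPerm (hn : k = n / p) (W : Sylow p (Perm (Fin k))) :
    Sylow p (Perm (Fin n)) :=
  Sylow.ofCard (sylowSub ι (W : Subgroup (Perm (Fin k)))) (by
    rw [card_sylowSub ι hn W, Nat.card_perm, Nat.card_fin, Nat.factorization_def _ hp.out])

end CfsgLib.Fusion.AltModel
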