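import Cfsg.Agent.Lib.Fusion.AlternatingClosed

/-!
Permutations normalizing the base group `C_p^k`: column permutation, multiplications and shift.
-/

set_option autoImplicit false
set_option linter.unusedSectionVars false
set_option linter.unusedVariables false
set_option linter.style.haveILetI false

namespace CfsgLib.Fusion.AltModel

open Equiv CfsgLib.BlockA.SylowSymGen

variable {n p k : ℕ} [hp : Fact p.Prime] (ι : Fin k × ZMod p ↪ Fin n)

theorem li_sh_single (π : Perm (Fin k)) (i : Fin k) (a : ZMod p) :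
    li ι π * sh ι (Pi.single i a) * (li ι π)⁻¹ = sh ι (Pi.single (π i) a) := by
  rw [li_sh]
  congr 1
  funext x
  simp [Pi.single_apply, Equiv.symm_apply_eq]

theorem sc_sh_single (μ : Fin k → (ZMod p)ˣ) (i : Fin k) (a : ZMod p) :
    sc ι μ * sh ι (Pi.single i a) * (sc ι μ)⁻¹ = sh ι (Pi.single i ((μ i : ZMod p) * a)) := by
  rw [sc_sh]
  congr 1
  funext x
  rcases eq_or_ne x i with rfl | hx
  · simp
  · simp [hx]

theorem nf_conj_single (v : Fin k → ZMod p) (π : Perm (Fin k)) (μ : Fin k → (ZMod p)ˣ)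
    (i : Fin k) (a : ZMod p) :
    sh ι v * li ι π * sc ι μ * sh ι (Pi.single i a) * (sh ι v * li ι π * sc ι μ)⁻¹ =
      sh ι (Pi.single (π i) ((μ i : ZMod p) * a)) := by
  rw [show sh ι v * li ι π * sc ι μ * sh ι (Pi.single i a) * (sh ι v * li ι π * sc ι μ)⁻¹ =
      sh ι v * (li ι π * (sc ι μ * sh ι (Pi.single i a) * (sc ι μ)⁻¹) * (li ι π)⁻¹) * (sh ι v)⁻¹
      by group,
    sc_sh_single, li_sh_single, sh_comm, mul_inv_cancel_right]

/-- A permutation carrying the base into itself is in normal form. -/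
theorem exists_normalForm (hout : ∀ y z, y ∉ Set.range ι → z ∉ Set.range ι → y = z)
    {g : Perm (Fin n)} (h : ∀ i, g * sh ι (Pi.single i 1) * g⁻¹ ∈ baseSub ι) :
    ∃ (v : Fin k → ZMod p) (π : Perm (Fin k)) (μ : Fin k → (ZMod p)ˣ),
      g = sh ι v * li ι π * sc ι μ := by
  classical
  haveI : NeZero p := ⟨hp.out.ne_zero⟩
  have hsingle : ∀ i, ∃ (j : Fin k) (a : (ZMod p)ˣ),
      g * sh ι (Pi.single i 1) * g⁻¹ = sh ι (Pi.single j (a : ZMod p)) := fun i => by
    obtain ⟨c, hc⟩ := h i
    have h1 : (Finset.univ.filter fun x => c x ≠ 0).card = 1 := by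
      have h2 := card_support_sh ι c
      rw [hc, Perm.card_support_conj, card_support_sh] at h2
      have h3 : (Finset.univ.filter fun x => (Pi.single i (1 : ZMod p) : Fin k → ZMod p) x ≠ 0) = {i} := by
        ext x
        rcases eq_or_ne x i with rfl | hx
        · simp
        · simp [hx]
      rw [h3, Finset.card_singleton] at h2
      exact (Nat.eq_of_mul_eq_mul_right hp.out.pos h2).symm
    obtain ⟨j, hj⟩ := Finset.card_eq_one.1 h1
    have hj0 : c j ≠ 0 := by
      have := hj ▸ Finset.mem_singleton_self j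
      simpa using this
    refine ⟨j, Units.mk0 _ hj0, hc.symm.trans (congrArg (sh ι) (funext fun x => ?_))⟩
    rcases eq_or_ne x j with rfl | hx
    · simp
    · rw [Pi.single_eq_of_ne hx]
      by_contra h0
      have : x ∈ ({j} : Finset (Fin k)) := hj ▸ Finset.mem_filter.2 ⟨Finset.mem_univ _, h0⟩
      exact hx (Finset.mem_singleton.1 this)
  choose f μ hf using hsingle
  have hstep : ∀ i (a : ZMod p), g (ι (i, a + 1)) = sh ι (Pi.single (f i) (μ i : ZMod p)) (g (ι (i, a))) :=
    fun i a => by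
    rw [← hf i]
    simp [sh_apply]
  have hcol : ∀ i (a : ZMod p), ∃ b, g (ι (i, a)) = ι (f i, b) := fun i a => by
    have hm : g (ι (i, a)) ∈ (sh ι (Pi.single (f i) (μ i : ZMod p))).support := by
      rw [← hf i, Perm.mem_support]
      intro hfix
      simp [sh_apply] at hfix
    obtain ⟨⟨x, b⟩, hx, hx0⟩ := (mem_support_sh ι).1 hm
    rcases eq_or_ne x (f i) with rfl | hne
    · exact ⟨b, hx.symm⟩
    · exact absurd (Pi.single_eq_of_ne hne _) hx0
  choose b hb using hcol
  have hbstep : ∀ i (a : ZMod p), b i (a + 1) = b i a + μ i := fun i a => by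
    have h1 := hstep i a
    rw [hb, hb, sh_apply] at h1
    simpa using congrArg Prod.snd (ι.injective h1)
  have hlin : ∀ i (a : ZMod p), b i a = (μ i : ZMod p) * a + b i 0 := fun i a => by
    rw [← ZMod.natCast_zmod_val a]
    induction a.val with
    | zero => simp
    | succ m ih =>
      rw [Nat.cast_succ, hbstep, ih]
      ring
  have hinj : Function.Injective f := fun i j hij => by
    obtain ⟨a, ha⟩ : ∃ a, b j a = b i 0 :=
      ⟨((μ j)⁻¹ : (ZMod p)ˣ) * (b i 0 - b j 0), by rw [hlin j, Units.mul_inv_cancel_left]; ring⟩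
    have h1 : g (ι (i, 0)) = g (ι (j, a)) := by rw [hb, hb, hij, ha]
    exact congrArg Prod.fst (ι.injective (g.injective h1))
  set π : Perm (Fin k) := Equiv.ofBijective f (Finite.injective_iff_bijective.1 hinj) with hπ
  refine ⟨fun x => b (π.symm x) 0, π, μ, ext_pt ι (fun x => ?_) fun y hy => ?_⟩
  · obtain ⟨i, a⟩ := x
    rw [hb, Perm.mul_apply, Perm.mul_apply, sc_apply, li_apply, sh_apply, hlin i a]
    simp only [π.symm_apply_apply]
    rfl
  · rw [Perm.mul_apply, Perm.mul_apply, sc_outside ι _ hy, li_outside ι _ hy, sh_outside ι _ hy]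
    refine hout _ _ (fun hr => hy ?_) hy
    obtain ⟨⟨j, c⟩, hjc⟩ := hr
    obtain ⟨i, rfl⟩ := π.surjective j
    refine ⟨(i, ((μ i)⁻¹ : (ZMod p)ˣ) * (c - b i 0)), g.injective ?_⟩
    rw [← hjc, hb, hlin, Units.mul_inv_cancel_left, sub_add_cancel]
    rfl

theorem mem_normalizer_base {g : Perm (Fin n)}
    (h : ∀ i, g * sh ι (Pi.single i 1) * g⁻¹ ∈ baseSub ι) :
    g ∈ Subgroup.normalizer (baseSub ι : Set (Perm (Fin n))) := by
  have hle : (baseSub ι).map (MulAut.conj g).toMonoidHom ≤ baseSub ι := by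
    rintro _ ⟨_, ⟨c, rfl⟩, rfl⟩
    exact sh_conj_mem_baseSub ι h c
  have heq := Subgroup.eq_of_le_of_card_ge hle
    (Subgroup.card_map_of_injective (MulAut.conj g).injective).ge
  intro x
  constructor
  · exact fun hx => hle ⟨x, hx, rfl⟩
  · intro hx
    rw [← heq] at hx
    obtain ⟨y, hy, hyx⟩ := hx
    rwa [← (MulAut.conj g).injective (show MulAut.conj g y = MulAut.conj g x from hyx)]

theorem conj_single_of_mem_normalizer {g : Perm (Fin n)}
    (h : g ∈ Subgroup.normalizer (baseSub ι : Set (Perm (Fin n)))) (i : Fin k) :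
    g * sh ι (Pi.single i 1) * g⁻¹ ∈ baseSub ι :=
  (Subgroup.mem_normalizer_iff.1 h _).1 (sh_mem_baseSub ι _)

theorem card_support_sh_single (i : Fin k) :
    (sh ι (Pi.single i 1)).support.card = p := by
  classical
  rw [card_support_sh, show (Finset.univ.filter fun x => (Pi.single i (1 : ZMod p) : Fin k → ZMod p) x ≠ 0) = {i} from ?_,
    Finset.card_singleton, one_mul]
  ext x
  rcases eq_or_ne x i with rfl | hx
  · simp
  · simp [hx]

/-- The centralizer of the base group is the base group. -/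
theorem mem_baseSub_of_commute (hout : ∀ y z, y ∉ Set.range ι → z ∉ Set.range ι → y = z)
    {g : Perm (Fin n)} (h : ∀ i, g * sh ι (Pi.single i 1) = sh ι (Pi.single i 1) * g) :
    g ∈ baseSub ι := by
  obtain ⟨v, π, μ, rfl⟩ := exists_normalForm ι hout (g := g) fun i => by
    rw [h i, mul_inv_cancel_right]
    exact sh_mem_baseSub ι _
  have h1 : ∀ i, (Pi.single (π i) ((μ i : ZMod p) * 1) : Fin k → ZMod p) = Pi.single i 1 := fun i => by
    refine sh_injective ι ?_
    rw [← nf_conj_single ι v π μ, h i, mul_inv_cancel_right]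
  have hπ : π = 1 := Equiv.ext fun i => by
    by_contra hne
    have h2 := congrFun (h1 i) i
    rw [Pi.single_eq_same, Pi.single_eq_of_ne (show i ≠ π i from fun he => hne he.symm)] at h2
    exact zero_ne_one h2
  have hμ : μ = 1 := funext fun i => by
    have h2 := congrFun (h1 i) i
    rw [hπ, Perm.one_apply, Pi.single_eq_same, Pi.single_eq_same, mul_one] at h2
    exact Units.ext h2
  rw [hπ, hμ, map_one, map_one, mul_one, mul_one]
  exact sh_mem_baseSub ι v

/-- The conjugation of a generator of the base group by an element normalizing `C_p ≀ W`. -/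
theorem conj_single_mem {W : Subgroup (Perm (Fin k))} {g : Perm (Fin n)} (i : Fin k)
    (h : g * sh ι (Pi.single i 1) * g⁻¹ ∈ sylowSub ι W) :
    g * sh ι (Pi.single i 1) * g⁻¹ ∈ baseSub ι := by
  refine mem_baseSub_of_support ι h ?_
  rw [Perm.card_support_conj, card_support_sh_single]
  have := hp.out.pos
  omega

end CfsgLib.Fusion.AltModel
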