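import Cfsg.Agent.Lib.Fusion.SimpleGroupCriterion
import Cfsg.Agent.Lib.Fusion.InvariantTransport

/-!
Simplicity of the fusion system of a group: the criterion with chains of centric subgroups.
-/

set_option autoImplicit false
set_option linter.style.haveILetI false
set_option linter.unusedVariables false
set_option linter.unusedSectionVars false

namespace CfsgLib.Fusion

open Cfsg Cfsg.FusionSystem Subgroup

section Restrict

variable {Ω : Type*} [Group Ω] {S : Subgroup Ω} {F E : FusionSystem S}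
  {R : Subgroup Ω} {p : ℕ}

/-- A map normalizing `Q` whose restriction to a centric subgroup of `Q` lies in a saturated
subsystem lies in that subsystem. -/
theorem isMap_of_restrict [Fact p.Prime] [Finite S] (hS : IsPGroup p S) (hEs : E.IsSaturated p)
    (hEF : E.IsSubsystemOf F) (hF' : F.IsSaturated p) {Q : Subgroup Ω} (hR : F.IsCentric R)
    (hRQ : R ≤ Q) {f : Ω → Ω} (hf : IsMap F Q f) (hfQ : img Q f = Q) (hfR : img R f = R)
    (hfE : IsMap E R f) : IsMap E Q f := by
  haveI := finite_of_le hf.le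
  suffices h : ∀ n, ∀ R : Subgroup Ω, F.IsCentric R → R ≤ Q → img R f = R → IsMap E R f →
      Nat.card Q - Nat.card R = n → IsMap E Q f from h _ R hR hRQ hfR hfE rfl
  intro n
  induction n using Nat.strong_induction_on with
  | _ n ih =>
    intro R hR hRQ hfR hfE hn
    rcases hRQ.eq_or_lt with rfl | hlt
    · exact hfE
    have hRc : E.IsCentric R := ⟨hR.1, fun Q' hQ' => hR.2 Q' (by
      obtain ⟨φ, hφ, hr⟩ := hQ'
      exact ⟨φ, hEF R hφ, hr⟩)⟩
    have hrec := receptive_of_fullyCentralized hS hEs (centric_fullyCentralized hRc)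
    have hQS : Q ≤ S := hf.le
    have hfm : ∀ a ∈ Q, f a ∈ Q := fun a ha => by
      have h1 := hf.apply_mem_img ha
      rwa [hfQ] at h1
    have hNn : ∀ a ∈ normalizerIn Q R, f a ∈ normalizerIn Q R := fun a ha => by
      have h1 := hf.apply_mem_normalizerIn hRQ ha.1 ha.2
      rw [hfR] at h1
      exact ⟨hfm a ha.1, h1.2⟩
    obtain ⟨g, hg, hgx⟩ := receptive_extend hrec hfE hfR (le_normalizerIn hRQ) fun a ha =>
      ⟨hQS ha.1, ha.2, f a, hf.mem ha.1, fun x hx => hf.map_conj ha.1 (hRQ hx)⟩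
    have hgF : IsMap F (normalizerIn Q R) g := by
      obtain ⟨φ, hφ, hφg⟩ := hg
      exact ⟨φ, hEF _ hφ, hφg⟩
    obtain ⟨z, hzR, -, hz⟩ := exists_conj_of_agree hS hF' hR (le_normalizerIn hRQ) hgF
      (hf.mono inf_le_left) hgx
    have hzN : ∀ a ∈ normalizerIn Q R, z * a * z⁻¹ ∈ normalizerIn Q R := fun a ha =>
      mul_mem (mul_mem (le_normalizerIn hRQ hzR) ha) (inv_mem (le_normalizerIn hRQ hzR))
    have hNQ : normalizerIn Q R ≤ Q := inf_le_left
    have hfN : IsMap E (normalizerIn Q R) f :=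
      ((isMap_conj E (hNQ.trans hQS) (hR.1 hzR)).comp hg hzN).congr fun a ha => (hz a ha).symm
    haveI := finite_normalizerIn (S := Q) (P := R)
    have hcl : Nat.card R < Nat.card (normalizerIn Q R) := lt_of_not_ge fun h =>
      (lt_normalizerIn (hS.to_le hQS) hlt).ne (eq_of_le_of_card_le (le_normalizerIn hRQ) h)
    have hle : Nat.card (normalizerIn Q R) ≤ Nat.card Q := Subgroup.card_le_of_le hNQ
    refine ih _ (by omega) _ (centric_of_le hR (le_normalizerIn hRQ) (hNQ.trans hQS)) hNQ ?_ hfN rfl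
    refine eq_of_le_of_card_le (fun y hy => ?_) hfN.card_img.ge
    obtain ⟨a, ha, rfl⟩ := hfN.mem_img.1 hy
    exact hNn a ha

end Restrict

variable {G : Type*} [Group G] {p : ℕ}

/-- The elements normalizing `E` that are products of `p`-elements normalizing a self-centralizing
subgroup of `S`. -/
def chainSet (p : ℕ) (S E : Subgroup G) : Set G :=
  {g | g ∈ Subgroup.normalizer (E : Set G) ∧ ∃ R : Subgroup G, R ≤ S ∧
    Subgroup.centralizer (R : Set G) ≤ R ∧
    g ∈ Subgroup.closure {x : G | x ∈ Subgroup.normalizer (R : Set G) ∧ ∃ j, orderOf x = p ^ j}}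

/-- The normalizer of `S` is generated by the chain set of a self-centralizing subgroup. -/
def ChainGenerated (p : ℕ) (S : Subgroup G) : Prop :=
  ∃ E : Subgroup G, E ≤ S ∧ Subgroup.centralizer (E : Set G) ≤ E ∧
    Subgroup.normalizer (S : Set G) ≤ Subgroup.normalizer (E : Set G) ∧
    Subgroup.normalizer (S : Set G) ≤ Subgroup.closure (chainSet p S E)

section Criterion

variable [Finite G] [Fact p.Prime] (S : Sylow p G)
  {D : FusionSystem (S : Subgroup G)}

theorem isMap_group_conj {P : Subgroup G} (hP : P ≤ (S : Subgroup G)) {g : G}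
    (hg : ∀ x ∈ P, g * x * g⁻¹ ∈ (S : Subgroup G)) :
    IsMap (groupFusionSystem (S : Subgroup G)) P (fun x => g * x * g⁻¹) :=
  ((isSystemOf_group _).2 _ _).2 ⟨hP, hg, g, Subgroup.mem_top g, fun _ _ => rfl⟩

theorem conjSub_eq_of_normalizer {P : Subgroup G} {g : G}
    (hg : g ∈ Subgroup.normalizer (P : Set G)) : conjSub g P = P := by
  ext y
  rw [mem_conjSub]
  exact (Subgroup.mem_normalizer_iff''.1 hg y).symm

theorem centric_of_centralizer_le {R : Subgroup G} (hR : R ≤ (S : Subgroup G))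
    (hC : Subgroup.centralizer (R : Set G) ≤ R) :
    (groupFusionSystem (S : Subgroup G)).IsCentric R := by
  refine ⟨hR, fun Q hQ => ?_⟩
  obtain ⟨-, -, g, rfl⟩ := (group_isConj_iff S).1 hQ
  intro a ha
  rw [mem_conjSub]
  refine hC fun r hr => ?_
  have h1 := ha.2 (g * r * g⁻¹) (conj_mem_conjSub hr)
  calc r * (g⁻¹ * a * g) = g⁻¹ * (g * r * g⁻¹ * a) * g := by group
    _ = g⁻¹ * (a * (g * r * g⁻¹)) * g := by rw [h1]
    _ = g⁻¹ * a * g * r := by group

/-- In an invariant saturated subsystem over `S` the conjugations by `p`-elements are maps. -/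
theorem isMap_conj_of_pElement (hDi : D.IsInvariantIn (groupFusionSystem (S : Subgroup G)))
    {P : Subgroup G} (hP : P ≤ (S : Subgroup G)) {g : G}
    (hg : g ∈ Subgroup.normalizer (P : Set G)) {j : ℕ} (hj : orderOf g = p ^ j) :
    IsMap D P (fun x => g * x * g⁻¹) := by
  set F := groupFusionSystem (S : Subgroup G)
  have hS : IsPGroup p (S : Subgroup G) := S.isPGroup'
  have hF : F.IsSaturated p := group_isSaturated S
  have hle : D ≤ F := hDi.1
  obtain ⟨R, hPR, hRn⟩ := exists_fullyNormalized_conj F hP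
  obtain ⟨-, hR, x, rfl⟩ := (group_isConj_iff S).1 hPR
  set g' := x * g * x⁻¹ with hg'
  have hg'N : g' ∈ Subgroup.normalizer ((conjSub x P : Subgroup G) : Set G) := by
    rw [Subgroup.mem_normalizer_iff]
    intro y
    rw [mem_conjSub, mem_conjSub,
      show x⁻¹ * (g' * y * g'⁻¹) * x = g * (x⁻¹ * y * x) * g⁻¹ by rw [hg']; group]
    exact Subgroup.mem_normalizer_iff.1 hg _
  have haut : ∀ z : Subgroup.normalizer ((conjSub x P : Subgroup G) : Set G),
      (conjSub x P).normalizerMonoidHom z ∈ F.autGroup (conjSub x P) := fun z => by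
    rw [group_autGroup_eq S hR, mem_autInducedBy_iff]
    exact ⟨z, Subgroup.mem_top _, fun u => rfl⟩
  have hα : (conjSub x P).normalizerMonoidHom ⟨g', hg'N⟩ ∈ D.autGroup (conjSub x P) := by
    refine closure_pElements_le hS hF hle hRn
      (fun a ha b hb => IsInvariantIn.conj_mem hDi hR ha hb)
      ⟨⟨_, haut ⟨g', hg'N⟩⟩, Subgroup.subset_closure ?_, rfl⟩
    have ho : orderOf g' = p ^ j := by
      rw [hg', ← hj]
      exact MulEquiv.orderOf_eq (MulAut.conj x) g
    have h0 : orderOf (⟨_, haut ⟨g', hg'N⟩⟩ : F.autGroup (conjSub x P)) ∣ p ^ j := by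
      rw [Subgroup.orderOf_mk, ← ho, ← Subgroup.orderOf_mk g' hg'N]
      exact orderOf_map_dvd (conjSub x P).normalizerMonoidHom _
    obtain ⟨i, -, hi⟩ := (Nat.dvd_prime_pow Fact.out).1 h0
    exact ⟨i, hi⟩
  have hDg : IsMap D (conjSub x P) (fun y => g' * y * g'⁻¹) :=
    (autGroup_iff_isMap hR fun u => rfl).1 hα
  have hback : IsMap F (conjSub x P) (fun y => x⁻¹ * y * x) :=
    (isMap_group_conj S hR (g := x⁻¹) fun y hy => by
      rw [inv_inv]
      exact hP (mem_conjSub.1 hy)).congr fun y _ => by rw [inv_inv]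
  obtain ⟨γ, hγ, φ₀, hφ₀, hφ⟩ := hDi.2.2.2 _ hR hback.toHom hback.toHom_mem
  have hm₀ : IsMap D (conjSub x P) (toFun φ₀) := isMap_of_hom hφ₀
  have hφ' : ∀ y ∈ conjSub x P, x⁻¹ * y * x = autFun γ (toFun φ₀ y) := fun y hy => by
    rw [autFun_apply γ (hm₀.mem hy)]
    refine ((hback.toHom_apply ⟨y, hy⟩).symm.trans
      (hφ ⟨y, hy⟩ ((D.le_of_mem hφ₀).2 ⟨y, hy⟩))).trans ?_
    simp only [toFun_of_mem φ₀ hy]
  obtain ⟨k, hk, hkx, hky, -⟩ := hm₀.exists_inv
  have hgmem : ∀ y ∈ conjSub x P, g' * y * g'⁻¹ ∈ conjSub x P := fun y hy =>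
    (Subgroup.mem_normalizer_iff.1 hg'N y).1 hy
  have hβ := (hk.comp hDg fun y hy => (hky y hy).1).comp hm₀ fun y hy => hgmem _ (hky y hy).1
  obtain ⟨h, hh, hhx⟩ := IsInvariantIn.transport hDi hγ hβ
  have hz : ∀ z ∈ P, x * z * x⁻¹ ∈ conjSub x P := fun z hz => conj_mem_conjSub hz
  have hPimg : P ≤ img (img (conjSub x P) (toFun φ₀)) (autFun γ) := fun z hzP => by
    refine (mem_img_autFun (isMap_autFun le_rfl hγ) hm₀.img_le).2
      ⟨_, hm₀.apply_mem_img (hz z hzP), ?_⟩
    rw [← hφ' _ (hz z hzP)]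
    group
  refine (hh.mono hPimg).congr fun z hzP => ?_
  have h1 := hhx _ (hm₀.apply_mem_img (hz z hzP))
  rw [hkx _ (hz z hzP), ← hφ' _ (hz z hzP), ← hφ' _ (hgmem _ (hz z hzP)),
    show x⁻¹ * (x * z * x⁻¹) * x = z by group] at h1
  rw [h1, hg']
  group

/-- The elements of `N(P)` whose conjugation is a map of the subsystem. -/
def inSubgroup (D : FusionSystem (S : Subgroup G)) {P : Subgroup G}
    (hP : P ≤ (S : Subgroup G)) : Subgroup G where
  carrier := {g | g ∈ Subgroup.normalizer (P : Set G) ∧ IsMap D P (fun x => g * x * g⁻¹)}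
  one_mem' := ⟨one_mem _, isMap_conj D hP (one_mem _)⟩
  mul_mem' := fun {a b} ⟨ha, hma⟩ ⟨hb, hmb⟩ => ⟨mul_mem ha hb,
    (hmb.comp hma fun x hx => (Subgroup.mem_normalizer_iff.1 hb x).1 hx).congr fun x _ => by group⟩
  inv_mem' := fun {a} ⟨ha, hma⟩ => by
    obtain ⟨k, hk, hkx, -, -⟩ := hma.exists_inv
    rw [img_conj, conjSub_eq_of_normalizer ha] at hk
    refine ⟨inv_mem ha, hk.congr fun y hy => ?_⟩
    have h1 := hkx _ ((Subgroup.mem_normalizer_iff''.1 ha y).1 hy)
    rw [show a * (a⁻¹ * y * a) * a⁻¹ = y by group] at h1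
    rw [h1, inv_inv]

theorem group_isSimple_chain_self (h1 : (S : Subgroup G) ≠ ⊥)
    (hsc : NoStronglyClosed (S : Subgroup G)) (hgen : ChainGenerated p (S : Subgroup G)) :
    (groupFusionSystem (S : Subgroup G)).IsSimple p := by
  set F := groupFusionSystem (S : Subgroup G) with hFdef
  have hS : IsPGroup p (S : Subgroup G) := S.isPGroup'
  have hF : F.IsSaturated p := group_isSaturated S
  obtain ⟨E, hE, hCE, hNE, hN⟩ := hgen
  refine ⟨hF, h1, fun T D hD => ?_⟩
  obtain ⟨⟨hDs, -, hinv⟩, -⟩ := hD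
  have hT' : T = ⊥ ∨ T = (S : Subgroup G) := by
    refine hsc T hinv.2.1.1 fun x hx h hxS => ?_
    have hm : IsMap F (Subgroup.zpowers x) (fun y => h * y * h⁻¹) :=
      isMap_group_conj S (Subgroup.zpowers_le.2 (hinv.2.1.1 hx)) fun y hy => by
        obtain ⟨k, rfl⟩ := Subgroup.mem_zpowers_iff.1 hy
        rw [← conj_zpow]
        exact Subgroup.zpow_mem _ hxS k
    exact StronglyClosed.apply_mem hinv.2.1 hm (Subgroup.mem_zpowers x) hx
  rcases hT' with hT | hT
  · exact Or.inl hT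
  subst hT
  refine Or.inr ⟨rfl, fun P => hom_eq_of_le_le hinv.1 ?_ P⟩
  refine IsInvariantIn.le_of_top hS hinv fun α hα => ?_
  rw [group_autGroup_eq S le_rfl, mem_autInducedBy_iff] at hα
  obtain ⟨g, -, hgx⟩ := hα
  have hgN : g ∈ Subgroup.normalizer ((S : Subgroup G) : Set G) := mem_normalizer_of_aut hgx
  have hsub : chainSet p (S : Subgroup G) E ⊆ (inSubgroup S D hE : Set G) := by
    rintro c ⟨hcE, R, hR, hCR, hc⟩
    have hcR : c ∈ inSubgroup S D hR :=
      (Subgroup.closure_le (inSubgroup S D hR)).2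
        (fun z hz => ⟨hz.1, hz.2.elim fun j hj => isMap_conj_of_pElement S hinv hR hz.1 hj⟩) hc
    have hQ : R ⊔ E ≤ (S : Subgroup G) := sup_le hR hE
    have hcQ : conjSub c (R ⊔ E) = R ⊔ E := by
      rw [conjSub, Subgroup.map_sup]
      exact congrArg₂ (· ⊔ ·) (conjSub_eq_of_normalizer hcR.1) (conjSub_eq_of_normalizer hcE)
    have hf : IsMap F (R ⊔ E) (fun x => c * x * c⁻¹) :=
      isMap_group_conj S hQ fun x hx => hQ (hcQ ▸ conj_mem_conjSub hx)
    exact ⟨hcE, (isMap_of_restrict hS hDs hinv.1 hF (centric_of_centralizer_le S hR hCR)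
      le_sup_left hf ((img_conj c _).trans hcQ)
      ((img_conj c _).trans (conjSub_eq_of_normalizer hcR.1)) hcR.2).mono le_sup_right⟩
  have hgD : g ∈ inSubgroup S D hE := (Subgroup.closure_le _).2 hsub (hN hgN)
  refine (autGroup_iff_isMap (f := fun x => g * x * g⁻¹) le_rfl hgx).2 ?_
  exact isMap_of_restrict hS hDs hinv.1 hF (centric_of_centralizer_le S hE hCE) hE
    (isMap_group_conj S le_rfl fun x hx => (Subgroup.mem_normalizer_iff.1 hgN x).1 hx)
    ((img_conj g _).trans (conjSub_eq_of_normalizer hgN))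
    ((img_conj g _).trans (conjSub_eq_of_normalizer (hNE hgN))) hgD.2

end Criterion

/-! ### Transport along an automorphism -/

variable {G' : Type*} [Group G'] (e : G ≃* G') {S : Subgroup G}

theorem map_centralizer_le {R : Subgroup G} (h : Subgroup.centralizer (R : Set G) ≤ R) :
    Subgroup.centralizer ((R.map e.toMonoidHom : Subgroup G') : Set G') ≤
      R.map e.toMonoidHom := by
  intro u hu
  obtain ⟨v, rfl⟩ := e.surjective u
  refine Subgroup.mem_map_of_mem _ (h fun r hr => e.injective ?_)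
  rw [map_mul, map_mul]
  exact hu (e r) (Subgroup.mem_map_of_mem _ hr)

theorem ChainGenerated.map (h : ChainGenerated p S) :
    ChainGenerated p (S.map e.toMonoidHom) := by
  obtain ⟨E, hE, hC, hNE, hN⟩ := h
  refine ⟨E.map e.toMonoidHom, Subgroup.map_mono hE, map_centralizer_le e hC, ?_, ?_⟩
  · rw [← map_normalizer_equiv e, ← map_normalizer_equiv e]
    exact Subgroup.map_mono hNE
  rw [← map_normalizer_equiv e]
  refine (Subgroup.map_mono hN).trans ?_
  rw [MonoidHom.map_closure]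
  refine Subgroup.closure_mono ?_
  rintro _ ⟨g, ⟨hg, R, hR, hCR, hc⟩, rfl⟩
  refine ⟨?_, R.map e.toMonoidHom, Subgroup.map_mono hR, map_centralizer_le e hCR, ?_⟩
  · rw [← map_normalizer_equiv e]
    exact Subgroup.mem_map_of_mem _ hg
  have h1 := Subgroup.mem_map_of_mem e.toMonoidHom hc
  rw [MonoidHom.map_closure] at h1
  refine Subgroup.closure_mono ?_ h1
  rintro _ ⟨z, ⟨hz, k, hk⟩, rfl⟩
  refine ⟨?_, k, (MulEquiv.orderOf_eq e z).trans hk⟩
  rw [← map_normalizer_equiv e]
  exact Subgroup.mem_map_of_mem _ hz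

/-- The chain criterion checked at one Sylow subgroup gives simplicity at every one. -/
theorem group_isSimple_chain [Finite G] [Fact p.Prime] (S₀ : Subgroup G) (hp : IsPGroup p S₀)
    (hidx : ¬ p ∣ S₀.index) (h1 : S₀ ≠ ⊥) (hsc : NoStronglyClosed S₀)
    (hgen : ChainGenerated p S₀) (S : Sylow p G) :
    (groupFusionSystem (S : Subgroup G)).IsSimple p := by
  obtain ⟨g, hg⟩ := MulAction.exists_smul_eq G (hp.toSylow hidx) S
  have hS : (S : Subgroup G) = S₀.map (MulAut.conj g).toMonoidHom := by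
    rw [← hg]
    rfl
  refine group_isSimple_chain_self S (fun h => h1 ?_) (hS ▸ hsc.map (MulAut.conj g))
    (hS ▸ hgen.map (MulAut.conj g))
  rwa [hS, Subgroup.map_eq_bot_iff_of_injective _ (MulAut.conj g).injective] at h

end CfsgLib.Fusion
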