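import Cfsg.Agent.Lib.Fusion.AlternatingBlockElements
import Cfsg.Agent.Lib.Fusion.SimpleGroupChain

/-!
For odd `p` the normalizer of the Sylow subgroup `C_p ≀ W` of the alternating group is generated
by the chain set of the base group.
-/

set_option autoImplicit false
set_option linter.unusedSectionVars false
set_option linter.unusedVariables false
set_option linter.style.haveILetI false

namespace CfsgLib.Fusion.AltModel

open Equiv CfsgLib.BlockA.SylowSymGen

variable {n p k : ℕ} [hp : Fact p.Prime] (ι : Fin k × ZMod p ↪ Fin n) (emb : ZMod p ↪ Fin k)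

/-- The translations of the block with the shifts of the other columns. -/
noncomputable def blockSub : Subgroup (Perm (Fin n)) :=
  Subgroup.closure (Set.range (fun w => bl ι emb (transl w)) ∪
    {x | ∃ c : Fin k → ZMod p, (∀ a, c (emb a) = 0) ∧ x = sh ι c})

theorem bl_mem_blockSub (w : ZMod p × ZMod p) : bl ι emb (transl w) ∈ blockSub ι emb :=
  Subgroup.subset_closure (Or.inl ⟨w, rfl⟩)

theorem sh_mem_blockSub {c : Fin k → ZMod p} (hc : ∀ a, c (emb a) = 0) :
    sh ι c ∈ blockSub ι emb :=
  Subgroup.subset_closure (Or.inr ⟨c, hc, rfl⟩)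

theorem sh_outside_block {c : Fin k → ZMod p} (hc : ∀ a, c (emb a) = 0)
    (x : ZMod p × ZMod p) : sh ι c (block ι emb x) = block ι emb x := by
  simp [block_apply, sh_apply, hc]

theorem disjoint_bl_sh (f : Perm (ZMod p × ZMod p)) {c : Fin k → ZMod p}
    (hc : ∀ a, c (emb a) = 0) : Perm.Disjoint (bl ι emb f) (sh ι c) := fun y => by
  by_cases hy : y ∈ Set.range (block ι emb)
  · obtain ⟨x, rfl⟩ := hy
    exact Or.inr (sh_outside_block ι emb hc x)
  · exact Or.inl (bl_outside ι emb f hy)

/-- A translation of the block is a column shift times a shift. -/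
theorem bl_transl (w : ZMod p × ZMod p) :
    ∃ c : Fin k → ZMod p, bl ι emb (transl w) = li ι (colShift emb w.1) * sh ι c := by
  classical
  refine ⟨fun i => if i ∈ Set.range emb then w.2 else 0,
    ext_block ι emb (fun x => ?_) (fun i a hi => ?_) fun y hy => ?_⟩
  · rw [bl_apply, block_apply, block_apply, Perm.mul_apply, sh_apply, li_apply,
      if_pos ⟨x.1, rfl⟩, colShift_apply]
    rfl
  · rw [bl_outside ι emb _ (not_mem_range_block ι emb hi a), Perm.mul_apply, sh_apply, li_apply,
      if_neg hi, add_zero, colShift_outside emb _ hi]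
  · rw [bl_outside ι emb _ (not_mem_range_block_of_outside ι emb hy), Perm.mul_apply,
      sh_outside ι _ hy, li_outside ι _ hy]

theorem blockSub_le {W : Subgroup (Perm (Fin k))} (hW : colShift emb 1 ∈ W) :
    blockSub ι emb ≤ sylowSub ι W := by
  refine (Subgroup.closure_le _).2 ?_
  rintro x (⟨w, rfl⟩ | ⟨c, -, rfl⟩)
  · obtain ⟨c, hc⟩ := bl_transl ι emb w
    exact (mem_sylowSub ι).2 ⟨_, colShift_mem emb hW w.1, c, hc⟩
  · exact baseSub_le ι (sh_mem_baseSub ι c)

/-- The centralizer of the block group is the block group. -/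
theorem mem_blockSub_of_commute (hout : ∀ y z, y ∉ Set.range ι → z ∉ Set.range ι → y = z)
    {g : Perm (Fin n)}
    (h : ∀ x ∈ blockSub ι emb, x * g = g * x) : g ∈ blockSub ι emb := by
  classical
  have h10 : ((1, 0) : ZMod p × ZMod p) ≠ 0 := fun h => one_ne_zero (congrArg Prod.fst h)
  set z₀ := block ι emb 0
  obtain ⟨w, hw⟩ : ∃ w, g z₀ = block ι emb w := by
    by_contra hno
    have hnr : g z₀ ∉ Set.range (block ι emb) := fun ⟨w, hw⟩ => hno ⟨w, hw.symm⟩
    have h1 := congrArg (fun f : Perm (Fin n) => f z₀)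
      (h _ (bl_mem_blockSub ι emb ((1, 0) : ZMod p × ZMod p)))
    simp only [Perm.mul_apply, bl_outside ι emb _ hnr] at h1
    have h2 := (block ι emb).injective ((g.injective h1).trans (bl_apply ι emb _ _))
    exact h10 (by simpa [transl] using h2.symm)
  set r := bl ι emb (transl w)
  have hr : r ∈ blockSub ι emb := bl_mem_blockSub ι emb w
  have hcomm : ∀ x ∈ blockSub ι emb, x * r = r * x := by
    intro x hx
    induction hx using Subgroup.closure_induction with
    | mem x hx =>
      rcases hx with ⟨v, rfl⟩ | ⟨c, hc, rfl⟩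
      · show bl ι emb (transl v) * bl ι emb (transl w) = bl ι emb (transl w) * bl ι emb (transl v)
        rw [← map_mul, ← map_mul]
        congr 1
        refine Equiv.ext fun u => ?_
        simp [transl, add_assoc, add_comm v w]
      · exact ((disjoint_bl_sh ι emb (transl w) hc).commute).eq.symm
    | one => rw [one_mul, mul_one]
    | mul a b _ _ ha hb => rw [mul_assoc, hb, ← mul_assoc, ha, mul_assoc]
    | inv a _ ha => exact (Commute.inv_left ha).eq
  set g' := r⁻¹ * g with hg'
  have hg'comm : ∀ x ∈ blockSub ι emb, x * g' = g' * x := fun x hx =>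
    (Commute.mul_right (Commute.inv_right (hcomm x hx)) (h x hx)).eq
  have hz : g' z₀ = z₀ := by
    rw [hg', Perm.mul_apply, hw, Perm.inv_eq_iff_eq]
    show block ι emb w = r (block ι emb 0)
    rw [bl_apply]
    simp [transl]
  have hblock : ∀ x, g' (block ι emb x) = block ι emb x := fun x => by
    have h1 : block ι emb x = bl ι emb (transl x) z₀ := by
      rw [bl_apply]
      simp [transl]
    rw [h1, ← Perm.mul_apply, ← hg'comm _ (bl_mem_blockSub ι emb x), Perm.mul_apply, hz]
  have hbase : g' ∈ baseSub ι := mem_baseSub_of_commute ι hout fun i => by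
    by_cases hi : i ∈ Set.range emb
    · obtain ⟨a, rfl⟩ := hi
      refine (Perm.Disjoint.commute fun y => ?_).eq
      by_cases hy : y ∈ Set.range (block ι emb)
      · obtain ⟨x, rfl⟩ := hy
        exact Or.inl (hblock x)
      · refine Or.inr ?_
        by_contra hne
        obtain ⟨⟨j, b⟩, rfl, hj⟩ := (mem_support_sh ι).1 (Perm.mem_support.2 hne)
        rcases eq_or_ne j (emb a) with rfl | hja
        · exact hy ⟨(a, b), rfl⟩
        · exact hj (Pi.single_eq_of_ne hja _)
    · exact (hg'comm _ (sh_mem_blockSub ι emb fun a =>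
        Pi.single_eq_of_ne (fun he => hi ⟨a, he⟩) _)).symm
  obtain ⟨c, hc⟩ := hbase
  have hc0 : ∀ a, c (emb a) = 0 := fun a => by
    have h1 := hblock (a, 0)
    rw [← hc, block_apply, sh_apply] at h1
    simpa using congrArg Prod.snd (ι.injective h1)
  have hg : g = r * g' := by rw [hg', mul_inv_cancel_left]
  rw [hg, ← hc]
  exact mul_mem hr (sh_mem_blockSub ι emb hc0)

theorem bl_mem_normalizer_blockSub (f : Perm (ZMod p × ZMod p))
    (hf : ∀ w, ∃ w', f * transl w * f⁻¹ = transl w') :
    bl ι emb f ∈ Subgroup.normalizer (blockSub ι emb : Set (Perm (Fin n))) := by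
  have hle : (blockSub ι emb).map (MulAut.conj (bl ι emb f)).toMonoidHom ≤ blockSub ι emb := by
    rw [blockSub, MonoidHom.map_closure, Subgroup.closure_le]
    rintro _ ⟨x, ⟨w, rfl⟩ | ⟨c, hc, rfl⟩, rfl⟩
    · obtain ⟨w', hw'⟩ := hf w
      show bl ι emb f * bl ι emb (transl w) * (bl ι emb f)⁻¹ ∈ blockSub ι emb
      rw [← map_inv, ← map_mul, ← map_mul, hw']
      exact bl_mem_blockSub ι emb w'
    · show bl ι emb f * sh ι c * (bl ι emb f)⁻¹ ∈ blockSub ι emb
      rw [(disjoint_bl_sh ι emb f hc).commute.eq, mul_inv_cancel_right]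
      exact sh_mem_blockSub ι emb hc
  have heq := Subgroup.eq_of_le_of_card_ge hle
    (Subgroup.card_map_of_injective (MulAut.conj (bl ι emb f)).injective).ge
  intro x
  constructor
  · exact fun hx => hle ⟨x, hx, rfl⟩
  · intro hx
    rw [← heq] at hx
    obtain ⟨y, hy, hyx⟩ := hx
    rwa [← (MulAut.conj _).injective (show MulAut.conj _ y = MulAut.conj _ x from hyx)]

theorem shearU_transl (a : ZMod p) (w : ZMod p × ZMod p) :
    shearU a * transl w * (shearU a)⁻¹ = transl (w.1 + a * w.2, w.2) := by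
  rw [mul_inv_eq_iff_eq_mul]
  refine Equiv.ext fun x => Prod.ext ?_ rfl
  show x.1 + w.1 + a * (x.2 + w.2) = x.1 + a * x.2 + (w.1 + a * w.2)
  ring

theorem shearL_transl (a : ZMod p) (w : ZMod p × ZMod p) :
    shearL a * transl w * (shearL a)⁻¹ = transl (w.1, w.2 + a * w.1) := by
  rw [mul_inv_eq_iff_eq_mul]
  refine Equiv.ext fun x => Prod.ext rfl ?_
  show x.2 + w.2 + a * (x.1 + w.1) = x.2 + a * x.1 + (w.2 + a * w.1)
  ring

section Main

variable {W : Subgroup (Perm (Fin k))}

/-- `S ∩ A_n` for `S = C_p ≀ W`. -/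
noncomputable def altSylow (W : Subgroup (Perm (Fin k))) : Subgroup (alternatingGroup (Fin n)) :=
  (sylowSub ι W).subgroupOf (alternatingGroup (Fin n))

/-- The base group inside the alternating group. -/
def altBase : Subgroup (alternatingGroup (Fin n)) :=
  (baseSub ι).subgroupOf (alternatingGroup (Fin n))

theorem sign_sh_odd (hodd : Odd p) (c : Fin k → ZMod p) : Perm.sign (sh ι c) = 1 :=
  sign_eq_one_of_pow (p := p) hodd (j := 1) (by rw [pow_one, sh_pow_p])

theorem mem_normalizer_subgroupOf {H : Subgroup (Perm (Fin n))} {g : alternatingGroup (Fin n)}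
    (h : (g : Perm (Fin n)) ∈ Subgroup.normalizer (H : Set (Perm (Fin n)))) :
    g ∈ Subgroup.normalizer
      ((H.subgroupOf (alternatingGroup (Fin n))) : Set (alternatingGroup (Fin n))) := by
  rw [Subgroup.mem_normalizer_iff]
  intro x
  simp only [Subgroup.mem_subgroupOf, Subgroup.coe_mul, Subgroup.coe_inv]
  exact Subgroup.mem_normalizer_iff.1 h _

theorem coe_mem_normalizer_base (hodd : Odd p) {g : alternatingGroup (Fin n)}
    (h : g ∈ Subgroup.normalizer ((altBase ι) : Set (alternatingGroup (Fin n)))) :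
    (g : Perm (Fin n)) ∈ Subgroup.normalizer (baseSub ι : Set (Perm (Fin n))) :=
  mem_normalizer_base ι fun i => by
    have hb : (⟨_, sign_sh_odd ι hodd (Pi.single i 1)⟩ : alternatingGroup (Fin n)) ∈ altBase ι :=
      sh_mem_baseSub ι _
    exact (Subgroup.mem_normalizer_iff.1 h _).1 hb

/-- The normalizer of `C_p ≀ W` normalizes the base group. -/
theorem normalizer_altSylow_le (hodd : Odd p) :
    Subgroup.normalizer ((altSylow ι W) : Set (alternatingGroup (Fin n))) ≤
      Subgroup.normalizer ((altBase ι) : Set (alternatingGroup (Fin n))) := by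
  intro g hg
  refine mem_normalizer_subgroupOf (mem_normalizer_base ι fun i => conj_single_mem ι i (W := W) ?_)
  have hb : (⟨_, sign_sh_odd ι hodd (Pi.single i 1)⟩ : alternatingGroup (Fin n)) ∈ altSylow ι W :=
    baseSub_le ι (sh_mem_baseSub ι _)
  exact (Subgroup.mem_normalizer_iff.1 hg _).1 hb

theorem centralizer_altBase_le (hodd : Odd p)
    (hout : ∀ y z, y ∉ Set.range ι → z ∉ Set.range ι → y = z) :
    Subgroup.centralizer ((altBase ι) : Set (alternatingGroup (Fin n))) ≤ altBase ι := by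
  intro g hg
  refine mem_baseSub_of_commute ι hout fun i => ?_
  have hb : (⟨_, sign_sh_odd ι hodd (Pi.single i 1)⟩ : alternatingGroup (Fin n)) ∈ altBase ι :=
    sh_mem_baseSub ι _
  exact (congrArg Subtype.val (hg _ hb)).symm

/-- A coerced product of `p`-elements. -/
theorem exists_closure_of_mem (H : Subgroup (Perm (Fin n))) {s : Set (Perm (Fin n))}
    (hs : ∀ x ∈ s, Perm.sign x = 1 ∧ x ∈ Subgroup.normalizer (H : Set (Perm (Fin n))) ∧
      ∃ j, orderOf x = p ^ j) {g : Perm (Fin n)} (hg : g ∈ Subgroup.closure s) :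
    ∃ x ∈ Subgroup.closure {x : alternatingGroup (Fin n) |
      x ∈ Subgroup.normalizer
        ((H.subgroupOf (alternatingGroup (Fin n))) : Set (alternatingGroup (Fin n))) ∧
      ∃ j, orderOf x = p ^ j}, (x : Perm (Fin n)) = g := by
  suffices h : g ∈ (Subgroup.closure {x : alternatingGroup (Fin n) |
      x ∈ Subgroup.normalizer
        ((H.subgroupOf (alternatingGroup (Fin n))) : Set (alternatingGroup (Fin n))) ∧
      ∃ j, orderOf x = p ^ j}).map (alternatingGroup (Fin n)).subtype by
    obtain ⟨x, hx, hxg⟩ := h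
    exact ⟨x, hx, hxg⟩
  refine (Subgroup.closure_le _).2 (fun x hx => ?_) hg
  obtain ⟨hsx, hN, j, hj⟩ := hs x hx
  refine ⟨⟨x, hsx⟩, Subgroup.subset_closure ⟨mem_normalizer_subgroupOf hN, j, ?_⟩, rfl⟩
  rw [← hj, ← Subgroup.orderOf_coe]

theorem chainGenerated (hodd : Odd p) (hk : 3 ≤ k) (hW : colShift emb 1 ∈ W)
    (hout : ∀ y z, y ∉ Set.range ι → z ∉ Set.range ι → y = z) :
    ChainGenerated p (altSylow ι W) := by
  classical
  haveI : NeZero p := ⟨hp.out.ne_zero⟩
  have hES : altBase ι ≤ altSylow ι W := fun x hx => baseSub_le ι (W := W) hx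
  have hCE := centralizer_altBase_le ι hodd hout
  refine ⟨altBase ι, hES, hCE, normalizer_altSylow_le ι hodd, fun g hgS => ?_⟩
  have hgE := normalizer_altSylow_le ι hodd hgS
  obtain ⟨v, π, μ, hg⟩ := exists_normalForm ι hout
    (fun i => conj_single_of_mem_normalizer ι (coe_mem_normalizer_base ι hodd hgE) i)
  -- the element outside the products of `p`-elements normalizing the base group
  obtain ⟨u, hu⟩ := IsCyclic.exists_generator (α := (ZMod p)ˣ)
  set f : Perm (ZMod p × ZMod p) := shearU (u : ZMod p) * shearL (-((u⁻¹ : (ZMod p)ˣ) : ZMod p)) *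
    shearU (u : ZMod p) * shearU (-1) * shearL 1 * shearU (-1) with hf
  have hUmem : ∀ a : ZMod p, bl ι emb (shearU a) ∈ Subgroup.closure
      {x | Perm.sign x = 1 ∧ x ∈ Subgroup.normalizer (blockSub ι emb : Set (Perm (Fin n))) ∧
        ∃ j, orderOf x = p ^ j} := fun a => by
    have hpow : bl ι emb (shearU a) ^ p = 1 := by rw [← map_pow, shearU_pow_p, map_one]
    refine Subgroup.subset_closure ⟨sign_eq_one_of_pow (p := p) hodd (j := 1) (by rwa [pow_one]),
      bl_mem_normalizer_blockSub ι emb _ fun w => ⟨_, shearU_transl a w⟩, ?_⟩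
    obtain ⟨j, -, hj⟩ := (Nat.dvd_prime_pow hp.out).1
      ((orderOf_dvd_of_pow_eq_one hpow).trans (pow_one p).symm.dvd)
    exact ⟨j, hj⟩
  have hLmem : ∀ a : ZMod p, bl ι emb (shearL a) ∈ Subgroup.closure
      {x | Perm.sign x = 1 ∧ x ∈ Subgroup.normalizer (blockSub ι emb : Set (Perm (Fin n))) ∧
        ∃ j, orderOf x = p ^ j} := fun a => by
    have hpow : bl ι emb (shearL a) ^ p = 1 := by rw [← map_pow, shearL_pow_p, map_one]
    refine Subgroup.subset_closure ⟨sign_eq_one_of_pow (p := p) hodd (j := 1) (by rwa [pow_one]),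
      bl_mem_normalizer_blockSub ι emb _ fun w => ⟨_, shearL_transl a w⟩, ?_⟩
    obtain ⟨j, -, hj⟩ := (Nat.dvd_prime_pow hp.out).1
      ((orderOf_dvd_of_pow_eq_one hpow).trans (pow_one p).symm.dvd)
    exact ⟨j, hj⟩
  have hfmem : bl ι emb f ∈ Subgroup.closure
      {x | Perm.sign x = 1 ∧ x ∈ Subgroup.normalizer (blockSub ι emb : Set (Perm (Fin n))) ∧
        ∃ j, orderOf x = p ^ j} := by
    rw [hf, map_mul, map_mul, map_mul, map_mul, map_mul]
    exact mul_mem (mul_mem (mul_mem (mul_mem (mul_mem (hUmem _) (hLmem _)) (hUmem _)) (hUmem _))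
      (hLmem _)) (hUmem _)
  obtain ⟨t, ht, htf⟩ := exists_closure_of_mem (blockSub ι emb) (fun x hx => hx) hfmem
  set πt : Perm (Fin k) := Perm.viaEmbeddingHom emb u.mulLeft with hπt
  set μt : Fin k → (ZMod p)ˣ := fun i => if i ∈ Set.range emb then u⁻¹ else 1 with hμt
  have hπt_emb : ∀ a, πt (emb a) = emb ((u : ZMod p) * a) := fun a =>
    Perm.viaEmbedding_apply (u.mulLeft) emb a
  have hπt_out : ∀ i, i ∉ Set.range emb → πt i = i := fun i hi =>
    Perm.viaEmbedding_apply_of_notMem _ _ _ hi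
  have hμt_emb : ∀ a, μt (emb a) = u⁻¹ := fun a => if_pos ⟨a, rfl⟩
  have hμt_out : ∀ i, i ∉ Set.range emb → μt i = 1 := fun i hi => if_neg hi
  have htdec : (t : Perm (Fin n)) = li ι πt * sc ι μt := by
    rw [htf]
    refine ext_block ι emb (fun x => ?_) (fun i a hi => ?_) fun y hy => ?_
    · rw [bl_apply, hf, shear_word, block_apply, block_apply, Perm.mul_apply, sc_apply, li_apply,
        hπt_emb, hμt_emb]
    · rw [bl_outside ι emb _ (not_mem_range_block ι emb hi a), Perm.mul_apply, sc_apply, li_apply,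
        hπt_out i hi, hμt_out i hi, Units.val_one, one_mul]
    · rw [bl_outside ι emb _ (not_mem_range_block_of_outside ι emb hy), Perm.mul_apply,
        sc_outside ι _ hy, li_outside ι _ hy]
  have hcomm : Commute (li ι πt) (sc ι μt) := by
    have h1 := li_sc ι πt μt
    rw [mul_inv_eq_iff_eq_mul, show (fun i => μt (πt⁻¹ i)) = μt from funext fun i => ?_] at h1
    · exact h1
    by_cases hi : i ∈ Set.range emb
    · obtain ⟨a, rfl⟩ := hi
      have : πt⁻¹ (emb a) = emb (((u⁻¹ : (ZMod p)ˣ) : ZMod p) * a) := by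
        rw [Perm.inv_eq_iff_eq, hπt_emb, Units.mul_inv_cancel_left]
      rw [this, hμt_emb, hμt_emb]
    · rw [Perm.inv_eq_iff_eq.2 (hπt_out i hi).symm]
  have hprod : ∏ i, μt i = u⁻¹ := by
    rw [hμt, Finset.prod_ite, Finset.prod_const, Finset.prod_const, one_pow, mul_one,
      show (Finset.univ.filter fun i => i ∈ Set.range emb) = (Finset.univ : Finset (ZMod p)).map emb
        from by ext i; simp,
      Finset.card_map, Finset.card_univ, ZMod.card, inv_pow,
      show u ^ p = u from by
        have h1 : u ^ (p - 1 + 1) = u := by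
          rw [pow_succ, ZMod.units_pow_card_sub_one_eq_one, one_mul]
        rwa [Nat.sub_add_cancel hp.out.one_le] at h1]
  obtain ⟨m, hm⟩ : ∃ m : ℤ, (u⁻¹) ^ m = ∏ i, μ i :=
    Subgroup.mem_zpowers_iff.1 (Subgroup.zpowers_inv (g := u) ▸ hu _)
  set ν : Fin k → (ZMod p)ˣ := μ * (μt ^ m)⁻¹ with hν
  have hνprod : ∏ i, ν i = 1 := by
    simp only [hν, Pi.mul_apply, Pi.inv_apply, Pi.pow_apply, Finset.prod_mul_distrib,
      Finset.prod_inv_distrib, Finset.prod_zpow, hprod, hm, mul_inv_cancel]
  set τ := π * (πt ^ m)⁻¹ with hτ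
  set g' := g * (t ^ m)⁻¹ with hg'
  have hg'eq : (g' : Perm (Fin n)) =
      sh ι v * (li ι π * sc ι ν * (li ι π)⁻¹) * li ι τ := by
    have htm : (((t ^ m : alternatingGroup (Fin n)) : Perm (Fin n)))⁻¹ =
        sc ι ((μt ^ m)⁻¹) * li ι ((πt ^ m)⁻¹) := by
      rw [Subgroup.coe_zpow, htdec, hcomm.mul_zpow, mul_inv_rev, map_inv, map_inv, map_zpow,
        map_zpow]
    rw [hg', Subgroup.coe_mul, Subgroup.coe_inv, htm, hg, hν, hτ, map_mul, map_mul]
    simp only [mul_assoc, inv_mul_cancel_left]
  have hA : li ι π * sc ι ν * (li ι π)⁻¹ ∈ Subgroup.closure (baseGenSet ι) :=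
    conj_mem_closure ι (li_mem_normalizer ι π) (sc_mem_closure ι emb hodd hk hνprod)
  have hsignK : ∀ z ∈ Subgroup.closure (baseGenSet ι), Perm.sign z = 1 := fun z hz =>
    ((Subgroup.closure_le (Perm.sign (α := Fin n)).ker).2 (fun y hy => hy.1)) hz
  have hτeven : Perm.sign τ = 1 := by
    have h1 : Perm.sign (g' : Perm (Fin n)) = 1 := g'.2
    rw [hg'eq, map_mul, map_mul, sign_sh_odd ι hodd, hsignK _ hA, one_mul, one_mul, sign_li] at h1
    rcases Int.units_eq_one_or (Perm.sign τ) with h2 | h2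
    · exact h2
    · rw [h2, hodd.neg_one_pow] at h1
      exact absurd h1 (by decide)
  have hg'K : (g' : Perm (Fin n)) ∈ Subgroup.closure (baseGenSet ι) := by
    rw [hg'eq]
    exact mul_mem (mul_mem (sh_mem_closure ι hodd v) hA) (li_mem_closure ι emb hodd hτeven)
  obtain ⟨g'', hg'', hg''e⟩ := exists_closure_of_mem (baseSub ι) (fun x hx => hx) hg'K
  obtain rfl : g'' = g' := Subtype.ext hg''e
  have htE : t ∈ Subgroup.normalizer ((altBase ι) : Set (alternatingGroup (Fin n))) := by
    refine mem_normalizer_subgroupOf ?_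
    rw [htdec]
    exact mul_mem (li_mem_normalizer ι πt) (sc_mem_normalizer ι μt)
  have hg'E : g' ∈ Subgroup.normalizer ((altBase ι) : Set (alternatingGroup (Fin n))) :=
    mul_mem hgE (inv_mem (zpow_mem htE m))
  have ht' : t ∈ chainSet p (altSylow ι W) (altBase ι) := by
    refine ⟨htE, (blockSub ι emb).subgroupOf (alternatingGroup (Fin n)),
      fun x hx => blockSub_le ι emb hW hx, fun x hx => ?_, ht⟩
    refine mem_blockSub_of_commute ι emb hout fun y hy => ?_
    have hys : Perm.sign y = 1 := by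
      have hz : IsPGroup p (Subgroup.zpowers (colShift emb 1)) := fun ⟨z, hz⟩ => by
        obtain ⟨i, rfl⟩ := Subgroup.mem_zpowers_iff.1 hz
        refine ⟨1, Subtype.ext ?_⟩
        rw [SubgroupClass.coe_pow, pow_one, Subgroup.coe_one, ← zpow_natCast, ← zpow_mul, mul_comm,
          zpow_mul, zpow_natCast, colShift_pow_p, one_zpow]
      obtain ⟨j, hj⟩ := isPGroup_sylowSub ι hz
        ⟨y, blockSub_le ι emb (Subgroup.mem_zpowers _) hy⟩
      exact sign_eq_one_of_pow (p := p) hodd (by simpa using congrArg Subtype.val hj)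
    exact congrArg Subtype.val (hx ⟨y, hys⟩ hy)
  have hg'' : g' ∈ chainSet p (altSylow ι W) (altBase ι) :=
    ⟨hg'E, altBase ι, hES, hCE, hg''⟩
  rw [show g = g' * t ^ m by rw [hg', inv_mul_cancel_right]]
  exact mul_mem (Subgroup.subset_closure hg'') (zpow_mem (Subgroup.subset_closure ht') m)

end Main

end CfsgLib.Fusion.AltModel
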