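import Cfsg.Agent.Lib.Fusion.AlternatingOdd
import Cfsg.Agent.Lib.Fusion.AlternatingTwo

/-!
The `p`-fusion systems of alternating groups of degree `pk` or `pk + 1`, `k ≥ p`, are simple.
-/

set_option autoImplicit false
set_option linter.style.haveILetI false

namespace CfsgLib.Fusion

open Cfsg Equiv CfsgLib.Fusion.AltModel

theorem alternating_isSimple {n p : ℕ} (hn : 6 ≤ n) [hp : Fact p.Prime] (hnp : p ^ 2 ≤ n)
    (hb : n % p ≤ 1) (S : Sylow p (alternatingGroup (Fin n))) :
    (groupFusionSystem (S : Subgroup (alternatingGroup (Fin n)))).IsSimple p := by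
  classical
  haveI : NeZero p := ⟨hp.out.ne_zero⟩
  set k := n / p with hkdef
  have hkp : p ≤ k := (Nat.le_div_iff_mul_le hp.out.pos).2 (by rwa [← sq])
  have hk : 3 ≤ k := by
    rcases hp.out.eq_two_or_odd' with h2 | ho
    · subst h2
      omega
    · have := hp.out.two_le
      obtain ⟨j, hj⟩ := ho
      omega
  obtain ⟨ι⟩ : Nonempty (Fin k × ZMod p ↪ Fin n) :=
    Function.Embedding.nonempty_of_card_le (by
      rw [Fintype.card_prod, Fintype.card_fin, Fintype.card_fin, ZMod.card]
      exact Nat.div_mul_le_self n p)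
  have hnk : n < (k + 1) * p := by
    rw [mul_comm]
    exact Nat.lt_mul_div_succ n hp.out.pos
  have hout := outside_subsingleton ι (by
    have := Nat.div_add_mod n p
    rw [hkdef, mul_comm (n / p) p]
    omega)
  obtain ⟨emb⟩ : Nonempty (ZMod p ↪ Fin k) :=
    Function.Embedding.nonempty_of_card_le (by rw [ZMod.card, Fintype.card_fin]; exact hkp)
  have hc : IsPGroup p (Subgroup.zpowers (colShift emb 1)) := fun ⟨z, hz⟩ => by
    obtain ⟨i, rfl⟩ := Subgroup.mem_zpowers_iff.1 hz
    refine ⟨1, Subtype.ext ?_⟩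
    rw [SubgroupClass.coe_pow, pow_one, Subgroup.coe_one, ← zpow_natCast, ← zpow_mul, mul_comm,
      zpow_mul, zpow_natCast, colShift_pow_p, one_zpow]
  obtain ⟨W, hW⟩ := hc.exists_le_sylow
  have hp' : IsPGroup p ((sylowSub ι (W : Subgroup (Perm (Fin k)))).subgroupOf
      (alternatingGroup (Fin n))) :=
    (isPGroup_sylowSub ι W.isPGroup').comap_of_injective _ (Subgroup.subtype_injective _)
  have hidx := not_dvd_index ι hkdef W
  have hne : (sylowSub ι (W : Subgroup (Perm (Fin k)))).subgroupOf
      (alternatingGroup (Fin n)) ≠ ⊥ := by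
    intro h
    have hcW : li ι (colShift emb 1) ∈ sylowSub ι (W : Subgroup (Perm (Fin k))) :=
      li_mem_sylowSub ι (hW (Subgroup.mem_zpowers _))
    have hcs : Perm.sign (li ι (colShift emb 1)) = 1 :=
      sign_li_eq_one ι W.isPGroup' (hW (Subgroup.mem_zpowers _))
    have h1 : (⟨_, hcs⟩ : alternatingGroup (Fin n)) ∈
        (sylowSub ι (W : Subgroup (Perm (Fin k)))).subgroupOf (alternatingGroup (Fin n)) := hcW
    rw [h, Subgroup.mem_bot] at h1
    have h2 := congrArg (fun x : alternatingGroup (Fin n) => (x : Perm (Fin n)) (ι (emb 0, 0))) h1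
    simp only [li_apply, colShift_apply, Subgroup.coe_one, Perm.one_apply] at h2
    have h3 := emb.injective (congrArg Prod.fst (ι.injective h2))
    simp at h3
  have hsc := noStronglyClosed ι hk hnk W
  rcases hp.out.eq_two_or_odd' with h2 | ho
  · subst h2
    exact group_isSimple _ hp' hidx hne hsc (normalizerGenerated_two ι hk hout W) S
  · exact group_isSimple_chain _ hp' hidx hne hsc
      (chainGenerated ι emb ho hk (hW (Subgroup.mem_zpowers _)) hout) S

end CfsgLib.Fusion
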