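import Cfsg.Agent.Lib.KnownA.AbelianAltSylow

/-!
The abelian Sylow subgroups of alternating groups: exactly those below degree `p²`.
-/

set_option autoImplicit false
set_option linter.style.haveILetI false

namespace CfsgLib.Fusion

open CfsgLib.KnownA.AltSylow

/-- Products of disjoint `p`-cycles form an abelian Sylow subgroup below degree `p²`. -/
theorem exists_abelian_sylow_alt {n p : ℕ} [hp : Fact p.Prime] (hp2 : p ≠ 2) (hn2 : 2 ≤ n)
    (hn : n < p ^ 2) :
    ∃ Q : Sylow p (alternatingGroup (Fin n)),
      ∀ x ∈ (Q : Subgroup (alternatingGroup (Fin n))), ∀ y ∈ (Q : Subgroup (alternatingGroup (Fin n))),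
        x * y = y * x := by
  classical
  set k := n / p with hkdef
  obtain ⟨e⟩ : Nonempty (Fin k × ZMod p ↪ Fin n) :=
    Function.Embedding.nonempty_of_card_le (by simp [hkdef, Nat.div_mul_le_self])
  let f : Fin k × ZMod p ≃ Set.range e := Equiv.ofInjective e e.injective
  let E : Equiv.Perm (Fin k × ZMod p) →* Equiv.Perm (Fin n) := Equiv.Perm.extendDomainHom f
  have hE : Function.Injective E := Equiv.Perm.extendDomainHom_injective f
  have hodd : Odd p := hp.out.odd_of_ne_two hp2
  have hs : ∀ v, E (shift k p v) ∈ alternatingGroup (Fin n) := fun v => by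
    rw [Equiv.Perm.mem_alternatingGroup, show Equiv.Perm.sign (E (shift k p v)) =
      Equiv.Perm.sign (shift k p v) from Equiv.Perm.sign_extendDomain _ f]
    have h1 : Equiv.Perm.sign (shift k p v) ^ p = 1 := by
      rw [← map_pow, ← map_pow, show v ^ p = 1 from ?_, map_one, map_one]
      apply Multiplicative.toAdd.injective
      funext i
      simp
    rcases Int.units_eq_one_or (Equiv.Perm.sign (shift k p v)) with h | h
    · exact h
    · rw [h, hodd.neg_one_pow] at h1
      exact absurd h1 (by decide)
  let φ : Multiplicative (Fin k → ZMod p) →* alternatingGroup (Fin n) :=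
    (E.comp (shift k p)).codRestrict _ hs
  have hφ : Function.Injective φ := by
    intro v w h
    have h' : shift k p v = shift k p w := hE (congrArg Subtype.val h)
    apply Multiplicative.toAdd.injective
    funext i
    have := congrArg Prod.snd (congrFun (congrArg DFunLike.coe h') (i, 0))
    simpa [shift_apply] using this
  have hcard : Nat.card φ.range = p ^ Nat.factorization (Nat.card (alternatingGroup (Fin n))) p := by
    rw [← Nat.card_congr (MonoidHom.ofInjective hφ).toEquiv,
      ← (default : Sylow p (alternatingGroup (Fin n))).card_eq_multiplicity, card_sylow_alt' hn2,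
      val_of_lt_sq hn, padicValNat_primes hp2, Nat.sub_zero, Nat.card_congr Multiplicative.toAdd,
      Nat.card_fun, Nat.card_zmod, Nat.card_fin]
  refine ⟨Sylow.ofCard φ.range hcard, fun x hx y hy => ?_⟩
  change x ∈ φ.range at hx
  change y ∈ φ.range at hy
  obtain ⟨a, rfl⟩ := hx
  obtain ⟨b, rfl⟩ := hy
  rw [← map_mul, ← map_mul, mul_comm]

end CfsgLib.Fusion
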