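import Cfsg.Prelude.Def_FusionSystem
import Mathlib.GroupTheory.Subgroup.Centralizer
import Mathlib.SetTheory.Cardinal.Finite
import Mathlib.SetTheory.Cardinal.NatCard

/-!
Fusion systems: working with maps as functions `Ω → Ω`.

`IsMap F P f` says that the restriction of `f : Ω → Ω` to `P` is a map of `F` with source `P`.
`img P f` is the image of `P` under such a map, as a subgroup.
-/

set_option autoImplicit false

namespace CfsgLib.Fusion

open Cfsg Cfsg.FusionSystem Subgroup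

variable {Ω : Type*} [Group Ω] {S : Subgroup Ω} {F : FusionSystem S}
  {P Q R : Subgroup Ω} {f g : Ω → Ω}

/-- The restriction of `f` to `P` is a map of `F` with source `P`. -/
def IsMap (F : FusionSystem S) (P : Subgroup Ω) (f : Ω → Ω) : Prop :=
  ∃ φ ∈ F.Hom P, ∀ x : P, φ x = f x

/-- The image of `P` under `f` (the subgroup generated by the image set). -/
def img (P : Subgroup Ω) (f : Ω → Ω) : Subgroup Ω :=
  Subgroup.closure (f '' (P : Set Ω))

open Classical in
/-- Extension of a homomorphism defined on `P` to a function on the ambient group. -/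
noncomputable def toFun (φ : P →* Ω) : Ω → Ω :=
  fun x => if h : x ∈ P then φ ⟨x, h⟩ else 1

theorem toFun_apply (φ : P →* Ω) (x : P) : toFun φ (x : Ω) = φ x := by
  simp [toFun, x.2]

theorem toFun_of_mem (φ : P →* Ω) {x : Ω} (hx : x ∈ P) : toFun φ x = φ ⟨x, hx⟩ :=
  toFun_apply φ ⟨x, hx⟩

theorem isMap_of_hom {φ : P →* Ω} (h : φ ∈ F.Hom P) : IsMap F P (toFun φ) :=
  ⟨φ, h, fun x => (toFun_apply φ x).symm⟩

namespace IsMap

theorem mem_hom (h : IsMap F P f) {φ : P →* Ω} (hφ : ∀ x : P, φ x = f x) : φ ∈ F.Hom P := by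
  obtain ⟨ψ, hψ, hψf⟩ := h
  have : φ = ψ := MonoidHom.ext fun x => (hφ x).trans (hψf x).symm
  exact this ▸ hψ

theorem congr (h : IsMap F P f) (hfg : ∀ x ∈ P, f x = g x) : IsMap F P g := by
  obtain ⟨φ, hφ, hf⟩ := h
  exact ⟨φ, hφ, fun x => (hf x).trans (hfg x x.2)⟩

theorem le (h : IsMap F P f) : P ≤ S := by
  obtain ⟨φ, hφ, -⟩ := h
  exact (F.le_of_mem hφ).1

theorem mem (h : IsMap F P f) {x : Ω} (hx : x ∈ P) : f x ∈ S := by
  obtain ⟨φ, hφ, hf⟩ := h
  exact hf ⟨x, hx⟩ ▸ (F.le_of_mem hφ).2 ⟨x, hx⟩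

theorem map_one (h : IsMap F P f) : f 1 = 1 := by
  obtain ⟨φ, -, hf⟩ := h
  exact (hf 1).symm.trans φ.map_one

theorem map_mul (h : IsMap F P f) {x y : Ω} (hx : x ∈ P) (hy : y ∈ P) :
    f (x * y) = f x * f y := by
  obtain ⟨φ, -, hf⟩ := h
  rw [← hf ⟨x, hx⟩, ← hf ⟨y, hy⟩, ← hf ⟨x * y, P.mul_mem hx hy⟩, ← _root_.map_mul]
  rfl

theorem map_inv (h : IsMap F P f) {x : Ω} (hx : x ∈ P) : f x⁻¹ = (f x)⁻¹ := by
  obtain ⟨φ, -, hf⟩ := h
  rw [← hf ⟨x, hx⟩, ← hf ⟨x⁻¹, P.inv_mem hx⟩, ← _root_.map_inv]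
  rfl

theorem map_conj (h : IsMap F P f) {x y : Ω} (hx : x ∈ P) (hy : y ∈ P) :
    f (x * y * x⁻¹) = f x * f y * (f x)⁻¹ := by
  rw [h.map_mul (P.mul_mem hx hy) (P.inv_mem hx), h.map_mul hx hy, h.map_inv hx]

theorem map_pow (h : IsMap F P f) {x : Ω} (hx : x ∈ P) (n : ℕ) : f (x ^ n) = f x ^ n := by
  induction n with
  | zero => simp [h.map_one]
  | succ n ih => rw [pow_succ, pow_succ, h.map_mul (P.pow_mem hx n) hx, ih]

theorem inj (h : IsMap F P f) {x y : Ω} (hx : x ∈ P) (hy : y ∈ P) (hxy : f x = f y) :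
    x = y := by
  obtain ⟨φ, hφ, hf⟩ := h
  have h1 : φ ⟨x, hx⟩ = φ ⟨y, hy⟩ := ((hf ⟨x, hx⟩).trans hxy).trans (hf ⟨y, hy⟩).symm
  exact congrArg Subtype.val (F.injective_of_mem hφ h1)

theorem eq_one (h : IsMap F P f) {x : Ω} (hx : x ∈ P) (hxy : f x = 1) : x = 1 :=
  h.inj hx P.one_mem (hxy.trans h.map_one.symm)

/-- The homomorphism on `P` given by `f`. -/
def toHom (h : IsMap F P f) : P →* Ω where
  toFun x := f x
  map_one' := h.map_one
  map_mul' x y := h.map_mul x.2 y.2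

theorem toHom_apply (h : IsMap F P f) (x : P) : h.toHom x = f x := rfl

theorem toHom_mem (h : IsMap F P f) : h.toHom ∈ F.Hom P := h.mem_hom fun _ => rfl

theorem mem_img (h : IsMap F P f) {y : Ω} : y ∈ img P f ↔ ∃ x ∈ P, f x = y := by
  have hs : (f '' (P : Set Ω)) = (h.toHom.range : Set Ω) := by
    ext z
    simp [IsMap.toHom_apply]
  rw [img, hs, Subgroup.closure_eq]
  simp [IsMap.toHom_apply]

theorem range_toHom (h : IsMap F P f) : h.toHom.range = img P f := by
  ext y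
  rw [h.mem_img]
  simp [IsMap.toHom_apply]

theorem apply_mem_img (_h : IsMap F P f) {x : Ω} (hx : x ∈ P) : f x ∈ img P f :=
  Subgroup.subset_closure ⟨x, hx, rfl⟩

theorem img_le (h : IsMap F P f) : img P f ≤ S := by
  intro y hy
  obtain ⟨x, hx, rfl⟩ := h.mem_img.1 hy
  exact h.mem hx

theorem comp (hf : IsMap F P f) (hg : IsMap F Q g) (hmem : ∀ x ∈ P, f x ∈ Q) :
    IsMap F P (fun x => g (f x)) := by
  refine ⟨_, F.comp_mem hf.toHom_mem hg.toHom_mem fun x => hmem x x.2, fun x => ?_⟩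
  rfl

/-- The isomorphism of `P` onto its image. -/
noncomputable def equivImg (h : IsMap F P f) : P ≃* img P f :=
  MulEquiv.ofBijective
    ({ toFun := fun x => (⟨f x, h.apply_mem_img x.2⟩ : img P f)
       map_one' := Subtype.ext h.map_one
       map_mul' := fun x y => Subtype.ext (h.map_mul x.2 y.2) } : P →* img P f)
    ⟨fun x y hxy => Subtype.ext (h.inj x.2 y.2 (congrArg Subtype.val hxy)),
     fun y => by
      obtain ⟨x, hx, hxy⟩ := h.mem_img.1 y.2
      exact ⟨⟨x, hx⟩, Subtype.ext hxy⟩⟩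

theorem coe_equivImg (h : IsMap F P f) (x : P) : (h.equivImg x : Ω) = f x := rfl

theorem card_img (h : IsMap F P f) : Nat.card (img P f) = Nat.card P :=
  (Nat.card_congr h.equivImg.toEquiv).symm

theorem exists_inv (h : IsMap F P f) :
    ∃ g : Ω → Ω, IsMap F (img P f) g ∧ (∀ x ∈ P, g (f x) = x) ∧
      (∀ y ∈ img P f, g y ∈ P ∧ f (g y) = y) ∧ img (img P f) g = P := by
  obtain ⟨ψ, hψ, hψx⟩ := F.inv_mem h.toHom_mem
  have e : h.toHom.range = img P f := h.range_toHom
  have hg : IsMap F h.toHom.range (toFun ψ) := isMap_of_hom hψ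
  have hgx : ∀ x ∈ P, toFun ψ (f x) = x := fun x hx => by
    have := hψx ⟨x, hx⟩
    rw [← toFun_apply ψ] at this
    exact this
  refine ⟨toFun ψ, e ▸ hg, hgx, fun y hy => ?_, ?_⟩
  · obtain ⟨x, hx, rfl⟩ := h.mem_img.1 hy
    rw [hgx x hx]
    exact ⟨hx, rfl⟩
  · ext z
    rw [(e ▸ hg : IsMap F (img P f) (toFun ψ)).mem_img]
    constructor
    · rintro ⟨y, hy, rfl⟩
      obtain ⟨x, hx, rfl⟩ := h.mem_img.1 hy
      rwa [hgx x hx]
    · exact fun hz => ⟨f z, h.apply_mem_img hz, hgx z hz⟩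

end IsMap

theorem isMap_conj (F : FusionSystem S) {x : Ω} (hP : P ≤ S) (hx : x ∈ S) :
    IsMap F P (fun y => x * y * x⁻¹) :=
  ⟨conjHom P x, F.conj_mem hP hx, fun _ => rfl⟩

theorem isMap_id (F : FusionSystem S) (hP : P ≤ S) : IsMap F P id :=
  (isMap_conj F hP S.one_mem).congr fun y _ => by simp

theorem IsMap.mono (h : IsMap F P f) (hQ : Q ≤ P) : IsMap F Q f :=
  (isMap_id F (hQ.trans h.le)).comp h fun _ hx => hQ hx

theorem img_mono (hQ : Q ≤ P) : img Q f ≤ img P f :=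
  Subgroup.closure_mono (Set.image_mono hQ)

theorem img_congr (hfg : ∀ x ∈ P, f x = g x) : img P f = img P g := by
  unfold img
  rw [Set.image_congr hfg]

theorem img_comp_eq (hf : IsMap F P f) (hg : IsMap F Q g) (hmem : ∀ x ∈ P, f x ∈ Q) :
    img P (fun x => g (f x)) = img (img P f) g := by
  have hle : img P f ≤ Q := by
    intro y hy
    obtain ⟨x, hx, rfl⟩ := hf.mem_img.1 hy
    exact hmem x hx
  ext z
  rw [(hf.comp hg hmem).mem_img, (hg.mono hle).mem_img]
  constructor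
  · rintro ⟨x, hx, rfl⟩
    exact ⟨f x, hf.apply_mem_img hx, rfl⟩
  · rintro ⟨y, hy, rfl⟩
    obtain ⟨x, hx, rfl⟩ := hf.mem_img.1 hy
    exact ⟨x, hx, rfl⟩

/-! ### Conjugacy -/

theorem isConj_iff : F.IsConj P Q ↔ ∃ f, IsMap F P f ∧ img P f = Q := by
  constructor
  · rintro ⟨φ, hφ, rfl⟩
    refine ⟨toFun φ, isMap_of_hom hφ, ?_⟩
    rw [← (isMap_of_hom hφ).range_toHom]
    congr 1
    ext x
    rw [IsMap.toHom_apply, toFun_apply]
  · rintro ⟨f, hf, rfl⟩
    exact ⟨_, hf.toHom_mem, hf.range_toHom⟩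

theorem IsMap.isConj (h : IsMap F P f) : F.IsConj P (img P f) := isConj_iff.2 ⟨f, h, rfl⟩

theorem isConj_refl (hP : P ≤ S) : F.IsConj P P :=
  isConj_iff.2 ⟨id, isMap_id F hP, by simp [img]⟩

theorem isConj_symm (h : F.IsConj P Q) : F.IsConj Q P := by
  obtain ⟨f, hf, rfl⟩ := isConj_iff.1 h
  obtain ⟨g, hg, -, -, hgi⟩ := hf.exists_inv
  exact isConj_iff.2 ⟨g, hg, hgi⟩

theorem isConj_trans (h : F.IsConj P Q) (h' : F.IsConj Q R) : F.IsConj P R := by
  obtain ⟨f, hf, rfl⟩ := isConj_iff.1 h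
  obtain ⟨g, hg, rfl⟩ := isConj_iff.1 h'
  exact isConj_iff.2 ⟨_, hf.comp hg fun x hx => hf.apply_mem_img hx,
    img_comp_eq hf hg fun x hx => hf.apply_mem_img hx⟩

theorem isConj_le_left (h : F.IsConj P Q) : P ≤ S := by
  obtain ⟨φ, hφ, -⟩ := h
  exact (F.le_of_mem hφ).1

theorem isConj_le_right (h : F.IsConj P Q) : Q ≤ S :=
  isConj_le_left (isConj_symm h)

theorem isConj_card (h : F.IsConj P Q) : Nat.card Q = Nat.card P := by
  obtain ⟨f, hf, rfl⟩ := isConj_iff.1 h
  exact hf.card_img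

/-! ### Finiteness -/

theorem finite_of_le [Finite S] (hP : P ≤ S) : Finite P :=
  Finite.of_injective (Subgroup.inclusion hP) (Subgroup.inclusion_injective hP)

theorem isPGroup_of_le {p : ℕ} (hS : IsPGroup p S) (hP : P ≤ S) : IsPGroup p P :=
  hS.to_le hP

theorem finite_subgroups_le (S : Subgroup Ω) [Finite S] :
    {P : Subgroup Ω | P ≤ S}.Finite := by
  apply Set.Finite.of_finite_image (f := fun P => P.subgroupOf S) (Set.toFinite _)
  intro P hP Q hQ h
  have h2 := congrArg (fun K : Subgroup S => K.map S.subtype) h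
  have hP' : P ≤ S := hP
  have hQ' : Q ≤ S := hQ
  simpa [Subgroup.subgroupOf_map_subtype, inf_eq_left.2 hP', inf_eq_left.2 hQ'] using h2

theorem eq_of_le_of_card_le [Finite Q] (h : P ≤ Q) (hc : Nat.card Q ≤ Nat.card P) : P = Q :=
  Subgroup.eq_of_le_of_card_ge h hc

/-! ### The automorphism group of a subgroup in the system -/

theorem autGroup_mem_iff (hP : P ≤ S) {α : MulAut P} :
    α ∈ F.autGroup P ↔ P.subtype.comp α.toMonoidHom ∈ F.Hom P := by
  let H : Subgroup (MulAut P) :=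
    { carrier := {α | P.subtype.comp α.toMonoidHom ∈ F.Hom P}
      one_mem' := (isMap_id F hP).mem_hom fun _ => rfl
      mul_mem' := by
        intro α β hα hβ
        have h := (isMap_of_hom hβ).comp (isMap_of_hom hα) fun x hx => by
          rw [toFun_of_mem _ hx]
          exact (β ⟨x, hx⟩).2
        refine h.mem_hom fun x => ?_
        have h1 : toFun (P.subtype.comp β.toMonoidHom) (x : Ω) = ((β x : P) : Ω) :=
          toFun_apply _ x
        rw [h1, toFun_apply]
        rfl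
      inv_mem' := by
        intro α hα
        obtain ⟨g, hg, hgx, -, -⟩ := (isMap_of_hom hα).exists_inv
        have hsrc : img P (toFun (P.subtype.comp α.toMonoidHom)) = P := by
          ext y
          rw [(isMap_of_hom hα).mem_img]
          constructor
          · rintro ⟨x, hx, rfl⟩
            rw [toFun_of_mem _ hx]
            exact (α ⟨x, hx⟩).2
          · intro hy
            refine ⟨(α.symm ⟨y, hy⟩ : P), SetLike.coe_mem _, ?_⟩
            rw [toFun_apply]
            simp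
        rw [hsrc] at hg
        refine hg.mem_hom fun x => ?_
        have h1 := hgx (α⁻¹ x : P) (SetLike.coe_mem _)
        rw [toFun_apply] at h1
        have h2 : (P.subtype.comp α.toMonoidHom) (α⁻¹ x) = (x : Ω) := by
          simp
        rw [h2] at h1
        exact h1.symm }
  have : F.autGroup P = H := by
    apply le_antisymm
    · exact (Subgroup.closure_le _).2 fun α hα => hα
    · exact fun α hα => Subgroup.subset_closure hα
  rw [this]
  rfl

theorem autGroup_eq_bot (hP : ¬ P ≤ S) : F.autGroup P = ⊥ := by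
  rw [FusionSystem.autGroup, Subgroup.closure_eq_bot_iff]
  intro α hα
  exact absurd (F.le_of_mem hα).1 hP

theorem autGroup_iff_isMap (hP : P ≤ S) {α : MulAut P}
    (hf : ∀ x : P, ((α x : P) : Ω) = f x) : α ∈ F.autGroup P ↔ IsMap F P f := by
  rw [autGroup_mem_iff hP]
  exact ⟨fun h => ⟨_, h, hf⟩, fun h => h.mem_hom hf⟩

theorem isMap_of_autGroup (hP : P ≤ S) {α : MulAut P} (hα : α ∈ F.autGroup P) :
    IsMap F P (toFun (P.subtype.comp α.toMonoidHom)) :=
  isMap_of_hom ((autGroup_mem_iff hP).1 hα)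

theorem toFun_aut_apply (α : MulAut P) {x : Ω} (hx : x ∈ P) :
    toFun (P.subtype.comp α.toMonoidHom) x = ((α ⟨x, hx⟩ : P) : Ω) :=
  toFun_of_mem _ hx

theorem img_toFun_aut (α : MulAut P) :
    img P (toFun (P.subtype.comp α.toMonoidHom)) = P := by
  have hs : (toFun (P.subtype.comp α.toMonoidHom)) '' (P : Set Ω) = (P : Set Ω) := by
    ext y
    constructor
    · rintro ⟨x, hx, rfl⟩
      rw [toFun_aut_apply _ hx]
      exact (α _).2
    · intro hy
      refine ⟨(α.symm ⟨y, hy⟩ : P), SetLike.coe_mem _, ?_⟩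
      rw [toFun_apply]
      simp
  rw [img, hs, Subgroup.closure_eq]

/-- The automorphism of `P` given by a map of `F` carrying `P` onto itself. -/
noncomputable def IsMap.toAut (h : IsMap F P f) (hi : img P f = P) : MulAut P :=
  h.equivImg.trans (MulEquiv.subgroupCongr hi)

theorem IsMap.toAut_apply (h : IsMap F P f) (hi : img P f = P) (x : P) :
    ((h.toAut hi x : P) : Ω) = f x := rfl

theorem IsMap.toAut_mem (h : IsMap F P f) (hi : img P f = P) : h.toAut hi ∈ F.autGroup P :=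
  (autGroup_iff_isMap h.le (h.toAut_apply hi)).2 h

/-! ### Automorphisms induced by a subgroup -/

theorem mem_autInducedBy_iff {K : Subgroup Ω} {α : MulAut P} :
    α ∈ autInducedBy K P ↔ ∃ g ∈ K, ∀ x : P, ((α x : P) : Ω) = g * (x : Ω) * g⁻¹ := by
  let H : Subgroup (MulAut P) :=
    { carrier := {α | ∃ g ∈ K, ∀ x : P, ((α x : P) : Ω) = g * (x : Ω) * g⁻¹}
      one_mem' := ⟨1, K.one_mem, fun x => by simp⟩
      mul_mem' := by
        rintro α β ⟨a, ha, hα⟩ ⟨b, hb, hβ⟩
        refine ⟨a * b, K.mul_mem ha hb, fun x => ?_⟩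
        rw [MulAut.mul_apply, hα, hβ]
        group
      inv_mem' := by
        rintro α ⟨a, ha, hα⟩
        refine ⟨a⁻¹, K.inv_mem ha, fun x => ?_⟩
        have h := hα (α⁻¹ x)
        rw [MulAut.apply_inv_self] at h
        rw [h]
        group }
  have : autInducedBy K P = H := by
    apply le_antisymm
    · exact (Subgroup.closure_le _).2 fun α hα => hα
    · exact fun α hα => Subgroup.subset_closure hα
  rw [this]
  rfl

theorem mem_normalizer_of_aut {α : MulAut P} {a : Ω}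
    (h : ∀ x : P, ((α x : P) : Ω) = a * (x : Ω) * a⁻¹) :
    a ∈ Subgroup.normalizer (P : Set Ω) := by
  intro n
  refine ⟨fun hn => h ⟨n, hn⟩ ▸ (α ⟨n, hn⟩).2, fun hn => ?_⟩
  have h1 := h (α.symm ⟨a * n * a⁻¹, hn⟩)
  rw [MulEquiv.apply_symm_apply] at h1
  have h2 : ((α.symm ⟨a * n * a⁻¹, hn⟩ : P) : Ω) = n :=
    mul_left_cancel (mul_right_cancel h1).symm
  exact h2 ▸ SetLike.coe_mem _

theorem autInducedBy_le_autGroup (hP : P ≤ S) : autInducedBy S P ≤ F.autGroup P := by
  intro α hα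
  obtain ⟨a, ha, h⟩ := mem_autInducedBy_iff.1 hα
  exact (autGroup_iff_isMap hP h).2 (isMap_conj F hP ha)

theorem inn_le_autInducedBy (hP : P ≤ S) : Inn P ≤ autInducedBy S P := by
  rintro _ ⟨a, rfl⟩
  exact mem_autInducedBy_iff.2 ⟨a, hP a.2, fun x => rfl⟩

theorem inn_le_autGroup (hP : P ≤ S) : Inn P ≤ F.autGroup P :=
  (inn_le_autInducedBy hP).trans (autInducedBy_le_autGroup hP)

theorem autInducedBy_eq_map (K P : Subgroup Ω) :
    autInducedBy K P =
      ((K ⊓ Subgroup.normalizer (P : Set Ω)).subgroupOf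
        (Subgroup.normalizer (P : Set Ω))).map P.normalizerMonoidHom := by
  ext α
  rw [mem_autInducedBy_iff, Subgroup.mem_map]
  constructor
  · rintro ⟨a, ha, h⟩
    refine ⟨⟨a, mem_normalizer_of_aut h⟩, ⟨ha, mem_normalizer_of_aut h⟩, ?_⟩
    ext x
    exact (h x).symm
  · rintro ⟨a, ha, rfl⟩
    exact ⟨a, ha.1, fun x => rfl⟩

theorem card_normalizerIn_eq (S P : Subgroup Ω) :
    Nat.card (normalizerIn S P) =
      Nat.card (centralizerIn S P) * Nat.card (autInducedBy S P) := by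
  let N : Subgroup Ω := Subgroup.normalizer (P : Set Ω)
  have hle : ∀ {a : Ω}, a ∈ normalizerIn S P → a ∈ N := fun h => h.2
  let ρ : normalizerIn S P →* MulAut P :=
    P.normalizerMonoidHom.comp (Subgroup.inclusion (fun a ha => hle ha))
  have hrange : ρ.range = autInducedBy S P := by
    ext α
    rw [mem_autInducedBy_iff]
    constructor
    · rintro ⟨a, rfl⟩
      exact ⟨a, a.2.1, fun x => rfl⟩
    · rintro ⟨a, ha, h⟩
      refine ⟨⟨a, ha, mem_normalizer_of_aut h⟩, ?_⟩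
      ext x
      exact (h x).symm
  have hker : ρ.ker = (centralizerIn S P).subgroupOf (normalizerIn S P) := by
    ext a
    rw [MonoidHom.mem_ker, Subgroup.mem_subgroupOf]
    constructor
    · intro h
      refine ⟨a.2.1, fun x hx => ?_⟩
      have h1 : ((ρ a ⟨x, hx⟩ : P) : Ω) = x := by rw [h]; rfl
      have h2 : (a : Ω) * x * (a : Ω)⁻¹ = x := h1
      exact (mul_inv_eq_iff_eq_mul.1 h2).symm
    · intro h
      ext x
      show (a : Ω) * x * (a : Ω)⁻¹ = x
      rw [← h.2 (x : Ω) x.2, mul_inv_cancel_right]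
  have hcle : centralizerIn S P ≤ normalizerIn S P :=
    le_inf inf_le_left (inf_le_right.trans (Subgroup.centralizer_le_normalizer (s := (P : Set Ω))))
  have h1 := Subgroup.card_mul_index ρ.ker
  rw [Subgroup.index_ker, hrange, hker,
    Nat.card_congr (Subgroup.subgroupOfEquivOfLe hcle).toEquiv] at h1
  exact h1.symm

/-! ### Transport of automorphisms along a map -/

theorem IsMap.congr_mem_autGroup (h : IsMap F P f) {α : MulAut P} (hα : α ∈ F.autGroup P) :
    MulAut.congr h.equivImg α ∈ F.autGroup (img P f) := by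
  obtain ⟨g, hg, hgx, hgy, -⟩ := h.exists_inv
  have ha := isMap_of_autGroup h.le hα
  have h1 := hg.comp ha fun y hy => (hgy y hy).1
  have h2 := h1.comp h fun y hy => by
    rw [toFun_aut_apply _ (hgy y hy).1]
    exact (α _).2
  refine (autGroup_iff_isMap h.img_le fun y => ?_).2 h2
  have e1 : ((h.equivImg.symm y : P) : Ω) = g y := by
    conv_rhs => rw [← h.equivImg.apply_symm_apply y]
    rw [IsMap.coe_equivImg, hgx _ (SetLike.coe_mem _)]
  show f ((α (h.equivImg.symm y) : P) : Ω) = _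
  rw [toFun_aut_apply _ (hgy y y.2).1]
  congr 3
  exact Subtype.ext e1

theorem IsMap.congr_symm_mem_autGroup (h : IsMap F P f) {β : MulAut (img P f)}
    (hβ : β ∈ F.autGroup (img P f)) : (MulAut.congr h.equivImg).symm β ∈ F.autGroup P := by
  obtain ⟨g, hg, hgx, hgy, -⟩ := h.exists_inv
  have hb := isMap_of_autGroup h.img_le hβ
  have h1 := h.comp hb fun x hx => h.apply_mem_img hx
  have h2 := h1.comp hg fun x hx => by
    rw [toFun_aut_apply _ (h.apply_mem_img hx)]
    exact (β _).2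
  refine (autGroup_iff_isMap h.le fun x => ?_).2 h2
  show ((h.equivImg.symm (β (h.equivImg x)) : P) : Ω) = _
  rw [toFun_aut_apply _ (h.apply_mem_img x.2)]
  have e : f ((h.equivImg.symm (β (h.equivImg x)) : P) : Ω) = ((β (h.equivImg x) : img P f) : Ω) := by
    rw [← IsMap.coe_equivImg h, MulEquiv.apply_symm_apply]
  conv_lhs => rw [← hgx _ (SetLike.coe_mem (h.equivImg.symm (β (h.equivImg x)))), e]
  rfl

theorem IsMap.map_autGroup (h : IsMap F P f) :
    (F.autGroup P).map (MulAut.congr h.equivImg).toMonoidHom = F.autGroup (img P f) := by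
  ext β
  constructor
  · rintro ⟨α, hα, rfl⟩
    exact h.congr_mem_autGroup hα
  · intro hβ
    exact ⟨_, h.congr_symm_mem_autGroup hβ, MulEquiv.apply_symm_apply _ β⟩

theorem isConj_card_autGroup (h : F.IsConj P Q) :
    Nat.card (F.autGroup Q) = Nat.card (F.autGroup P) := by
  obtain ⟨f, hf, rfl⟩ := isConj_iff.1 h
  rw [← hf.map_autGroup]
  exact Subgroup.card_map_of_injective (MulAut.congr hf.equivImg).injective

/-! ### Extenders and receptivity -/

theorem mem_extender_iff (h : IsMap F P f) {φ : P →* Ω} (hφ : ∀ x : P, φ x = f x) {a : Ω} :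
    a ∈ extender S P φ ↔ a ∈ S ∧ a ∈ Subgroup.normalizer (P : Set Ω) ∧
      ∃ b ∈ S, ∀ x ∈ P, f (a * x * a⁻¹) = b * f x * b⁻¹ := by
  let H : Subgroup Ω :=
    { carrier := {a | a ∈ S ∧ a ∈ Subgroup.normalizer (P : Set Ω) ∧
        ∃ b ∈ S, ∀ x ∈ P, f (a * x * a⁻¹) = b * f x * b⁻¹}
      one_mem' := ⟨S.one_mem, Subgroup.one_mem _, 1, S.one_mem, fun x _ => by simp⟩
      mul_mem' := by
        rintro a a' ⟨ha, han, b, hb, h⟩ ⟨ha', han', b', hb', h'⟩
        refine ⟨S.mul_mem ha ha', mul_mem han han', b * b', S.mul_mem hb hb', fun x hx => ?_⟩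
        rw [show a * a' * x * (a * a')⁻¹ = a * (a' * x * a'⁻¹) * a⁻¹ by group,
          h _ ((han' x).1 hx), h' x hx]
        group
      inv_mem' := by
        rintro a ⟨ha, han, b, hb, h⟩
        refine ⟨S.inv_mem ha, inv_mem han, b⁻¹, S.inv_mem hb, fun x hx => ?_⟩
        have hx' : a⁻¹ * x * a ∈ P := (Subgroup.mem_normalizer_iff''.1 han x).1 hx
        have h1 := h _ hx'
        rw [show a * (a⁻¹ * x * a) * a⁻¹ = x by group] at h1
        rw [inv_inv, h1]
        group }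
  have hs : extender S P φ = H := by
    apply le_antisymm
    · refine (Subgroup.closure_le _).2 ?_
      rintro a ⟨ha, han, b, hb, h'⟩
      refine ⟨ha, han, b, hb, fun x hx => ?_⟩
      have hc := h' ⟨x, hx⟩ ((han x).1 hx)
      rw [hφ, hφ] at hc
      exact hc
    · rintro a ⟨ha, han, b, hb, h'⟩
      refine Subgroup.subset_closure ⟨ha, han, b, hb, fun x hx => ?_⟩
      rw [hφ, hφ]
      exact h' x x.2
  rw [hs]
  rfl

/-- The extension property of a receptive subgroup, for any subgroup `N` inside the extender. -/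
theorem receptive_extend (hQ : F.IsReceptive Q) (h : IsMap F P f) (hi : img P f = Q)
    (hPN : P ≤ R)
    (hN : ∀ a ∈ R, a ∈ S ∧ a ∈ Subgroup.normalizer (P : Set Ω) ∧
      ∃ b ∈ S, ∀ x ∈ P, f (a * x * a⁻¹) = b * f x * b⁻¹) :
    ∃ g, IsMap F R g ∧ ∀ x ∈ P, g x = f x := by
  obtain ⟨ψ, hψ, hψx⟩ := hQ.2 P h.toHom h.toHom_mem (h.range_toHom.trans hi)
  have hRE : R ≤ extender S P h.toHom := fun a ha =>
    (mem_extender_iff h h.toHom_apply).2 (hN a ha)
  refine ⟨toFun ψ, (isMap_of_hom hψ).mono hRE, fun x hx => ?_⟩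
  rw [toFun_of_mem _ (hRE (hPN hx)), hψx x hx (hRE (hPN hx))]
  rfl

theorem receptive_of_extend (hQ : Q ≤ S)
    (hext : ∀ (P : Subgroup Ω) (f : Ω → Ω), IsMap F P f → img P f = Q →
      ∀ R : Subgroup Ω, P ≤ R → (∀ a ∈ R, a ∈ S ∧ a ∈ Subgroup.normalizer (P : Set Ω) ∧
        ∃ b ∈ S, ∀ x ∈ P, f (a * x * a⁻¹) = b * f x * b⁻¹) →
      ∃ g, IsMap F R g ∧ ∀ x ∈ P, g x = f x) :
    F.IsReceptive Q := by
  refine ⟨hQ, fun P φ hφ hr => ?_⟩
  have hm := isMap_of_hom hφ
  have hi : img P (toFun φ) = Q := by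
    rw [← hm.range_toHom, ← hr]
    congr 1
    ext x
    rw [IsMap.toHom_apply, toFun_apply]
  have hP : P ≤ extender S P φ := fun a ha =>
    (mem_extender_iff hm fun x => (toFun_apply φ x).symm).2
      ⟨hm.le ha, Subgroup.le_normalizer ha, _, hm.mem ha, fun x hx => hm.map_conj ha hx⟩
  obtain ⟨g, hg, hgx⟩ := hext P _ hm hi (extender S P φ) hP fun a ha =>
    (mem_extender_iff hm fun x => (toFun_apply φ x).symm).1 ha
  refine ⟨hg.toHom, hg.toHom_mem, fun x hP hN => ?_⟩
  rw [IsMap.toHom_apply, hgx x hP, toFun_of_mem _ hP]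

end CfsgLib.Fusion
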