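import Cfsg.Agent.Lib.Fusion.Marks
import Cfsg.Agent.Lib.Fusion.Saturation
import Cfsg.Agent.Lib.Fusion.Alperin

/-!
Bisets of fusion systems: a finite `S × S`-set whose stabilizers are graphs of maps of the system
and whose numbers of fixed points depend only on the class of the source; for a saturated system
one of size prime to `p` over `S` (the characteristic biset).
-/

set_option autoImplicit false
set_option linter.style.haveILetI false
set_option linter.unusedVariables false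
set_option linter.unusedSectionVars false

namespace CfsgLib.Fusion

open Cfsg Cfsg.FusionSystem Subgroup MulAction

universe u

variable {Ω : Type u} [Group Ω] {S : Subgroup Ω} {F : FusionSystem S}
  {P Q : Subgroup Ω} {f g ψ₁ ψ₂ : Ω → Ω} {A₁ A₂ : Subgroup Ω} {p : ℕ}


/-! ### Graphs -/

/-- The first projection of a subgroup of `S × S`. -/
def pr₁ (D : Subgroup (↥S × ↥S)) : Subgroup Ω := D.map (S.subtype.comp (MonoidHom.fst S S))

/-- The second projection of a subgroup of `S × S`. -/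
def pr₂ (D : Subgroup (↥S × ↥S)) : Subgroup Ω := D.map (S.subtype.comp (MonoidHom.snd S S))

theorem mem_pr₁ {D : Subgroup (↥S × ↥S)} {x : Ω} : x ∈ pr₁ D ↔ ∃ q ∈ D, (q.1 : Ω) = x :=
  Subgroup.mem_map

theorem mem_pr₂ {D : Subgroup (↥S × ↥S)} {x : Ω} : x ∈ pr₂ D ↔ ∃ q ∈ D, (q.2 : Ω) = x :=
  Subgroup.mem_map

theorem pr₁_le (D : Subgroup (↥S × ↥S)) : pr₁ D ≤ S := by
  rintro _ ⟨q, -, rfl⟩
  exact q.1.2

theorem pr₂_le (D : Subgroup (↥S × ↥S)) : pr₂ D ≤ S := by
  rintro _ ⟨q, -, rfl⟩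
  exact q.2.2

/-- `D` is the graph of a map of `F`. -/
def IsGraph (F : FusionSystem S) (D : Subgroup (↥S × ↥S)) : Prop :=
  ∃ f, IsMap F (pr₁ D) f ∧ ∀ q ∈ D, (q.2 : Ω) = f q.1

/-- The graph of a map. -/
def graphOf (hf : IsMap F P f) : Subgroup (↥S × ↥S) where
  carrier := {q | (q.1 : Ω) ∈ P ∧ (q.2 : Ω) = f q.1}
  one_mem' := ⟨P.one_mem, hf.map_one.symm⟩
  mul_mem' := fun {a b} ha hb => ⟨P.mul_mem ha.1 hb.1, by
    show (a.2 : Ω) * b.2 = f (a.1 * b.1)
    rw [hf.map_mul ha.1 hb.1, ha.2, hb.2]⟩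
  inv_mem' := fun {a} ha => ⟨P.inv_mem ha.1, by
    show (a.2 : Ω)⁻¹ = f (a.1 : Ω)⁻¹
    rw [hf.map_inv ha.1, ha.2]⟩

theorem mem_graphOf {hf : IsMap F P f} {q : (↥S × ↥S)} :
    q ∈ graphOf hf ↔ (q.1 : Ω) ∈ P ∧ (q.2 : Ω) = f q.1 := Iff.rfl

theorem pr₁_graphOf (hf : IsMap F P f) : pr₁ (graphOf hf) = P := by
  ext x
  rw [mem_pr₁]
  exact ⟨fun ⟨q, hq, hqx⟩ => hqx ▸ hq.1,
    fun hx => ⟨(⟨x, hf.le hx⟩, ⟨f x, hf.mem hx⟩), ⟨hx, rfl⟩, rfl⟩⟩

theorem isGraph_graphOf (hf : IsMap F P f) : IsGraph F (graphOf hf) :=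
  ⟨f, by rwa [pr₁_graphOf], fun q hq => hq.2⟩

/-- The diagonal of `P`. -/
def diagOf (F : FusionSystem S) (hP : P ≤ S) : Subgroup (↥S × ↥S) := graphOf (isMap_id F hP)

theorem IsGraph.eq_of_fst {D : Subgroup (↥S × ↥S)} (hD : IsGraph F D) {q r : (↥S × ↥S)} (hq : q ∈ D)
    (hr : r ∈ D) (h : q.1 = r.1) : q = r := by
  obtain ⟨f, hf, hfx⟩ := hD
  exact Prod.ext h (Subtype.ext (by rw [hfx q hq, hfx r hr, h]))

theorem IsGraph.eq_one_of_fst {D : Subgroup (↥S × ↥S)} (hD : IsGraph F D) {s : S}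
    (h : ((1, s) : (↥S × ↥S)) ∈ D) : s = 1 :=
  congrArg Prod.snd (hD.eq_of_fst h D.one_mem rfl)

theorem IsGraph.eq_one_of_snd {D : Subgroup (↥S × ↥S)} (hD : IsGraph F D) {s : S}
    (h : ((s, 1) : (↥S × ↥S)) ∈ D) : s = 1 := by
  obtain ⟨f, hf, hfx⟩ := hD
  exact Subtype.ext (hf.eq_one (mem_pr₁.2 ⟨_, h, rfl⟩) (hfx _ h).symm)

theorem IsGraph.card_pr₁ {D : Subgroup (↥S × ↥S)} (hD : IsGraph F D) :
    Nat.card (pr₁ D) = Nat.card D := by
  refine (Nat.card_eq_of_bijective (fun q : D => (⟨(q.1.1 : Ω), mem_pr₁.2 ⟨q, q.2, rfl⟩⟩ : pr₁ D))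
    ⟨fun q r h => ?_, fun x => ?_⟩).symm
  · exact Subtype.ext (hD.eq_of_fst q.2 r.2 (Subtype.ext (congrArg Subtype.val h :)))
  · obtain ⟨q, hq, hqx⟩ := mem_pr₁.1 x.2
    exact ⟨⟨q, hq⟩, Subtype.ext hqx⟩

theorem IsGraph.mono {D E : Subgroup (↥S × ↥S)} (hE : IsGraph F E) (h : D ≤ E) : IsGraph F D := by
  obtain ⟨f, hf, hfx⟩ := hE
  exact ⟨f, hf.mono (Subgroup.map_mono h), fun q hq => hfx q (h hq)⟩

/-! ### Transport of graphs by a pair of maps -/

/-- The hom `(x, y) ↦ (ψ₁ x, ψ₂ y)` on a subgroup of `S × S`. -/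
def pairHom (h₁ : IsMap F A₁ ψ₁) (h₂ : IsMap F A₂ ψ₂) (N : Subgroup (↥S × ↥S))
    (hN₁ : ∀ q ∈ N, (q.1 : Ω) ∈ A₁) (hN₂ : ∀ q ∈ N, (q.2 : Ω) ∈ A₂) : N →* (↥S × ↥S) where
  toFun q := (⟨ψ₁ q.1.1, h₁.mem (hN₁ q q.2)⟩, ⟨ψ₂ q.1.2, h₂.mem (hN₂ q q.2)⟩)
  map_one' := Prod.ext (Subtype.ext h₁.map_one) (Subtype.ext h₂.map_one)
  map_mul' q r := Prod.ext (Subtype.ext (h₁.map_mul (hN₁ q q.2) (hN₁ r r.2)))
    (Subtype.ext (h₂.map_mul (hN₂ q q.2) (hN₂ r r.2)))

section Transport

variable (h₁ : IsMap F A₁ ψ₁) (h₂ : IsMap F A₂ ψ₂) {N : Subgroup (↥S × ↥S)}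
  (hN₁ : ∀ q ∈ N, (q.1 : Ω) ∈ A₁) (hN₂ : ∀ q ∈ N, (q.2 : Ω) ∈ A₂)

theorem pairHom_injective : Function.Injective (pairHom h₁ h₂ N hN₁ hN₂) := fun q r h =>
  Subtype.ext (Prod.ext
    (Subtype.ext (h₁.inj (hN₁ q q.2) (hN₁ r r.2) (congrArg (fun z : (↥S × ↥S) => (z.1 : Ω)) h)))
    (Subtype.ext (h₂.inj (hN₂ q q.2) (hN₂ r r.2) (congrArg (fun z : (↥S × ↥S) => (z.2 : Ω)) h))))

theorem card_map_pairHom (D : Subgroup (↥S × ↥S)) (hD : D ≤ N) :
    Nat.card ((D.subgroupOf N).map (pairHom h₁ h₂ N hN₁ hN₂)) = Nat.card D := by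
  rw [Subgroup.card_map_of_injective (pairHom_injective h₁ h₂ hN₁ hN₂),
    Nat.card_congr (Subgroup.subgroupOfEquivOfLe hD).toEquiv]

theorem isGraph_map_pairHom {D : Subgroup (↥S × ↥S)} (hD : D ≤ N) (hg : IsGraph F D) :
    IsGraph F ((D.subgroupOf N).map (pairHom h₁ h₂ N hN₁ hN₂)) ∧
      F.IsConj (pr₁ D) (pr₁ ((D.subgroupOf N).map (pairHom h₁ h₂ N hN₁ hN₂))) := by
  obtain ⟨f, hf, hfx⟩ := hg
  set D' := (D.subgroupOf N).map (pairHom h₁ h₂ N hN₁ hN₂)
  have hA : pr₁ D ≤ A₁ := by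
    rintro _ ⟨q, hq, rfl⟩
    exact hN₁ q (hD hq)
  have hm₁ := h₁.mono hA
  have he : img (pr₁ D) ψ₁ = pr₁ D' := by
    ext y
    rw [hm₁.mem_img, mem_pr₁]
    constructor
    · rintro ⟨x, hx, rfl⟩
      obtain ⟨q, hq, rfl⟩ := mem_pr₁.1 hx
      exact ⟨_, ⟨⟨q, hD hq⟩, hq, rfl⟩, rfl⟩
    · rintro ⟨_, ⟨q, hq, rfl⟩, rfl⟩
      exact ⟨_, mem_pr₁.2 ⟨q, hq, rfl⟩, rfl⟩
  refine ⟨?_, he ▸ hm₁.isConj⟩
  obtain ⟨k, hk, hkx, hky, -⟩ := hm₁.exists_inv
  have h3 := hk.comp hf fun y hy => (hky y hy).1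
  have hmem : ∀ y ∈ img (pr₁ D) ψ₁, f (k y) ∈ A₂ := by
    intro y hy
    obtain ⟨q, hq, hqx⟩ := mem_pr₁.1 (hky y hy).1
    rw [← hqx, ← hfx q hq]
    exact hN₂ q (hD hq)
  refine ⟨fun y => ψ₂ (f (k y)), he ▸ h3.comp h₂ hmem, ?_⟩
  rintro _ ⟨q, hq, rfl⟩
  show ψ₂ q.1.2 = ψ₂ (f (k (ψ₁ q.1.1)))
  rw [hkx _ (mem_pr₁.2 ⟨q, hq, rfl⟩), ← hfx q hq]

theorem isGraph_of_map_pairHom {D : Subgroup (↥S × ↥S)} (hD : D ≤ N)
    (hg : IsGraph F ((D.subgroupOf N).map (pairHom h₁ h₂ N hN₁ hN₂))) : IsGraph F D := by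
  obtain ⟨f', hf', hfx'⟩ := hg
  set D' := (D.subgroupOf N).map (pairHom h₁ h₂ N hN₁ hN₂)
  have hA : pr₁ D ≤ A₁ := by
    rintro _ ⟨q, hq, rfl⟩
    exact hN₁ q (hD hq)
  obtain ⟨k, hk, hkx, -, -⟩ := h₂.exists_inv
  have h3 := (h₁.mono hA).comp hf' fun x hx => by
    obtain ⟨q, hq, rfl⟩ := mem_pr₁.1 hx
    exact mem_pr₁.2 ⟨_, ⟨⟨q, hD hq⟩, hq, rfl⟩, rfl⟩
  have hval : ∀ q ∈ D, f' (ψ₁ (q.1 : Ω)) = ψ₂ q.2 := fun q hq =>
    (hfx' _ ⟨⟨q, hD hq⟩, hq, rfl⟩).symm
  refine ⟨fun x => k (f' (ψ₁ x)), h3.comp hk fun x hx => ?_, fun q hq => ?_⟩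
  · obtain ⟨q, hq, rfl⟩ := mem_pr₁.1 hx
    rw [hval q hq]
    exact h₂.apply_mem_img (hN₂ q (hD hq))
  · show (q.2 : Ω) = k (f' (ψ₁ q.1))
    rw [hval q hq, hkx _ (hN₂ q (hD hq))]

end Transport

/-- Conjugates of graphs are graphs with conjugate sources. -/
theorem isGraph_conj {E : Subgroup (↥S × ↥S)} (hE : IsGraph F E) (q : (↥S × ↥S)) :
    IsGraph F (E.map (MulAut.conj q).toMonoidHom) ∧
      F.IsConj (pr₁ E) (pr₁ (E.map (MulAut.conj q).toMonoidHom)) := by
  have h₁ := isMap_conj F (P := S) le_rfl q.1.2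
  have h₂ := isMap_conj F (P := S) le_rfl q.2.2
  have he : (E.subgroupOf (⊤ : Subgroup (↥S × ↥S))).map
      (pairHom h₁ h₂ ⊤ (fun r _ => r.1.2) (fun r _ => r.2.2)) = E.map (MulAut.conj q).toMonoidHom := by
    ext r
    constructor
    · rintro ⟨z, hz, rfl⟩
      exact ⟨z.1, hz, rfl⟩
    · rintro ⟨z, hz, rfl⟩
      exact ⟨⟨z, Subgroup.mem_top z⟩, hz, rfl⟩
  rw [← he]
  exact isGraph_map_pairHom h₁ h₂ (fun r _ => r.1.2) (fun r _ => r.2.2) le_top hE

/-! ### The sets and their marks -/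

section GSet

variable {G : Type u} [Group G]

/-- The `G`-set with `c E` orbits of type `G / E`. -/
structure BSet (c : Subgroup G → ℕ) : Type u where
  /-- The type of the orbit. -/
  orb : Subgroup G
  /-- The number of the orbit. -/
  idx : Fin (c orb)
  /-- The point of the orbit. -/
  pt : G ⧸ orb

noncomputable instance (c : Subgroup G → ℕ) : MulAction G (BSet c) where
  smul g w := ⟨w.orb, w.idx, g • w.pt⟩
  one_smul := fun ⟨E, i, x⟩ => by
    show (⟨E, i, (1 : G) • x⟩ : BSet c) = ⟨E, i, x⟩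
    rw [one_smul]
  mul_smul := fun g h ⟨E, i, x⟩ => by
    show (⟨E, i, (g * h) • x⟩ : BSet c) = ⟨E, i, g • h • x⟩
    rw [mul_smul]

theorem bset_smul (c : Subgroup G → ℕ) (g : G) (E : Subgroup G) (i : Fin (c E)) (x : G ⧸ E) :
    g • (⟨E, i, x⟩ : BSet c) = ⟨E, i, g • x⟩ := rfl

theorem bset_stabilizer (c : Subgroup G → ℕ) (E : Subgroup G) (i : Fin (c E)) (x : G ⧸ E) :
    stabilizer G (⟨E, i, x⟩ : BSet c) = stabilizer G x := by
  ext g
  rw [mem_stabilizer_iff, mem_stabilizer_iff, bset_smul]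
  constructor
  · intro h
    exact eq_of_heq (BSet.mk.inj h).2.2
  · intro h
    rw [h]

theorem stabilizer_mk (E : Subgroup G) (g : G) :
    stabilizer G (g : G ⧸ E) = E.map (MulAut.conj g).toMonoidHom := by
  ext k
  rw [mem_stabilizer_iff, Quotient.smul_mk, QuotientGroup.eq, Subgroup.mem_map]
  constructor
  · intro h
    exact ⟨g⁻¹ * k * g, by simpa [mul_assoc] using E.inv_mem h, by simp [mul_assoc]⟩
  · rintro ⟨z, hz, rfl⟩
    simpa [mul_assoc] using E.inv_mem hz

variable [Finite G]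

noncomputable instance (c : Subgroup G → ℕ) : Finite (BSet c) :=
  Finite.of_injective (fun w => (⟨w.orb, w.idx, w.pt⟩ : Σ E : Subgroup G, Fin (c E) × (G ⧸ E)))
    fun ⟨E, i, x⟩ ⟨E', i', x'⟩ h => by
      obtain ⟨rfl, h2⟩ := Sigma.mk.inj_iff.1 h
      obtain ⟨rfl, rfl⟩ := Prod.mk.injEq .. ▸ eq_of_heq h2
      rfl

/-- The number of points fixed by `D`. -/
noncomputable def mark (c : Subgroup G → ℕ) (D : Subgroup G) : ℕ :=
  Nat.card {w : BSet c // D ≤ stabilizer G w}

/-- The number of fixed points of `D` on `G / E`. -/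
noncomputable def cm (D E : Subgroup G) : ℕ := Nat.card {x : G ⧸ E // D ≤ stabilizer G x}

/-- `|N(D) : D|`. -/
noncomputable def nIdx (D : Subgroup G) : ℕ := D.relIndex (Subgroup.normalizer (D : Set G))

theorem mark_eq_finsum (c : Subgroup G → ℕ) (D : Subgroup G) [Fintype (Subgroup G)] :
    mark c D = ∑ E : Subgroup G, c E * cm D E := by
  have e : {w : BSet c // D ≤ stabilizer G w} ≃
      Σ E : Subgroup G, Fin (c E) × {x : G ⧸ E // D ≤ stabilizer G x} :=
    { toFun := fun ⟨⟨E, i, x⟩, h⟩ => ⟨E, i, x, by rwa [bset_stabilizer] at h⟩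
      invFun := fun ⟨E, i, x, h⟩ => ⟨⟨E, i, x⟩, by rwa [bset_stabilizer]⟩
      left_inv := fun ⟨⟨E, i, x⟩, h⟩ => rfl
      right_inv := fun ⟨E, i, x, h⟩ => rfl }
  rw [mark, Nat.card_congr e, Nat.card_sigma]
  simp only [Nat.card_prod, Nat.card_fin, cm]

theorem exists_conj_of_cm_ne_zero {D E : Subgroup G} (h : cm D E ≠ 0) :
    ∃ g : G, D ≤ E.map (MulAut.conj g).toMonoidHom := by
  obtain ⟨⟨⟨x, hx⟩⟩, -⟩ := Nat.card_ne_zero.1 h
  obtain ⟨g, rfl⟩ := QuotientGroup.mk_surjective x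
  exact ⟨g, stabilizer_mk E g ▸ hx⟩

theorem cm_eq_zero_of_card_lt {D E : Subgroup G} (h : Nat.card E < Nat.card D) : cm D E = 0 := by
  by_contra h0
  obtain ⟨g, hg⟩ := exists_conj_of_cm_ne_zero h0
  have h1 := Subgroup.card_le_of_le hg
  rw [Subgroup.card_map_of_injective (MulAut.conj g).injective] at h1
  omega

theorem nIdx_conj (D : Subgroup G) (g : G) :
    nIdx (D.map (MulAut.conj g).toMonoidHom) = nIdx D := by
  rw [nIdx, nIdx, ← Subgroup.map_equiv_normalizer_eq D (MulAut.conj g)]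
  exact Subgroup.relIndex_map_map_of_injective _ _ (MulAut.conj g).injective

theorem cm_conj (D : Subgroup G) (g : G) :
    cm D (D.map (MulAut.conj g).toMonoidHom) = nIdx D := by
  set E := D.map (MulAut.conj g).toMonoidHom with hE
  have hcard : Nat.card E = Nat.card D := Subgroup.card_map_of_injective (MulAut.conj g).injective
  have hmem : ∀ h : G, D ≤ stabilizer G (h : G ⧸ E) ↔ h * g ∈ Subgroup.normalizer (D : Set G) := by
    intro h
    rw [stabilizer_mk, hE, Subgroup.map_map]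
    have he : (MulAut.conj h).toMonoidHom.comp (MulAut.conj g).toMonoidHom =
        (MulAut.conj (h * g)).toMonoidHom := MonoidHom.ext fun z => by simp [mul_assoc]
    rw [he]
    constructor
    · intro hle n
      have heq : D = D.map (MulAut.conj (h * g)).toMonoidHom :=
        eq_of_le_of_card_le hle (Subgroup.card_map_of_injective (MulAut.conj _).injective).le
      constructor
      · intro hn
        rw [SetLike.mem_coe, heq]
        exact ⟨n, hn, rfl⟩
      · intro hn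
        rw [SetLike.mem_coe, heq] at hn
        obtain ⟨z, hz, hzn⟩ := hn
        exact (MulAut.conj (h * g)).injective hzn ▸ hz
    · intro hn z hz
      refine ⟨(h * g)⁻¹ * z * (h * g), ?_, by simp [mul_assoc]⟩
      exact (Subgroup.mem_normalizer_iff''.1 hn z).1 hz
  set T : Set (G ⧸ E) := {x | D ≤ stabilizer G x}
  have hpre : Nat.card (QuotientGroup.mk ⁻¹' T : Set G) =
      Nat.card (Subgroup.normalizer (D : Set G)) := by
    refine Nat.card_congr ((Equiv.mulRight g).subtypeEquiv fun h => ?_)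
    exact hmem h
  rw [Nat.card_congr (QuotientGroup.preimageMkEquivSubgroupProdSet E T), Nat.card_prod,
    hcard] at hpre
  rw [nIdx, Subgroup.relIndex]
  refine Nat.eq_of_mul_eq_mul_left (n := Nat.card D) Nat.card_pos ?_
  rw [show cm D E = Nat.card T from rfl, hpre,
    ← Subgroup.card_mul_index (D.subgroupOf (Subgroup.normalizer (D : Set G))),
    Nat.card_congr (Subgroup.subgroupOfEquivOfLe Subgroup.le_normalizer).toEquiv]

theorem mark_conj (c : Subgroup G → ℕ) (D : Subgroup G) (g : G) :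
    mark c (D.map (MulAut.conj g).toMonoidHom) = mark c D := by
  refine (Nat.card_congr ((MulAction.toPerm g).subtypeEquiv fun w => ?_)).symm
  constructor
  · rintro h _ ⟨z, hz, rfl⟩
    show (g * z * g⁻¹) • g • w = g • w
    rw [← mul_smul, inv_mul_cancel_right, mul_smul, h hz]
  · intro h z hz
    have h1 : (g * z * g⁻¹) • g • w = g • w := h ⟨z, hz, rfl⟩
    rwa [← mul_smul, inv_mul_cancel_right, mul_smul, smul_left_cancel_iff] at h1

theorem mark_le_card (c : Subgroup G → ℕ) (D : Subgroup G) : mark c D ≤ Nat.card (BSet c) :=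
  Nat.card_le_card_of_injective _ Subtype.val_injective

open Classical in
/-- A chosen member of the conjugacy class of a subgroup. -/
noncomputable def crep (D : Subgroup G) : Subgroup G :=
  Classical.epsilon fun E : Subgroup G => E ∈ {E | ∃ g : G, E = D.map (MulAut.conj g).toMonoidHom}

theorem exists_crep (D : Subgroup G) : ∃ g : G, crep D = D.map (MulAut.conj g).toMonoidHom :=
  Classical.epsilon_spec (p := fun E : Subgroup G =>
    E ∈ {E | ∃ g : G, E = D.map (MulAut.conj g).toMonoidHom})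
    ⟨D, 1, by rw [map_one]; exact (Subgroup.map_id D).symm⟩

theorem crep_conj (D : Subgroup G) (g : G) : crep (D.map (MulAut.conj g).toMonoidHom) = crep D := by
  have : {E : Subgroup G | ∃ h : G, E = (D.map (MulAut.conj g).toMonoidHom).map
      (MulAut.conj h).toMonoidHom} = {E | ∃ h : G, E = D.map (MulAut.conj h).toMonoidHom} := by
    ext E
    constructor
    · rintro ⟨h, rfl⟩
      refine ⟨h * g, ?_⟩
      rw [Subgroup.map_map]
      congr 1
      exact MonoidHom.ext fun z => by simp [mul_assoc]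
    · rintro ⟨h, rfl⟩
      refine ⟨h * g⁻¹, ?_⟩
      rw [Subgroup.map_map]
      congr 1
      exact MonoidHom.ext fun z => by simp [mul_assoc]
  rw [crep, crep, this]

theorem crep_crep (D : Subgroup G) : crep (crep D) = crep D := by
  obtain ⟨g, hg⟩ := exists_crep D
  rw [hg, crep_conj, hg]

end GSet

/-! ### Stability -/

variable [Finite S]

/-- All orbits are of graph type. -/
def Supported (F : FusionSystem S) (c : Subgroup (↥S × ↥S) → ℕ) : Prop :=
  ∀ E, c E ≠ 0 → IsGraph F E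

/-- The marks depend only on the class of the source, for graphs of order more than `k`. -/
def StableAbove (F : FusionSystem S) (c : Subgroup (↥S × ↥S) → ℕ) (k : ℕ) : Prop :=
  ∀ D D' : Subgroup (↥S × ↥S), IsGraph F D → IsGraph F D' → k < Nat.card D →
    F.IsConj (pr₁ D) (pr₁ D') → mark c D = mark c D'

theorem isGraph_stabilizer {c : Subgroup (↥S × ↥S) → ℕ} (hsupp : Supported F c) (w : BSet c) :
    IsGraph F (stabilizer (↥S × ↥S) w) := by
  obtain ⟨E, i, x⟩ := w
  obtain ⟨g, rfl⟩ := QuotientGroup.mk_surjective x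
  rw [bset_stabilizer, stabilizer_mk]
  exact (isGraph_conj (hsupp E (fun h => Fin.elim0 (h ▸ i))) g).1

theorem mark_eq_zero_of_not_isGraph {c : Subgroup (↥S × ↥S) → ℕ} (hsupp : Supported F c)
    {D : Subgroup (↥S × ↥S)} (hD : ¬ IsGraph F D) : mark c D = 0 := by
  rw [mark, Nat.card_eq_zero]
  exact Or.inl ⟨fun w => hD ((isGraph_stabilizer hsupp w.1).mono w.2)⟩

/-- Transport by a pair of maps keeps the marks above the level. -/
theorem mark_map_pairHom (h₁ : IsMap F A₁ ψ₁) (h₂ : IsMap F A₂ ψ₂) {N : Subgroup (↥S × ↥S)}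
    (hN₁ : ∀ q ∈ N, (q.1 : Ω) ∈ A₁) (hN₂ : ∀ q ∈ N, (q.2 : Ω) ∈ A₂) {c : Subgroup (↥S × ↥S) → ℕ}
    (hsupp : Supported F c) {k : ℕ} (hst : StableAbove F c k) {D : Subgroup (↥S × ↥S)} (hD : D ≤ N)
    (hk : k < Nat.card D) :
    mark c ((D.subgroupOf N).map (pairHom h₁ h₂ N hN₁ hN₂)) = mark c D := by
  by_cases hg : IsGraph F D
  · obtain ⟨hg', hc⟩ := isGraph_map_pairHom h₁ h₂ hN₁ hN₂ hD hg
    exact (hst D _ hg hg' hk hc).symm
  · rw [mark_eq_zero_of_not_isGraph hsupp hg, mark_eq_zero_of_not_isGraph hsupp fun h =>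
      hg (isGraph_of_map_pairHom h₁ h₂ hN₁ hN₂ hD h)]

/-- The congruence: transport of the normalizer of `D` changes its mark by a multiple of
`|N(D) : D|`. -/
theorem mark_modEq (h₁ : IsMap F A₁ ψ₁) (h₂ : IsMap F A₂ ψ₂) (D : Subgroup (↥S × ↥S))
    (hN₁ : ∀ q ∈ Subgroup.normalizer (D : Set (↥S × ↥S)), (q.1 : Ω) ∈ A₁)
    (hN₂ : ∀ q ∈ Subgroup.normalizer (D : Set (↥S × ↥S)), (q.2 : Ω) ∈ A₂) {c : Subgroup (↥S × ↥S) → ℕ}
    (hsupp : Supported F c) (hst : StableAbove F c (Nat.card D)) :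
    (mark c D : ℤ) ≡ mark c ((D.subgroupOf (Subgroup.normalizer (D : Set (↥S × ↥S)))).map
      (pairHom h₁ h₂ _ hN₁ hN₂)) [ZMOD (nIdx D : ℤ)] := by
  set N := Subgroup.normalizer (D : Set (↥S × ↥S)) with hNdef
  set θ := pairHom h₁ h₂ N hN₁ hN₂
  set D' := (D.subgroupOf N).map θ with hD'
  have hinv : ∀ (n : N) (w : BSet c), D ≤ stabilizer (↥S × ↥S) w → D ≤ stabilizer (↥S × ↥S) ((n : (↥S × ↥S)) • w) := by
    intro n w hw d hd
    have h := hw ((Subgroup.mem_normalizer_iff''.1 n.2 d).1 hd)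
    rw [mem_stabilizer_iff, mul_smul, mul_smul, inv_smul_eq_iff] at h
    exact h
  have hinv' : ∀ (n : N) (w : BSet c), D' ≤ stabilizer (↥S × ↥S) w → D' ≤ stabilizer (↥S × ↥S) (θ n • w) := by
    rintro n w hw _ ⟨d, hd, rfl⟩
    have hd' : n⁻¹ * d * n ∈ D.subgroupOf N := (Subgroup.mem_normalizer_iff''.1 n.2 d).1 hd
    have h := hw ⟨_, hd', rfl⟩
    rw [mem_stabilizer_iff, map_mul, map_mul, map_inv, mul_smul, mul_smul, inv_smul_eq_iff] at h
    exact h
  letI aX : MulAction N {w : BSet c // D ≤ stabilizer (↥S × ↥S) w} :=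
    { smul := fun n w => ⟨(n : (↥S × ↥S)) • w.1, hinv n w.1 w.2⟩
      one_smul := fun w => Subtype.ext (one_smul (↥S × ↥S) w.1)
      mul_smul := fun m n w => Subtype.ext (mul_smul (m : (↥S × ↥S)) (n : (↥S × ↥S)) w.1) }
  letI aY : MulAction N {w : BSet c // D' ≤ stabilizer (↥S × ↥S) w} :=
    { smul := fun n w => ⟨θ n • w.1, hinv' n w.1 w.2⟩
      one_smul := fun w => Subtype.ext (by show θ 1 • w.1 = w.1; rw [map_one, one_smul])
      mul_smul := fun m n w => Subtype.ext (by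
        show θ (m * n) • w.1 = θ m • θ n • w.1
        rw [map_mul, mul_smul]) }
  refine card_modEq_of_fixedBy (G := N) (X := {w : BSet c // D ≤ stabilizer (↥S × ↥S) w})
    (Y := {w : BSet c // D' ≤ stabilizer (↥S × ↥S) w}) (D.subgroupOf N)
    (fun d hd w => Subtype.ext (w.2 hd)) (fun d hd w => Subtype.ext (w.2 ⟨d, hd, rfl⟩))
    fun n hn => ?_
  set D₁ := D ⊔ Subgroup.zpowers (n : (↥S × ↥S))
  have hD₁ : D₁ ≤ N := sup_le Subgroup.le_normalizer (Subgroup.zpowers_le.2 n.2)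
  have hlt : Nat.card D < Nat.card D₁ := by
    refine lt_of_not_ge fun h => hn ?_
    have := eq_of_le_of_card_le (le_sup_left : D ≤ D₁) h
    show (n : (↥S × ↥S)) ∈ D
    rw [this]
    exact Subgroup.mem_sup_right (Subgroup.mem_zpowers _)
  have e1 : Nat.card (fixedBy {w : BSet c // D ≤ stabilizer (↥S × ↥S) w} n) = mark c D₁ := by
    refine Nat.card_congr ((Equiv.subtypeEquivRight fun w => ?_).trans
      (Equiv.subtypeSubtypeEquivSubtypeInter _ (fun w : BSet c => (n : (↥S × ↥S)) • w = w)) |>.trans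
      (Equiv.subtypeEquivRight fun w => ?_))
    · exact Subtype.ext_iff
    · rw [sup_le_iff, Subgroup.zpowers_le, mem_stabilizer_iff]
  have e2 : Nat.card (fixedBy {w : BSet c // D' ≤ stabilizer (↥S × ↥S) w} n) =
      mark c ((D₁.subgroupOf N).map θ) := by
    have hz : (D₁.subgroupOf N).map θ = D' ⊔ Subgroup.zpowers (θ n) := by
      rw [Subgroup.subgroupOf_sup Subgroup.le_normalizer (Subgroup.zpowers_le.2 n.2),
        Subgroup.map_sup, hD']
      congr 1
      rw [← MonoidHom.map_zpowers]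
      congr 1
      apply Subgroup.map_injective N.subtype_injective
      rw [Subgroup.map_subgroupOf_eq_of_le (Subgroup.zpowers_le.2 n.2), MonoidHom.map_zpowers]
      rfl
    rw [hz]
    refine Nat.card_congr ((Equiv.subtypeEquivRight fun w => ?_).trans
      (Equiv.subtypeSubtypeEquivSubtypeInter _ (fun w : BSet c => θ n • w = w)) |>.trans
      (Equiv.subtypeEquivRight fun w => ?_))
    · exact Subtype.ext_iff
    · rw [sup_le_iff, Subgroup.zpowers_le, mem_stabilizer_iff]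
  rw [e1, e2, mark_map_pairHom h₁ h₂ hN₁ hN₂ hsupp hst hD₁ hlt]

/-! ### One step of the construction -/

open Classical in
/-- Adjusting the marks of the graphs of order `k + 1` to a class invariant target. -/
theorem exists_step (c : Subgroup (↥S × ↥S) → ℕ) (hsupp : Supported F c) (k : ℕ)
    (hst : StableAbove F c (k + 1)) (M : Subgroup Ω → ℕ)
    (hM : ∀ P Q, F.IsConj P Q → M P = M Q)
    (hge : ∀ D, IsGraph F D → Nat.card D = k + 1 → mark c D ≤ M (pr₁ D))
    (hdvd : ∀ D, IsGraph F D → Nat.card D = k + 1 → nIdx D ∣ M (pr₁ D) - mark c D) :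
    ∃ c' : Subgroup (↥S × ↥S) → ℕ, Supported F c' ∧ StableAbove F c' k ∧
      (∀ D, IsGraph F D → Nat.card D = k + 1 → mark c' D = M (pr₁ D)) ∧
      ∀ E, c E ≤ c' E ∧ (Nat.card E ≠ k + 1 → c' E = c E) := by
  haveI : Fintype (Subgroup (↥S × ↥S)) := Fintype.ofFinite _
  set d : Subgroup (↥S × ↥S) → ℕ := fun E =>
    if IsGraph F E ∧ Nat.card E = k + 1 ∧ crep E = E then (M (pr₁ E) - mark c E) / nIdx E else 0
    with hd
  have hdlow : ∀ E : Subgroup (↥S × ↥S), Nat.card E ≠ k + 1 → d E = 0 := fun E hE => by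
    rw [hd]
    exact if_neg fun h => hE h.2.1
  have hadd : ∀ D, mark (fun E => c E + d E) D = mark c D + ∑ E, d E * cm D E := fun D => by
    rw [mark_eq_finsum, mark_eq_finsum, ← Finset.sum_add_distrib]
    simp only [add_mul]
  have hhigh : ∀ D : Subgroup (↥S × ↥S), k + 1 < Nat.card D → mark (fun E => c E + d E) D = mark c D := fun D hD => by
    rw [hadd, Finset.sum_eq_zero fun E _ => ?_, add_zero]
    by_cases hE : Nat.card E = k + 1
    · rw [cm_eq_zero_of_card_lt (by omega), mul_zero]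
    · rw [hdlow E hE, zero_mul]
  have hlev : ∀ D, IsGraph F D → Nat.card D = k + 1 →
      mark (fun E => c E + d E) D = M (pr₁ D) := by
    intro D hD hk
    obtain ⟨g, hg⟩ := exists_crep D
    rw [hadd, Finset.sum_eq_single (crep D)]
    · obtain ⟨hg', hconj⟩ := isGraph_conj hD g
      have hc : Nat.card (crep D) = k + 1 := by
        rw [hg, Subgroup.card_map_of_injective (MulAut.conj g).injective, hk]
      have hdval : d (crep D) = (M (pr₁ D) - mark c D) / nIdx D := by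
        rw [hd]
        show (if _ then _ else _) = _
        rw [if_pos ⟨hg ▸ hg', hc, crep_crep D⟩, hg, nIdx_conj, mark_conj, hM _ _ hconj]
      rw [hdval, hg, cm_conj, Nat.div_mul_cancel (hdvd D hD hk)]
      have := hge D hD hk
      omega
    · intro E _ hE
      by_cases hEk : Nat.card E = k + 1
      · by_cases hcm : cm D E = 0
        · rw [hcm, mul_zero]
        · obtain ⟨g', hg'⟩ := exists_conj_of_cm_ne_zero hcm
          have heq := eq_of_le_of_card_le hg'
            (by rw [Subgroup.card_map_of_injective (MulAut.conj g').injective, hEk, hk])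
          have hcE : crep D = crep E := by rw [heq, crep_conj]
          rw [hd]
          show (if _ then _ else _) * _ = _
          rw [if_neg fun h => hE (h.2.2.symm.trans hcE.symm), zero_mul]
      · rw [hdlow E hEk, zero_mul]
    · exact fun h => absurd (Finset.mem_univ _) h
  refine ⟨fun E => c E + d E, fun E hE => ?_, fun D D' hD hD' hk hconj => ?_, hlev,
    fun E => ⟨Nat.le_add_right _ _, fun h => (congrArg (c E + ·) (hdlow E h)).trans (add_zero _)⟩⟩
  · by_cases h : c E = 0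
    · by_contra hgr
      refine hE ?_
      show c E + d E = 0
      rw [h, zero_add, hd]
      exact if_neg fun h' => hgr h'.1
    · exact hsupp E h
  · have hcard : Nat.card D' = Nat.card D := by
      rw [← hD.card_pr₁, ← hD'.card_pr₁, isConj_card hconj]
    rcases (Nat.succ_le_of_lt hk).eq_or_lt with h | h
    · rw [hlev D hD h.symm, hlev D' hD' (hcard.trans h.symm), hM _ _ hconj]
    · rw [hhigh D h, hhigh D' (hcard ▸ h), hst D D' hD hD' h hconj]

/-- A finite biset with graph stabilizers, stable marks, and fixed points of every diagonal, for any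
system. -/
theorem exists_semiBiset (F : FusionSystem S) :
    ∃ c : Subgroup (↥S × ↥S) → ℕ, Supported F c ∧ StableAbove F c 0 ∧
      ∀ D, IsGraph F D → mark c D ≠ 0 := by
  classical
  haveI : Fintype (Subgroup (↥S × ↥S)) := Fintype.ofFinite _
  suffices h : ∀ j, ∃ c : Subgroup (↥S × ↥S) → ℕ, Supported F c ∧ StableAbove F c (Nat.card S - j) ∧
      ∀ D, IsGraph F D → Nat.card S - j < Nat.card D → mark c D ≠ 0 by
    obtain ⟨c, h1, h2, h3⟩ := h (Nat.card S)
    rw [Nat.sub_self] at h2 h3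
    exact ⟨c, h1, h2, fun D hD => h3 D hD Nat.card_pos⟩
  have hle : ∀ D : Subgroup (↥S × ↥S), IsGraph F D → Nat.card D ≤ Nat.card S := fun D hD =>
    hD.card_pr₁ ▸ Subgroup.card_le_of_le (pr₁_le D)
  intro j
  induction j with
  | zero =>
    exact ⟨0, fun E hE => absurd rfl hE,
      fun D _ hD _ hk => absurd (hle D hD) (by omega),
      fun D hD hk => absurd (hle D hD) (by omega)⟩
  | succ j ih =>
    obtain ⟨c, hs, hst, hne⟩ := ih
    by_cases hj : j < Nat.card S
    · set k := Nat.card S - (j + 1) with hk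
      have hk1 : Nat.card S - j = k + 1 := by omega
      rw [hk1] at hst hne
      set N := Nat.card (↥S × ↥S) with hN
      have hNpos : 0 < N := Nat.card_pos
      have hscale : ∀ D, mark (fun E => N * c E) D = N * mark c D := fun D => by
        rw [mark_eq_finsum, mark_eq_finsum, Finset.mul_sum]
        simp only [mul_assoc]
      obtain ⟨c', h1, h2, h3, h4⟩ := exists_step (F := F) (fun E => N * c E)
        (fun E hE => hs E fun h => hE (show N * c E = 0 by rw [h, mul_zero])) k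
        (fun D D' hD hD' hk' hc => by rw [hscale, hscale, hst D D' hD hD' hk' hc])
        (fun _ => N * (Nat.card (BSet c) + 1)) (fun _ _ _ => rfl)
        (fun D _ _ => by
          rw [hscale]
          exact Nat.mul_le_mul_left N (Nat.le_succ_of_le (mark_le_card c D)))
        (fun D _ _ => by
          rw [hscale, ← Nat.mul_sub]
          refine dvd_mul_of_dvd_left ?_ _
          exact (Subgroup.index_dvd_card _).trans (Subgroup.card_subgroup_dvd_card _))
      refine ⟨c', h1, h2, fun D hD hD' => ?_⟩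
      rcases (Nat.succ_le_of_lt hD').eq_or_lt with h | h
      · rw [h3 D hD h.symm]
        positivity
      · have hmon : mark (fun E => N * c E) D ≤ mark c' D := by
          rw [mark_eq_finsum, mark_eq_finsum]
          exact Finset.sum_le_sum fun E _ => Nat.mul_le_mul_right _ (h4 E).1
        rw [hscale] at hmon
        have := Nat.mul_pos hNpos (Nat.pos_of_ne_zero (hne D hD h))
        omega
    · refine ⟨c, hs, ?_, ?_⟩
      · rwa [show Nat.card S - (j + 1) = Nat.card S - j by omega]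
      · rwa [show Nat.card S - (j + 1) = Nat.card S - j by omega]

/-! ### The characteristic biset -/

/-- A fully normalized member of a class, chosen from the class. -/
noncomputable def fnRep (F : FusionSystem S) (P : Subgroup Ω) : Subgroup Ω :=
  Classical.epsilon fun R : Subgroup Ω => R ∈ {R | F.IsConj P R} ∧ F.IsFullyNormalized R

theorem fnRep_spec (F : FusionSystem S) (hP : P ≤ S) :
    F.IsConj P (fnRep F P) ∧ F.IsFullyNormalized (fnRep F P) := by
  obtain ⟨R, hPR, hR⟩ := exists_fullyNormalized_conj F hP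
  exact Classical.epsilon_spec (p := fun R : Subgroup Ω =>
    R ∈ {R | F.IsConj P R} ∧ F.IsFullyNormalized R) ⟨R, hPR, hR⟩

theorem fnRep_congr (h : F.IsConj P Q) : fnRep F P = fnRep F Q := by
  have : {R | F.IsConj P R} = {R | F.IsConj Q R} :=
    Set.ext fun R => ⟨fun hR => isConj_trans (isConj_symm h) hR, fun hR => isConj_trans h hR⟩
  rw [fnRep, fnRep, this]

open Classical in
/-- The diagonal as a function of the subgroup. -/
noncomputable def diag' (F : FusionSystem S) (R : Subgroup Ω) : Subgroup (↥S × ↥S) :=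
  if h : R ≤ S then diagOf F h else ⊥

section Saturated

variable [Fact p.Prime] (hS : IsPGroup p S) (hF : F.IsSaturated p)

include hS hF

theorem mark_modEq_fnRep {c : Subgroup (↥S × ↥S) → ℕ} (hsupp : Supported F c) {D : Subgroup (↥S × ↥S)}
    (hD : IsGraph F D) (hst : StableAbove F c (Nat.card D)) :
    (mark c D : ℤ) ≡ mark c (diag' F (fnRep F (pr₁ D))) [ZMOD (nIdx D : ℤ)] := by
  have hgD := hD
  obtain ⟨f, hf, hfx⟩ := hD
  have he : img (pr₁ D) f = pr₂ D := by
    ext y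
    rw [hf.mem_img, mem_pr₂]
    constructor
    · rintro ⟨x, hx, rfl⟩
      obtain ⟨q, hq, rfl⟩ := mem_pr₁.1 hx
      exact ⟨q, hq, hfx q hq⟩
    · rintro ⟨q, hq, rfl⟩
      exact ⟨_, mem_pr₁.2 ⟨q, hq, rfl⟩, (hfx q hq).symm⟩
  obtain ⟨hPR, hR⟩ := fnRep_spec F (pr₁_le D)
  set R := fnRep F (pr₁ D)
  have hQR : F.IsConj (pr₂ D) R := isConj_trans (isConj_symm (he ▸ hf.isConj)) hPR
  obtain ⟨ψ₂, hψ₂, hi₂, hn₂⟩ := exists_map_normalizerIn_of_fullyNormalized hS hF hR hQR
  set N := Subgroup.normalizer (D : Set (↥S × ↥S))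
  have hN₂ : ∀ q ∈ N, (q.2 : Ω) ∈ normalizerIn S (pr₂ D) := fun q hq => by
    refine ⟨q.2.2, fun n => ⟨fun hn => ?_, fun hn => ?_⟩⟩
    · obtain ⟨r, hr, rfl⟩ := mem_pr₂.1 hn
      exact mem_pr₂.2 ⟨q * r * q⁻¹, (Subgroup.mem_normalizer_iff.1 hq r).1 hr, rfl⟩
    · obtain ⟨r, hr, hrn⟩ := mem_pr₂.1 hn
      refine mem_pr₂.2 ⟨q⁻¹ * r * q, (Subgroup.mem_normalizer_iff''.1 hq r).1 hr, ?_⟩
      show (q.2 : Ω)⁻¹ * r.2 * q.2 = n
      rw [hrn]
      group
  have hmem : ∀ x ∈ pr₁ D, f x ∈ normalizerIn S (pr₂ D) := fun x hx =>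
    le_normalizerIn (pr₂_le D) (he ▸ hf.apply_mem_img hx)
  have hf' := hf.comp hψ₂ hmem
  have hi : img (pr₁ D) (fun x => ψ₂ (f x)) = R := by
    ext y
    rw [hf'.mem_img]
    constructor
    · rintro ⟨x, hx, rfl⟩
      exact hi₂ ▸ (hψ₂.mono (le_normalizerIn (pr₂_le D))).apply_mem_img (he ▸ hf.apply_mem_img hx)
    · intro hy
      rw [← hi₂, (hψ₂.mono (le_normalizerIn (pr₂_le D))).mem_img] at hy
      obtain ⟨z, hz, rfl⟩ := hy
      rw [← he, hf.mem_img] at hz
      obtain ⟨x, hx, rfl⟩ := hz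
      exact ⟨x, hx, rfl⟩
  obtain ⟨g, hg, hgx⟩ := receptive_extend (R := pr₁ N) (receptive_of_fullyNormalized hS hF hR)
    hf' hi (Subgroup.map_mono Subgroup.le_normalizer) fun a ha => by
      obtain ⟨q, hq, rfl⟩ := mem_pr₁.1 ha
      refine ⟨q.1.2, fun n => ⟨fun hn => ?_, fun hn => ?_⟩, _, hψ₂.mem (hN₂ q hq), fun x hx => ?_⟩
      · obtain ⟨r, hr, rfl⟩ := mem_pr₁.1 hn
        exact mem_pr₁.2 ⟨q * r * q⁻¹, (Subgroup.mem_normalizer_iff.1 hq r).1 hr, rfl⟩
      · obtain ⟨r, hr, hrn⟩ := mem_pr₁.1 hn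
        refine mem_pr₁.2 ⟨q⁻¹ * r * q, (Subgroup.mem_normalizer_iff''.1 hq r).1 hr, ?_⟩
        show (q.1 : Ω)⁻¹ * r.1 * q.1 = n
        rw [hrn]
        group
      · obtain ⟨r, hr, rfl⟩ := mem_pr₁.1 hx
        show ψ₂ (f ((q.1 : Ω) * r.1 * (q.1 : Ω)⁻¹)) = ψ₂ q.2 * ψ₂ (f r.1) * (ψ₂ q.2)⁻¹
        have h1 : ((q * r * q⁻¹).2 : Ω) = f ((q * r * q⁻¹).1) :=
          hfx _ ((Subgroup.mem_normalizer_iff.1 hq r).1 hr)
        rw [show f ((q.1 : Ω) * r.1 * (q.1 : Ω)⁻¹) = (q.2 : Ω) * f r.1 * (q.2 : Ω)⁻¹ by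
          rw [← hfx r hr]; exact h1.symm]
        exact hψ₂.map_conj (hN₂ q hq) (hmem _ hx)
  have hN₁ : ∀ q ∈ N, (q.1 : Ω) ∈ pr₁ N := fun q hq => mem_pr₁.2 ⟨q, hq, rfl⟩
  have h := mark_modEq hg hψ₂ D hN₁ hN₂ hsupp hst
  suffices e : (D.subgroupOf N).map (pairHom hg hψ₂ N hN₁ hN₂) = diag' F R by rwa [e] at h
  rw [diag', dif_pos hR.1]
  ext r
  rw [diagOf, mem_graphOf]
  constructor
  · rintro ⟨q, hq, rfl⟩
    have hx : ((q : (↥S × ↥S)).1 : Ω) ∈ pr₁ D := mem_pr₁.2 ⟨q, hq, rfl⟩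
    refine ⟨?_, ?_⟩
    · show g (q.1.1 : Ω) ∈ R
      rw [hgx _ hx, ← hi]
      exact hf'.apply_mem_img hx
    · show ψ₂ (q.1.2 : Ω) = g (q.1.1 : Ω)
      rw [hgx _ hx]
      exact congrArg ψ₂ (hfx _ hq)
  · rintro ⟨hr1, hr2⟩
    rw [← hi, hf'.mem_img] at hr1
    obtain ⟨x, hx, hxr⟩ := hr1
    obtain ⟨q, hq, rfl⟩ := mem_pr₁.1 hx
    refine ⟨⟨q, Subgroup.le_normalizer hq⟩, hq, Prod.ext (Subtype.ext ?_) (Subtype.ext ?_)⟩
    · show g (q.1 : Ω) = r.1
      rw [hgx _ hx]
      exact hxr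
    · show ψ₂ (q.2 : Ω) = r.2
      rw [hfx q hq, hr2]
      exact hxr

open Classical in
/-- A start of the characteristic biset: one orbit for each class of automorphisms of `S`. -/
theorem exists_biset_top :
    ∃ c : Subgroup (↥S × ↥S) → ℕ, Supported F c ∧ StableAbove F c (Nat.card S - 1) ∧
      (∀ E, c E ≠ 0 → Nat.card E = Nat.card S) ∧
      ¬ p ∣ Nat.card {E : Subgroup (↥S × ↥S) // c E ≠ 0} ∧ ∀ E, c E ≤ 1 := by
  haveI : Fintype (Subgroup (↥S × ↥S)) := Fintype.ofFinite _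
  have hfull : ∀ D : Subgroup (↥S × ↥S), IsGraph F D → Nat.card D = Nat.card S → pr₁ D = S := fun D hD h =>
    eq_of_le_of_card_le (pr₁_le D) (hD.card_pr₁.trans h).ge
  set c : Subgroup (↥S × ↥S) → ℕ := fun E =>
    if IsGraph F E ∧ Nat.card E = Nat.card S ∧ crep E = E then 1 else 0 with hc
  have hcne : ∀ E, c E ≠ 0 ↔ IsGraph F E ∧ Nat.card E = Nat.card S ∧ crep E = E := fun E => by
    rw [hc]
    by_cases h : IsGraph F E ∧ Nat.card E = Nat.card S ∧ crep E = E <;> simp [h]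
  -- the graph of an automorphism
  have hα : ∀ α : F.autGroup S, IsMap F S (toFun (S.subtype.comp (α : MulAut S).toMonoidHom)) :=
    fun α => isMap_of_autGroup le_rfl α.2
  have hgraph : ∀ D, IsGraph F D → Nat.card D = Nat.card S → ∃ α, D = graphOf (hα α) := by
    intro D hD hk
    have h1 := hfull D hD hk
    obtain ⟨f, hf, hfx⟩ := hD
    rw [h1] at hf
    have hi : img S f = S := eq_of_le_of_card_le hf.img_le hf.card_img.ge
    refine ⟨⟨hf.toAut hi, hf.toAut_mem hi⟩, ?_⟩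
    ext q
    rw [mem_graphOf, toFun_aut_apply _ q.1.2, hf.toAut_apply]
    refine ⟨fun hq => ⟨q.1.2, hfx q hq⟩, fun hq => ?_⟩
    have h2 : (q.1 : Ω) ∈ pr₁ D := h1.symm ▸ q.1.2
    obtain ⟨r, hr, hrx⟩ := mem_pr₁.1 h2
    have : q = r := Prod.ext (Subtype.ext hrx.symm)
      (Subtype.ext (by rw [hfx r hr, hrx]; exact hq.2))
    exact this ▸ hr
  -- the normalizers all have the same order
  have hnc : ∀ α : F.autGroup S, nIdx (graphOf (hα α)) = nIdx (diagOf F (le_refl S)) := by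
    intro α
    let e : (↥S × ↥S) ≃* (↥S × ↥S) := MulEquiv.prodCongr (MulEquiv.refl S) (α : MulAut S)
    have he : (diagOf F (le_refl S)).map e.toMonoidHom = graphOf (hα α) := by
      ext q
      rw [mem_graphOf, toFun_aut_apply _ q.1.2]
      constructor
      · rintro ⟨r, hr, rfl⟩
        refine ⟨r.1.2, ?_⟩
        show (((α : MulAut S) r.2 : S) : Ω) = (((α : MulAut S) r.1 : S) : Ω)
        rw [show r.2 = r.1 from Subtype.ext hr.2]
      · rintro ⟨-, hq⟩
        exact ⟨(q.1, q.1), ⟨q.1.2, rfl⟩, Prod.ext rfl (Subtype.ext hq.symm)⟩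
    rw [nIdx, nIdx, ← he, ← Subgroup.map_equiv_normalizer_eq _ e]
    exact Subgroup.relIndex_map_map_of_injective _ _ e.injective
  have hmark : ∀ D, IsGraph F D → Nat.card D = Nat.card S →
      mark c D = nIdx (diagOf F (le_refl S)) := by
    intro D hD hk
    obtain ⟨g, hg⟩ := exists_crep D
    rw [mark_eq_finsum, Finset.sum_eq_single (crep D)]
    · rw [show c (crep D) = 1 from if_pos ⟨hg ▸ (isGraph_conj hD g).1,
        by rw [hg, Subgroup.card_map_of_injective (MulAut.conj g).injective, hk], crep_crep D⟩,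
        one_mul, hg, cm_conj]
      obtain ⟨α, rfl⟩ := hgraph D hD hk
      exact hnc α
    · intro E _ hE
      by_cases hcE : c E = 0
      · rw [hcE, zero_mul]
      · obtain ⟨-, hEk, hEr⟩ := (hcne E).1 hcE
        by_cases hcm : cm D E = 0
        · rw [hcm, mul_zero]
        · obtain ⟨g', hg'⟩ := exists_conj_of_cm_ne_zero hcm
          have heq := eq_of_le_of_card_le hg'
            (by rw [Subgroup.card_map_of_injective (MulAut.conj g').injective, hEk, hk])
          exact absurd (by rw [heq, crep_conj, hEr]) hE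
    · exact fun h => absurd (Finset.mem_univ _) h
  refine ⟨c, fun E hE => ((hcne E).1 hE).1, fun D D' hD hD' hk hconj => ?_,
    fun E hE => ((hcne E).1 hE).2.1, ?_, fun E => by rw [hc]; show (if _ then _ else _) ≤ _; split_ifs <;> omega⟩
  · have h1 : Nat.card D = Nat.card S := by
      have := hD.card_pr₁ ▸ Subgroup.card_le_of_le (pr₁_le D)
      omega
    have h2 : Nat.card D' = Nat.card S := by rw [← hD'.card_pr₁, isConj_card hconj, hD.card_pr₁, h1]
    rw [hmark D hD h1, hmark D' hD' h2]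
  -- the classes correspond to the cosets of the inner automorphisms
  obtain ⟨T, hT⟩ := (fullyAutomized_of_fullyNormalized hS hF (fullyNormalized_top F)).2
  have hrep : ∀ α : F.autGroup S, c (crep (graphOf (hα α))) ≠ 0 := fun α => by
    obtain ⟨g, hg⟩ := exists_crep (graphOf (hα α))
    refine (hcne _).2 ⟨hg ▸ (isGraph_conj (isGraph_graphOf _) g).1, ?_, crep_crep _⟩
    rw [hg, Subgroup.card_map_of_injective (MulAut.conj g).injective,
      ← (isGraph_graphOf (hα α)).card_pr₁, pr₁_graphOf]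
  have hrel : ∀ α β : F.autGroup S, α⁻¹ * β ∈ (T : Subgroup (F.autGroup S)) ↔
      crep (graphOf (hα α)) = crep (graphOf (hα β)) := by
    intro α β
    rw [hT, Subgroup.mem_subgroupOf, mem_autInducedBy_iff]
    constructor
    · rintro ⟨a, ha, hax⟩
      have hval : ∀ x : S, (β : MulAut S) x = (α : MulAut S) (⟨a, ha⟩ * x * ⟨a, ha⟩⁻¹) := fun x => by
        have h1 : ((α⁻¹ * β : F.autGroup S) : MulAut S) x = ⟨a, ha⟩ * x * ⟨a, ha⟩⁻¹ :=
          Subtype.ext (hax x)
        rw [← h1]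
        simp
      have he : graphOf (hα β) =
          (graphOf (hα α)).map (MulAut.conj ((⟨a, ha⟩ : S)⁻¹, (1 : S))).toMonoidHom := by
        ext q
        rw [mem_graphOf, toFun_aut_apply _ q.1.2]
        constructor
        · rintro ⟨-, hq⟩
          refine ⟨(⟨a, ha⟩ * q.1 * (⟨a, ha⟩ : S)⁻¹, q.2), ⟨(_ : S).2, ?_⟩, ?_⟩
          · rw [toFun_aut_apply _ (Subtype.coe_prop _), hq]
            show (((β : MulAut S) ⟨q.1, _⟩ : S) : Ω) = _
            rw [hval]
          · refine Prod.ext ?_ ?_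
            · simp [mul_assoc]
            · simp
        · rintro ⟨r, ⟨-, hr⟩, rfl⟩
          rw [toFun_aut_apply _ r.1.2] at hr
          refine ⟨Subtype.coe_prop _, ?_⟩
          simp only [MulEquiv.coe_toMonoidHom, MulAut.conj_apply, Prod.fst_mul, Prod.snd_mul,
            Prod.fst_inv, Prod.snd_inv, inv_one, mul_one, one_mul]
          rw [hr, hval]
          congr 2
          apply Subtype.ext
          simp [mul_assoc]
      rw [he, crep_conj]
    · intro h
      obtain ⟨g₁, hg₁⟩ := exists_crep (graphOf (hα α))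
      obtain ⟨g₂, hg₂⟩ := exists_crep (graphOf (hα β))
      rw [hg₁, hg₂] at h
      set g := g₂⁻¹ * g₁
      have hg : ∀ x : S, (g * (x, (α : MulAut S) x) * g⁻¹ : (↥S × ↥S)) ∈ graphOf (hα β) := by
        intro x
        have h1 : g₁ * (x, (α : MulAut S) x) * g₁⁻¹ ∈
            (graphOf (hα α)).map (MulAut.conj g₁).toMonoidHom :=
          ⟨_, ⟨x.2, (toFun_aut_apply _ x.2).symm⟩, rfl⟩
        rw [h] at h1
        obtain ⟨r, hr, hrx⟩ := h1
        have h2 : g₂ * r * g₂⁻¹ = g₁ * (x, (α : MulAut S) x) * g₁⁻¹ := hrx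
        have h3 : r = g * (x, (α : MulAut S) x) * g⁻¹ := by
          calc r = g₂⁻¹ * (g₂ * r * g₂⁻¹) * g₂ := by group
            _ = _ := by rw [h2]; simp only [g]; group
        exact h3 ▸ hr
      have hval : ∀ x : S, (β : MulAut S) (g.1 * x * g.1⁻¹) = g.2 * (α : MulAut S) x * g.2⁻¹ :=
        fun x => by
          obtain ⟨-, h4⟩ := hg x
          rw [toFun_aut_apply _ (Subtype.coe_prop _)] at h4
          exact Subtype.ext h4.symm
      set b : S := (α : MulAut S)⁻¹ g.2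
      refine ⟨((b * g.1⁻¹ : S) : Ω), Subtype.coe_prop _, fun x => ?_⟩
      have h5 := hval (g.1⁻¹ * x * g.1)
      rw [show g.1 * (g.1⁻¹ * x * g.1) * g.1⁻¹ = x by group] at h5
      have h6 : ((α⁻¹ * β : F.autGroup S) : MulAut S) x = (b * g.1⁻¹) * x * (b * g.1⁻¹)⁻¹ := by
        rw [Subgroup.coe_mul, Subgroup.coe_inv, MulAut.mul_apply, h5, map_mul, map_mul,
          MulAut.inv_apply_self, map_inv]
        simp only [b, map_mul, map_inv, mul_inv_rev, inv_inv, mul_assoc]
      exact congrArg Subtype.val h6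
  have hcount : Nat.card {E : Subgroup (↥S × ↥S) // c E ≠ 0} = (T : Subgroup (F.autGroup S)).index := by
    refine (Nat.card_eq_of_bijective (fun z : F.autGroup S ⧸ (T : Subgroup (F.autGroup S)) =>
      Quotient.liftOn' z (fun α => (⟨crep (graphOf (hα α)), hrep α⟩ : {E // c E ≠ 0}))
        fun α β hαβ => Subtype.ext ((hrel α β).1 (QuotientGroup.leftRel_apply.1 hαβ)))
      ⟨fun z z' h => ?_, fun ⟨E, hE⟩ => ?_⟩).symm
    · induction z using QuotientGroup.induction_on with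
      | _ α =>
        induction z' using QuotientGroup.induction_on with
        | _ β => exact QuotientGroup.eq.2 ((hrel α β).2 (congrArg Subtype.val h))
    · obtain ⟨hEg, hEk, hEr⟩ := (hcne E).1 hE
      obtain ⟨α, rfl⟩ := hgraph E hEg hEk
      exact ⟨(α : F.autGroup S ⧸ (T : Subgroup (F.autGroup S))), Subtype.ext hEr⟩
  rw [hcount]
  exact T.not_dvd_index

open Classical in
/-- The characteristic biset. -/
theorem exists_charBiset :
    ∃ c : Subgroup (↥S × ↥S) → ℕ, Supported F c ∧ StableAbove F c 0 ∧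
      ¬ p ∣ ∑ᶠ E, c E * (Nat.card S / Nat.card E) := by
  haveI : Fintype (Subgroup (↥S × ↥S)) := Fintype.ofFinite _
  simp only [finsum_eq_sum_of_fintype]
  have hpos : 0 < Nat.card S := Nat.card_pos
  suffices h : ∀ j, ∃ c : Subgroup (↥S × ↥S) → ℕ, Supported F c ∧
      StableAbove F c (Nat.card S - 1 - j) ∧ ¬ p ∣ ∑ E, c E * (Nat.card S / Nat.card E) by
    obtain ⟨c, h1, h2, h3⟩ := h (Nat.card S)
    rw [show Nat.card S - 1 - Nat.card S = 0 by omega] at h2
    exact ⟨c, h1, h2, h3⟩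
  intro j
  induction j with
  | zero =>
    obtain ⟨c, hs, hst, hk, hn, h1⟩ := exists_biset_top hS hF
    refine ⟨c, hs, hst, ?_⟩
    have : ∑ E, c E * (Nat.card S / Nat.card E) = Nat.card {E : Subgroup (↥S × ↥S) // c E ≠ 0} := by
      rw [Nat.card_eq_fintype_card (α := {E : Subgroup (↥S × ↥S) // c E ≠ 0}), Fintype.card_subtype,
        Finset.card_filter]
      refine Finset.sum_congr rfl fun E _ => ?_
      by_cases h : c E = 0
      · simp [h]
      · rw [hk E h, Nat.div_self hpos, mul_one, if_pos h]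
        have := h1 E
        omega
    rwa [this]
  | succ j ih =>
    obtain ⟨c, hs, hst, hsum⟩ := ih
    by_cases hj : j < Nat.card S - 1
    · set k := Nat.card S - 1 - (j + 1) with hk
      have hk1 : Nat.card S - 1 - j = k + 1 := by omega
      rw [hk1] at hst
      set B := Nat.card (↥S × ↥S) * Nat.card (BSet c) with hB
      have hle : ∀ D, mark c D ≤ B := fun D =>
        (mark_le_card c D).trans (Nat.le_mul_of_pos_left _ Nat.card_pos)
      obtain ⟨c', h1, h2, -, h4⟩ := exists_step c hs k hst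
        (fun P => mark c (diag' F (fnRep F P)) + B)
        (fun P Q h => by rw [fnRep_congr h]) (fun D _ _ => (hle D).trans (Nat.le_add_left _ _))
        (fun D hD hkD => by
          have h := mark_modEq_fnRep hS hF hs hD (hkD ▸ hst)
          have hnB : (nIdx D : ℤ) ∣ (B : ℤ) := Int.natCast_dvd_natCast.2 (dvd_mul_of_dvd_left
            ((Subgroup.index_dvd_card _).trans (Subgroup.card_subgroup_dvd_card _)) _)
          have hm := (hle D).trans (Nat.le_add_left B (mark c (diag' F (fnRep F (pr₁ D)))))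
          refine Int.natCast_dvd_natCast.1 ?_
          rw [Nat.cast_sub hm, Nat.cast_add]
          have h5 := dvd_add (Int.modEq_iff_dvd.1 h) hnB
          rwa [show (mark c (diag' F (fnRep F (pr₁ D))) : ℤ) - mark c D + B =
            mark c (diag' F (fnRep F (pr₁ D))) + B - mark c D by ring] at h5)
      refine ⟨c', h1, h2, fun hd => hsum ?_⟩
      obtain ⟨n, hn⟩ := IsPGroup.iff_card.1 hS
      have hterm : ∀ E, c' E * (Nat.card S / Nat.card E) ≡
          c E * (Nat.card S / Nat.card E) [MOD p] := by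
        intro E
        by_cases hE : Nat.card E = k + 1
        · have h0 : p ∣ Nat.card S / Nat.card E ∨ (c' E = c E) := by
            by_cases hg : IsGraph F E
            · left
              have hdvd : Nat.card E ∣ Nat.card S := hg.card_pr₁ ▸ Subgroup.card_dvd_of_le (pr₁_le E)
              obtain ⟨i, hi, hie⟩ := (Nat.dvd_prime_pow Fact.out).1 (hn ▸ hdvd)
              rw [hie, hn, Nat.pow_div hi (Fact.out : p.Prime).pos]
              refine dvd_pow_self p (fun h0 => ?_)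
              have : i = n := by omega
              subst this
              omega
            · right
              have h6 : c E = 0 := not_not.1 fun h => hg (hs E h)
              have h7 : c' E = 0 := not_not.1 fun h => hg (h1 E h)
              rw [h6, h7]
          rcases h0 with h0 | h0
          · exact (Nat.modEq_zero_iff_dvd.2 (dvd_mul_of_dvd_right h0 _)).trans
              (Nat.modEq_zero_iff_dvd.2 (dvd_mul_of_dvd_right h0 _)).symm
          · rw [h0]
        · rw [(h4 E).2 hE]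
      have hmod : (∑ E, c' E * (Nat.card S / Nat.card E)) ≡
          ∑ E, c E * (Nat.card S / Nat.card E) [MOD p] := by
        rw [← Finset.sum_const_zero (s := (Finset.univ : Finset (Subgroup (↥S × ↥S))))] at *
        exact Nat.ModEq.sum fun E _ => hterm E
      exact Nat.modEq_zero_iff_dvd.1 (hmod.symm.trans (Nat.modEq_zero_iff_dvd.2 hd))
    · exact ⟨c, hs, by rwa [show Nat.card S - 1 - (j + 1) = Nat.card S - 1 - j by omega], hsum⟩

end Saturated

/-- Along a map of the system the biset restricts to isomorphic sets. -/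
theorem exists_stable_equiv {c : Subgroup (↥S × ↥S) → ℕ} (hsupp : Supported F c)
    (hst : StableAbove F c 0) (hf : IsMap F P f) :
    ∃ e : BSet c ≃ BSet c, (∀ (s : S) (w : BSet c), e (((1, s) : (↥S × ↥S)) • w) = ((1, s) : (↥S × ↥S)) • e w) ∧
      ∀ (x y : S), (x : Ω) ∈ P → (y : Ω) = f x →
        ∀ w : BSet c, e (((x, 1) : (↥S × ↥S)) • w) = ((y, 1) : (↥S × ↥S)) • e w := by
  set N : Subgroup (↥S × ↥S) := (P.subgroupOf S).prod ⊤ with hN
  have hN₁ : ∀ q ∈ N, (q.1 : Ω) ∈ P := fun q hq => hq.1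
  have hid : IsMap F S id := isMap_id F le_rfl
  set θ := pairHom hf hid N hN₁ (fun q _ => q.2.2)
  let bX : MulAction N (BSet c) := MulAction.compHom _ N.subtype
  let bY : MulAction N (BSet c) := MulAction.compHom _ θ
  have key : ∀ H : Subgroup N, Nat.card {w : BSet c // H ≤ @stabilizer N _ _ bX w} =
      Nat.card {w : BSet c // H ≤ @stabilizer N _ _ bY w} := by
    intro H
    have hH : H.map N.subtype ≤ N := Subgroup.map_subtype_le H
    have e1 : Nat.card {w : BSet c // H ≤ @stabilizer N _ _ bX w} = mark c (H.map N.subtype) := by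
      refine Nat.card_congr (Equiv.subtypeEquivRight fun w => ?_)
      rw [Subgroup.map_le_iff_le_comap]
      exact Iff.rfl
    have e2 : Nat.card {w : BSet c // H ≤ @stabilizer N _ _ bY w} = mark c (H.map θ) := by
      refine Nat.card_congr (Equiv.subtypeEquivRight fun w => ?_)
      rw [Subgroup.map_le_iff_le_comap]
      exact Iff.rfl
    have e3 : ((H.map N.subtype).subgroupOf N).map θ = H.map θ := by
      rw [Subgroup.subgroupOf, Subgroup.comap_map_eq_self_of_injective N.subtype_injective]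
    rw [e1, e2, ← e3, mark_map_pairHom hf hid hN₁ (fun q _ => q.2.2) hsupp hst hH Nat.card_pos]
  obtain ⟨e, he⟩ := @exists_equiv_of_marks N (BSet c) (BSet c) _ bX bY _ _ key
  refine ⟨e, fun s w => ?_, fun x y hx hy w => ?_⟩
  · have h : e (((1, s) : (↥S × ↥S)) • w) = θ ⟨(1, s), P.one_mem, Subgroup.mem_top _⟩ • e w :=
      he ⟨(1, s), P.one_mem, Subgroup.mem_top _⟩ w
    rw [h]
    congr 1
    exact Prod.ext (Subtype.ext hf.map_one) rfl
  · have h : e (((x, 1) : (↥S × ↥S)) • w) = θ ⟨(x, 1), hx, Subgroup.mem_top _⟩ • e w :=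
      he ⟨(x, 1), hx, Subgroup.mem_top _⟩ w
    rw [h]
    congr 1
    exact Prod.ext (Subtype.ext hy.symm) rfl

end CfsgLib.Fusion
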