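import Cfsg.Agent.Lib.Fusion.ThompsonCenter
import Cfsg.Agent.Lib.Fusion.ConstrainedPart
import Cfsg.Agent.Lib.Fusion.ModelBasic

/-!
The centre of a saturated system is a direct factor of `Z(S)` when `Z(S)` lies in a normal subgroup,
in particular always for odd `p`.
-/

set_option autoImplicit false
set_option linter.style.haveILetI false
set_option linter.unusedVariables false
set_option linter.unusedSectionVars false

universe u

namespace CfsgLib.Fusion

open Cfsg Cfsg.FusionSystem Subgroup

/-- The fixed points of a group are a direct factor of those of a subgroup of index prime to `p`,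
on an abelian `p`-group. -/
theorem exists_complement_fixed {V : Type u} [CommGroup V] [Finite V] {p : ℕ} [Fact p.Prime]
    (hV : IsPGroup p V) (A R : Subgroup (MulAut V)) (hRA : R ≤ A) (hidx : ¬ p ∣ R.relIndex A) :
    ∃ K : Subgroup V, K ≤ Offender.fixOf R ∧ Offender.fixOf A ⊓ K = ⊥ ∧
      Offender.fixOf A ⊔ K = Offender.fixOf R := by
  classical
  set R' := R.subgroupOf A with hR'
  haveI : Finite (A ⧸ R') := by
    haveI : Finite (MulAut V) :=
      Finite.of_injective (fun g : MulAut V => (g : V → V)) fun _ _ h => MulEquiv.ext (congrFun h)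
    infer_instance
  letI : Fintype (A ⧸ R') := Fintype.ofFinite _
  set k := Nat.card (A ⧸ R') with hk
  obtain ⟨m, hm⟩ := IsPGroup.iff_card.1 hV
  have hcop : (Nat.card V).Coprime k := by
    rw [hm]
    refine Nat.Coprime.pow_left m ((Fact.out : p.Prime).coprime_iff_not_dvd.2 fun h => hidx ?_)
    rw [Subgroup.relIndex, Subgroup.index_eq_card]
    exact h
  have hbij : Function.Bijective (fun v : V => v ^ k) := (powCoprime hcop).bijective
  let tr : Offender.fixOf R →* V :=
    { toFun := fun v => ∏ c : A ⧸ R', ((c.out : A) : MulAut V) v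
      map_one' := Finset.prod_eq_one fun c _ => map_one _
      map_mul' := fun v w => by
        rw [← Finset.prod_mul_distrib]
        exact Finset.prod_congr rfl fun c _ => map_mul _ _ _ }
  have htr : ∀ v, tr v ∈ Offender.fixOf A := by
    intro v a ha
    show a (∏ c : A ⧸ R', ((c.out : A) : MulAut V) v) = _
    rw [map_prod]
    refine Fintype.prod_equiv (MulAction.toPerm (⟨a, ha⟩ : A)) _ _ fun c => ?_
    obtain ⟨⟨r, hr⟩, hr'⟩ := QuotientGroup.mk_out_eq_mul R' (⟨a, ha⟩ * c.out)
    have h1 : (⟨a, ha⟩ : A) • c = ((⟨a, ha⟩ * c.out : A) : A ⧸ R') := by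
      conv_lhs => rw [← QuotientGroup.out_eq' c]
      rfl
    show a (((c.out : A) : MulAut V) v) = ((((⟨a, ha⟩ : A) • c).out : A) : MulAut V) v
    rw [h1, hr', Subgroup.coe_mul, Subgroup.coe_mul, MulAut.mul_apply, MulAut.mul_apply]
    exact congrArg _ (congrArg _ (v.2 _ hr).symm)
  have hAR : Offender.fixOf A ≤ Offender.fixOf R := Offender.fixOf_anti hRA
  have htrA : ∀ v : Offender.fixOf R, (v : V) ∈ Offender.fixOf A → tr v = (v : V) ^ k := by
    intro v hv
    show ∏ c : A ⧸ R', ((c.out : A) : MulAut V) v = _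
    rw [Finset.prod_congr rfl fun c _ => hv _ (c.out : A).2, Finset.prod_const, Finset.card_univ,
      hk, Nat.card_eq_fintype_card]
  refine ⟨tr.ker.map (Offender.fixOf R).subtype, Subgroup.map_subtype_le _, ?_, ?_⟩
  · refine (Subgroup.eq_bot_iff_forall _).2 fun v hv => ?_
    obtain ⟨hvA, w, hw, rfl⟩ := hv
    refine hbij.1 ?_
    show (w : V) ^ k = (1 : V) ^ k
    rw [← htrA w hvA, one_pow]
    exact hw
  · refine le_antisymm (sup_le hAR (Subgroup.map_subtype_le _)) fun v hv => ?_
    obtain ⟨w, hw⟩ := hbij.2 (tr ⟨v, hv⟩)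
    replace hw : w ^ k = tr ⟨v, hv⟩ := hw
    have hwA : w ∈ Offender.fixOf A := fun a ha => hbij.1 (by
      show a w ^ k = w ^ k
      rw [← map_pow, hw, htr _ a ha])
    have : v = w * (w⁻¹ * v) := (mul_inv_cancel_left w v).symm
    rw [this]
    refine Subgroup.mul_mem_sup hwA ⟨⟨w, hAR hwA⟩⁻¹ * ⟨v, hv⟩, ?_, rfl⟩
    show tr _ = 1
    rw [map_mul, map_inv, htrA ⟨w, hAR hwA⟩ hwA, inv_mul_eq_one]
    exact hw

variable {Ω : Type u} [Group Ω] {S : Subgroup Ω} [Finite S] {F : FusionSystem S} {p : ℕ}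
  [Fact p.Prime]

/-- If `Z(S)` lies in the core, the centre is a direct factor of it. -/
theorem center_isDirectFactor_of_le_core (hS : IsPGroup p S) (hF : F.IsSaturated p)
    (hZ : (S ⊓ Subgroup.centralizer (S : Set Ω)) ≤ F.core) :
    ∃ K : Subgroup Ω, K ≤ (S ⊓ Subgroup.centralizer (S : Set Ω)) ∧ F.center ⊓ K = ⊥ ∧
      F.center ⊔ K = (S ⊓ Subgroup.centralizer (S : Set Ω)) := by
  set Q := F.core with hQ
  have hQn : F.IsNormal Q := core_isNormal
  have hQS : Q ≤ S := core_le F
  haveI : Finite Q := finite_of_le hQS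
  obtain ⟨-, R, hR⟩ := fullyAutomized_of_fullyNormalized hS hF (IsNormal.fullyNormalized hQn)
  letI : CommGroup (Subgroup.center Q) :=
    { (inferInstance : Group (Subgroup.center Q)) with
      mul_comm := fun a b => Subtype.ext (Subgroup.mem_center_iff.1 b.2 a) }
  have hchar : ∀ (α : MulAut Q) (v : Q), v ∈ Subgroup.center Q → α v ∈ Subgroup.center Q := by
    intro α v hv
    refine Subgroup.mem_center_iff.2 fun w => ?_
    obtain ⟨w', rfl⟩ := α.surjective w
    rw [← map_mul, ← map_mul, Subgroup.mem_center_iff.1 hv w']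
  let res : MulAut Q →* MulAut (Subgroup.center Q) :=
    { toFun := fun α =>
        { toFun := fun v => ⟨α v, hchar α v v.2⟩
          invFun := fun v => ⟨α⁻¹ v, hchar α⁻¹ v v.2⟩
          left_inv := fun v => Subtype.ext (MulAut.inv_apply_self Q α (v : Q))
          right_inv := fun v => Subtype.ext (MulAut.apply_inv_self Q α (v : Q))
          map_mul' := fun a b => Subtype.ext (map_mul α (a : Q) b) }
      map_one' := MulEquiv.ext fun v => rfl
      map_mul' := fun α β => MulEquiv.ext fun v => rfl }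
  set A := (F.autGroup Q).map res with hA
  set T := (autInducedBy S Q).map res with hT
  have hTA : T ≤ A := Subgroup.map_mono (autInducedBy_le_autGroup hQS)
  have hidx : ¬ p ∣ T.relIndex A := by
    intro h
    refine R.not_dvd_index (h.trans ?_)
    rw [hR]
    let φ : F.autGroup Q →* A := res.subgroupMap _
    have hφ : Function.Surjective φ := res.subgroupMap_surjective _
    have he : ((autInducedBy S Q).subgroupOf (F.autGroup Q)).map φ = T.subgroupOf A := by
      ext m
      constructor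
      · rintro ⟨a, ha, rfl⟩
        exact ⟨a, ha, rfl⟩
      · rintro ⟨a, ha, he⟩
        exact ⟨⟨a, autInducedBy_le_autGroup hQS ha⟩, ha, Subtype.ext he⟩
    rw [Subgroup.relIndex, ← he]
    exact Subgroup.index_map_dvd _ hφ
  obtain ⟨K, hKT, hinf, hsup⟩ :=
    exists_complement_fixed (((hS.to_le hQS)).to_subgroup (Subgroup.center Q)) A T hTA hidx
  let ι : Subgroup.center Q →* Ω := Q.subtype.comp (Subgroup.center Q).subtype
  have hι : Function.Injective ι := Q.subtype_injective.comp (Subgroup.center Q).subtype_injective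
  have hfixT : (Offender.fixOf T).map ι = S ⊓ Subgroup.centralizer (S : Set Ω) := by
    refine le_antisymm ?_ fun z hz => ?_
    · rintro _ ⟨v, hv, rfl⟩
      refine ⟨hQS (v : Q).2, fun a ha => ?_⟩
      have hi : img Q (fun x => a * x * a⁻¹) = Q :=
        StronglyClosed.img_eq (IsNormal.stronglyClosed hQn) (isMap_conj F hQS ha) le_rfl
      set α := (isMap_conj F hQS ha).toAut hi with hα
      have hαT : α ∈ autInducedBy S Q :=
        mem_autInducedBy_iff.2 ⟨a, ha, fun x => (isMap_conj F hQS ha).toAut_apply hi x⟩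
      have h1 := congrArg ι (hv _ ⟨α, hαT, rfl⟩)
      have h2 : a * ((v : Q) : Ω) * a⁻¹ = ((v : Q) : Ω) :=
        ((isMap_conj F hQS ha).toAut_apply hi v).symm.trans h1
      rwa [mul_inv_eq_iff_eq_mul] at h2
    · refine ⟨⟨⟨z, hZ hz⟩, Subgroup.mem_center_iff.2 fun w => Subtype.ext (hz.2 _ (hQS w.2))⟩, ?_, rfl⟩
      rintro _ ⟨α, hα, rfl⟩
      obtain ⟨a, ha, hax⟩ := mem_autInducedBy_iff.1 hα
      refine Subtype.ext (Subtype.ext ((hax ⟨z, hZ hz⟩).trans ?_))
      show a * z * a⁻¹ = z
      rw [hz.2 a ha, mul_inv_cancel_right]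
  have hfixA : (Offender.fixOf A).map ι = F.center := by
    refine le_antisymm ?_ fun z hz => ?_
    · rintro _ ⟨v, hv, rfl⟩
      refine (mem_center_iff hS hF).2 ⟨hQS (v : Q).2, fun P f hf hvP => ?_⟩
      obtain ⟨g, hg, hgx, hgQ⟩ := (isNormal_iff.1 hQn).2 P f hf
      have hgQ' := hg.mono (le_sup_right : Q ≤ P ⊔ Q)
      have h1 : ((hgQ'.toAut hgQ (v : Q) : Q) : Ω) = ι v :=
        congrArg ι (hv _ ⟨_, hgQ'.toAut_mem hgQ, rfl⟩)
      rw [hgQ'.toAut_apply] at h1
      rw [← hgx _ hvP]
      exact h1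
    · have hzQ : z ∈ Q := IsNormal.le_core (IsCentral.isNormal center_isCentral) hz
      have hfix : ∀ α ∈ F.autGroup Q, ∀ w : Q, (w : Ω) ∈ F.center → ((α w : Q) : Ω) = w :=
        fun α hα w hw => by
          rw [← toFun_aut_apply α w.2]
          exact IsCentral.apply_eq center_isCentral (isMap_of_autGroup hQS hα) hw w.2
      have hzS : z ∈ S ⊓ Subgroup.centralizer (S : Set Ω) :=
        ⟨hQS hzQ, fun a ha => ((IsCentral.centralizerIn_eq center_isCentral).ge ha).2 z hz |>.symm⟩
      refine ⟨⟨⟨z, hzQ⟩, Subgroup.mem_center_iff.2 fun w => Subtype.ext (hzS.2 _ (hQS w.2))⟩, ?_, rfl⟩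
      rintro _ ⟨α, hα, rfl⟩
      exact Subtype.ext (Subtype.ext (hfix α hα ⟨z, hzQ⟩ hz))
  refine ⟨K.map ι, ?_, ?_, ?_⟩
  · rw [← hfixT]
    exact Subgroup.map_mono hKT
  · rw [← hfixA, ← Subgroup.map_inf _ _ _ hι, hinf, Subgroup.map_bot]
  · rw [← hfixA, ← Subgroup.map_sup, hsup, hfixT]

theorem center_castSys {T T' : Subgroup Ω} (h : T = T') (E : FusionSystem T) :
    (castSys h E).center = E.center := by
  subst h
  rfl

/-- For odd `p` the centre is a direct factor of `Z(S)`. -/
theorem center_isDirectFactor_of_odd (hp : p ≠ 2) (hS : IsPGroup p S) (hF : F.IsSaturated p) :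
    ∃ K : Subgroup Ω, K ≤ (S ⊓ Subgroup.centralizer (S : Set Ω)) ∧ F.center ⊓ K = ⊥ ∧
      F.center ⊔ K = (S ⊓ Subgroup.centralizer (S : Set Ω)) := by
  set J := Cfsg.thompsonSubgroupAOf S with hJ
  have hJS : J ≤ S := CfsgLib.Complement.thompsonAOf_le S
  have hn : normalizerIn S J = S := normalizerIn_thompsonAOf hS
  set N := normSys F J hJS hn with hN
  have hNs : N.IsSaturated p := isSaturated_normSys hS hF hJS hn
  have hZJ : S ⊓ Subgroup.centralizer (S : Set Ω) ≤ N.core :=
    ((center_le_centerThompsonAOf).trans inf_le_left).trans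
      (IsNormal.le_core (isNormal_normSys_self hJS hn))
  have hNZ : N.center = F.center := by
    rw [hN, normSys, center_castSys]
    exact center_normalizer_thompson_eq hS hF (isNormalizerSystem_normalizerSys F J hJS) (Or.inl hp)
  rw [← hNZ]
  exact center_isDirectFactor_of_le_core hS hNs hZJ

end CfsgLib.Fusion
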