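import Mathlib.GroupTheory.Sylow
import Mathlib.GroupTheory.PGroup

/-!
A group of automorphisms in which the nontrivial elements of a Sylow subgroup fix exactly a
subgroup `Z`, with all translations by elements of `Z` realized, and which fixes a nontrivial
subgroup of `Z`, has a normal Sylow subgroup.
-/

set_option autoImplicit false
set_option linter.unusedVariables false
set_option linter.unusedSectionVars false
set_option linter.style.haveILetI false

namespace CfsgLib.Fusion.FixedExactly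

open Subgroup

variable {V : Type*} [Group V] (G : Subgroup (MulAut V))

/-- The elements centralizing `Z` and moving every element inside its coset of `Z`. -/
def stabZ [Finite V] (Z : Subgroup V) : Subgroup G where
  carrier := {g | (∀ z ∈ Z, (g : MulAut V) z = z) ∧ ∀ v, (g : MulAut V) v * v⁻¹ ∈ Z}
  one_mem' := ⟨fun z _ => rfl, fun v => by simp⟩
  mul_mem' := fun {a b} ha hb => ⟨fun z hz => by
      show (a : MulAut V) ((b : MulAut V) z) = z
      rw [hb.1 z hz, ha.1 z hz], fun v => by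
      show (a : MulAut V) ((b : MulAut V) v) * v⁻¹ ∈ Z
      have := mul_mem (ha.2 ((b : MulAut V) v)) (hb.2 v)
      rwa [mul_assoc, inv_mul_cancel_left] at this⟩
  inv_mem' := fun {a} ha => ⟨fun z hz => by
      show (a : MulAut V)⁻¹ z = z
      conv_lhs => rw [← ha.1 z hz]
      exact MulAut.inv_apply_self _ _ _, fun v => by
      show (a : MulAut V)⁻¹ v * v⁻¹ ∈ Z
      have h := inv_mem (ha.2 ((a : MulAut V)⁻¹ v))
      rw [MulAut.apply_inv_self, mul_inv_rev, inv_inv] at h
      exact h⟩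

theorem isPGroup_stabZ [Finite V] {p : ℕ} (hV : IsPGroup p V) (Z : Subgroup V) :
    IsPGroup p (stabZ G Z) := by
  intro g
  obtain ⟨n, hn⟩ : ∃ n, ∀ v : V, v ^ p ^ n = 1 := by
    classical
    haveI := Fintype.ofFinite V
    choose e he using fun v : V => hV v
    refine ⟨Finset.univ.sup e, fun v => ?_⟩
    obtain ⟨c, hc⟩ := pow_dvd_pow p (Finset.le_sup (f := e) (Finset.mem_univ v))
    rw [hc, pow_mul, he, one_pow]
  refine ⟨n, Subtype.ext (Subtype.ext (MulEquiv.ext fun v => ?_))⟩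
  set α : MulAut V := ((g : G) : MulAut V) with hα
  have hd := g.2.2 v
  have hfix : α (α v * v⁻¹) = α v * v⁻¹ := g.2.1 _ hd
  have hpow : ∀ k : ℕ, (α ^ k) v = (α v * v⁻¹) ^ k * v := by
    intro k
    induction k with
    | zero => simp
    | succ k ih =>
      rw [pow_succ', MulAut.mul_apply, ih, map_mul, map_pow, hfix, pow_succ, mul_assoc,
        inv_mul_cancel_right]
  simp only [Subgroup.coe_pow, Subgroup.coe_one, MulAut.one_apply, ← hα]
  rw [hpow, hn, one_mul]

variable [Finite V]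

/-- The Sylow subgroup is normal. -/
theorem normal_of_fixed {p : ℕ} [Fact p.Prime] (hV : IsPGroup p V) (T : Sylow p G)
    (Z Q : Subgroup V) (hT : ∀ t ∈ (T : Subgroup G), t ∈ stabZ G Z)
    (hexact : ∀ t ∈ (T : Subgroup G), t ≠ 1 → ∀ v, (t : MulAut V) v = v → v ∈ Z)
    (hsurj : ∀ v, v ∉ Z → ∀ z ∈ Z, ∃ t ∈ (T : Subgroup G), (t : MulAut V) v = z * v)
    (hQ : Q ≠ ⊥) (hQZ : Q ≤ Z) (hinv : ∀ g ∈ G, ∀ q ∈ Q, g q ∈ Q) :
    (T : Subgroup G).Normal := by
  classical
  haveI : Finite (MulAut V) := inferInstance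
  have hK : stabZ G Z = (T : Subgroup G) := T.is_maximal' (isPGroup_stabZ G hV Z) hT
  let img : G → Subgroup V := fun g => Z.map (g : MulAut V).toMonoidHom
  have hnorm : ∀ g : G, img g = Z → ∀ t ∈ (T : Subgroup G), g * t * g⁻¹ ∈ (T : Subgroup G) := by
    intro g hg t ht
    have hpre : ∀ v, (g : MulAut V) v ∈ Z → v ∈ Z := fun v hv => by
      rw [← hg] at hv
      obtain ⟨z, hz, hzv⟩ := hv
      rwa [← (g : MulAut V).injective hzv]
    have hmem : ∀ z ∈ Z, (g : MulAut V) z ∈ Z := fun z hz => by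
      have h : (g : MulAut V) z ∈ img g := ⟨z, hz, rfl⟩
      rwa [hg] at h
    rw [← hK] at ht ⊢
    refine ⟨fun z hz => ?_, fun v => ?_⟩
    · show (g : MulAut V) ((t : MulAut V) ((g : MulAut V)⁻¹ z)) = z
      rw [ht.1 _ (hpre _ (by rwa [MulAut.apply_inv_self])), MulAut.apply_inv_self]
    · show (g : MulAut V) ((t : MulAut V) ((g : MulAut V)⁻¹ v)) * v⁻¹ ∈ Z
      have := hmem _ (ht.2 ((g : MulAut V)⁻¹ v))
      rwa [map_mul, map_inv, MulAut.apply_inv_self] at this
  by_cases hall : ∀ g : G, img g = Z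
  · exact ⟨fun t ht g => hnorm g (hall g) t ht⟩
  exfalso
  push Not at hall
  obtain ⟨g₀, hg₀⟩ := hall
  haveI := Fintype.ofFinite G
  obtain ⟨g, hgm, hmax⟩ := Finset.exists_max_image (Finset.univ.filter fun g : G => img g ≠ Z)
    (fun g => Nat.card (img g ⊓ Z : Subgroup V)) ⟨g₀, by simp [hg₀]⟩
  simp only [Finset.mem_filter, Finset.mem_univ, true_and] at hgm hmax
  have hQle : Q ≤ img g ⊓ Z := by
    refine le_inf (fun q hq => ?_) hQZ
    exact ⟨(g : MulAut V)⁻¹ q, hQZ (hinv _ (inv_mem g.2) q hq), MulAut.apply_inv_self _ _ _⟩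
  have hcard : Nat.card (img g) = Nat.card Z :=
    (Nat.card_congr (Z.equivMapOfInjective _ (g : MulAut V).injective).toEquiv).symm
  obtain ⟨e, he, heZ⟩ : ∃ e ∈ img g, e ∉ Z := by
    by_contra h
    push Not at h
    exact hgm (Subgroup.eq_of_le_of_card_ge h hcard.ge)
  obtain ⟨w, hw, hw1⟩ := (img g ⊓ Z).ne_bot_iff_exists_ne_one.1
    (fun h => hQ (le_bot_iff.1 (h ▸ hQle)))
    |> fun ⟨⟨w, hw⟩, hw1⟩ => (⟨w, hw, fun h => hw1 (Subtype.ext h)⟩ :
      ∃ w, w ∈ img g ⊓ Z ∧ w ≠ 1)
  obtain ⟨t, ht, hte⟩ := hsurj e heZ w hw.2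
  have htZ : ∀ z ∈ Z, (t : MulAut V) z = z := (hT t ht).1
  have ht1 : t ≠ 1 := by
    rintro rfl
    exact hw1 (mul_eq_right.1 hte.symm)
  -- the translate contains a larger intersection
  have hbig : img g ⊓ Z ⊔ Subgroup.zpowers e ≤ img (t * g) ⊓ img g := by
    refine sup_le (fun z hz => ⟨?_, hz.1⟩) (Subgroup.zpowers_le.2 ⟨?_, he⟩)
    · obtain ⟨u, hu, rfl⟩ := hz.1
      exact ⟨u, hu, htZ _ hz.2⟩
    · have hwe : w⁻¹ * e ∈ img g := (img g).mul_mem ((img g).inv_mem hw.1) he
      obtain ⟨u, hu, hue⟩ := hwe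
      refine ⟨u, hu, ?_⟩
      show (t : MulAut V) ((g : MulAut V) u) = e
      rw [show (g : MulAut V) u = w⁻¹ * e from hue, map_mul, map_inv, htZ w hw.2, hte,
        inv_mul_cancel_left]
  have hlt : img g ⊓ Z < img g ⊓ Z ⊔ Subgroup.zpowers e :=
    left_lt_sup.2 fun h => heZ (h (Subgroup.mem_zpowers e)).2
  have hpull : img (t * g) ⊓ img g = (img (g⁻¹ * t * g) ⊓ Z).map (g : MulAut V).toMonoidHom := by
    rw [Subgroup.map_inf _ _ _ (g : MulAut V).injective]
    refine congrArg (· ⊓ img g) ?_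
    show Z.map _ = (Z.map _).map _
    rw [Subgroup.map_map]
    refine congrArg (fun f => Z.map f) (MonoidHom.ext fun v => ?_)
    show (t : MulAut V) ((g : MulAut V) v) =
      (g : MulAut V) ((g : MulAut V)⁻¹ ((t : MulAut V) ((g : MulAut V) v)))
    rw [MulAut.apply_inv_self]
  have hu : img (g⁻¹ * t * g) = Z := by
    by_contra hne
    have h1 := hmax _ hne
    have h2 : Nat.card (img (g⁻¹ * t * g) ⊓ Z : Subgroup V) =
        Nat.card (img (t * g) ⊓ img g : Subgroup V) := by
      rw [hpull]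
      exact Nat.card_congr
        (Subgroup.equivMapOfInjective _ _ (g : MulAut V).injective).toEquiv
    rw [h2] at h1
    exact (lt_of_lt_of_le hlt hbig).ne (Subgroup.eq_of_le_of_card_ge (hlt.le.trans hbig) h1)
  -- the conjugate normalizes, hence lies in, the Sylow subgroup
  have huT : g⁻¹ * t * g ∈ (T : Subgroup G) := by
    have hp : IsPGroup p (Subgroup.zpowers (g⁻¹ * t * g)) := by
      have h := T.isPGroup'.map (MulAut.conj g⁻¹).toMonoidHom
      refine h.to_le (Subgroup.zpowers_le.2 ⟨t, ht, ?_⟩)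
      simp
    have hle : Subgroup.zpowers (g⁻¹ * t * g) ≤ Subgroup.normalizer ((T : Subgroup G) : Set G) := by
      refine Subgroup.zpowers_le.2 (Subgroup.mem_normalizer_fintype fun s hs => hnorm _ hu s hs)
    have hsup := hp.to_sup_of_normal_right' T.isPGroup' hle
    rw [← T.is_maximal' hsup le_sup_right]
    exact Subgroup.mem_sup_left (Subgroup.mem_zpowers _)
  obtain ⟨u, hu', hue⟩ := he
  have hfix : (t : MulAut V) e = e := by
    rw [← hue]
    have h := (hT _ huT).1 u hu'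
    have h2 := congrArg (g : MulAut V) h
    rw [show ((g⁻¹ * t * g : G) : MulAut V) u =
      (g : MulAut V)⁻¹ ((t : MulAut V) ((g : MulAut V) u)) from rfl, MulAut.apply_inv_self] at h2
    exact h2
  exact heZ (hexact t ht ht1 e hfix)

end CfsgLib.Fusion.FixedExactly
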