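import Cfsg.Agent.Lib.Fusion.NormalCriteria
import Cfsg.Agent.Lib.Fusion.Alperin
import Cfsg.Agent.Lib.Fusion.FixedExactlyNormal

/-!
Saturated fusion systems over `p`-groups of class two with transitive commuting on the non-central
elements and full commutator maps: a nontrivial normal subgroup forces the system to be constrained.
-/

set_option autoImplicit false
set_option linter.style.haveILetI false
set_option linter.unusedVariables false
set_option linter.unusedSectionVars false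

namespace CfsgLib.Fusion

open Cfsg Cfsg.FusionSystem Subgroup

/-- The properties of the group used below. -/
structure CommTransitive (X : Type*) [Group X] : Prop where
  comm : ∀ x y : X, x * y * x⁻¹ * y⁻¹ ∈ Subgroup.center X
  trans : ∀ x y w : X, y ∉ Subgroup.center X → x * y = y * x → y * w = w * y → x * w = w * x
  surj : ∀ x z : X, x ∉ Subgroup.center X → z ∈ Subgroup.center X → ∃ s, s * x * s⁻¹ = z * x
  nonabelian : ∃ x : X, x ∉ Subgroup.center X

theorem CommTransitive.of_equiv {X Y : Type*} [Group X] [Group Y] (h : CommTransitive X)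
    (e : X ≃* Y) : CommTransitive Y := by
  have hc : ∀ y : Y, y ∈ Subgroup.center Y ↔ e.symm y ∈ Subgroup.center X := fun y => by
    simp only [Subgroup.mem_center_iff]
    refine ⟨fun hy g => e.injective (by simp [hy (e g)]), fun hy g => e.symm.injective (by
      simp [hy (e.symm g)])⟩
  refine ⟨fun x y => (hc _).2 (by simpa using h.comm (e.symm x) (e.symm y)),
    fun x y w hy h1 h2 => e.symm.injective (by
      simpa using h.trans (e.symm x) (e.symm y) (e.symm w) (fun hh => hy ((hc y).2 hh))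
        (by rw [← map_mul, h1, map_mul]) (by rw [← map_mul, h2, map_mul])),
    fun x z hx hz => ?_, ?_⟩
  · obtain ⟨s, hs⟩ := h.surj (e.symm x) (e.symm z) (fun hh => hx ((hc x).2 hh)) ((hc z).1 hz)
    exact ⟨e s, e.symm.injective (by simpa using hs)⟩
  · obtain ⟨x, hx⟩ := h.nonabelian
    exact ⟨e x, fun hh => hx (by simpa using (hc _).1 hh)⟩

variable {Ω : Type*} [Group Ω] {S : Subgroup Ω} {F : FusionSystem S} {p : ℕ} {P Q D : Subgroup Ω}

/-- The automorphisms of `P` centralizing `D`. -/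
def fixOn (F : FusionSystem S) (P D : Subgroup Ω) : Subgroup (F.autGroup P) where
  carrier := {α | ∀ x : P, (x : Ω) ∈ D → (α : MulAut P) x = x}
  one_mem' := fun x _ => rfl
  mul_mem' := fun {a b} ha hb x hx => by
    show (a : MulAut P) ((b : MulAut P) x) = x
    rw [hb x hx, ha x hx]
  inv_mem' := fun {a} ha x hx => by
    show (a : MulAut P)⁻¹ x = x
    conv_lhs => rw [← ha x hx]
    exact MulAut.inv_apply_self _ _ _

theorem fixOn_normal
    (hinv : ∀ α ∈ F.autGroup P, ∀ x : P, (x : Ω) ∈ D → ((α x : P) : Ω) ∈ D) :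
    (fixOn F P D).Normal := ⟨fun β hβ γ x hx => by
  show (γ : MulAut P) ((β : MulAut P) ((γ : MulAut P)⁻¹ x)) = x
  rw [hβ _ (hinv _ (inv_mem γ.2) x hx), MulAut.apply_inv_self]⟩

/-- An element centralizing an invariant `D` and all of whose commutators with `P` lie in `D`. -/
theorem mem_of_central_step [Fact p.Prime] [Finite S] (hS : IsPGroup p S) (hc : F.IsCentric P)
    (hr : F.IsRadical p P) (hDP : D ≤ P)
    (hinv : ∀ α ∈ F.autGroup P, ∀ x : P, (x : Ω) ∈ D → ((α x : P) : Ω) ∈ D)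
    {a : Ω} (ha : a ∈ normalizerIn S P) (hfix : ∀ x ∈ D, a * x * a⁻¹ = x)
    (hcomm : ∀ x ∈ P, x⁻¹ * (a * x * a⁻¹) ∈ D) : a ∈ P := by
  haveI := fixOn_normal hinv
  let C : ℕ → Subgroup Ω := fun i => if i = 0 then D else P
  have hmono : Monotone C := by
    intro i j hij
    by_cases hi : i = 0
    · by_cases hj : j = 0
      · simp [C, hi, hj]
      · simpa [C, hi, hj] using hDP
    · simp [C, hi, show j ≠ 0 by omega]
  refine mem_of_stabilizes hS hc hr (fixOn F P D) 1 C hmono (fun i α hα x hx => ?_) (by simp [C])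
    (fun α hα => ⟨0, fun x hx => by simpa using hα x (by simpa [C] using hx)⟩) ha
    (fun α hα x hx => ?_) fun i hi x hx _ => ?_
  · by_cases h : i = 0
    · simp only [C, h, if_true] at hx ⊢
      exact hinv α hα x hx
    · simp [C, h]
  · rw [hα]
    exact Subtype.ext (hfix x hx)
  · have : i = 0 := by omega
    simpa [C, this] using hcomm x hx

section

variable [Fact p.Prime] [Finite S] (hS : IsPGroup p S) (hF : F.IsSaturated p)

include hS hF

theorem normal_inv (hQ : F.IsNormal Q) (hQP : Q ≤ P) (hP : P ≤ S) :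
    ∀ α ∈ F.autGroup P, ∀ x : P, (x : Ω) ∈ Q → ((α x : P) : Ω) ∈ Q := fun α hα x hx => by
  have h := (stronglyClosed_iff.1 (IsNormal.stronglyClosed hQ)).2 Q _ le_rfl
    ((isMap_of_autGroup hP hα).mono hQP) x hx
  rwa [toFun_aut_apply α x.2] at h

theorem constrained_of_centralizer_le (hQ : F.IsNormal Q) (h : centralizerIn S Q ≤ Q) :
    F.IsConstrained p := by
  refine ⟨hF, Q, hQ, hQ.1, fun R hR => ?_⟩
  obtain ⟨f, hf, rfl⟩ := isConj_iff.1 hR
  rw [StronglyClosed.img_eq (IsNormal.stronglyClosed hQ) hf le_rfl]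
  exact h

/-- A nontrivial normal subgroup makes the system constrained. -/
theorem constrained_of_commTransitive (hX : CommTransitive S) (hcore : F.core ≠ ⊥) :
    F.IsConstrained p := by
  classical
  have hQn : F.IsNormal F.core := core_isNormal
  set Q := F.core with hQdef
  set Z : Subgroup Ω := (Subgroup.center S).map S.subtype with hZdef
  have hZS : Z ≤ S := Subgroup.map_subtype_le _
  have hZmem : ∀ x (hx : x ∈ S), x ∈ Z ↔ (⟨x, hx⟩ : S) ∈ Subgroup.center S := fun x hx =>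
    ⟨fun ⟨y, hy, hyx⟩ => by
      have : y = ⟨x, hx⟩ := Subtype.ext hyx
      rwa [← this], fun h => ⟨_, h, rfl⟩⟩
  have hZc : ∀ z ∈ Z, ∀ a ∈ S, a * z = z * a := fun z hz a ha =>
    congrArg Subtype.val (Subgroup.mem_center_iff.1 ((hZmem z (hZS hz)).1 hz) ⟨a, ha⟩)
  have hcomm : ∀ a ∈ S, ∀ x ∈ S, a * x * a⁻¹ * x⁻¹ ∈ Z := fun a ha x hx =>
    (hZmem _ (S.mul_mem (S.mul_mem (S.mul_mem ha hx) (S.inv_mem ha)) (S.inv_mem hx))).2
      (hX.comm ⟨a, ha⟩ ⟨x, hx⟩)
  have hcomm' : ∀ a ∈ S, ∀ x ∈ S, x⁻¹ * (a * x * a⁻¹) ∈ Z := fun a ha x hx => by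
    have h := hcomm a ha x hx
    have h2 := hZc _ h x hx
    have : x⁻¹ * (a * x * a⁻¹) = a * x * a⁻¹ * x⁻¹ := by
      rw [inv_mul_eq_iff_eq_mul, h2, inv_mul_cancel_right]
    rwa [this]
  have htrans : ∀ x ∈ S, ∀ y ∈ S, ∀ w ∈ S, y ∉ Z → x * y = y * x → y * w = w * y →
      x * w = w * x := fun x hx y hy w hw hyZ h1 h2 =>
    congrArg Subtype.val (hX.trans ⟨x, hx⟩ ⟨y, hy⟩ ⟨w, hw⟩ (fun h => hyZ ((hZmem y hy).2 h))
      (Subtype.ext h1) (Subtype.ext h2))
  have hsurj : ∀ x ∈ S, x ∉ Z → ∀ z ∈ Z, ∃ s ∈ S, s * x * s⁻¹ = z * x := fun x hx hxZ z hz => by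
    obtain ⟨s, hs⟩ := hX.surj ⟨x, hx⟩ ⟨z, hZS hz⟩ (fun h => hxZ ((hZmem x hx).2 h))
      ((hZmem z (hZS hz)).1 hz)
    exact ⟨s, s.2, congrArg Subtype.val hs⟩
  obtain ⟨⟨x₀, hx₀⟩, hx₀Z⟩ := hX.nonabelian
  replace hx₀Z : x₀ ∉ Z := fun h => hx₀Z ((hZmem x₀ hx₀).1 h)
  have hcomm_mem : ∀ {P : Subgroup Ω}, Z ≤ P → P ≤ S → S ≤ Subgroup.normalizer (P : Set Ω) := by
    intro P hZP hP a ha
    haveI := finite_of_le hP
    refine Subgroup.mem_normalizer_fintype fun x hx => ?_
    have := P.mul_mem hx (hZP (hcomm' a ha x (hP hx)))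
    rwa [mul_inv_cancel_left] at this
  have hQnS := StronglyClosed.le_normalizer (IsNormal.stronglyClosed hQn)
  by_cases hQZ : Q ≤ Z
  swap
  · -- not central
    obtain ⟨x, hxQ, hxZ⟩ := SetLike.not_le_iff_exists.1 hQZ
    have hxS := hQn.1 hxQ
    have hZQ : Z ≤ Q := fun z hz => by
      obtain ⟨s, hs, hsx⟩ := hsurj x hxS hxZ z hz
      have h1 := ((hQnS hs) x).1 hxQ
      rw [hsx] at h1
      exact (Q.mul_mem_cancel_right hxQ).1 h1
    by_cases hcQ : centralizerIn S Q ≤ Q
    · exact constrained_of_centralizer_le hS hF hQn hcQ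
    obtain ⟨w, hwC, hwQ⟩ := SetLike.not_le_iff_exists.1 hcQ
    set A := centralizerIn S Q with hA
    have hAab : ∀ a ∈ A, ∀ b ∈ A, a * b = b * a := fun a ha b hb =>
      htrans a ha.1 x hxS b hb.1 hxZ (ha.2 x hxQ).symm (hb.2 x hxQ)
    have hQab : ∀ a ∈ Q, ∀ b ∈ Q, a * b = b * a := fun a ha b hb =>
      htrans a (hQn.1 ha) w hwC.1 b (hQn.1 hb) (fun h => hwQ (hZQ h)) (hwC.2 a ha)
        (hwC.2 b hb).symm
    have hQA : Q ≤ A := fun a ha => ⟨hQn.1 ha, fun b hb => hQab b hb a ha⟩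
    have hAS : A ≤ S := inf_le_left
    have hAn : F.IsNormal A := by
      refine isNormal_of_alperin hS hF hAS fun P hP => ?_
      have hAP : A ≤ P := by
        rcases hP with rfl | hP
        · exact hAS
        have hr := essential_isRadical hS hF hP
        have hQP := IsNormal.le_centricRadical hS hQn hP.1 hr
        refine le_of_normalizer_inf_le hS hP.1.1 hAS
          (fun a ha => hcomm_mem (hZQ.trans hQA) hAS (hP.1.1 ha)) fun a haA haP => ?_
        exact mem_of_central_step hS hP.1 hr hQP (normal_inv hS hF hQn hQP hP.1.1) ⟨haA.1, haP⟩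
          (fun y hy => by rw [← (haA.2 y hy), mul_inv_cancel_right])
          fun y hy => hZQ (hcomm' a haA.1 y (hP.1.1 hy))
      have hPS : P ≤ S := hP.elim (fun e => e.le) fun e => e.1.1
      refine ⟨hAP, fun α hα y hy => ⟨hPS (α y).2, fun q hq => ?_⟩⟩
      have hqP : q ∈ P := hAP (hQA hq)
      have h1 := normal_inv hS hF hQn (hQA.trans hAP) hPS _ (inv_mem hα) ⟨q, hqP⟩ hq
      have h2 : (((α⁻¹ : MulAut P) ⟨q, hqP⟩ : P) : Ω) * y = y * (α⁻¹ : MulAut P) ⟨q, hqP⟩ :=
        hy.2 _ h1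
      have h3 := congrArg α (Subtype.ext h2 : (α⁻¹ : MulAut P) ⟨q, hqP⟩ * y =
        y * (α⁻¹ : MulAut P) ⟨q, hqP⟩)
      rw [map_mul, map_mul, MulAut.apply_inv_self] at h3
      exact congrArg Subtype.val h3
    refine constrained_of_centralizer_le hS hF hAn fun a ha => ?_
    exact ⟨ha.1, fun q hq => ha.2 q (hQA hq)⟩
  -- central: there are no essential subgroups
  have hnoess : ∀ P, ¬ F.IsEssential p P := by
    intro P hP
    have hPlt := lt_of_essential hS hF hP
    have hPS := hP.1.1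
    have hr := essential_isRadical hS hF hP
    have hQP := IsNormal.le_centricRadical hS hQn hP.1 hr
    have hcP : centralizerIn S P ≤ P := hP.1.2 P (isConj_refl hPS)
    have hZP : Z ≤ P := fun z hz => hcP ⟨hZS hz, fun a ha => hZc z hz a (hPS ha)⟩
    have hSn := hcomm_mem hZP hPS
    haveI := finite_of_le hPS
    by_cases hab : ∀ a ∈ P, ∀ b ∈ P, a * b = b * a
    swap
    · push Not at hab
      obtain ⟨u, hu, v, hv, huv⟩ := hab
      refine (lt_normalizerIn hS hPlt).not_ge fun a ha => ?_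
      refine mem_of_central_step hS hP.1 hr hZP (fun α hα z hz => ?_) ha
        (fun z hz => by rw [hZc z hz a ha.1, mul_inv_cancel_right])
        fun x hx => hcomm' a ha.1 x (hPS hx)
      by_contra hαz
      have hall : ∀ b ∈ P, ((α z : P) : Ω) * b = b * (α z : P) := fun b hb => by
        have h2 : z * α⁻¹ ⟨b, hb⟩ = α⁻¹ ⟨b, hb⟩ * z :=
          Subtype.ext (hZc z hz _ (hPS (α⁻¹ ⟨b, hb⟩).2)).symm
        have h3 := congrArg α h2
        rw [map_mul, map_mul, MulAut.apply_inv_self] at h3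
        exact congrArg Subtype.val h3
      exact huv (htrans u (hPS hu) _ (hPS (α z).2) v (hPS hv) hαz (hall u hu).symm (hall v hv))
    -- abelian
    obtain ⟨x, hxP, hxZ⟩ : ∃ x ∈ P, x ∉ Z := by
      by_contra h
      push Not at h
      exact hx₀Z (h x₀ (hcP ⟨hx₀, fun a ha => (hZc a (h a ha) x₀ hx₀).symm⟩))
    have hPC : ∀ s ∈ S, s * x = x * s → s ∈ P := fun s hs hsx =>
      hcP ⟨hs, fun a ha => htrans a (hPS ha) x (hPS hxP) s hs hxZ (hab a ha x hxP) hsx.symm⟩
    have hPC' : ∀ s ∈ S, ∀ y ∈ P, y ∉ Z → s * y = y * s → s ∈ P := fun s hs y hy hyZ hsy =>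
      hPC s hs (htrans s hs y (hPS hy) x (hPS hxP) hyZ hsy (hab y hy x hxP))
    obtain ⟨T, hT⟩ := (fullyAutomized_of_fullyNormalized hS hF hP.2.1).2
    have hTmem : ∀ t : F.autGroup P, t ∈ (T : Subgroup (F.autGroup P)) ↔
        ∃ a ∈ S, ∀ y : P, (((t : MulAut P) y : P) : Ω) = a * (y : Ω) * a⁻¹ := fun t => by
      rw [hT, Subgroup.mem_subgroupOf, mem_autInducedBy_iff]
    have hN : (T : Subgroup (F.autGroup P)).Normal := by
      refine FixedExactly.normal_of_fixed (F.autGroup P) (hS.to_le hPS) T (Z.subgroupOf P)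
        (Q.subgroupOf P) (fun t ht => ?_) (fun t ht ht1 y hy => ?_) (fun y hy z hz => ?_) ?_ ?_ ?_
      · obtain ⟨a, ha, hax⟩ := (hTmem t).1 ht
        refine ⟨fun z hz => Subtype.ext ?_, fun y => ?_⟩
        · rw [hax, hZc z hz a ha, mul_inv_cancel_right]
        · rw [Subgroup.mem_subgroupOf, Subgroup.coe_mul, Subgroup.coe_inv, hax]
          exact hcomm a ha y (hPS y.2)
      · obtain ⟨a, ha, hax⟩ := (hTmem t).1 ht
        by_contra hyZ
        have haP : a ∈ P := hPC' a ha y y.2 hyZ (by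
          have := congrArg Subtype.val hy
          rw [hax] at this
          exact mul_inv_eq_iff_eq_mul.1 this)
        refine ht1 (Subtype.ext (MulEquiv.ext fun u => Subtype.ext ?_))
        rw [hax, hab a haP u u.2, mul_inv_cancel_right]
        rfl
      · obtain ⟨s, hs, hsy⟩ := hsurj y (hPS y.2) hy z hz
        have hmem : P.normalizerMonoidHom ⟨s, hSn hs⟩ ∈ autInducedBy S P :=
          mem_autInducedBy_iff.2 ⟨s, hs, fun u => rfl⟩
        refine ⟨⟨_, autInducedBy_le_autGroup hPS hmem⟩, (hTmem _).2 ⟨s, hs, fun u => rfl⟩,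
          Subtype.ext ?_⟩
        exact hsy
      · intro h
        refine hcore ((Subgroup.subgroupOf_eq_bot.1 h).eq_bot_of_le ?_)
        exact hQP
      · exact fun y hy => hQZ hy
      · exact fun α hα y hy => normal_inv hS hF hQn hQP hPS α hα y hy
    refine (lt_normalizerIn hS hPlt).not_ge fun a ha => ?_
    refine mem_of_aut_mem_pGroup hP.1 hr (T : Subgroup (F.autGroup P)) T.isPGroup' ha
      fun α hα => (hTmem α).2 ⟨a, ha.1, fun y => ?_⟩
    rw [hα]
    rfl
  have hSn : F.IsNormal S := by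
    refine isNormal_of_alperin hS hF le_rfl fun P hP => ?_
    rcases hP with rfl | hP
    · exact ⟨le_rfl, fun α _ x _ => (α x).2⟩
    · exact absurd hP (hnoess P)
  exact constrained_of_centralizer_le hS hF hSn inf_le_left

end

end CfsgLib.Fusion
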