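import Mathlib.Algebra.Module.ZMod
import Mathlib.FieldTheory.Finite.Basic
import Mathlib.GroupTheory.PGroup
import Mathlib.GroupTheory.QuotientGroup.Basic

/-!
A commuting family of automorphisms of exponent dividing `p - 1` of a finite `p`-group fixes a
line of the socle of the centre.
-/

set_option autoImplicit false
set_option linter.unusedVariables false
set_option linter.unusedSectionVars false
set_option linter.style.haveILetI false

namespace CfsgLib.Fusion

open Polynomial Subgroup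
open scoped commutatorElement IsMulCommutative

/-- A commuting family of endomorphisms of an elementary abelian group, each with `p - 1`-th
power the identity, has a common eigenvector. -/
theorem exists_common_scalar {V : Type*} [AddCommGroup V] [Finite V] [Nontrivial V] {p : ℕ}
    [Fact p.Prime] (hV : ∀ v : V, p • v = 0) (s : Set (V →+ V))
    (hcomm : ∀ f ∈ s, ∀ g ∈ s, ∀ v, f (g v) = g (f v))
    (hexp : ∀ f ∈ s, ∀ v, (f : V → V)^[p - 1] v = v) :
    ∃ v : V, v ≠ 0 ∧ ∀ f ∈ s, ∃ k : ℕ, f v = k • v := by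
  classical
  have hp : p.Prime := Fact.out
  haveI hmod : Module (ZMod p) V := AddCommGroup.zmodModule hV
  haveI : Finite (AddSubgroup V) := inferInstance
  obtain ⟨W, hWin, hWmin⟩ := wellFounded_lt.has_min
    {W : AddSubgroup V | W ≠ ⊥ ∧ ∀ f ∈ s, ∀ w ∈ W, f w ∈ W}
    ⟨⊤, top_ne_bot, fun f _ w _ => AddSubgroup.mem_top _⟩
  obtain ⟨hW0, hWinv⟩ : W ≠ ⊥ ∧ ∀ f ∈ s, ∀ w ∈ W, f w ∈ W := hWin
  obtain ⟨⟨w₀, hw₀⟩, hw0⟩ := AddSubgroup.ne_bot_iff_exists_ne_zero.1 hW0
  have hw₀0 : w₀ ≠ 0 := fun h => hw0 (Subtype.ext h)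
  refine ⟨w₀, hw₀0, fun f hf => ?_⟩
  let L : Module.End (ZMod p) V := f.toZModLinearMap p
  have hLf : ∀ v : V, L v = f v := fun v => rfl
  have hcast : ∀ (a : ZMod p) (v : V), a • v = a.val • v := fun a v => by
    rw [← Nat.cast_smul_eq_nsmul (ZMod p) a.val v, ZMod.natCast_zmod_val]
  -- some scalar has a nonzero eigenvector in `W`
  have key : ∀ t : Multiset (ZMod p), ∀ w ∈ W, w ≠ 0 →
      aeval L (t.map fun a => X - C a).prod w = 0 → ∃ a : ZMod p, ∃ v ∈ W, v ≠ 0 ∧ f v = a • v := by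
    intro t
    induction t using Multiset.induction_on with
    | empty => intro w _ hw0 h; simp at h; exact absurd h hw0
    | cons a t ih =>
      intro w hw hw0 h
      rw [Multiset.map_cons, Multiset.prod_cons, mul_comm, map_mul, Module.End.mul_apply] at h
      have hu : aeval L (X - C a) w = f w - a • w := by
        simp [hLf]
      rw [hu] at h
      by_cases hz : f w - a • w = 0
      · exact ⟨a, w, hw, hw0, sub_eq_zero.1 hz⟩
      · exact ih _ (W.sub_mem (hWinv f hf w hw) (hcast a w ▸ W.nsmul_mem hw _)) hz h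
  have hiter : ∀ (n : ℕ) (v : V), (L ^ n) v = (f : V → V)^[n] v := fun n v => by
    rw [Module.End.pow_apply]
    rfl
  obtain ⟨a, v, hv, hv0, hav⟩ := key (Finset.univ.val) w₀ hw₀ hw₀0 (by
    have hmon : (X ^ p - X : (ZMod p)[X]).Monic :=
      monic_X_pow_sub (by rw [degree_X]; exact_mod_cast hp.one_lt)
    have hroots : (X ^ p - X : (ZMod p)[X]).roots = Finset.univ.val := by
      have := FiniteField.roots_X_pow_card_sub_X (ZMod p)
      rwa [ZMod.card] at this
    have hprod := prod_multiset_X_sub_C_of_monic_of_roots_card_eq hmon (by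
      rw [hroots, FiniteField.X_pow_card_sub_X_natDegree_eq (ZMod p) hp.one_lt]
      exact ZMod.card p)
    rw [hroots] at hprod
    rw [hprod, map_sub, map_pow, aeval_X, LinearMap.sub_apply, hiter, hLf,
      show p = p - 1 + 1 from (Nat.sub_add_cancel hp.one_le).symm,
      Function.iterate_succ_apply' , hexp f hf, sub_self])
  -- the eigenspace is everything, by minimality
  let Wa : AddSubgroup V :=
    { carrier := {x | x ∈ W ∧ f x = a • x}
      zero_mem' := ⟨W.zero_mem, by simp⟩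
      add_mem' := fun {x y} hx hy => ⟨W.add_mem hx.1 hy.1, by rw [map_add, hx.2, hy.2, smul_add]⟩
      neg_mem' := fun {x} hx => ⟨W.neg_mem hx.1, by rw [map_neg, hx.2, smul_neg]⟩ }
  have hWa : Wa ≠ ⊥ := fun h => hv0 (by
    have : v ∈ Wa := ⟨hv, hav⟩
    rwa [h, AddSubgroup.mem_bot] at this)
  have heq : Wa = W := by
    by_contra hne
    refine hWmin Wa ⟨hWa, fun g hg x hx => ⟨hWinv g hg x hx.1, ?_⟩⟩
      (lt_of_le_of_ne (fun x hx => hx.1) hne)
    rw [hcomm f hf g hg, hx.2, hcast, hcast, map_nsmul]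
  have hmem : w₀ ∈ Wa := heq.ge hw₀
  exact ⟨a.val, hmem.2.trans (hcast a w₀)⟩

/-- Above an invariant proper normal subgroup there is an invariant step of order `p`. -/
theorem exists_invariant_step {G : Type*} [Group G] [Finite G] {p : ℕ} [Fact p.Prime]
    (hG : IsPGroup p G) (N : Subgroup G) [N.Normal] (hN : N ≠ ⊤) (H : Set (MulAut G))
    (hinv : ∀ α ∈ H, N.map α.toMonoidHom = N)
    (hcomm : ∀ α ∈ H, ∀ β ∈ H, α * β = β * α) (hexp : ∀ α ∈ H, α ^ (p - 1) = 1) :
    ∃ x : G, x ∉ N ∧ x ^ p ∈ N ∧ (∀ g : G, ⁅x, g⁆ ∈ N) ∧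
      ∀ α ∈ H, ∃ k : ℕ, (x ^ k)⁻¹ * α x ∈ N := by
  classical
  let Z₁ : Subgroup (center (G ⧸ N)) := (powMonoidHom p).ker
  haveI : Nontrivial (G ⧸ N) := QuotientGroup.nontrivial_iff.2 hN
  haveI := (hG.to_quotient N).center_nontrivial
  haveI : Nontrivial Z₁ := by
    obtain ⟨n, hn, hcard⟩ :=
      ((hG.to_quotient N).to_subgroup (center (G ⧸ N))).nontrivial_iff_card.1 inferInstance
    obtain ⟨z, hz⟩ := exists_prime_orderOf_dvd_card' p (hcard ▸ dvd_pow_self p hn.ne')
    refine (Subgroup.nontrivial_iff_ne_bot _).2 fun hb => ?_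
    have : z ∈ Z₁ := by
      show z ^ p = 1
      rw [← hz]; exact pow_orderOf_eq_one z
    rw [hb, Subgroup.mem_bot] at this
    rw [this, orderOf_one] at hz
    exact (Fact.out : p.Prime).ne_one hz.symm
  -- the induced endomorphisms
  have hex : ∀ α ∈ H, ∃ f : Additive Z₁ →+ Additive Z₁, ∀ (v : Additive Z₁) (x : G),
      QuotientGroup.mk x = ((Additive.toMul v : Z₁) : center (G ⧸ N)).1 →
      QuotientGroup.mk (α x) = ((Additive.toMul (f v) : Z₁) : center (G ⧸ N)).1 := by
    intro α hα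
    let ᾱ := QuotientGroup.congr N N α (hinv α hα)
    let ζ : center (G ⧸ N) →* center (G ⧸ N) :=
      (ᾱ.toMonoidHom.comp (center (G ⧸ N)).subtype).codRestrict _ fun z =>
        Subgroup.mem_center_iff.2 fun y => by
          obtain ⟨y, rfl⟩ := ᾱ.surjective y
          show ᾱ y * ᾱ z = ᾱ z * ᾱ y
          rw [← map_mul, ← map_mul, Subgroup.mem_center_iff.1 z.2 y]
    refine ⟨MonoidHom.toAdditive ((ζ.comp Z₁.subtype).codRestrict Z₁ fun z => ?_), fun v x hx => ?_⟩
    · show ζ z ^ p = 1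
      rw [← map_pow, show (z : center (G ⧸ N)) ^ p = 1 from z.2, map_one]
    · show QuotientGroup.mk (α x) = ᾱ ((Additive.toMul v : Z₁) : center (G ⧸ N)).1
      rw [← hx]
      rfl
  choose f hf using hex
  have hrep : ∀ v : Additive Z₁, ∃ x : G,
      QuotientGroup.mk x = ((Additive.toMul v : Z₁) : center (G ⧸ N)).1 :=
    fun v => QuotientGroup.mk_surjective _
  have hext : ∀ u v : Additive Z₁, ((Additive.toMul u : Z₁) : center (G ⧸ N)).1 =
      ((Additive.toMul v : Z₁) : center (G ⧸ N)).1 → u = v := fun u v h =>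
    Additive.toMul.injective (Subtype.ext (Subtype.ext h))
  set s : Set (Additive Z₁ →+ Additive Z₁) := {g | ∃ (α : MulAut G) (hα : α ∈ H), g = f α hα} with hs
  have hc : ∀ g ∈ s, ∀ g' ∈ s, ∀ v, g (g' v) = g' (g v) := by
    rintro _ ⟨α, hα, rfl⟩ _ ⟨β, hβ, rfl⟩ v
    obtain ⟨x, hx⟩ := hrep v
    refine hext _ _ ?_
    rw [← hf α hα _ _ (hf β hβ v x hx), ← hf β hβ _ _ (hf α hα v x hx)]
    exact congrArg (fun γ : MulAut G => (QuotientGroup.mk (γ x) : G ⧸ N)) (hcomm α hα β hβ)
  have he : ∀ g ∈ s, ∀ v, (g : Additive Z₁ → Additive Z₁)^[p - 1] v = v := by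
    rintro _ ⟨α, hα, rfl⟩ v
    have hit : ∀ n, ∀ (v : Additive Z₁) (x : G),
        QuotientGroup.mk x = ((Additive.toMul v : Z₁) : center (G ⧸ N)).1 →
        QuotientGroup.mk ((α ^ n) x) =
          ((Additive.toMul ((f α hα : Additive Z₁ → Additive Z₁)^[n] v) : Z₁) :
            center (G ⧸ N)).1 := by
      intro n
      induction n with
      | zero => intro v x hx; simpa using hx
      | succ n ih =>
        intro v x hx
        rw [pow_succ', MulAut.mul_apply, Function.iterate_succ_apply']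
        exact hf α hα _ _ (ih v x hx)
    obtain ⟨x, hx⟩ := hrep v
    refine hext _ _ ?_
    rw [← hit (p - 1) v x hx, hexp α hα, MulAut.one_apply]
    exact hx
  obtain ⟨v, hv0, hv⟩ := exists_common_scalar (p := p) (V := Additive Z₁)
    (fun v => Additive.toMul.injective (Subtype.ext (Additive.toMul v).2)) s hc he
  obtain ⟨x, hx⟩ := hrep v
  refine ⟨x, fun h => hv0 (hext v 0 ?_), ?_, fun g => ?_, fun α hα => ?_⟩
  · rw [← hx, (QuotientGroup.eq_one_iff x).2 h]
    rfl
  · rw [← QuotientGroup.eq_one_iff, QuotientGroup.mk_pow, hx, ← SubmonoidClass.coe_pow,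
      show ((Additive.toMul v : Z₁) : center (G ⧸ N)) ^ p = 1 from (Additive.toMul v).2]
    rfl
  · rw [← QuotientGroup.eq_one_iff]
    show QuotientGroup.mk' N ⁅x, g⁆ = 1
    rw [map_commutatorElement, commutatorElement_eq_one_iff_commute]
    show (QuotientGroup.mk x : G ⧸ N) * _ = _ * QuotientGroup.mk x
    rw [hx]
    exact ((Subgroup.mem_center_iff.1 ((Additive.toMul v : Z₁) : center (G ⧸ N)).2) _).symm
  · obtain ⟨k, hk⟩ := hv _ ⟨α, hα, rfl⟩
    refine ⟨k, ?_⟩
    rw [← QuotientGroup.eq_one_iff, QuotientGroup.mk_mul, QuotientGroup.mk_inv,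
      QuotientGroup.mk_pow, hf α hα v x hx, hk, hx, toMul_nsmul, SubmonoidClass.coe_pow,
      SubmonoidClass.coe_pow, inv_mul_cancel]

end CfsgLib.Fusion
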