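import Cfsg.Agent.Lib.Fusion.NormalCriteria
import Cfsg.Agent.Lib.Fusion.NormalizerSaturated
import Cfsg.Agent.Lib.Fusion.HyperFocal
import Cfsg.Agent.Lib.Fusion.FactorSystem
import Cfsg.Agent.Lib.Fusion.ModelMain
import Cfsg.Agent.Lib.Fusion.ModelBasic
import Cfsg.Agent.Lib.Complement.StronglyClosed

/-!
A normal `p`-complement criterion for fusion systems from the one for groups
(Kessar–Linckelmann): if no automorphism of order prime to `p` lives in the normalizer of `W(S)`
then the system is inner, for a functor `W` satisfying the group criterion, applied to a strongly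
closed subgroup.
-/

set_option autoImplicit false
set_option linter.style.haveILetI false
set_option linter.unusedVariables false
set_option linter.unusedSectionVars false

universe u

namespace CfsgLib.Fusion

open Cfsg Cfsg.FusionSystem Subgroup

variable {Ω : Type u} [Group Ω] {S : Subgroup Ω} {F E : FusionSystem S} {P Q R V : Subgroup Ω}
  {p : ℕ} {f : Ω → Ω}

theorem isSaturated_castSys {T T' : Subgroup Ω} (h : T = T') {E : FusionSystem T}
    (hE : E.IsSaturated p) : (castSys h E).IsSaturated p := by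
  subst h
  exact hE

/-- No automorphism of order prime to `p` of a subgroup over `V` normalizes `V`. -/
def LocallyPGroup (F : FusionSystem S) (p : ℕ) (V : Subgroup Ω) : Prop :=
  ∀ P ≤ S, V ≤ P → ∀ α ∈ F.autGroup P, (∀ x : P, (x : Ω) ∈ V ↔ ((α x : P) : Ω) ∈ V) →
    (orderOf α).Coprime p → α = 1

theorem IsMap.img_eq_of_forall [Finite Q] (h : IsMap F P f) (hQ : Q ≤ P)
    (hi : ∀ x ∈ Q, f x ∈ Q) : img Q f = Q :=
  eq_of_le_of_card_le (fun y hy => by
    obtain ⟨x, hx, rfl⟩ := (h.mono hQ).mem_img.1 hy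
    exact hi x hx) (h.mono hQ).card_img.ge

theorem eq_one_of_pow_prime_pow {G : Type*} [Group G] {a : G} {k : ℕ} [Fact p.Prime]
    (hc : (orderOf a).Coprime p) (h : a ^ p ^ k = 1) : a = 1 :=
  orderOf_eq_one_iff.1
    (Nat.eq_one_of_dvd_coprimes (hc.pow_right k) dvd_rfl (orderOf_dvd_of_pow_eq_one h))

theorem mul_aut_pow_conj {P : Subgroup Ω} {α : MulAut P} {a : Ω}
    (h : ∀ x : P, ((α x : P) : Ω) = a * x * a⁻¹) (n : ℕ) (x : P) :
    (((α ^ n) x : P) : Ω) = a ^ n * x * (a ^ n)⁻¹ := by
  induction n generalizing x with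
  | zero => simp
  | succ n ih =>
    rw [pow_succ, MulAut.mul_apply, ih, h, pow_succ, mul_inv_rev]
    simp only [mul_assoc]

/-- An automorphism of order prime to `p` that is a conjugation in a `p`-group is trivial. -/
theorem eq_one_of_conj [Fact p.Prime] (hS : IsPGroup p S) {α : MulAut P}
    (hc : (orderOf α).Coprime p) {a : Ω} (ha : a ∈ S)
    (h : ∀ x : P, ((α x : P) : Ω) = a * x * a⁻¹) : α = 1 := by
  obtain ⟨k, hk⟩ := hS ⟨a, ha⟩
  refine eq_one_of_pow_prime_pow (k := k) hc (MulEquiv.ext fun x => Subtype.ext ?_)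
  have hk' : a ^ p ^ k = 1 := congrArg Subtype.val hk
  rw [mul_aut_pow_conj h, hk']
  simp

/-- The functors and the group criterion. -/
structure ComplementFunctor (p : ℕ) where
  /-- The functor. -/
  W : ∀ {G : Type u} [Group G], Subgroup G → Subgroup G
  le : ∀ {G : Type u} [Group G] (T : Subgroup G), W T ≤ T
  map : ∀ {G H : Type u} [Group G] [Group H] (f : G →* H) (T : Subgroup G),
    Set.InjOn f (T : Set G) → (W T).map f = W (T.map f)
  ne_bot : ∀ {G : Type u} [Group G] (T : Subgroup G) [Finite T], IsPGroup p T → T ≠ ⊥ → W T ≠ ⊥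
  criterion : ∀ (G : Type u) [Group G] [Finite G] (T : Sylow p G) (D : Subgroup G),
    Cfsg.IsStronglyClosed D (T : Subgroup G) →
    Cfsg.HasNormalPComplement p (normalizer (W D : Set G)) →
    Cfsg.HasNormalPComplement p G

theorem ComplementFunctor.normalizer_le (W : ComplementFunctor.{u} p) (T : Subgroup Ω) :
    Subgroup.normalizer (T : Set Ω) ≤ Subgroup.normalizer (W.W T : Set Ω) := by
  intro g hg
  rw [Subgroup.mem_normalizer_iff_map_conj_eq] at hg ⊢
  rw [W.map _ _ (fun a _ b _ h => (MulAut.conj g).injective h), hg]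

theorem ComplementFunctor.top_map (W : ComplementFunctor.{u} p) (T : Subgroup Ω) :
    (W.W (⊤ : Subgroup T)).map T.subtype = W.W T := by
  rw [W.map _ _ (T.subtype_injective.injOn), ← MonoidHom.range_eq_map, Subgroup.range_subtype]

theorem mem_normalizer_inf {A B : Subgroup Ω} {a : Ω}
    (hA : a ∈ Subgroup.normalizer (A : Set Ω)) (hB : a ∈ Subgroup.normalizer (B : Set Ω)) :
    a ∈ Subgroup.normalizer ((A ⊓ B : Subgroup Ω) : Set Ω) := by
  rw [Subgroup.mem_normalizer_iff] at hA hB ⊢
  exact fun x => and_congr (hA x) (hB x)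

/-- A nontrivial subgroup normal in a `p`-group meets its centre. -/
theorem exists_central_mem [Fact p.Prime] [Finite S] (hS : IsPGroup p S) {D : Subgroup Ω}
    (hDS : D ≤ S) (hn : S ≤ Subgroup.normalizer (D : Set Ω)) (hne : D ≠ ⊥) :
    ∃ z ∈ D, z ≠ 1 ∧ ∀ a ∈ S, a * z * a⁻¹ = z := by
  haveI : (D.subgroupOf S).Normal := (Subgroup.normal_subgroupOf_iff_le_normalizer hDS).2 hn
  letI : MulAction S (D.subgroupOf S) :=
    MulAction.compHom _ (MulAut.conjNormal : S →* MulAut (D.subgroupOf S))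
  have hdvd : p ∣ Nat.card (D.subgroupOf S) := by
    rw [Nat.card_congr (Subgroup.subgroupOfEquivOfLe hDS).toEquiv]
    haveI := finite_of_le hDS
    obtain ⟨k, hk⟩ := (hS.to_le hDS).exists_card_eq
    rcases Nat.eq_zero_or_pos k with rfl | hk0
    · exact absurd (Subgroup.card_eq_one.1 (by simpa using hk)) hne
    · exact hk ▸ dvd_pow_self p hk0.ne'
  have h1 : (1 : D.subgroupOf S) ∈ MulAction.fixedPoints S (D.subgroupOf S) := fun a =>
    map_one (MulAut.conjNormal a)
  obtain ⟨z, hz, hz1⟩ := hS.exists_fixed_point_of_prime_dvd_card_of_fixed_point _ hdvd h1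
  refine ⟨((z : S) : Ω), z.2, fun h => hz1.symm (Subtype.ext (Subtype.ext h)), fun a ha => ?_⟩
  have h2 := congrArg (fun w : D.subgroupOf S => ((w : S) : Ω)) (hz ⟨a, ha⟩)
  exact h2

/-- All automorphisms of order prime to `p` are trivial. -/
def CoprimeTrivial (F : FusionSystem S) (p : ℕ) : Prop :=
  ∀ R ≤ S, ∀ α ∈ F.autGroup R, (orderOf α).Coprime p → α = 1

section Step

variable [Fact p.Prime] [Finite S] (hS : IsPGroup p S) (hF : F.IsSaturated p)
  (W : ComplementFunctor.{u} p) {D : Subgroup Ω} (hD : F.StronglyClosed D)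
  (hyp : LocallyPGroup F p (W.W D))
  (hsmall : ∀ (Ω' : Type u) [Group Ω'] (S' : Subgroup Ω') [Finite S'] (F' : FusionSystem S')
    (D' : Subgroup Ω'), Nat.card S' < Nat.card S → IsPGroup p S' → F'.IsSaturated p →
    F'.StronglyClosed D' → LocallyPGroup F' p (W.W D') → CoprimeTrivial F' p)
  (hcore : ∀ E : FusionSystem S, E.IsSaturated p → E.StronglyClosed D →
    LocallyPGroup E p (W.W D) →
    Nat.card F.core < Nat.card E.core → CoprimeTrivial E p)

include hS hF hD hyp hcore

theorem autGroup_le_of_isMap {T : Subgroup Ω} {E : FusionSystem T} (hTS : T ≤ S)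
    (h : ∀ P f, IsMap E P f → IsMap F P f) (hP : P ≤ T) {α : MulAut P}
    (hα : α ∈ E.autGroup P) : α ∈ F.autGroup P :=
  (autGroup_iff_isMap (hP.trans hTS) fun x => (toFun_aut_apply α x.2).symm).2
    (h _ _ (isMap_of_autGroup hP hα))

/-- An automorphism preserving a normal subgroup outside the core is handled by induction. -/
theorem eq_one_of_preserves_normal {X : Subgroup Ω} (hX : X ≤ S) (hXn : normalizerIn S X = S)
    (hXQ : ¬ X ≤ F.core) (hXP : X ≤ P) (hP : P ≤ S) {α : MulAut P} (hα : α ∈ F.autGroup P)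
    (hinv : ∀ x : P, (x : Ω) ∈ X → ((α x : P) : Ω) ∈ X) (hc : (orderOf α).Coprime p) : α = 1 := by
  have hNs := isNormalizerSystem_normalizerSys F X hX
  set E := castSys hXn (normalizerSys F X hX) with hE
  have hmap : ∀ P f, IsMap E P f ↔ (P ≤ S ∧ (∀ x ∈ P, f x ∈ S) ∧
      ∃ g, IsMap F (P ⊔ X) g ∧ (∀ x ∈ P, g x = f x) ∧ img X g = X) := fun P f => by
    rw [hE, isMap_castSys, isMap_normalizerSystem_iff hNs, hXn]
  have hle : ∀ P f, IsMap E P f → IsMap F P f := fun P f h => by
    obtain ⟨-, -, g, hg, hgx, -⟩ := (hmap P f).1 h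
    exact (hg.mono le_sup_left).congr hgx
  have hXfn : F.IsFullyNormalized X :=
    ⟨hX, fun R _ => by rw [hXn]; exact Subgroup.card_le_of_le inf_le_left⟩
  have hEs : E.IsSaturated p :=
    isSaturated_castSys hXn (isSaturated_normalizerSystem hS hF hXfn hNs)
  have hED : E.StronglyClosed D := stronglyClosed_iff.2 ⟨hD.1, fun R f hR hf x hx =>
    StronglyClosed.apply_mem hD (hle R f hf) hx (hR hx)⟩
  have hEh : LocallyPGroup E p (W.W D) := fun P hP hWP α hα h1 h2 =>
    hyp P hP hWP α (autGroup_le_of_isMap hS hF W hD hyp hcore le_rfl hle hP hα) h1 h2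
  have hXE : E.IsNormal X := by
    refine isNormal_iff.2 ⟨hX, fun P f hf => ?_⟩
    obtain ⟨h1, h2, g, hg, hgx, hgX⟩ := (hmap P f).1 hf
    exact ⟨g, (hmap _ g).2 ⟨sup_le h1 hX, fun x hx => hg.mem hx, g,
      by rwa [sup_assoc, sup_idem], fun _ _ => rfl, hgX⟩, hgx, hgX⟩
  have hQE : E.IsNormal F.core := by
    refine isNormal_iff.2 ⟨core_le F, fun P f hf => ?_⟩
    obtain ⟨h1, h2, g, hg, hgx, hgX⟩ := (hmap P f).1 hf
    obtain ⟨k, hk, hkx, hkQ⟩ := (isNormal_iff.1 core_isNormal).2 _ g hg
    have hle' : P ⊔ F.core ⊔ X ≤ P ⊔ X ⊔ F.core :=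
      sup_le (sup_le (le_sup_left.trans le_sup_left) le_sup_right) (le_sup_right.trans le_sup_left)
    refine ⟨k, (hmap _ k).2 ⟨sup_le h1 (core_le F), fun x hx =>
      hk.mem (hle' (Subgroup.mem_sup_left hx)), k, hk.mono hle', fun _ _ => rfl, ?_⟩,
      fun x hx => (hkx x (Subgroup.mem_sup_left hx)).trans (hgx x hx), hkQ⟩
    exact (img_congr fun x hx => hkx x (Subgroup.mem_sup_right hx)).trans hgX
  have hlt : Nat.card F.core < Nat.card E.core := by
    haveI := finite_of_le (core_le E)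
    have h1 : F.core ⊔ X ≤ E.core := sup_le (IsNormal.le_core hQE) (IsNormal.le_core hXE)
    refine lt_of_not_ge fun h => hXQ ?_
    rw [eq_of_le_of_card_le (le_sup_left.trans h1) h]
    exact le_sup_right.trans h1
  refine hcore E hEs hED hEh hlt P hP α ?_ hc
  have hm := isMap_of_autGroup hP hα
  refine (autGroup_iff_isMap (F := E) hP fun x => (toFun_aut_apply α x.2).symm).2
    ((hmap _ _).2 ⟨hP, fun x hx => hm.mem hx, _, by rwa [sup_eq_left.2 hXP], fun _ _ => rfl, ?_⟩)
  haveI := finite_of_le hX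
  exact hm.img_eq_of_forall hXP fun x hx => by
    rw [toFun_aut_apply α (hXP hx)]
    exact hinv ⟨x, hXP hx⟩ hx

include hsmall

/-- With trivial core the normalizer of every nontrivial fully normalized subgroup is inner. -/
theorem coprimeTrivial_normalizerSys (hQ : F.core = ⊥) (hDQ : ¬ D ≤ F.core) :
    ∀ (V : Subgroup Ω), V ≠ ⊥ → F.IsFullyNormalized V → ∀ P, V ≤ P → P ≤ normalizerIn S V →
      ∀ α ∈ F.autGroup P, (∀ x : P, (x : Ω) ∈ V → ((α x : P) : Ω) ∈ V) →
      (orderOf α).Coprime p → α = 1 := by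
  intro V
  induction hn : Nat.card S - Nat.card (normalizerIn S V) using Nat.strong_induction_on
    generalizing V with
  | _ n ih =>
    intro hV hVn P hVP hP α hα hinv hc
    haveI := finite_normalizerIn (S := S) (P := V)
    rcases (inf_le_left : normalizerIn S V ≤ S).eq_or_lt with hT | hT
    · exact eq_one_of_preserves_normal hS hF W hD hyp hcore hVn.1 hT
        (by rw [hQ, le_bot_iff]; exact hV) hVP (hP.trans inf_le_left) hα hinv hc
    · set T := normalizerIn S V with hTdef
      have hNs := isNormalizerSystem_normalizerSys F V hVn.1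
      have hle : ∀ P f, IsMap (normalizerSys F V hVn.1) P f → IsMap F P f := fun P f h => by
        obtain ⟨-, -, g, hg, hgx, -⟩ := (isMap_normalizerSystem_iff hNs).1 h
        exact (hg.mono le_sup_left).congr hgx
      have hlt : Nat.card T < Nat.card S :=
        lt_of_not_ge fun h => hT.ne (eq_of_le_of_card_le hT.le h)
      have hDS : S ≤ Subgroup.normalizer (D : Set Ω) := StronglyClosed.le_normalizer hD
      have hDT : (D ⊓ T : Subgroup Ω) ≠ ⊥ := fun h => by
        obtain ⟨z, hz, hz1, hzc⟩ := exists_central_mem hS hD.1 hDS fun h' => hDQ (h' ▸ bot_le)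
        refine hz1 (Subgroup.mem_bot.1 (h ▸ ⟨hz, hD.1 hz, fun y => ?_⟩))
        constructor
        · intro hy
          have e : z * y * z⁻¹ = y := by
            have e1 := hzc y (hVn.1 hy)
            rw [mul_inv_eq_iff_eq_mul] at e1 ⊢
            exact e1.symm
          rwa [e]
        · intro hy
          have e1 := hzc _ (hVn.1 hy)
          rw [mul_inv_eq_iff_eq_mul] at e1
          have e2 : z * y * z⁻¹ = y := mul_left_cancel (a := z) (e1.symm.trans (by group))
          rwa [e2] at hy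
      have hET : (normalizerSys F V hVn.1).StronglyClosed (D ⊓ T) :=
        stronglyClosed_iff.2 ⟨inf_le_right, fun R f hR hf x hx =>
          ⟨StronglyClosed.apply_mem hD (hle R f hf) hx (hR hx).1, hf.mem hx⟩⟩
      have hnorm : ∀ a ∈ normalizerIn S T, a ∈ Subgroup.normalizer (W.W (D ⊓ T) : Set Ω) :=
        fun a ha => W.normalizer_le _ (mem_normalizer_inf (hDS ha.1) ha.2)
      have hEh : LocallyPGroup (normalizerSys F V hVn.1) p (W.W (D ⊓ T)) := by
        intro X hX hWX β hβ hβinv hβc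
        have hWT : W.W (D ⊓ T) ≤ T := (W.le _).trans inf_le_right
        have hbig : Nat.card T < Nat.card (normalizerIn S (W.W (D ⊓ T))) := by
          haveI : Finite ↥(normalizerIn S (W.W (D ⊓ T))) := finite_normalizerIn
          have h1 : T < normalizerIn S (W.W (D ⊓ T)) := lt_of_lt_of_le (lt_normalizerIn hS hT)
            (le_inf inf_le_left hnorm)
          exact lt_of_not_ge fun h => h1.ne (eq_of_le_of_card_le h1.le h)
        haveI : Finite ↥(D ⊓ T) := finite_of_le (inf_le_left.trans hD.1)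
        have hWne : W.W (D ⊓ T) ≠ ⊥ := W.ne_bot (D ⊓ T) (hS.to_le (inf_le_left.trans hD.1)) hDT
        obtain ⟨V', hV', hV'n⟩ := exists_fullyNormalized_conj F (hWT.trans hT.le)
        obtain ⟨ψ, hψ, hψi, hψN⟩ := exists_map_normalizerIn_of_fullyNormalized hS hF hV'n hV'
        have hXN : X ≤ normalizerIn S (W.W (D ⊓ T)) := fun a ha => ⟨hT.le (hX ha),
          hnorm a ⟨hT.le (hX ha), Subgroup.le_normalizer (hX ha)⟩⟩
        have hψX := hψ.mono hXN
        set X' := img X ψ
        have hX' : X' ≤ normalizerIn S V' := fun y hy => by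
          obtain ⟨x, hx, rfl⟩ := hψX.mem_img.1 hy
          exact hψN x (hXN hx)
        have hV'X : V' ≤ X' := hψi ▸ img_mono hWX
        have hV'ne : V' ≠ ⊥ := fun h => hWne <| by
          refine (Subgroup.eq_bot_iff_forall _).2 fun x hx => hψX.eq_one (hWX hx) ?_
          have := (hψX.mono hWX).apply_mem_img hx
          rwa [hψi, h, Subgroup.mem_bot] at this
        have hβF : β ∈ F.autGroup X :=
          autGroup_le_of_isMap hS hF W hD hyp hcore hT.le hle hX hβ
        have hβ' : MulAut.congr hψX.equivImg β = 1 := by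
          haveI := finite_normalizerIn (S := S) (P := V')
          have hsize : Nat.card (normalizerIn S (W.W (D ⊓ T))) ≤ Nat.card (normalizerIn S V') :=
            hV'n.2 _ (isConj_symm hV')
          have hle' : Nat.card (normalizerIn S V') ≤ Nat.card S := Subgroup.card_le_of_le inf_le_left
          refine ih _ (by omega) V' rfl hV'ne hV'n X' hV'X hX' _ (hψX.congr_mem_autGroup hβF)
            (fun y hy => ?_) ?_
          · obtain ⟨x, rfl⟩ := hψX.equivImg.surjective y
            show ((hψX.equivImg (β (hψX.equivImg.symm (hψX.equivImg x))) : X') : Ω) ∈ V'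
            rw [MulEquiv.symm_apply_apply, IsMap.coe_equivImg]
            rw [IsMap.coe_equivImg, ← hψi, hψX.apply_mem_img_iff_of_le hWX x.2] at hy
            rw [← hψi, hψX.apply_mem_img_iff_of_le hWX (β x).2]
            exact (hβinv x).1 hy
          · exact (MulEquiv.orderOf_eq (MulAut.congr hψX.equivImg) β).symm ▸ hβc
        exact (MulAut.congr hψX.equivImg).injective (hβ'.trans (map_one _).symm)
      haveI : Finite T := finite_normalizerIn
      refine hsmall Ω T (normalizerSys F V hVn.1) (D ⊓ T) hlt (hS.to_le hT.le)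
        (isSaturated_normalizerSystem hS hF hVn hNs) hET hEh P hP α ?_ hc
      have hm := isMap_of_autGroup (hP.trans inf_le_left) hα
      refine (autGroup_iff_isMap (F := normalizerSys F V hVn.1) hP
        fun x => (toFun_aut_apply α x.2).symm).2 ((isMap_normalizerSystem_iff hNs).2
        ⟨hP, fun x hx => ?_, _, by rwa [sup_eq_left.2 hVP], fun _ _ => rfl, ?_⟩)
      · rw [toFun_aut_apply α hx]
        exact hP (α _).2
      · haveI := finite_of_le hVn.1
        exact hm.img_eq_of_forall hVP fun x hx => by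
          rw [toFun_aut_apply α (hVP hx)]
          exact hinv ⟨x, hVP hx⟩ hx

/-- With nontrivial core `Q`, automorphisms of order prime to `p` are trivial modulo `Q`. -/
theorem sub_mem_core (hQ : F.core ≠ ⊥) (hDQ : ¬ D ≤ F.core) (hQR : F.core ≤ R) (hR : R ≤ S) {β : MulAut R}
    (hβ : β ∈ F.autGroup R) (hc : (orderOf β).Coprime p) (x : R) :
    (x : Ω)⁻¹ * ((β x : R) : Ω) ∈ F.core := by
  set Q := F.core with hQdef
  have hQn : F.IsNormal Q := core_isNormal
  have hQc := IsNormal.stronglyClosed hQn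
  haveI : (Q.subgroupOf S).Normal := by
    rw [Subgroup.normal_subgroupOf_iff_le_normalizer hQn.1]
    exact StronglyClosed.le_normalizer hQc
  set θ := QuotientGroup.mk' (Q.subgroupOf S) with hθ
  have hker : ∀ s : S, θ s = 1 ↔ (s : Ω) ∈ Q := fun s => QuotientGroup.eq_one_iff s
  set E := factorSys F hQc θ hker with hEdef
  have hiff := fun (X : Subgroup (S ⧸ Q.subgroupOf S)) (k : S ⧸ Q.subgroupOf S → S ⧸ Q.subgroupOf S) =>
    isMap_induced_iff (P' := X) (f' := k) (S' := θ.range) (E := E) (fun P' φ' => Iff.rfl) rfl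
  have hEs : E.IsSaturated p := isSaturated_image hS hF
    (isSurjectiveMorphism_factor hS hF hQc ⟨hQn.1, hker, rfl, fun P' φ' => Iff.rfl⟩)
  haveI : Finite θ.range := Subtype.finite
  set D' := imageAlong θ D with hD'def
  have hD'r : D' ≤ θ.range := fun y hy => by
    obtain ⟨z, hz, -, rfl⟩ := mem_imageAlong.1 hy
    exact ⟨_, rfl⟩
  have hDQc : F.StronglyClosed (D ⊔ Q) := StronglyClosed.sup hS hF hD hQc
  have hD'c : E.StronglyClosed D' := by
    refine stronglyClosed_iff.2 ⟨hD'r, fun X k hX hk y hy => ?_⟩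
    obtain ⟨hX', g, hg, hgx⟩ := (hiff X k).1 hk
    obtain ⟨s, rfl⟩ := hX' hy
    have hs : (s : Ω) ∈ preimageAlong θ X := mem_preimageAlong.2 ⟨s.2, hy⟩
    obtain ⟨d, hdS, hd, hds⟩ := mem_imageAlong.1 (hX hy)
    have h1 : (s : Ω) ∈ D ⊔ Q := by
      have h2 := (hker ((⟨d, hdS⟩ : S)⁻¹ * s)).1 (by rw [map_mul, map_inv, hds, inv_mul_cancel])
      have := Subgroup.mul_mem _ (Subgroup.mem_sup_left (T := Q) hd) (Subgroup.mem_sup_right h2)
      simpa using this
    have h3 := StronglyClosed.apply_mem hDQc hg hs h1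
    rw [← SetLike.mem_coe, Subgroup.coe_mul_of_left_le_normalizer_right D Q
      (hD.1.trans (StronglyClosed.le_normalizer hQc))] at h3
    obtain ⟨e, he, q, hq, heq⟩ := Set.mem_mul.1 h3
    refine mem_imageAlong.2 ⟨e, hD.1 he, he, ?_⟩
    rw [hgx _ hs]
    have e1 : (⟨g s, hg.mem hs⟩ : S) = ⟨e, hD.1 he⟩ * ⟨q, hQn.1 hq⟩ := Subtype.ext heq.symm
    rw [e1, map_mul, (hker ⟨q, hQn.1 hq⟩).2 hq, mul_one]
  have hsmallE : CoprimeTrivial E p := by
    refine hsmall _ θ.range E D' ?_ (hS.of_surjective θ.rangeRestrict θ.rangeRestrict_surjective)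
      hEs hD'c ?_
    · rw [Nat.card_congr (QuotientGroup.quotientKerEquivRange θ).symm.toEquiv]
      have hk : θ.ker = Q.subgroupOf S := QuotientGroup.ker_mk' _
      rw [Nat.card_congr (QuotientGroup.quotientMulEquivOfEq hk).toEquiv]
      refine lt_of_le_of_ne (Nat.card_le_card_of_surjective θ (QuotientGroup.mk'_surjective _))
        fun h => hQ ?_
      have h1 := Subgroup.card_eq_card_quotient_mul_card_subgroup (Q.subgroupOf S)
      rw [h] at h1
      have h2 : Nat.card (Q.subgroupOf S) = 1 :=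
        (Nat.mul_eq_left Nat.card_pos.ne').1 h1.symm
      rw [Nat.card_congr (Subgroup.subgroupOfEquivOfLe hQn.1).toEquiv] at h2
      exact Subgroup.card_eq_one.1 h2
    intro P' hP' hWP' α' hα' hinv' hc'
    obtain ⟨-, g, hg, hgx⟩ := (hiff _ _).1 (isMap_of_autGroup hP' hα')
    set P := preimageAlong θ P'
    haveI := finite_of_le (preimageAlong_le : P ≤ S)
    set X := preimageAlong θ (W.W D')
    have hXP : X ≤ P := fun y hy => by
      obtain ⟨hyS, hy'⟩ := mem_preimageAlong.1 hy
      exact mem_preimageAlong.2 ⟨hyS, hWP' hy'⟩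
    have hbot : D' ≠ ⊥ := fun h => hDQ fun d hd => (hker ⟨d, hD.1 hd⟩).1
      (Subgroup.mem_bot.1 (h ▸ mem_imageAlong.2 ⟨d, hD.1 hd, hd, rfl⟩))
    haveI := finite_of_le hD'r
    by_cases hXQ : X ≤ Q
    · refine absurd ?_ (W.ne_bot D' ((hS.of_surjective θ.rangeRestrict
        θ.rangeRestrict_surjective).to_le hD'r) hbot)
      refine (Subgroup.eq_bot_iff_forall _).2 fun y hy => ?_
      obtain ⟨s, rfl⟩ := hD'r (W.le D' hy)
      exact (hker s).2 (hXQ (mem_preimageAlong.2 ⟨s.2, hy⟩))
    have hXn : normalizerIn S X = S := by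
      refine inf_eq_left.2 fun a ha => ?_
      haveI : Finite (X : Set Ω) := (finite_of_le preimageAlong_le : Finite X)
      refine Subgroup.mem_normalizer_fintype fun y hy => ?_
      obtain ⟨hyS, hy'⟩ := mem_preimageAlong.1 hy
      refine mem_preimageAlong.2 ⟨S.mul_mem (S.mul_mem ha hyS) (S.inv_mem ha), ?_⟩
      exact ((W.normalizer_le D') (StronglyClosed.le_normalizer hD'c ⟨⟨a, ha⟩, rfl⟩) _).1 hy'
    have hi : img P g = P := hg.img_eq_of_forall le_rfl fun y hy => mem_preimageAlong.2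
      ⟨hg.mem hy, by
        rw [← hgx y hy, toFun_aut_apply _ (mem_preimageAlong.1 hy).2]
        exact SetLike.coe_mem _⟩
    set a := hg.toAut hi with hadef
    have hval : ∀ (n : ℕ) (y : P), θ ⟨((a ^ n) y : P), preimageAlong_le (SetLike.coe_mem _)⟩ =
        (((α' ^ n) ⟨θ ⟨y, preimageAlong_le y.2⟩, (mem_preimageAlong.1 y.2).2⟩ : P') :
          S ⧸ Q.subgroupOf S) := by
      intro n
      induction n with
      | zero => intro y; rfl
      | succ n ih =>
        intro y
        have h1 := ih (a y)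
        simp only [pow_succ, MulAut.mul_apply]
        rw [h1]
        congr 2
        refine Subtype.ext ?_
        have h2 := hgx y y.2
        rw [toFun_aut_apply _ (mem_preimageAlong.1 y.2).2] at h2
        exact h2.symm
    have hpr : (Nat.card (F.autGroup P)).factorization p = (Nat.card (F.autGroup P)).factorization p :=
      rfl
    set j := (orderOf a).factorization p
    have hac : (orderOf (a ^ p ^ j)).Coprime p := by
      rw [orderOf_pow_of_dvd (pow_ne_zero _ (Fact.out : p.Prime).ne_zero) (Nat.ordProj_dvd _ p)]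
      exact (Nat.coprime_ordCompl (Fact.out : p.Prime) (orderOf_pos a).ne').symm
    have hainv : ∀ y : P, (y : Ω) ∈ X → ((a y : P) : Ω) ∈ X := fun y hy => by
      refine mem_preimageAlong.2 ⟨preimageAlong_le (SetLike.coe_mem _), ?_⟩
      have h1 := hval 1 y
      simp only [pow_one] at h1
      rw [h1]
      exact (hinv' _).1 (mem_preimageAlong.1 hy).2
    have hpowinv : ∀ (n : ℕ) (y : P), (y : Ω) ∈ X → (((a ^ n) y : P) : Ω) ∈ X := by
      intro n
      induction n with
      | zero => exact fun y hy => hy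
      | succ n ih => exact fun y hy => by rw [pow_succ, MulAut.mul_apply]; exact ih _ (hainv y hy)
    have h1 : a ^ p ^ j = 1 := eq_one_of_preserves_normal hS hF W hD hyp hcore preimageAlong_le hXn hXQ
      hXP preimageAlong_le (Subgroup.pow_mem _ (hg.toAut_mem hi) _) (hpowinv _) hac
    refine eq_one_of_pow_prime_pow (k := j) hc' (MulEquiv.ext fun y => Subtype.ext ?_)
    obtain ⟨s, hs⟩ := hP' y.2
    have hsP : (s : Ω) ∈ P := mem_preimageAlong.2 ⟨s.2, hs ▸ y.2⟩
    have h2 := hval (p ^ j) ⟨s, hsP⟩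
    rw [h1] at h2
    have e : y = ⟨θ s, hs ▸ y.2⟩ := Subtype.ext hs.symm
    rw [e]
    exact h2.symm
  have hpre : preimageAlong θ (imageAlong θ R) = R := by
    refine le_antisymm (fun t ht => ?_) fun t ht =>
      mem_preimageAlong.2 ⟨hR ht, mem_imageAlong.2 ⟨t, hR ht, ht, rfl⟩⟩
    obtain ⟨htS, ht⟩ := mem_preimageAlong.1 ht
    obtain ⟨y, hy, hyR, hyt⟩ := mem_imageAlong.1 ht
    have h1 := (hker ((⟨y, hy⟩ : S)⁻¹ * ⟨t, htS⟩)).1 (by rw [map_mul, map_inv, hyt, inv_mul_cancel])
    have := R.mul_mem hyR (hQR h1)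
    simpa using this
  have hm := isMap_of_autGroup hR hβ
  set R' := imageAlong θ R
  have hR' : R' ≤ θ.range := fun y hy => by
    obtain ⟨z, hz, -, rfl⟩ := mem_imageAlong.1 hy
    exact ⟨_, rfl⟩
  obtain ⟨χ, hχ⟩ := exists_inducedAlong (θ := θ) hR hm fun y hy hy1 =>
    (hker _).2 (StronglyClosed.apply_mem hQc hm hy ((hker _).1 hy1))
  have hm' : IsMap F (preimageAlong θ R') (toFun (R.subtype.comp β.toMonoidHom)) :=
    hm.mono hpre.le
  have hχmem : χ ∈ E.Hom R' := ⟨hR', hm'.toHom, hm'.toHom_mem, preimageAlong_le,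
    fun y => hm'.mem y.2, fun y => (mem_preimageAlong.1 y.2).2, fun y => hχ y (hpre.le y.2)⟩
  have hmχ := isMap_of_hom hχmem
  haveI := finite_of_le hR'
  have hχi : img R' (toFun χ) = R' := hmχ.img_eq_of_forall le_rfl fun y hy => by
    obtain ⟨z, hz, hzR, rfl⟩ := mem_imageAlong.1 hy
    rw [toFun_of_mem χ hy, hχ z hzR]
    exact mem_imageAlong.2 ⟨_, _, by rw [toFun_aut_apply _ hzR]; exact SetLike.coe_mem _, rfl⟩
  set γ := hmχ.toAut hχi with hγ
  have hγval : ∀ (n : ℕ) (y : R), (((γ ^ n) ⟨θ ⟨y, hR y.2⟩,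
      mem_imageAlong.2 ⟨y, hR y.2, y.2, rfl⟩⟩ : R') : S ⧸ Q.subgroupOf S) =
        θ ⟨((β ^ n) y : R), hR (SetLike.coe_mem _)⟩ := by
    intro n
    induction n with
    | zero => intro y; rfl
    | succ n ih =>
      intro y
      rw [pow_succ, MulAut.mul_apply]
      simp only [pow_succ, MulAut.mul_apply]
      rw [← ih (β y)]
      congr 2
      refine Subtype.ext ?_
      rw [hγ, IsMap.toAut_apply, toFun_of_mem χ (mem_imageAlong.2 ⟨y, hR y.2, y.2, rfl⟩), hχ y y.2]
      refine congrArg θ (Subtype.ext ?_)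
      exact toFun_aut_apply _ y.2
  have hγ1 : γ = 1 := by
    refine hsmallE R' hR' γ (hmχ.toAut_mem hχi) (hc.coprime_dvd_left ?_)
    refine orderOf_dvd_of_pow_eq_one (MulEquiv.ext fun y => Subtype.ext ?_)
    obtain ⟨z, hz, hzR, hzy⟩ := mem_imageAlong.1 y.2
    have h2 := hγval (orderOf β) ⟨z, hzR⟩
    rw [pow_orderOf_eq_one] at h2
    have e : y = ⟨θ ⟨z, hz⟩, hzy.symm ▸ y.2⟩ := Subtype.ext hzy.symm
    rw [e]
    exact h2
  have h := hγval 1 x
  rw [hγ1] at h
  simp only [pow_one, one_pow, MulAut.one_apply] at h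
  have h1 := (hker ((⟨x, hR x.2⟩ : S)⁻¹ * ⟨(β x : R), hR (SetLike.coe_mem _)⟩)).1
    (by rw [map_mul, map_inv, ← h, inv_mul_cancel])
  exact h1

/-- The induction step. -/
theorem coprimeTrivial_step : CoprimeTrivial F p := by
  intro R hR α hα hc
  haveI := finite_of_le hR
  by_cases hDQ : D ≤ F.core
  · -- `W(D)` is normal in the system
    have hDn : F.IsNormal D := by
      refine isNormal_iff.2 ⟨hD.1, fun P f hf => ?_⟩
      obtain ⟨g, hg, hgx, -⟩ := (isNormal_iff.1 core_isNormal).2 P f hf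
      exact ⟨g, hg.mono (sup_le_sup_left hDQ P), hgx,
        StronglyClosed.img_eq hD hg (hDQ.trans le_sup_right)⟩
    have hWn : F.IsNormal (W.W D) := by
      refine isNormal_characteristic hDn (W.le D) ?_
      refine Subgroup.characteristic_iff_map_eq.2 fun e => ?_
      have e1 : (W.W D).subgroupOf D = W.W (⊤ : Subgroup D) := by
        conv_lhs => rw [← W.top_map D]
        rw [Subgroup.subgroupOf, Subgroup.comap_map_eq_self_of_injective D.subtype_injective]
      rw [e1, W.map _ _ e.injective.injOn, ← MonoidHom.range_eq_map,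
        MonoidHom.range_eq_top.2 e.surjective]
    obtain ⟨g, hg, hgx, hgW⟩ := (isNormal_iff.1 hWn).2 R _ (isMap_of_autGroup hR hα)
    have hU : R ⊔ W.W D ≤ S := hg.le
    haveI := finite_of_le hU
    have hi : img (R ⊔ W.W D) g = R ⊔ W.W D := by
      rw [hg.img_sup le_sup_left le_sup_right, hgW, img_congr hgx, img_toFun_aut]
    set β := hg.toAut hi
    set j := (orderOf β).factorization p
    have hval : ∀ n : ℕ, ∀ x : R, (((β ^ n) ⟨x, Subgroup.mem_sup_left x.2⟩ :
        ↥(R ⊔ W.W D)) : Ω) = ((α ^ n) x : R) := by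
      intro n
      induction n with
      | zero => intro x; rfl
      | succ n ih =>
        intro x
        rw [pow_succ, MulAut.mul_apply, pow_succ, MulAut.mul_apply, ← ih (α x)]
        congr 2
        refine Subtype.ext ?_
        rw [IsMap.toAut_apply, hgx _ x.2, toFun_aut_apply _ x.2]
    have hinv : ∀ (n : ℕ) (x : ↥(R ⊔ W.W D)), (x : Ω) ∈ W.W D ↔
        (((β ^ n) x : ↥(R ⊔ W.W D)) : Ω) ∈ W.W D := by
      intro n
      induction n with
      | zero => exact fun x => Iff.rfl
      | succ n ih =>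
        intro x
        rw [pow_succ, MulAut.mul_apply, ← ih, IsMap.toAut_apply]
        have h1 := hg.apply_mem_img_iff_of_le le_sup_right x.2
        rw [hgW] at h1
        exact h1.symm
    have hac : (orderOf (β ^ p ^ j)).Coprime p := by
      rw [orderOf_pow_of_dvd (pow_ne_zero _ (Fact.out : p.Prime).ne_zero) (Nat.ordProj_dvd _ p)]
      exact (Nat.coprime_ordCompl (Fact.out : p.Prime) (orderOf_pos β).ne').symm
    have h1 : β ^ p ^ j = 1 :=
      hyp _ hU le_sup_right _ (Subgroup.pow_mem _ (hg.toAut_mem hi) _) (hinv _) hac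
    refine eq_one_of_pow_prime_pow (k := j) hc (MulEquiv.ext fun x => Subtype.ext ?_)
    rw [← hval, h1]
    rfl
  by_cases hQ : F.core = ⊥
  · rcases eq_or_ne R ⊥ with rfl | hRne
    · exact Subsingleton.elim _ _
    obtain ⟨R', hR', hR'n⟩ := exists_fullyNormalized_conj F hR
    obtain ⟨f, hf, rfl⟩ := isConj_iff.1 hR'
    have hne : img R f ≠ ⊥ := fun h => hRne <| by
      refine (Subgroup.eq_bot_iff_forall _).2 fun x hx => hf.eq_one hx ?_
      have := hf.apply_mem_img hx
      rwa [h, Subgroup.mem_bot] at this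
    have h1 := coprimeTrivial_normalizerSys hS hF W hD hyp hsmall hcore hQ hDQ (img R f) hne hR'n
      (img R f) le_rfl (le_normalizerIn hR'n.1) _ (hf.congr_mem_autGroup hα)
      (fun y _ => SetLike.coe_mem _)
      ((MulEquiv.orderOf_eq (MulAut.congr hf.equivImg) α).symm ▸ hc)
    exact (MulAut.congr hf.equivImg).injective (h1.trans (map_one _).symm)
  -- the centralizer of the core is normal, so the system is constrained
  set Q := F.core with hQdef
  have hQn : F.IsNormal Q := core_isNormal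
  have hQc := IsNormal.stronglyClosed hQn
  set C := centralizerIn S Q with hC
  have hCc : F.StronglyClosed C := by
    refine stronglyClosed_iff.2 ⟨inf_le_left, fun X f hX hf x hx => ?_⟩
    obtain ⟨g, hg, hgx, hgQ⟩ := (isNormal_iff.1 hQn).2 X f hf
    have h1 := hg.apply_mem_centralizerIn le_sup_right (Subgroup.mem_sup_left hx) (hX hx).2
    rw [hgQ, hgx x hx] at h1
    exact h1
  have hCn : F.IsNormal C := by
    refine isNormal_of_le_centricRadical hS hF hCc fun X hXc hXr => ?_
    haveI := finite_of_le hXc.1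
    have hQX : Q ≤ X := IsNormal.le_centricRadical hS hQn hXc hXr
    refine le_of_normalizer_inf_le hS hXc.1 inf_le_left
      (fun a ha => StronglyClosed.le_normalizer hCc (hXc.1 ha)) fun a haC haX => ?_
    have hinvQ : ∀ γ ∈ F.autGroup X, ∀ y : X, (y : Ω) ∈ Q → ((γ y : X) : Ω) ∈ Q := fun γ hγ y hy => by
      have := StronglyClosed.apply_mem hQc (isMap_of_autGroup hXc.1 hγ) y.2 hy
      rwa [toFun_aut_apply _ y.2] at this
    let K : Subgroup (F.autGroup X) :=
      { carrier := {γ | ∀ y : X, (y : Ω) ∈ Q → (γ : MulAut X) y = y}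
        one_mem' := fun y _ => rfl
        mul_mem' := fun {γ δ} hγ hδ y hy => by
          rw [Subgroup.coe_mul, MulAut.mul_apply, hδ y hy, hγ y hy]
        inv_mem' := fun {γ} hγ y hy => by
          rw [Subgroup.coe_inv]
          conv_lhs => rw [← hγ y hy]
          rw [MulAut.inv_apply_self] }
    haveI : K.Normal := ⟨fun δ hδ γ y hy => by
      simp only [Subgroup.coe_mul, Subgroup.coe_inv, MulAut.mul_apply]
      have h0 := hinvQ _ (γ⁻¹).2 y hy
      rw [Subgroup.coe_inv] at h0
      rw [hδ _ h0, MulAut.apply_inv_self]⟩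
    have hK : IsPGroup p K := isPGroup_of_coprime_trivial fun γ hγ => by
      refine Subtype.ext (Subtype.ext (eq_one_of_fixes_sub (hS.to_le hXc.1)
        (α := ((γ : F.autGroup X) : MulAut X)) ?_ fun y => γ.2 _ ?_))
      · rwa [Subgroup.orderOf_coe, Subgroup.orderOf_coe]
      · exact sub_mem_core hS hF W hD hyp hsmall hcore hQ hDQ hQX hXc.1 (γ : F.autGroup X).2
          (by rwa [Subgroup.orderOf_coe, Subgroup.orderOf_coe]) y
    refine mem_of_aut_mem_pGroup hXc hXr K hK ⟨haC.1, haX⟩ fun γ hγ y hy => ?_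
    rw [hγ]
    exact Subtype.ext (mul_inv_eq_iff_eq_mul.2 (haC.2 y hy).symm)
  have hQfn : F.IsFullyNormalized Q := IsNormal.fullyNormalized hQn
  have hQcen : F.IsCentric Q := (IsNormal.centric_iff hQn).2 (IsNormal.le_core hCn)
  have hT : normalizerIn S Q = S := IsNormal.normalizerIn_eq hQn
  have hNs := isNormalizerSystem_normalizerSys F Q hQn.1
  obtain ⟨G, hG, ι, hfin, hr, ⟨Ps, hPs⟩, hQι, hCι⟩ :=
    Model.exists_model_normalizer F hS hF hQcen hQfn hNs
  have hQT : Q ≤ (normalizerIn S Q) := hT.symm ▸ hQn.1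
  set Qι := (Q.subgroupOf (normalizerIn S Q)).map ι with hQιdef
  have hQp : IsPGroup p Qι := ((hS.to_le hQn.1).of_equiv
    (Subgroup.subgroupOfEquivOfLe hQT).symm).map ι
  -- elements of `G` of order prime to `p` centralizing the image of `Q` are trivial
  have hkey : ∀ g : G, (orderOf g).Coprime p →
      (∀ (y : Ω) (hy : y ∈ Q), g * ι ⟨y, hQT hy⟩ * g⁻¹ = ι ⟨y, hQT hy⟩) → g = 1 := by
    intro g hg hfix
    have h1 : g ∈ Qι := hCι fun z hz => by
      obtain ⟨⟨y, hyT⟩, hy, rfl⟩ := hz
      exact (mul_inv_eq_iff_eq_mul.1 (hfix y hy)).symm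
    obtain ⟨k, hk⟩ := hQp ⟨g, h1⟩
    exact eq_one_of_pow_prime_pow hg (congrArg Subtype.val hk)
  have hDT : D ≤ normalizerIn S Q := hT.symm ▸ hD.1
  set DG := (D.subgroupOf (normalizerIn S Q)).map ι with hDG
  have hDGc : Cfsg.IsStronglyClosed DG (Ps : Subgroup G) := by
    refine ⟨hPs ▸ Subgroup.map_le_range _ _, ?_⟩
    rintro _ ⟨⟨x, hxT⟩, hx, rfl⟩ g hgx
    rw [hPs] at hgx
    have hz : Subgroup.zpowers x ≤ normalizerIn S Q := Subgroup.zpowers_le.2 hxT
    obtain ⟨f, hf, hfx⟩ := realized_exists_map hr hz g fun y hy => by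
      obtain ⟨k, rfl⟩ := Subgroup.mem_zpowers_iff.1 hy
      rw [show (⟨x ^ k, hz hy⟩ : normalizerIn S Q) = ⟨x, hxT⟩ ^ k from rfl, map_zpow, ← conj_zpow]
      exact Subgroup.zpow_mem _ hgx k
    obtain ⟨-, -, k, hk, hkx, -⟩ := (isMap_normalizerSystem_iff hNs).1 hf
    obtain ⟨hfxT, he⟩ := hfx x (Subgroup.mem_zpowers x)
    exact ⟨⟨f x, hfxT⟩, StronglyClosed.apply_mem hD ((hk.mono le_sup_left).congr hkx)
      (Subgroup.mem_zpowers x) hx, he⟩
  set M := ((W.W D).subgroupOf (normalizerIn S Q)).map ι with hM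
  have hWMeq : W.W DG = M := by
    have hU : (D.subgroupOf (normalizerIn S Q)).map (normalizerIn S Q).subtype = D :=
      Subgroup.map_subgroupOf_eq_of_le hDT
    rw [hDG, ← W.map ι _ hr.1.injOn, hM]
    congr 1
    have hW : (W.W (D.subgroupOf (normalizerIn S Q))).map (normalizerIn S Q).subtype = W.W D := by
      rw [W.map _ _ ((normalizerIn S Q).subtype_injective.injOn), hU]
    rw [← hW]
    exact (Subgroup.comap_map_eq_self_of_injective (normalizerIn S Q).subtype_injective _).symm
  have hNp : IsPGroup p (normalizer (M : Set G)) := isPGroup_of_coprime_trivial fun g hg => by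
    have hgc : (orderOf (g : G)).Coprime p := by rwa [Subgroup.orderOf_coe]
    refine Subtype.ext (hkey g hgc fun y hy => ?_)
    set U := Q ⊔ W.W D with hU
    have hUT : U ≤ (normalizerIn S Q) := sup_le hQT ((W.le D).trans hDT)
    have hUS : U ≤ S := hT ▸ hUT
    have hmemQ : ∀ (n : ℕ) (z : Ω) (hz : z ∈ Q), (g : G) ^ n * ι ⟨z, hQT hz⟩ * ((g : G) ^ n)⁻¹ ∈ Qι :=
      fun n z hz => hQι.conj_mem _ ⟨⟨z, hQT hz⟩, hz, rfl⟩ _
    have hmem : U ≤ preimage ι (ι.range.comap (MulAut.conj (g : G)).toMonoidHom) := by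
      refine sup_le (fun z hz => ?_) fun z hz => ?_
      · refine mem_preimage.2 ⟨hQT hz, ?_⟩
        have h := hmemQ 1 z hz
        rw [pow_one] at h
        obtain ⟨v, -, hv⟩ := h
        exact ⟨v, hv⟩
      · refine mem_preimage.2 ⟨hUT (Subgroup.mem_sup_right hz), ?_⟩
        obtain ⟨v, -, hv⟩ := (g.2 _).1 ⟨⟨z, hUT (Subgroup.mem_sup_right hz)⟩, hz, rfl⟩
        exact ⟨v, hv⟩
    obtain ⟨f, hf, hfx⟩ := realized_exists_map hr hUT (g : G) fun z hz =>
      (mem_preimage.1 (hmem hz)).2
    obtain ⟨-, -, k, hk, hkx, -⟩ := (isMap_normalizerSystem_iff hNs).1 hf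
    have hfF : IsMap F U f := (hk.mono le_sup_left).congr hkx
    have hfQ : ∀ z ∈ Q, f z ∈ Q := fun z hz => StronglyClosed.apply_mem hQc hfF
      (Subgroup.mem_sup_left hz) hz
    have hfW : ∀ z ∈ W.W D, f z ∈ W.W D := fun z hz => by
      obtain ⟨hz', he⟩ := hfx z (Subgroup.mem_sup_right hz)
      obtain ⟨v, hv, hvι⟩ := (g.2 _).1 ⟨⟨z, hUT (Subgroup.mem_sup_right hz)⟩, hz, rfl⟩
      have h2 : v = ⟨f z, hz'⟩ := hr.1 (hvι.trans he.symm)
      rw [h2] at hv
      exact hv
    haveI := finite_of_le hUS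
    haveI := finite_of_le hQn.1
    haveI := finite_of_le ((W.le D).trans hD.1)
    have hiQ : img Q f = Q := hfF.img_eq_of_forall le_sup_left hfQ
    have hiW : img (W.W D) f = W.W D := hfF.img_eq_of_forall le_sup_right hfW
    have hi : img U f = U := by rw [hU, hfF.img_sup le_sup_left le_sup_right, hiQ, hiW]
    set β := hfF.toAut hi with hβ
    have hval : ∀ (n : ℕ) (z : U), ι ⟨((β ^ n) z : U), hUT (SetLike.coe_mem _)⟩ =
        (g : G) ^ n * ι ⟨z, hUT z.2⟩ * ((g : G) ^ n)⁻¹ := by
      intro n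
      induction n with
      | zero => intro z; simp
      | succ n ih =>
        intro z
        simp only [pow_succ, MulAut.mul_apply]
        rw [ih (β z)]
        obtain ⟨hz', he⟩ := hfx z z.2
        have e : (⟨((β z : U) : Ω), hUT (β z).2⟩ : (normalizerIn S Q)) = ⟨f z, hz'⟩ :=
          Subtype.ext (IsMap.toAut_apply hfF hi z)
        rw [e, he]
        group
    have hβord : orderOf β ∣ orderOf (g : G) := by
      refine orderOf_dvd_of_pow_eq_one (MulEquiv.ext fun z => Subtype.ext ?_)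
      have h := hval (orderOf (g : G)) z
      rw [pow_orderOf_eq_one, one_mul, inv_one, mul_one] at h
      exact (Subtype.mk.inj (hr.1 h) :)
    have hβ1 : β = 1 := hyp U hUS le_sup_right β (hfF.toAut_mem hi) (fun z => by
        rw [hβ, IsMap.toAut_apply]
        refine ⟨fun hz => hfW _ hz, fun hz => ?_⟩
        conv at hz => rw [← hiW]
        exact (hfF.apply_mem_img_iff_of_le le_sup_right z.2).1 hz)
      (hgc.coprime_dvd_left hβord)
    have h := hval 1 ⟨y, Subgroup.mem_sup_left hy⟩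
    simp only [pow_one, hβ1, MulAut.one_apply] at h
    exact h.symm
  -- the group has a normal complement, which is trivial
  have hloc : Cfsg.HasNormalPComplement p (normalizer (W.W DG : Set G)) := by
    rw [hWMeq]
    obtain ⟨P₀⟩ := (inferInstance : Nonempty (Sylow p (normalizer (M : Set G))))
    refine ⟨P₀, ⊥, inferInstance, ?_⟩
    have : (P₀ : Subgroup (normalizer (M : Set G))) = ⊤ :=
      (P₀.is_maximal' (hNp.to_subgroup ⊤) le_top).symm
    rw [this]
    exact Subgroup.isComplement'_bot_top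
  obtain ⟨P₁, K, hK, hKP⟩ := W.criterion G Ps DG hDGc hloc
  have hKp : IsPGroup p K := isPGroup_of_coprime_trivial fun g hg => by
    refine Subtype.ext (hkey g (by rwa [Subgroup.orderOf_coe]) fun y hy => ?_)
    have hdis : ∀ z : G, z ∈ Qι → z ∈ K → z = 1 := fun z hzQ hzK => by
      obtain ⟨t, ht⟩ := hQp ⟨z, hzQ⟩
      have h1 : z ^ p ^ t = 1 := congrArg Subtype.val ht
      have hdvd : orderOf z ∣ Nat.card K := by
        have := orderOf_dvd_natCard (⟨z, hzK⟩ : K)
        rwa [Subgroup.orderOf_mk] at this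
      have hidx : K.index = Nat.card (P₁ : Subgroup G) := hKP.symm.index_eq_card
      have hKc : (Nat.card K).Coprime p := by
        have h2 : Nat.card K = (P₁ : Subgroup G).index := (hKP.index_eq_card).symm
        rw [h2, Nat.coprime_comm, (Fact.out : p.Prime).coprime_iff_not_dvd]
        exact P₁.not_dvd_index
      exact eq_one_of_pow_prime_pow (hKc.coprime_dvd_left hdvd) h1
    have h1 : (g : G) * ι ⟨y, hQT hy⟩ * (g : G)⁻¹ * (ι ⟨y, hQT hy⟩)⁻¹ = 1 := by
      refine hdis _ (Qι.mul_mem (hQι.conj_mem _ ⟨⟨y, hQT hy⟩, hy, rfl⟩ _)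
        (Qι.inv_mem ⟨⟨y, hQT hy⟩, hy, rfl⟩)) ?_
      rw [mul_assoc, mul_assoc]
      refine K.mul_mem g.2 ?_
      rw [← mul_assoc]
      exact hK.conj_mem _ (K.inv_mem g.2) _
    exact mul_inv_eq_one.1 h1
  have hGp : IsPGroup p G := by
    intro g
    obtain ⟨⟨k, q⟩, hkq⟩ := hKP.2 g
    have hK1 : Nat.card K = 1 := by
      obtain ⟨t, ht⟩ := hKp.exists_card_eq
      rcases Nat.eq_zero_or_pos t with rfl | ht0
      · simpa using ht
      · exfalso
        have h2 : Nat.card K = (P₁ : Subgroup G).index := (hKP.index_eq_card).symm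
        exact P₁.not_dvd_index (h2 ▸ ht ▸ dvd_pow_self p ht0.ne')
    have hk1 : (k : G) = 1 := by
      exact (Subgroup.eq_bot_iff_forall K).1 (Subgroup.card_eq_one.1 hK1) k k.2
    obtain ⟨t, ht⟩ := P₁.2 q
    refine ⟨t, ?_⟩
    have e : g = (q : G) := by rw [← hkq]; show (k : G) * q = q; rw [hk1, one_mul]
    rw [e]
    exact congrArg Subtype.val ht
  have hsurj : ι.range = ⊤ := hPs ▸ (Ps.is_maximal' (hGp.to_subgroup ⊤) le_top).symm
  -- conclusion
  have hm := isMap_of_autGroup hR hα
  obtain ⟨g, hg, hgx, hgQ⟩ := (isNormal_iff.1 hQn).2 R _ hm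
  have hU : R ⊔ Q ≤ (normalizerIn S Q) := hT.symm ▸ sup_le hR hQn.1
  have hgE : IsMap (normalizerSys F Q hQn.1) (R ⊔ Q) g := (isMap_normalizerSystem_iff hNs).2
    ⟨hU, fun x hx => hT.symm ▸ hg.mem hx, g, by rwa [sup_assoc, sup_idem], fun _ _ => rfl, hgQ⟩
  obtain ⟨b, hb⟩ := realized_exists_elem hr hgE
  obtain ⟨a, rfl⟩ : b ∈ ι.range := hsurj ▸ Subgroup.mem_top b
  refine eq_one_of_conj hS hc (a.2.1 : (a : Ω) ∈ S) fun x => ?_
  have hx : (x : Ω) ∈ R ⊔ Q := Subgroup.mem_sup_left x.2
  have h1 := hb x hx (hU hx) (hT.symm ▸ hg.mem hx)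
  rw [← map_inv, ← map_mul, ← map_mul] at h1
  have h2 := congrArg Subtype.val (hr.1 h1)
  rw [← toFun_aut_apply α x.2, ← hgx x x.2]
  exact h2

end Step

/-- The criterion. -/
theorem coprimeTrivial_of_functor [Fact p.Prime] (W : ComplementFunctor.{u} p) :
    ∀ (Ω : Type u) [Group Ω] (S : Subgroup Ω) [Finite S] (F : FusionSystem S) (D : Subgroup Ω),
      IsPGroup p S → F.IsSaturated p → F.StronglyClosed D → LocallyPGroup F p (W.W D) →
      CoprimeTrivial F p := by
  suffices h : ∀ n m, ∀ (Ω : Type u) [Group Ω] (S : Subgroup Ω) [Finite S] (F : FusionSystem S)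
      (D : Subgroup Ω), Nat.card S = n → Nat.card S - Nat.card F.core = m →
      IsPGroup p S → F.IsSaturated p → F.StronglyClosed D → LocallyPGroup F p (W.W D) →
      CoprimeTrivial F p from
    fun Ω _ S _ F D => h _ _ Ω S F D rfl rfl
  intro n
  induction n using Nat.strong_induction_on with
  | _ n ihn =>
    intro m
    induction m using Nat.strong_induction_on with
    | _ m ihm =>
      intro Ω _ S _ F D hn hm hS hF hD hyp
      refine coprimeTrivial_step hS hF W hD hyp
        (fun Ω' _ S' _ F' D' hlt hS' hF' hD' hyp' =>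
          ihn _ (hn ▸ hlt) _ Ω' S' F' D' rfl rfl hS' hF' hD' hyp')
        fun E hE hED hEh hlt => ihm _ ?_ Ω S E D hn rfl hS hE hED hEh
      haveI := finite_of_le (core_le E)
      have := Subgroup.card_le_of_le (core_le E)
      omega

theorem eq_inner_of_functor_closed [Fact p.Prime] [Finite S] (hS : IsPGroup p S)
    (hF : F.IsSaturated p) (W : ComplementFunctor.{u} p) {D : Subgroup Ω}
    (hD : F.StronglyClosed D) (hyp : LocallyPGroup F p (W.W D)) (P : Subgroup Ω) :
    F.Hom P = (innerFusionSystem S).Hom P :=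
  eq_inner_of_coprime_trivial hS hF
    (fun R hR α hα hc => coprimeTrivial_of_functor W Ω S F D hS hF hD hyp R hR.1 α hα hc) P

theorem eq_inner_of_functor [Fact p.Prime] [Finite S] (hS : IsPGroup p S) (hF : F.IsSaturated p)
    (W : ComplementFunctor.{u} p) (hyp : LocallyPGroup F p (W.W S)) (P : Subgroup Ω) :
    F.Hom P = (innerFusionSystem S).Hom P :=
  eq_inner_of_functor_closed hS hF W
    (stronglyClosed_iff.2 ⟨le_rfl, fun R f _ hf x hx => hf.mem hx⟩) hyp P

/-- `Z(J(-))`, `J` from abelian subgroups of largest order, for odd `p`. -/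
def centerThompsonComplement (p : ℕ) [Fact p.Prime] (hp : p ≠ 2) : ComplementFunctor.{u} p where
  W T := Cfsg.centerThompsonAOf T
  le T := CfsgLib.Complement.centerThompsonAOf_le T
  map f T h := CfsgLib.Complement.centerThompsonAOf_map f h
  ne_bot T _ hT hne := by
    have h1 : (Cfsg.centerThompsonAOf (⊤ : Subgroup T)).map T.subtype = Cfsg.centerThompsonAOf T := by
      rw [CfsgLib.Complement.centerThompsonAOf_map _ T.subtype_injective.injOn,
        ← MonoidHom.range_eq_map, Subgroup.range_subtype]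
    haveI : Nontrivial T := (Subgroup.nontrivial_iff_ne_bot T).2 hne
    haveI := hT.center_nontrivial
    obtain ⟨z, hz, hz1⟩ := (Subgroup.center T).bot_or_exists_ne_one.resolve_left
      ((Subgroup.nontrivial_iff_ne_bot _).1 inferInstance)
    intro hbot
    have hmem : z ∈ Cfsg.centerThompsonAOf (⊤ : Subgroup T) := by
      have hc : ∀ A : Subgroup T, z ∈ Subgroup.centralizer (A : Set T) := fun A a _ =>
        Subgroup.mem_center_iff.1 hz a
      obtain ⟨A, hA⟩ := CfsgLib.Complement.exists_maxAbIn (⊤ : Subgroup T)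
      exact ⟨CfsgLib.Complement.le_thompsonAOf hA
        (CfsgLib.Complement.mem_maxAbIn_of_centralizes hA (Subgroup.mem_top _) (hc A)), hc _⟩
    have : T.subtype z ∈ Cfsg.centerThompsonAOf T := h1 ▸ ⟨z, hmem, rfl⟩
    rw [hbot, Subgroup.mem_bot] at this
    exact hz1 (Subtype.ext this)
  criterion G _ _ T D hD h :=
    CfsgLib.Complement.hasNormalPComplement_of_strongly_closed hp
      (CfsgLib.Complement.centerThompsonAFunctor p) (fun _ => rfl)
      (fun S => CfsgLib.Complement.centerThompsonAOf_comm S)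
      (fun S D hD hst => CfsgLib.Complement.centerThompsonAOf_inf_normal_of_closed
        ((Fact.out : p.Prime).odd_of_ne_two hp) S hD hst) T D hD h

end CfsgLib.Fusion
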