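import Cfsg.Agent.Lib.Fusion.ConstrainedTransport
import Cfsg.Agent.Lib.Fusion.FactorSystem
import Cfsg.Agent.Lib.Fusion.Center
import Cfsg.Agent.Lib.Fusion.GroupFusion

/-!
A saturated factor of a constrained system by a central subgroup is constrained.
-/

set_option autoImplicit false
set_option linter.unusedVariables false
set_option linter.unusedSectionVars false
set_option linter.style.haveILetI false

namespace CfsgLib.Fusion

open Cfsg Cfsg.FusionSystem Subgroup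
open scoped commutatorElement

variable {Ω Ω' : Type*} [Group Ω] [Group Ω'] {S Z : Subgroup Ω} {S' : Subgroup Ω'}
  {F : FusionSystem S} {E : FusionSystem S'} {θ : S →* Ω'} {p : ℕ}

theorem isConstrained_centralFactor [Fact p.Prime] [Finite S] (hS : IsPGroup p S)
    (hF : F.IsConstrained p) (hE : F.IsFactorSystem Z θ E) (hEs : E.IsSaturated p)
    (hZ : F.IsCentral Z) : E.IsConstrained p := by
  obtain ⟨hFs, Q, hQ, hQc⟩ := hF
  obtain ⟨hZS, hker, hθ, hmem⟩ := hE
  refine ⟨hEs, ?_⟩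
  have hQS := hQ.1
  have hQsc := IsNormal.stronglyClosed hQ
  have hZn := IsCentral.isNormal hZ
  have hZsc := IsNormal.stronglyClosed hZn
  have hCQ : centralizerIn S Q ≤ Q := hQc.2 Q (isConj_refl hQS)
  have hZcomm : ∀ z ∈ Z, ∀ s ∈ S, Commute z s := fun z hz s hs =>
    ((IsCentral.centralizerIn_eq hZ).ge hs).2 z hz
  have hZQ : Z ≤ Q := fun z hz => hCQ ⟨hZS hz, fun q hq => (hZcomm z hz q (hQS hq)).symm.eq⟩
  set U := preimageAlong θ (centralizerIn S' (imageAlong θ Q)) with hU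
  have hUS : U ≤ S := preimageAlong_le
  have hUc : ∀ u ∈ U, ∀ q ∈ Q, ⁅u, q⁆ ∈ Z := by
    intro u hu q hq
    obtain ⟨huS, huC⟩ := mem_preimageAlong.1 hu
    refine (hker ⁅(⟨u, huS⟩ : S), ⟨q, hQS hq⟩⁆).1 ?_
    rw [map_commutatorElement, commutatorElement_eq_one_iff_commute]
    exact (huC.2 _ (mem_imageAlong.2 ⟨q, hQS hq, hq, rfl⟩)).symm
  have hUmem : ∀ u ∈ S, (∀ q ∈ Q, ⁅u, q⁆ ∈ Z) → u ∈ U := by
    intro u hu h
    refine mem_preimageAlong.2 ⟨hu, hθ ▸ ⟨_, rfl⟩, fun y hy => ?_⟩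
    obtain ⟨q, hqS, hq, rfl⟩ := mem_imageAlong.1 hy
    have h1 : ⁅θ ⟨u, hu⟩, θ ⟨q, hqS⟩⁆ = 1 := by
      rw [← map_commutatorElement]
      exact (hker _).2 (h q hq)
    exact ((commutatorElement_eq_one_iff_commute.1 h1).symm).eq
  have hZU : Z ≤ U := fun z hz => hUmem z (hZS hz) fun q hq => by
    rw [commutatorElement_eq_one_iff_commute.2 (hZcomm z hz q (hQS hq))]
    exact Z.one_mem
  have hUsc : F.StronglyClosed U := by
    refine stronglyClosed_iff.2 ⟨hUS, fun X f hX hf x hx => hUmem _ (hf.mem hx) fun q hq => ?_⟩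
    obtain ⟨g, hg, hgx, hgQ⟩ := (isNormal_iff.1 hQ).2 X f hf
    rw [← hgQ] at hq
    obtain ⟨q₀, hq₀, rfl⟩ := (hg.mono le_sup_right).mem_img.1 hq
    have hxm : x ∈ X ⊔ Q := mem_sup_left hx
    have hqm : q₀ ∈ X ⊔ Q := mem_sup_right hq₀
    have h1 := StronglyClosed.apply_mem hZsc hg
      (show ⁅x, q₀⁆ ∈ X ⊔ Q from (X ⊔ Q).mul_mem
        ((X ⊔ Q).mul_mem ((X ⊔ Q).mul_mem hxm hqm) ((X ⊔ Q).inv_mem hxm)) ((X ⊔ Q).inv_mem hqm))
      (hUc x (hX hx) q₀ hq₀)
    rw [← hgx x hx]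
    rw [commutatorElement_def, hg.map_mul ((X ⊔ Q).mul_mem ((X ⊔ Q).mul_mem hxm hqm)
      ((X ⊔ Q).inv_mem hxm)) ((X ⊔ Q).inv_mem hqm), hg.map_inv hqm, hg.map_conj hxm hqm] at h1
    exact h1
  have hUn : F.IsNormal U := by
    refine isNormal_of_le_centricRadical hS hFs hUsc fun P hc hr => ?_
    refine le_centricRadical_of_series hS hUsc 3
      (fun i => if i = 0 then ⊥ else if i = 1 then Z else if i = 2 then U ⊓ Q else U)
      rfl rfl ?_ ?_ ?_ hc hr
    · intro i hi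
      interval_cases i
      · exact bot_le
      · exact le_inf hZU hZQ
      · exact inf_le_left
    · intro i hi
      interval_cases i
      · show ⁅Z, U⁆ ≤ ⊥
        rw [le_bot_iff, Subgroup.commutator_eq_bot_iff_le_centralizer]
        exact fun z hz u hu => (hZcomm z hz u (hUS hu)).symm.eq
      · show ⁅U ⊓ Q, U⁆ ≤ Z
        rw [Subgroup.commutator_le]
        intro a ha b hb
        rw [← commutatorElement_inv]
        exact Z.inv_mem (hUc b hb a ha.2)
      · show ⁅U, U⁆ ≤ U ⊓ Q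
        rw [Subgroup.commutator_le]
        intro a ha b hb
        have haU : ⁅a, b⁆ ∈ U :=
          U.mul_mem (U.mul_mem (U.mul_mem ha hb) (U.inv_mem ha)) (U.inv_mem hb)
        refine ⟨haU, hCQ ⟨hUS haU, fun q hq => ?_⟩⟩
        -- the actions of `a` and `b` on `Q` commute
        obtain ⟨r, hr⟩ : ∃ r, ⁅a, q⁆ = r := ⟨_, rfl⟩
        obtain ⟨s, hs⟩ : ∃ s, ⁅b, q⁆ = s := ⟨_, rfl⟩
        have hrZ : r ∈ Z := hr ▸ hUc a ha q hq
        have hsZ : s ∈ Z := hs ▸ hUc b hb q hq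
        have ea : a * q * a⁻¹ = r * q := by rw [← hr, commutatorElement_def]; group
        have eb : b * q * b⁻¹ = s * q := by rw [← hs, commutatorElement_def]; group
        have ea' : a⁻¹ * q * a = r⁻¹ * q := by
          have h2 : a⁻¹ * (r * q) * a = q := by rw [← ea]; group
          have h3 : a * r⁻¹ = r⁻¹ * a := (hZcomm _ (Z.inv_mem hrZ) a (hUS ha)).symm.eq
          calc a⁻¹ * q * a = a⁻¹ * (r⁻¹ * (r * q)) * a := by group
            _ = r⁻¹ * (a⁻¹ * (r * q) * a) := by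
              rw [show a⁻¹ * (r⁻¹ * (r * q)) * a = a⁻¹ * r⁻¹ * (r * q) * a from by group,
                ← (hZcomm _ (Z.inv_mem hrZ) _ (S.inv_mem (hUS ha))).eq]
              group
            _ = r⁻¹ * q := by rw [h2]
        have eb' : b⁻¹ * q * b = s⁻¹ * q := by
          have h2 : b⁻¹ * (s * q) * b = q := by rw [← eb]; group
          calc b⁻¹ * q * b = b⁻¹ * (s⁻¹ * (s * q)) * b := by group
            _ = s⁻¹ * (b⁻¹ * (s * q) * b) := by
              rw [show b⁻¹ * (s⁻¹ * (s * q)) * b = b⁻¹ * s⁻¹ * (s * q) * b from by group,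
                ← (hZcomm _ (Z.inv_mem hsZ) _ (S.inv_mem (hUS hb))).eq]
              group
            _ = s⁻¹ * q := by rw [h2]
        have hz : ∀ (z : Ω) (c : Ω), z ∈ Z → c ∈ S → c * z * c⁻¹ = z := fun z c hz hc => by
          rw [← (hZcomm z hz c hc).eq, mul_inv_cancel_right]
        have h4 : ⁅a, b⁆ * q * ⁅a, b⁆⁻¹ = q := by
          have e1 : b⁻¹ * q * b = s⁻¹ * q := eb'
          calc ⁅a, b⁆ * q * ⁅a, b⁆⁻¹
              = a * (b * (a⁻¹ * (b⁻¹ * q * b) * a) * b⁻¹) * a⁻¹ := by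
                rw [commutatorElement_def]; group
            _ = a * (b * (a⁻¹ * s⁻¹ * a⁻¹⁻¹ * (a⁻¹ * q * a)) * b⁻¹) * a⁻¹ := by rw [e1]; group
            _ = a * (b * (s⁻¹ * r⁻¹) * b⁻¹ * (b * q * b⁻¹)) * a⁻¹ := by
                rw [hz _ _ (Z.inv_mem hsZ) (S.inv_mem (hUS ha)), ea']; group
            _ = a * (s⁻¹ * r⁻¹ * s) * a⁻¹ * (a * q * a⁻¹) := by
                rw [hz _ _ (Z.mul_mem (Z.inv_mem hsZ) (Z.inv_mem hrZ)) (hUS hb), eb]; group
            _ = s⁻¹ * r⁻¹ * s * r * q := by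
                rw [hz _ _ (Z.mul_mem (Z.mul_mem (Z.inv_mem hsZ) (Z.inv_mem hrZ)) hsZ) (hUS ha), ea]
                group
            _ = q := by
                have h5 : r⁻¹ * s = s * r⁻¹ :=
                  (hZcomm _ (Z.inv_mem hrZ) s (hZS hsZ)).eq
                rw [mul_assoc s⁻¹ r⁻¹ s, h5]
                group
        exact (mul_inv_eq_iff_eq_mul.1 h4).symm
    · intro i hi
      interval_cases i
      · exact StronglyClosed.weaklyClosed (IsNormal.stronglyClosed isNormal_bot)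
      · exact StronglyClosed.weaklyClosed hZsc
      · exact StronglyClosed.weaklyClosed (stronglyClosed_inf hUsc hQsc)
  -- the image of `Q U`
  set W := Q ⊔ U with hW
  have hWn : F.IsNormal W := isNormal_sup hQ hUn
  have hWS : W ≤ S := hWn.1
  have hsub : ∀ X, Z ≤ X → X ≤ S → preimageAlong θ (imageAlong θ X) = X := by
    intro X hZX hXS
    ext y
    rw [mem_preimageAlong]
    constructor
    · rintro ⟨hy, h⟩
      obtain ⟨z, hz, hzX, he⟩ := mem_imageAlong.1 h
      have h1 : θ (⟨z, hz⟩⁻¹ * ⟨y, hy⟩) = 1 := by rw [map_mul, map_inv, he, inv_mul_cancel]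
      simpa using X.mul_mem hzX (hZX ((hker _).1 h1))
    · exact fun hy => ⟨hXS hy, mem_imageAlong.2 ⟨y, hXS hy, hy, rfl⟩⟩
  have himgle : ∀ X, imageAlong θ X ≤ S' := fun X y hy => by
    obtain ⟨z, hz, -, rfl⟩ := mem_imageAlong.1 hy
    exact hθ ▸ ⟨_, rfl⟩
  haveI : Finite S' := by
    rw [← hθ]
    exact Finite.of_surjective θ.rangeRestrict θ.rangeRestrict_surjective
  have hWn' : E.IsNormal (imageAlong θ W) := by
    refine isNormal_iff.2 ⟨himgle _, fun P' f hf => ?_⟩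
    obtain ⟨hP', g, hg, hgx⟩ := (isMap_induced_iff hmem hθ).1 hf
    obtain ⟨h, hh, hhx, hhW⟩ := (isNormal_iff.1 hWn).2 _ g hg
    set X := preimageAlong θ P' ⊔ W with hX
    have hZX : Z ≤ X := hZQ.trans (le_sup_left.trans le_sup_right)
    have hXeq : imageAlong θ X = P' ⊔ imageAlong θ W := by
      rw [hX]
      show (Subgroup.subgroupOf _ S).map θ = _
      rw [Subgroup.subgroupOf_sup preimageAlong_le hWS, Subgroup.map_sup]
      congr 1
      exact imageAlong_preimageAlong (hP'.trans hθ.ge)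
    obtain ⟨ψ', hψ'⟩ := exists_inducedAlong (θ := θ) hh.le hh fun z hz h1 =>
      (hker ⟨h z, hh.mem hz⟩).2 (StronglyClosed.apply_mem hZsc hh hz ((hker ⟨z, hh.le hz⟩).1 h1))
    have hψE : IsMap E (imageAlong θ X) (toFun ψ') := by
      refine (isMap_induced_iff hmem hθ).2
        ⟨himgle _, h, hh.mono (hsub X hZX hh.le).le, fun z hz => ?_⟩
      rw [toFun_of_mem ψ' (mem_preimageAlong.1 hz).2]
      exact hψ' z (hsub X hZX hh.le ▸ hz)
    have hψW : img (imageAlong θ W) (toFun ψ') = imageAlong θ W := by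
      have hle : imageAlong θ W ≤ imageAlong θ X := by
        rw [hXeq]; exact le_sup_right
      haveI := finite_of_le (himgle W)
      refine eq_of_le_of_card_le (fun y hy => ?_) (hψE.mono hle).card_img.ge
      obtain ⟨w, hw, rfl⟩ := (hψE.mono hle).mem_img.1 hy
      obtain ⟨z, hzS, hz, rfl⟩ := mem_imageAlong.1 hw
      rw [toFun_of_mem ψ' (hle hw), hψ' z (mem_sup_right hz)]
      exact mem_imageAlong.2 ⟨h z, _, hhW.le ((hh.mono le_sup_right).apply_mem_img hz), rfl⟩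
    refine ⟨toFun ψ', hXeq ▸ hψE, fun y hy => ?_, hψW⟩
    obtain ⟨s, rfl⟩ := (hP'.trans hθ.ge) hy
    have hs : (s : Ω) ∈ preimageAlong θ P' := mem_preimageAlong.2 ⟨s.2, hy⟩
    have hyX : θ s ∈ imageAlong θ X := by rw [hXeq]; exact mem_sup_left hy
    rw [toFun_of_mem ψ' hyX, hgx s hs]
    refine (hψ' s (mem_sup_left hs)).trans ?_
    congr 1
    exact Subtype.ext (hhx s hs)
  refine ⟨_, hWn', himgle _, fun X hX a ha => ?_⟩
  obtain ⟨f, hf, rfl⟩ := isConj_iff.1 hX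
  rw [StronglyClosed.img_eq (IsNormal.stronglyClosed hWn') hf le_rfl] at ha ⊢
  obtain ⟨s, rfl⟩ := hθ.ge ha.1
  refine mem_imageAlong.2 ⟨s, s.2, mem_sup_right (hUmem s s.2 fun q hq => ?_), rfl⟩
  have h1 := ha.2 (θ ⟨q, hQS hq⟩) (mem_imageAlong.2 ⟨q, hQS hq, mem_sup_left hq, rfl⟩)
  refine (hker ⁅s, (⟨q, hQS hq⟩ : S)⁆).1 ?_
  rw [map_commutatorElement, commutatorElement_eq_one_iff_commute]
  exact h1.symm

end CfsgLib.Fusion
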