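import Cfsg.Agent.Lib.Fusion.ConstrainedSubnormal
import Cfsg.Agent.Lib.Fusion.Transport
import Cfsg.Agent.Lib.Fusion.GroupSystem
import Mathlib.GroupTheory.IsSubnormal

/-!
Constrained systems are preserved by isomorphisms; the systems of subnormal subgroups.
-/

set_option autoImplicit false
set_option linter.unusedVariables false
set_option linter.unusedSectionVars false
set_option linter.style.haveILetI false

namespace CfsgLib.Fusion

open Cfsg Cfsg.FusionSystem Subgroup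

variable {Ω Ω' : Type*} [Group Ω] [Group Ω'] {S : Subgroup Ω} {S' : Subgroup Ω'}
  {F : FusionSystem S} {F' : FusionSystem S'} {j : Ω → Ω'} {k : Ω' → Ω} {P Q : Subgroup Ω} {p : ℕ}

theorem IsIso.push_sup (h : IsIso F F' j k) (hP : P ≤ S) (hQ : Q ≤ S) :
    push j (P ⊔ Q) = push j P ⊔ push j Q := by
  refine le_antisymm ?_ (sup_le (Subgroup.closure_mono (Set.image_mono (le_sup_left (a := P) (b := Q))))
    (Subgroup.closure_mono (Set.image_mono (le_sup_right (a := P) (b := Q)))))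
  have hj : ∀ x : S, ∀ y : S, j ((x * y : S) : Ω) = j x * j y := fun x y => h.mul x x.2 y y.2
  let φ : S →* Ω' := MonoidHom.mk' (fun x => j x) hj
  intro y hy
  obtain ⟨x, hx, rfl⟩ := (h.mem_push (sup_le hP hQ)).1 hy
  have h1 : (⟨x, sup_le hP hQ hx⟩ : S) ∈ (P.subgroupOf S ⊔ Q.subgroupOf S : Subgroup S) := by
    rw [← Subgroup.subgroupOf_sup hP hQ]
    exact hx
  have h2 : (P.subgroupOf S ⊔ Q.subgroupOf S) ≤ (push j P ⊔ push j Q).comap φ :=
    sup_le (fun z hz => mem_sup_left (h.apply_mem hz)) fun z hz => mem_sup_right (h.apply_mem hz)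
  exact h2 h1

theorem IsIso.isNormal (h : IsIso F F' j k) (hQ : F.IsNormal Q) : F'.IsNormal (push j Q) := by
  obtain ⟨hQS, hext⟩ := isNormal_iff.1 hQ
  refine isNormal_iff.2 ⟨h.push_le hQS, fun P' f hf => ?_⟩
  have hP' := hf.le
  have h1 := h.map' P' f hf
  obtain ⟨g, hg, hgx, hgQ⟩ := hext _ _ h1
  have hPS := h.symm.push_le hP'
  have h2 := h.map _ g hg
  rw [h.push_sup hPS hQS, h.symm.push_push hP'] at h2
  refine ⟨_, h2, fun y hy => ?_, ?_⟩
  · show j (g (k y)) = f y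
    rw [hgx _ (h.symm.apply_mem hy)]
    show j (k (f (j (k y)))) = f y
    rw [h.right y (hP' hy), h.right _ (hf.mem hy)]
  · have h3 := h.push_map (hg.mono (le_sup_right : Q ≤ push k P' ⊔ Q))
    rwa [hgQ] at h3

theorem IsIso.isCentric (h : IsIso F F' j k) (hQ : F.IsCentric Q) : F'.IsCentric (push j Q) := by
  refine ⟨h.push_le hQ.1, fun R hR a ha => ?_⟩
  have hRS : R ≤ S' := isConj_le_right hR
  have h1 : F.IsConj Q (push k R) := by
    have := h.symm.isConj hR
    rwa [h.push_push hQ.1] at this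
  have hka : k a ∈ centralizerIn S (push k R) := by
    refine ⟨h.mem' a ha.1, fun y hy => ?_⟩
    obtain ⟨z, hz, rfl⟩ := (h.symm.mem_push hRS).1 hy
    rw [← h.symm.mul z (hRS hz) a ha.1, ← h.symm.mul a ha.1 z (hRS hz), ha.2 z hz]
  exact (h.symm.apply_mem_iff hRS ha.1).1 (hQ.2 _ h1 hka)

theorem IsIso.isConstrained (h : IsIso F F' j k) [Finite S] [Fact p.Prime]
    (hF : F.IsConstrained p) : F'.IsConstrained p := by
  obtain ⟨hs, Q, hQ, hQc⟩ := hF
  exact ⟨h.isSaturated hs, _, h.isNormal hQ, h.isCentric hQc⟩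

variable {G : Type*} [Group G] [Finite G] [Fact p.Prime]

theorem constrained_of_subnormal (S : Sylow p G)
    (hF : (groupFusionSystem (S : Subgroup G)).IsConstrained p) {H : Subgroup G}
    (hH : H.IsSubnormal) :
    ¬ p ∣ ((S : Subgroup G) ⊓ H).relIndex H ∧
      ∀ D : FusionSystem ((S : Subgroup G) ⊓ H), IsSystemOf D H → D.IsConstrained p := by
  have hsys₀ := isSystemOf_group (S : Subgroup G)
  induction hH with
  | top =>
    have hidx : ¬ p ∣ ((S : Subgroup G) ⊓ ⊤).relIndex ⊤ := by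
      rw [inf_top_eq, Subgroup.relIndex_top_right]
      exact S.not_dvd_index
    refine ⟨hidx, fun D hD => isConstrained_of_subsystem S.isPGroup' hF ?_
      (hD.isSaturated (S.isPGroup'.to_le inf_le_left) hidx)
      ⟨inf_le_left, fun R _ φ hφ x => ⟨((groupFusionSystem (S : Subgroup G)).le_of_mem hφ).2 x,
        Subgroup.mem_top _⟩⟩⟩
    intro P φ hφ
    obtain ⟨hP, hv, g, -, hgx⟩ := (hD.2 P _).1 (isMap_of_hom hφ)
    exact ((hsys₀.2 P _).2 ⟨hP.trans inf_le_left, fun x hx => (hv x hx).1, g, Subgroup.mem_top g,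
      hgx⟩).mem_hom fun x => (toFun_apply φ x).symm
  | step H K hle _ hN ih =>
    obtain ⟨hidxK, ihD⟩ := ih
    have hKc := ihD _ (isSystemOf_subgroup K _ inf_le_right)
    have hsysK := isSystemOf_subgroup K ((S : Subgroup G) ⊓ K) inf_le_right
    have hconjH : ∀ a ∈ K, ∀ m ∈ H, a * m * a⁻¹ ∈ H := fun a ha m hm =>
      hN.conj_mem ⟨m, hle hm⟩ hm ⟨a, ha⟩
    have heq : (S : Subgroup G) ⊓ K ⊓ H = (S : Subgroup G) ⊓ H := by
      rw [inf_assoc, inf_eq_right.2 hle]
    have hidx : ¬ p ∣ ((S : Subgroup G) ⊓ H).relIndex H := by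
      rw [← heq]
      exact not_dvd_relIndex_inf (S.isPGroup'.to_le inf_le_left) inf_le_right hidxK hle hconjH
    refine ⟨hidx, fun D hD => isConstrained_of_subsystem (S.isPGroup'.to_le inf_le_left) hKc ?_
      (hD.isSaturated (S.isPGroup'.to_le inf_le_left) hidx) ⟨inf_le_inf_left _ hle, ?_⟩⟩
    · intro P φ hφ
      obtain ⟨hP, hv, g, hg, hgx⟩ := (hD.2 P _).1 (isMap_of_hom hφ)
      exact ((hsysK.2 P _).2 ⟨hP.trans (inf_le_inf_left _ hle),
        fun x hx => ⟨(hv x hx).1, hle (hv x hx).2⟩, g, hle hg, hgx⟩).mem_hom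
          fun x => (toFun_apply φ x).symm
    · rintro R hR φ ⟨-, hv, g, hg, hgx⟩ x
      refine ⟨(hv x).1, ?_⟩
      rw [hgx x]
      exact hconjH g hg x (hR x.2).2

/-- The system of a subgroup inside `G` and inside itself. -/
theorem exists_isIso_subgroup (T : Subgroup G) (H : Subgroup G) :
    ∃ (j : G → H) (k : H → G), IsIso (fusionSystemOfSubgroup H (T ⊓ H) inf_le_right)
      (groupFusionSystem (T.subgroupOf H)) j k := by
  classical
  let j : G → H := fun x => if hx : x ∈ H then ⟨x, hx⟩ else 1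
  have hj : ∀ (x : G) (hx : x ∈ H), j x = ⟨x, hx⟩ := fun x hx => dif_pos hx
  have hsys := isSystemOf_subgroup H (T ⊓ H) inf_le_right
  have hsys' := isSystemOf_group (T.subgroupOf H)
  refine ⟨j, Subtype.val, fun x hx => ?_, fun y hy => ⟨hy, y.2⟩, fun x hx => ?_, fun y hy => ?_,
    fun x hx y hy => ?_, fun P f hf => ?_, fun P f hf => ?_⟩
  · rw [hj x hx.2]; exact hx.1
  · rw [hj x hx.2]
  · exact hj y y.2
  · rw [hj x hx.2, hj y hy.2, hj _ (H.mul_mem hx.2 hy.2)]
    rfl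
  · obtain ⟨hP, hv, g, hg, hgx⟩ := (hsys.2 P f).1 hf
    have hmem : ∀ y ∈ push j P, (y : G) ∈ P := by
      intro y hy
      have hle : push j P ≤ P.subgroupOf H := by
        refine (Subgroup.closure_le _).2 ?_
        rintro _ ⟨x, hx, rfl⟩
        rw [hj x (hP hx).2]
        exact hx
      exact hle hy
    refine (hsys'.2 _ _).2 ⟨fun y hy => (hP (hmem y hy)).1, fun y hy => ?_, ⟨g, hg⟩,
      Subgroup.mem_top _, fun y hy => ?_⟩
    · show j (f y) ∈ _
      rw [hj _ (hv _ (hmem y hy)).2]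
      exact (hv _ (hmem y hy)).1
    · show j (f y) = _
      refine Subtype.ext ?_
      rw [hj _ (hv _ (hmem y hy)).2]
      exact hgx _ (hmem y hy)
  · obtain ⟨hP, hv, g, -, hgx⟩ := (hsys'.2 P f).1 hf
    have hmem : ∀ x ∈ push (Subtype.val : H → G) P, ∃ hx : x ∈ H, (⟨x, hx⟩ : H) ∈ P := by
      intro x hx
      have hle : push (Subtype.val : H → G) P ≤ P.map H.subtype :=
        (Subgroup.closure_le _).2 (by rintro _ ⟨y, hy, rfl⟩; exact ⟨y, hy, rfl⟩)
      obtain ⟨y, hy, rfl⟩ := hle hx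
      exact ⟨y.2, hy⟩
    refine (hsys.2 _ _).2 ⟨fun x hx => ?_, fun x hx => ?_, g, g.2, fun x hx => ?_⟩
    · obtain ⟨h1, h2⟩ := hmem x hx
      exact ⟨hP h2, h1⟩
    · obtain ⟨h1, h2⟩ := hmem x hx
      show (f (j x) : G) ∈ _
      rw [hj x h1]
      exact ⟨hv _ h2, (f _).2⟩
    · obtain ⟨h1, h2⟩ := hmem x hx
      show (f (j x) : G) = _
      rw [hj x h1, hgx _ h2]
      rfl

end CfsgLib.Fusion
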