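import Mathlib

/-!
Linear groups of degree three containing a transvection and without normal `p`-subgroup.
-/

set_option autoImplicit false
set_option linter.style.haveILetI false
set_option linter.unusedSectionVars false

namespace CfsgLib.Fusion.CubeGL

open Matrix

variable {p : ℕ} [hp : Fact p.Prime]

/-- The square-zero part `1 + a ⊗ α`. -/
def tr (a α : Fin 3 → ZMod p) : Matrix (Fin 3) (Fin 3) (ZMod p) := 1 + vecMulVec a α

theorem tr_apply (a α x : Fin 3 → ZMod p) : tr a α *ᵥ x = x + (α ⬝ᵥ x) • a := by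
  rw [tr, add_mulVec, one_mulVec]
  congr 1
  ext i
  simp [mulVec, dotProduct, vecMulVec, Finset.mul_sum, mul_comm, mul_left_comm]

theorem ext_mulVec {A B : Matrix (Fin 3) (Fin 3) (ZMod p)} (h : ∀ x, A *ᵥ x = B *ᵥ x) : A = B :=
  Matrix.toLin'.injective (LinearMap.ext fun x => by simpa using h x)

theorem tr_mul_tr {a α β : Fin 3 → ZMod p} (h : α ⬝ᵥ a = 0) :
    tr a α * tr a β = tr a (α + β) := by
  refine ext_mulVec fun x => ?_
  rw [← mulVec_mulVec, tr_apply, tr_apply, tr_apply, dotProduct_add, dotProduct_smul, h,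
    smul_zero, add_zero, add_dotProduct, add_smul]
  abel

theorem mul_tr {g : GL (Fin 3) (ZMod p)} (a α : Fin 3 → ZMod p) :
    (g : Matrix (Fin 3) (Fin 3) (ZMod p)) * tr a α * (↑g⁻¹ : Matrix (Fin 3) (Fin 3) (ZMod p)) =
      tr ((g : Matrix (Fin 3) (Fin 3) (ZMod p)) *ᵥ a)
        (α ᵥ* (↑g⁻¹ : Matrix (Fin 3) (Fin 3) (ZMod p))) := by
  refine ext_mulVec fun x => ?_
  rw [← mulVec_mulVec, ← mulVec_mulVec, tr_apply, tr_apply, mulVec_add, mulVec_mulVec,
    Units.mul_inv, one_mulVec, mulVec_smul, dotProduct_mulVec]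

variable (X : Subgroup (GL (Fin 3) (ZMod p)))

/-- Membership of a matrix in a group of units. -/
def Mem (A : Matrix (Fin 3) (Fin 3) (ZMod p)) : Prop :=
  ∃ g ∈ X, (g : Matrix (Fin 3) (Fin 3) (ZMod p)) = A

variable {X}

theorem Mem.mul {A B : Matrix (Fin 3) (Fin 3) (ZMod p)} (hA : Mem X A) (hB : Mem X B) :
    Mem X (A * B) := by
  obtain ⟨g, hg, rfl⟩ := hA
  obtain ⟨k, hk, rfl⟩ := hB
  exact ⟨g * k, mul_mem hg hk, rfl⟩

theorem Mem.one : Mem X 1 := ⟨1, one_mem X, rfl⟩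

theorem Mem.pow {A : Matrix (Fin 3) (Fin 3) (ZMod p)} (hA : Mem X A) (k : ℕ) :
    Mem X (A ^ k) := by
  induction k with
  | zero => exact Mem.one
  | succ k ih => rw [pow_succ]; exact ih.mul hA

theorem Mem.tr_smul {a α : Fin 3 → ZMod p} (h : α ⬝ᵥ a = 0) (hA : Mem X (tr a α)) (s : ZMod p) :
    Mem X (tr a (s • α)) := by
  rw [← ZMod.natCast_zmod_val s]
  induction s.val with
  | zero =>
    rw [Nat.cast_zero, zero_smul, tr, vecMulVec_zero, add_zero]
    exact Mem.one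
  | succ k ih =>
    rw [Nat.cast_succ, add_smul, one_smul, ← tr_mul_tr (by rw [smul_dotProduct, h, smul_zero])]
    exact ih.mul hA

theorem Mem.tr_smul_left {a α : Fin 3 → ZMod p} (h : α ⬝ᵥ a = 0) (hA : Mem X (tr a α))
    (s : ZMod p) : Mem X (tr (s • a) α) := by
  have h1 := hA.tr_smul h s
  rwa [tr, vecMulVec_smul, ← smul_vecMulVec] at h1

/-- Two transvections with exactly one incidence generate a group of order `p³`. -/
theorem exists_cube {a α b β : Fin 3 → ZMod p} (hαa : α ⬝ᵥ a = 0) (hβb : β ⬝ᵥ b = 0)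
    (hαb : α ⬝ᵥ b = 0) (hβa : β ⬝ᵥ a ≠ 0) (hα : α ≠ 0) (hb : b ≠ 0)
    (hA : Mem X (tr a α)) (hB : Mem X (tr b β)) :
    ∃ K : Subgroup (GL (Fin 3) (ZMod p)), K ≤ X ∧ IsPGroup p K ∧ Nat.card K = p ^ 3 ∧
      ∀ x z : ZMod p, ∃ g ∈ K, (g : Matrix (Fin 3) (Fin 3) (ZMod p)) = tr b (x • α + z • β) := by
  set U : ZMod p × ZMod p × ZMod p → Matrix (Fin 3) (Fin 3) (ZMod p) := fun q =>
    tr a (q.2.1 • α) * tr b (q.1 • α + q.2.2 • β) with hU
  have hUa : ∀ q x, U q *ᵥ x =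
      x + (q.2.1 * (α ⬝ᵥ x)) • a + (q.1 * (α ⬝ᵥ x) + q.2.2 * (β ⬝ᵥ x)) • b := by
    intro q x
    rw [hU, ← mulVec_mulVec, tr_apply, tr_apply]
    simp only [add_dotProduct, smul_dotProduct, dotProduct_add, dotProduct_smul, smul_eq_mul, hαb,
      mul_zero, add_zero]
    abel
  have hUmul : ∀ q r, U q * U r =
      U (q.1 + r.1 + q.2.2 * r.2.1 * (β ⬝ᵥ a), q.2.1 + r.2.1, q.2.2 + r.2.2) := by
    intro q r
    refine ext_mulVec fun x => ?_
    rw [← mulVec_mulVec, hUa, hUa, hUa]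
    simp only [dotProduct_add, dotProduct_smul, smul_eq_mul, hαa, hαb, hβb, mul_zero, add_zero]
    module
  have hmem : ∀ q, Mem X (U q) := by
    -- the commutator gives the middle transvection
    have hc : ∀ s : ZMod p, Mem X (tr b (s • α)) := by
      intro s
      have h2 : tr a (-α) * tr b (-β) * tr a α * tr b β = tr b (-(β ⬝ᵥ a) • α) := by
        refine ext_mulVec fun x => ?_
        simp only [← mulVec_mulVec, tr_apply, neg_dotProduct, dotProduct_add, dotProduct_smul,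
          smul_eq_mul, hαa, hαb, hβb, smul_dotProduct, mul_zero, add_zero, neg_zero]
        module
      have h3 : Mem X (tr b (-(β ⬝ᵥ a) • α)) := by
        rw [← h2]
        have ha' := hA.tr_smul hαa (-1)
        have hb' := hB.tr_smul hβb (-1)
        rw [neg_one_smul] at ha' hb'
        exact ((ha'.mul hb').mul hA).mul hB
      have h4 := h3.tr_smul (by rw [smul_dotProduct, hαb, smul_zero]) (s * (-(β ⬝ᵥ a))⁻¹)
      rwa [smul_smul, mul_assoc, inv_mul_cancel₀ (neg_ne_zero.2 hβa), mul_one] at h4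
    intro q
    refine (hA.tr_smul hαa _).mul ?_
    rw [← tr_mul_tr (by rw [smul_dotProduct, hαb, smul_zero])]
    exact (hc _).mul (hB.tr_smul hβb _)
  have hinj : Function.Injective U := by
    intro q r hqr
    have h1 : ∀ x, (q.2.1 * (α ⬝ᵥ x)) • a + (q.1 * (α ⬝ᵥ x) + q.2.2 * (β ⬝ᵥ x)) • b
        = (r.2.1 * (α ⬝ᵥ x)) • a + (r.1 * (α ⬝ᵥ x) + r.2.2 * (β ⬝ᵥ x)) • b := by
      intro x
      have := congrArg (· *ᵥ x) hqr
      simp only [hUa, add_assoc, add_right_inj] at this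
      exact this
    have h2 : ∀ x, q.2.1 * (α ⬝ᵥ x) = r.2.1 * (α ⬝ᵥ x) := fun x => by
      have := congrArg (β ⬝ᵥ ·) (h1 x)
      simp only [dotProduct_add, dotProduct_smul, hβb, smul_eq_mul, mul_zero, add_zero] at this
      exact mul_right_cancel₀ hβa this
    have h3 : ∀ x, q.1 * (α ⬝ᵥ x) + q.2.2 * (β ⬝ᵥ x) = r.1 * (α ⬝ᵥ x) + r.2.2 * (β ⬝ᵥ x) :=
      fun x => by
        have := h1 x
        rw [h2 x, add_right_inj] at this
        exact smul_left_injective (R := ZMod p) hb this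
    have hz : q.2.2 = r.2.2 := by
      have := h3 a
      simp only [hαa, mul_zero, zero_add] at this
      exact mul_right_cancel₀ hβa this
    obtain ⟨x, hx⟩ : ∃ x, α ⬝ᵥ x ≠ 0 := by
      by_contra hc
      push Not at hc
      exact hα (dotProduct_eq_zero α hc)
    have hy : q.2.1 = r.2.1 := mul_right_cancel₀ hx (h2 x)
    have hx' : q.1 = r.1 := by
      have := h3 x
      rw [hz, add_left_inj] at this
      exact mul_right_cancel₀ hx this
    exact Prod.ext hx' (Prod.ext hy hz)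
  choose gU hgX hgU using hmem
  have hgmul : ∀ q r, gU q * gU r =
      gU (q.1 + r.1 + q.2.2 * r.2.1 * (β ⬝ᵥ a), q.2.1 + r.2.1, q.2.2 + r.2.2) := fun q r =>
    Units.ext (by rw [Units.val_mul, hgU, hgU, hgU, hUmul])
  have hg1 : gU 0 = 1 := Units.ext (by
    rw [hgU, Units.val_one]
    exact ext_mulVec fun x => by simp [hUa])
  let K : Subgroup (GL (Fin 3) (ZMod p)) :=
    { carrier := Set.range gU
      one_mem' := ⟨0, hg1⟩
      mul_mem' := by
        rintro _ _ ⟨q, rfl⟩ ⟨r, rfl⟩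
        exact ⟨_, (hgmul q r).symm⟩
      inv_mem' := by
        rintro _ ⟨q, rfl⟩
        refine ⟨(-q.1 + q.2.2 * q.2.1 * (β ⬝ᵥ a), -q.2.1, -q.2.2), (inv_eq_of_mul_eq_one_right ?_).symm⟩
        rw [hgmul, ← hg1]
        congr 1
        simp }
  have hcard : Nat.card K = p ^ 3 := by
    have e : (ZMod p × ZMod p × ZMod p) ≃ K := Equiv.ofInjective gU fun q r h =>
      hinj (by rw [← hgU, ← hgU, h])
    rw [← Nat.card_congr e, Nat.card_prod, Nat.card_prod, Nat.card_zmod]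
    ring
  refine ⟨K, ?_, IsPGroup.of_card hcard, hcard, fun x z => ⟨gU (x, 0, z), ⟨_, rfl⟩, ?_⟩⟩
  · rintro _ ⟨q, rfl⟩
    exact hgX q
  · rw [hgU]
    exact ext_mulVec fun y => by
      rw [hUa, tr_apply, add_dotProduct, smul_dotProduct, smul_dotProduct]
      simp

theorem Mem.conj {a α : Fin 3 → ZMod p} (h : Mem X (tr a α)) {g : GL (Fin 3) (ZMod p)}
    (hg : g ∈ X) :
    Mem X (tr ((g : Matrix (Fin 3) (Fin 3) (ZMod p)) *ᵥ a)
      (α ᵥ* (↑g⁻¹ : Matrix (Fin 3) (Fin 3) (ZMod p)))) := by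
  rw [← mul_tr]
  exact (Mem.mul (X := X) ⟨g, hg, rfl⟩ h).mul ⟨g⁻¹, inv_mem hg, rfl⟩

/-- `X` contains no two transvections with exactly one incidence. -/
def NoPair (X : Subgroup (GL (Fin 3) (ZMod p))) : Prop :=
  ∀ a α b β : Fin 3 → ZMod p, α ⬝ᵥ a = 0 → β ⬝ᵥ b = 0 → α ⬝ᵥ b = 0 → β ⬝ᵥ a ≠ 0 → α ≠ 0 →
    b ≠ 0 → Mem X (tr a α) → Mem X (tr b β) → False

/-- Two opposite transvections and a vector fixed by both. -/
structure Frame (X : Subgroup (GL (Fin 3) (ZMod p))) (v φ : Fin 3 → ZMod p) where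
  v' : Fin 3 → ZMod p
  φ' : Fin 3 → ZMod p
  u : Fin 3 → ZMod p
  mem : Mem X (tr v' φ')
  φ'v' : φ' ⬝ᵥ v' = 0
  φ'v : φ' ⬝ᵥ v = 1
  φv' : φ ⬝ᵥ v' = 1
  φu : φ ⬝ᵥ u = 0
  φ'u : φ' ⬝ᵥ u = 0
  u_ne : u ≠ 0

theorem exists_opposite {v φ : Fin 3 → ZMod p} (hφv : φ ⬝ᵥ v = 0) (hv : v ≠ 0) (hφ : φ ≠ 0)
    (ht : Mem X (tr v φ)) (hX : ∀ N : Subgroup X, N.Normal → IsPGroup p N → N = ⊥)
    (hpair : NoPair X) :
    Nonempty (Frame X v φ) := by
  obtain ⟨t, htX, htv⟩ := ht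
  suffices h : ∃ g ∈ X, φ ⬝ᵥ ((g : Matrix (Fin 3) (Fin 3) (ZMod p)) *ᵥ v) ≠ 0 ∧
      (φ ᵥ* (↑g⁻¹ : Matrix (Fin 3) (Fin 3) (ZMod p))) ⬝ᵥ v ≠ 0 by
    obtain ⟨g, hg, h1, h2⟩ := h
    set a := (g : Matrix (Fin 3) (Fin 3) (ZMod p)) *ᵥ v with ha
    set α := φ ᵥ* (↑g⁻¹ : Matrix (Fin 3) (Fin 3) (ZMod p)) with hα
    have hαa : α ⬝ᵥ a = 0 := by
      rw [hα, ha, ← dotProduct_mulVec, mulVec_mulVec, Units.inv_mul, one_mulVec, hφv]
    obtain ⟨u, hu, hu0⟩ : ∃ u : Fin 3 → ZMod p, (φ ⬝ᵥ u, α ⬝ᵥ u) = (0, 0) ∧ u ≠ 0 := by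
      by_contra hc
      push Not at hc
      have hinj : Function.Injective fun x : Fin 3 → ZMod p => (φ ⬝ᵥ x, α ⬝ᵥ x) := by
        intro x y hxy
        simp only [Prod.mk.injEq] at hxy
        exact sub_eq_zero.1 (hc (x - y) (by rw [dotProduct_sub, dotProduct_sub, hxy.1, hxy.2,
          sub_self, sub_self]))
      have := Nat.card_le_card_of_injective _ hinj
      rw [Nat.card_fun, Nat.card_prod, Nat.card_zmod, Nat.card_fin] at this
      nlinarith [hp.out.two_le, pow_two p, pow_succ p 2]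
    simp only [Prod.mk.injEq] at hu
    refine ⟨⟨(φ ⬝ᵥ a)⁻¹ • a, (α ⬝ᵥ v)⁻¹ • α, u, ?_, ?_, ?_, ?_, hu.1, ?_, hu0⟩⟩
    · exact ((Mem.conj (X := X) ⟨t, htX, htv⟩ hg).tr_smul hαa _).tr_smul_left
        (by rw [smul_dotProduct, hαa, smul_zero]) _
    · rw [smul_dotProduct, dotProduct_smul, hαa, smul_zero, smul_zero]
    · rw [smul_dotProduct, smul_eq_mul, inv_mul_cancel₀ h2]
    · rw [dotProduct_smul, smul_eq_mul, inv_mul_cancel₀ h1]
    · rw [smul_dotProduct, hu.2, smul_zero]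
  by_contra hc
  push Not at hc
  have hboth : ∀ g ∈ X, φ ⬝ᵥ ((g : Matrix (Fin 3) (Fin 3) (ZMod p)) *ᵥ v) = 0 ∧
      (φ ᵥ* (↑g⁻¹ : Matrix (Fin 3) (Fin 3) (ZMod p))) ⬝ᵥ v = 0 := by
    intro g hg
    have hconj := Mem.conj (X := X) ⟨t, htX, htv⟩ hg
    have hαa : (φ ᵥ* (↑g⁻¹ : Matrix (Fin 3) (Fin 3) (ZMod p))) ⬝ᵥ
        ((g : Matrix (Fin 3) (Fin 3) (ZMod p)) *ᵥ v) = 0 := by
      rw [← dotProduct_mulVec, mulVec_mulVec, Units.inv_mul, one_mulVec, hφv]
    by_cases h1 : φ ⬝ᵥ ((g : Matrix (Fin 3) (Fin 3) (ZMod p)) *ᵥ v) = 0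
    · refine ⟨h1, ?_⟩
      by_contra h2
      exact hpair _ _ _ _ hφv hαa h1 h2 hφ (fun hb => by
        have := congrArg ((↑g⁻¹ : Matrix (Fin 3) (Fin 3) (ZMod p)) *ᵥ ·) hb
        simp only [mulVec_mulVec, Units.inv_mul, one_mulVec, mulVec_zero] at this
        exact hv this) ⟨t, htX, htv⟩ hconj
    · exfalso
      exact hpair _ _ _ _ hαa hφv (hc g hg h1) h1 (fun hb => by
        have := congrArg (· ᵥ* (g : Matrix (Fin 3) (Fin 3) (ZMod p))) hb
        simp only [vecMul_vecMul, Units.inv_mul, vecMul_one, zero_vecMul] at this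
        exact hφ this) hv hconj ⟨t, htX, htv⟩
  -- the conjugates of `t` commute
  have hcomm : ∀ g ∈ X, Commute (g * t * g⁻¹) t := by
    intro g hg
    obtain ⟨h1, h2⟩ := hboth g hg
    refine Units.ext (ext_mulVec fun x => ?_)
    simp only [Units.val_mul, htv, mul_tr, ← mulVec_mulVec, tr_apply, dotProduct_add, dotProduct_smul,
      h1, h2, smul_eq_mul, mul_zero, add_zero]
    abel
  set t' : X := ⟨t, htX⟩
  set N := Subgroup.normalClosure ({t'} : Set X) with hN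
  have hab : IsMulCommutative N := by
    refine Subgroup.isMulCommutative_closure fun a ha b hb => ?_
    obtain ⟨_, rfl, ha⟩ := Group.mem_conjugatesOfSet_iff.1 ha
    obtain ⟨_, rfl, hb⟩ := Group.mem_conjugatesOfSet_iff.1 hb
    obtain ⟨c, rfl⟩ := isConj_iff.1 ha
    obtain ⟨d, rfl⟩ := isConj_iff.1 hb
    apply Subtype.ext
    have h := hcomm ((d : GL (Fin 3) (ZMod p))⁻¹ * c) (mul_mem (inv_mem d.2) c.2)
    have h' := Commute.map h (MulAut.conj (d : GL (Fin 3) (ZMod p))).toMonoidHom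
    simp only [MulEquiv.coe_toMonoidHom, MulAut.conj_apply] at h'
    simpa [mul_assoc] using h'.eq
  have htp : t ^ p = 1 := Units.ext (by
    have : ∀ k : ℕ, (tr v φ) ^ k = tr v ((k : ZMod p) • φ) := fun k => by
      induction k with
      | zero => rw [pow_zero, Nat.cast_zero, zero_smul, tr, vecMulVec_zero, add_zero]
      | succ k ih =>
        rw [pow_succ, ih, tr_mul_tr (by rw [smul_dotProduct, hφv, smul_zero]), Nat.cast_succ,
          add_smul, one_smul]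
    rw [Units.val_pow_eq_pow_val, htv, this, ZMod.natCast_self, zero_smul, tr, vecMulVec_zero,
      add_zero, Units.val_one])
  have hNp : IsPGroup p N := by
    rintro ⟨a, ha⟩
    refine ⟨1, Subtype.ext ?_⟩
    rw [pow_one]
    show a ^ p = 1
    induction ha using Subgroup.closure_induction with
    | mem a ha =>
      obtain ⟨_, rfl, ha⟩ := Group.mem_conjugatesOfSet_iff.1 ha
      obtain ⟨c, rfl⟩ := isConj_iff.1 ha
      rw [conj_pow, show t' ^ p = 1 from Subtype.ext htp]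
      simp
    | one => exact one_pow p
    | mul a b ha hb iha ihb =>
      have hcab : Commute a b := congrArg Subtype.val (hab.is_comm.comm ⟨a, ha⟩ ⟨b, hb⟩)
      rw [hcab.mul_pow, iha, ihb, one_mul]
    | inv a _ iha => rw [inv_pow, iha, inv_one]
  have h1 := hX N Subgroup.normalClosure_normal hNp
  have h2 : t' = 1 := Subgroup.mem_bot.1 (h1 ▸ Subgroup.subset_normalClosure rfl)
  have h3 : tr v φ = 1 := by rw [← htv, show t = 1 from congrArg Subtype.val h2, Units.val_one]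
  obtain ⟨x, hx⟩ : ∃ x, φ ⬝ᵥ x ≠ 0 := by
    by_contra hc'
    push Not at hc'
    exact hφ (dotProduct_eq_zero φ hc')
  have h4 := congrArg (· *ᵥ x) h3
  simp only [tr_apply, one_mulVec, add_eq_left, smul_eq_zero] at h4
  exact h4.elim hx hv

theorem Frame.expand {v φ : Fin 3 → ZMod p} (hφv : φ ⬝ᵥ v = 0) (f : Frame X v φ)
    (x : Fin 3 → ZMod p) : ∃ k : ZMod p, x = (f.φ' ⬝ᵥ x) • v + k • f.u + (φ ⬝ᵥ x) • f.v' := by
  have hli : LinearIndependent (ZMod p) ![v, f.u, f.v'] := by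
    rw [Fintype.linearIndependent_iff]
    intro c hc
    simp [Fin.sum_univ_three] at hc
    have h1 := congrArg (f.φ' ⬝ᵥ ·) hc
    have h2 := congrArg (φ ⬝ᵥ ·) hc
    simp [dotProduct_add, f.φ'v, f.φ'u, f.φ'v', hφv, f.φu, f.φv'] at h1 h2
    rw [h1, h2, zero_smul, zero_smul, zero_add, add_zero, smul_eq_zero] at hc
    intro i
    fin_cases i
    · exact h1
    · exact hc.resolve_right f.u_ne
    · exact h2
  have htop : x ∈ Submodule.span (ZMod p) (Set.range ![v, f.u, f.v']) := by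
    rw [hli.span_eq_top_of_card_eq_finrank (by simp)]
    trivial
  obtain ⟨c, rfl⟩ := Submodule.mem_span_range_iff_exists_fun _ |>.1 htop
  refine ⟨c 1, ?_⟩
  simp [Fin.sum_univ_three, dotProduct_add, f.φ'v, f.φ'u, f.φ'v', hφv, f.φu, f.φv']

theorem eq_one_of_pow_eq_one {c : ZMod p} {k : ℕ} (h : c ^ p ^ k = 1) : c = 1 := by
  rwa [ZMod.pow_card_pow] at h

/-- A `p`-element centralising a transvection is a power of it. -/
theorem false_of_commute {v φ : Fin 3 → ZMod p} (hφv : φ ⬝ᵥ v = 0) (hv : v ≠ 0)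
    (ht : Mem X (tr v φ)) (f : Frame X v φ) {σ : GL (Fin 3) (ZMod p)} (hσX : σ ∈ X) {k : ℕ}
    (hσp : σ ^ p ^ k = 1)
    (hc : (σ : Matrix (Fin 3) (Fin 3) (ZMod p)) * tr v φ =
      tr v φ * (σ : Matrix (Fin 3) (Fin 3) (ZMod p)))
    (hne : ∀ s : ZMod p, (σ : Matrix (Fin 3) (Fin 3) (ZMod p)) ≠ tr v (s • φ))
    (hpair : NoPair X) : False := by
  set M : Matrix (Fin 3) (Fin 3) (ZMod p) := ↑σ with hM
  have hc' : ∀ x, M *ᵥ x + (φ ⬝ᵥ x) • (M *ᵥ v) = M *ᵥ x + (φ ⬝ᵥ (M *ᵥ x)) • v := fun x => by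
    have := congrArg (· *ᵥ x) hc
    simpa only [← mulVec_mulVec, tr_apply, mulVec_add, mulVec_smul] using this
  have hc'' : ∀ x, (φ ⬝ᵥ x) • (M *ᵥ v) = (φ ⬝ᵥ (M *ᵥ x)) • v := fun x => add_left_cancel (hc' x)
  set c := φ ⬝ᵥ (M *ᵥ f.v')
  have hMv0 : M *ᵥ v = c • v := by simpa [f.φv'] using hc'' f.v'
  have hpow : ∀ n : ℕ, (M ^ n) *ᵥ v = c ^ n • v := fun n => by
    induction n with
    | zero => simp
    | succ n ih => rw [pow_succ, ← mulVec_mulVec, hMv0, mulVec_smul, ih, smul_smul, ← pow_succ']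
  have hMp : M ^ p ^ k = 1 := by rw [hM, ← Units.val_pow_eq_pow_val, hσp, Units.val_one]
  have hc1 : c = 1 := eq_one_of_pow_eq_one (k := k) (smul_left_injective (R := ZMod p) hv (by
    show c ^ p ^ k • v = (1 : ZMod p) • v
    rw [← hpow, hMp, one_mulVec, one_smul]))
  have hMv : M *ᵥ v = v := by rw [hMv0, hc1, one_smul]
  have hφM : ∀ x, φ ⬝ᵥ (M *ᵥ x) = φ ⬝ᵥ x := fun x =>
    (smul_left_injective (R := ZMod p) hv (by simpa only [hMv] using hc'' x)).symm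
  -- normalise by a power of the transvection
  obtain ⟨τ, hτX, hτ⟩ := ht.tr_smul hφv (-(f.φ' ⬝ᵥ (M *ᵥ f.v')))
  set σ' := σ * τ with hσ'
  set D : Matrix (Fin 3) (Fin 3) (ZMod p) := ↑σ' with hD
  have hDa : ∀ x, D *ᵥ x = M *ᵥ x + (-(f.φ' ⬝ᵥ (M *ᵥ f.v')) * (φ ⬝ᵥ x)) • v := fun x => by
    rw [hD, hσ', Units.val_mul, ← mulVec_mulVec, hτ, tr_apply, mulVec_add, mulVec_smul, hMv,
      smul_dotProduct, smul_eq_mul]
  have hσ'X : σ' ∈ X := mul_mem hσX hτX
  have hDv : D *ᵥ v = v := by rw [hDa, hMv, hφv, mul_zero, zero_smul, add_zero]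
  have hDφ : ∀ x, φ ⬝ᵥ (D *ᵥ x) = φ ⬝ᵥ x := fun x => by
    rw [hDa, dotProduct_add, hφM, dotProduct_smul, hφv, smul_zero, add_zero]
  obtain ⟨A0, hA0⟩ := f.expand hφv (M *ᵥ f.u)
  rw [hφM, f.φu, zero_smul, add_zero] at hA0
  set A := f.φ' ⬝ᵥ (M *ᵥ f.u)
  have hupow : ∀ n : ℕ, ∃ e : ZMod p, (M ^ n) *ᵥ f.u = e • v + A0 ^ n • f.u := fun n => by
    induction n with
    | zero => exact ⟨0, by simp⟩
    | succ n ih =>
      obtain ⟨e, he⟩ := ih
      refine ⟨e + A0 ^ n * A, ?_⟩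
      rw [pow_succ', ← mulVec_mulVec, he, mulVec_add, mulVec_smul, mulVec_smul, hMv, hA0,
        smul_add, smul_smul, smul_smul, ← pow_succ, add_smul]
      abel
  have hA1 : A0 = 1 := by
    obtain ⟨e, he⟩ := hupow (p ^ k)
    rw [hMp, one_mulVec] at he
    have h1 := congrArg (f.φ' ⬝ᵥ ·) he
    simp [dotProduct_add, f.φ'v, f.φ'u] at h1
    rw [← h1, zero_smul, zero_add] at he
    exact eq_one_of_pow_eq_one (k := k) (smul_left_injective (R := ZMod p) f.u_ne (by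
      show A0 ^ p ^ k • f.u = (1 : ZMod p) • f.u
      rw [← he, one_smul]))
  have hDu : D *ᵥ f.u = A • v + f.u := by
    rw [hDa, hA0, hA1, f.φu, mul_zero, zero_smul, add_zero, one_smul]
  obtain ⟨B, hB⟩ := f.expand hφv (D *ᵥ f.v')
  have hC : f.φ' ⬝ᵥ (D *ᵥ f.v') = 0 := by
    rw [hDa, dotProduct_add, dotProduct_smul, f.φ'v, f.φv']
    simp
  rw [hDφ, f.φv', hC, zero_smul, zero_add, one_smul] at hB
  have hDx : ∀ x, ∃ r, x = (f.φ' ⬝ᵥ x) • v + r • f.u + (φ ⬝ᵥ x) • f.v' ∧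
      D *ᵥ x = x + (r * A) • v + ((φ ⬝ᵥ x) * B) • f.u := fun x => by
    obtain ⟨r, hr⟩ := f.expand hφv x
    refine ⟨r, hr, ?_⟩
    conv_lhs => rw [hr]
    conv_rhs => rw [hr]
    rw [mulVec_add, mulVec_add, mulVec_smul, mulVec_smul, mulVec_smul, hDv, hDu, hB]
    simp only [dotProduct_add, dotProduct_smul, hφv, f.φu, f.φv', smul_eq_mul, mul_zero, mul_one,
      zero_add, add_zero, smul_add, smul_smul]
    abel
  have hD1 : D ≠ 1 := by
    intro h
    refine hne (f.φ' ⬝ᵥ (M *ᵥ f.v')) (ext_mulVec fun x => ?_)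
    have := hDa x
    rw [h, one_mulVec, neg_mul, neg_smul, ← sub_eq_add_neg, eq_sub_iff_add_eq] at this
    rw [tr_apply, ← this, smul_dotProduct, smul_eq_mul]
  have hmt := f.mem
  by_cases hA : A = 0
  · -- `σ'` is a transvection with axis that of `t`
    have hB0 : B ≠ 0 := fun hB0 => hD1 (ext_mulVec fun x => by
      obtain ⟨r, -, h⟩ := hDx x
      rw [h, hA, hB0, mul_zero, mul_zero, zero_smul, zero_smul, one_mulVec, add_zero, add_zero])
    have hDt : Mem X (tr (B • f.u) φ) := ⟨σ', hσ'X, ext_mulVec fun x => by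
      obtain ⟨r, -, h⟩ := hDx x
      rw [← hD, h, hA, mul_zero, zero_smul, add_zero, tr_apply, smul_smul]⟩
    exact hpair f.v' f.φ' (B • f.u) φ f.φ'v'
      (by rw [dotProduct_smul, f.φu, smul_zero]) (by rw [dotProduct_smul, f.φ'u, smul_zero])
      (by rw [f.φv']; exact one_ne_zero) (fun h => by
        have := f.φ'v; rw [h, zero_dotProduct] at this; exact zero_ne_one this)
      (smul_ne_zero hB0 f.u_ne) hmt hDt
  by_cases hB0 : B = 0
  · -- `σ'` is a transvection with centre that of `t`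
    set ψ := f.φ' ᵥ* D - f.φ'
    have hψ : ∀ x, ψ ⬝ᵥ x = f.φ' ⬝ᵥ (D *ᵥ x) - f.φ' ⬝ᵥ x := fun x => by
      rw [sub_dotProduct, dotProduct_mulVec]
    have hDt : Mem X (tr v ψ) := ⟨σ', hσ'X, ext_mulVec fun x => by
      obtain ⟨r, -, h⟩ := hDx x
      rw [← hD, tr_apply, hψ, h, hB0, mul_zero, zero_smul, add_zero, dotProduct_add,
        dotProduct_smul, f.φ'v, smul_eq_mul, mul_one, add_sub_cancel_left]⟩
    exact hpair v ψ f.v' f.φ'
      (by rw [hψ, hDv, sub_self]) f.φ'v' (by rw [hψ, hC, f.φ'v', sub_zero])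
      (by rw [f.φ'v]; exact one_ne_zero) (fun h => hA (by
        have := hψ f.u
        rw [h, zero_dotProduct, hDu, dotProduct_add, dotProduct_smul, f.φ'v, f.φ'u] at this
        simpa using this.symm))
      (fun h => by have := f.φv'; rw [h, dotProduct_zero] at this; exact zero_ne_one this)
      hDt hmt
  · -- two conjugate transvections with one incidence
    set Di : Matrix (Fin 3) (Fin 3) (ZMod p) := ↑σ'⁻¹
    have hinv : Di *ᵥ f.v' = f.v' - B • f.u + (A * B) • v := by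
      have h1 : D *ᵥ (f.v' - B • f.u + (A * B) • v) = f.v' := by
        rw [mulVec_add, mulVec_sub, mulVec_smul, mulVec_smul, hDv, hDu, hB, smul_add, smul_smul,
          mul_comm B A]
        abel
      conv_lhs => rw [← h1, mulVec_mulVec]
      rw [Units.inv_mul, one_mulVec]
    have hb : D *ᵥ f.v' ≠ 0 := fun h => by
      have := hDφ f.v'; rw [h, dotProduct_zero, f.φv'] at this; exact zero_ne_one this
    exact hpair f.v' f.φ' (D *ᵥ f.v') (f.φ' ᵥ* Di) f.φ'v'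
      (by rw [← dotProduct_mulVec, mulVec_mulVec, Units.inv_mul, one_mulVec, f.φ'v']) hC
      (by
        rw [← dotProduct_mulVec, hinv, dotProduct_add, dotProduct_sub, dotProduct_smul,
          dotProduct_smul, f.φ'v', f.φ'u, f.φ'v]
        simpa using mul_ne_zero hA hB0)
      (fun h => by have := f.φ'v; rw [h, zero_dotProduct] at this; exact zero_ne_one this)
      hb hmt (hmt.conj hσ'X)

/-- The torus of the two opposite transvections. -/
theorem Frame.torus {v φ : Fin 3 → ZMod p} (hφv : φ ⬝ᵥ v = 0) (ht : Mem X (tr v φ))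
    (f : Frame X v φ) {a : ZMod p} (ha : a ≠ 0) :
    ∃ g ∈ X, (g : Matrix (Fin 3) (Fin 3) (ZMod p)) *ᵥ v = a • v ∧
      (g : Matrix (Fin 3) (Fin 3) (ZMod p)) *ᵥ f.u = f.u ∧
      (g : Matrix (Fin 3) (Fin 3) (ZMod p)) *ᵥ f.v' = a⁻¹ • f.v' := by
  have hw : ∀ s : ZMod p, s ≠ 0 → ∃ g ∈ X,
      (g : Matrix (Fin 3) (Fin 3) (ZMod p)) *ᵥ v = (-s⁻¹) • f.v' ∧
      (g : Matrix (Fin 3) (Fin 3) (ZMod p)) *ᵥ f.u = f.u ∧
      (g : Matrix (Fin 3) (Fin 3) (ZMod p)) *ᵥ f.v' = s • v := by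
    intro s hs
    obtain ⟨g, hg, hge⟩ := ((ht.tr_smul hφv s).mul (f.mem.tr_smul f.φ'v' (-s⁻¹))).mul
      (ht.tr_smul hφv s)
    refine ⟨g, hg, ?_, ?_, ?_⟩ <;>
      simp only [hge, ← mulVec_mulVec, tr_apply, dotProduct_add, smul_dotProduct, dotProduct_smul,
        hφv, f.φu, f.φ'u, f.φ'v, f.φ'v', f.φv', smul_eq_mul, mul_zero, mul_one, add_zero, zero_add,
        zero_smul]
    · rw [neg_mul, inv_mul_cancel₀ hs]
      simp only [neg_smul, one_smul]
      abel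
    · rw [mul_neg, mul_inv_cancel₀ hs, neg_one_mul, add_neg_cancel]
      simp only [zero_smul, add_zero, neg_smul, one_smul]
      abel
  obtain ⟨g, hg, g1, g2, g3⟩ := hw a ha
  obtain ⟨k, hk, k1, k2, k3⟩ := hw (-1) (neg_ne_zero.2 one_ne_zero)
  refine ⟨g * k, mul_mem hg hk, ?_, ?_, ?_⟩ <;>
    simp only [Units.val_mul, ← mulVec_mulVec, k1, k2, k3, mulVec_smul, g1, g2, g3, smul_smul]
  · simp
  · simp

end CfsgLib.Fusion.CubeGL
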