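import Cfsg.Agent.Lib.Fusion.CommTransitiveCore

/-!
An abelian essential subgroup moved by many transvections with a common centre is impossible.
-/

set_option autoImplicit false
set_option linter.style.haveILetI false
set_option linter.unusedVariables false
set_option linter.unusedSectionVars false

namespace CfsgLib.Fusion

open Cfsg Cfsg.FusionSystem Subgroup

/-- Commuting pairs from all conjugates contradict containing the locals. -/
theorem false_of_commuting_pairs {X : Type*} [Group X] [Finite X] {p : ℕ} [Fact p.Prime]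
    {T : Sylow p X} {Y : Subgroup X} (hY : Y ≠ ⊤) (hloc : ContainsLocals (T : Subgroup X) Y)
    (hpair : ∀ g : X, ∃ t ∈ (T : Subgroup X), ∃ s ∈ (T : Subgroup X), t ≠ 1 ∧ s ≠ 1 ∧
      Commute t (g * s * g⁻¹)) : False := by
  refine hY (eq_top_iff.2 fun g _ => ?_)
  obtain ⟨t, ht, s, hs, ht1, hs1, hc⟩ := hpair g
  have hTY := containsLocals_le hloc fun hb => ht1 (Subgroup.mem_bot.1 (hb ▸ ht))
  set u := g * s * g⁻¹ with hu
  have huY : u ∈ Y := by
    refine hloc (Subgroup.zpowers t) (Subgroup.zpowers_le.2 ht)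
      (fun hb => ht1 (Subgroup.zpowers_eq_bot.1 hb)) ?_
    refine Subgroup.mem_normalizer_fintype fun w hw => ?_
    obtain ⟨k, rfl⟩ := Subgroup.mem_zpowers_iff.1 hw
    rw [(hc.zpow_left k).symm.eq, mul_inv_cancel_right]
    exact hw
  have hup : IsPGroup p (Subgroup.zpowers (⟨u, huY⟩ : Y)) := by
    obtain ⟨k, hk⟩ := T.isPGroup' ⟨s, hs⟩
    intro w
    refine ⟨k, ?_⟩
    obtain ⟨j, hj⟩ := Subgroup.mem_zpowers_iff.1 w.2
    refine Subtype.ext (Subtype.ext ?_)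
    simp only [Subgroup.coe_pow, Subgroup.coe_one, ← hj, Subgroup.coe_zpow]
    have hsk : s ^ p ^ k = 1 := congrArg Subtype.val hk
    have huk : u ^ p ^ k = 1 := by rw [hu, conj_pow, hsk]; simp
    rw [← zpow_natCast, zpow_comm, zpow_natCast, huk, one_zpow]
  obtain ⟨W, hW⟩ := hup.exists_le_sylow
  obtain ⟨y, hy⟩ := MulAction.exists_smul_eq Y W (T.subtype hTY)
  have h1 : (y * ⟨u, huY⟩ * y⁻¹ : Y) ∈ (T.subtype hTY : Subgroup Y) := by
    rw [← hy, Sylow.coe_subgroup_smul]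
    exact ⟨⟨u, huY⟩, hW (Subgroup.mem_zpowers _), rfl⟩
  have h2 : (y : X) * u * (y : X)⁻¹ ∈ (T : Subgroup X) := h1
  have hmem : ((y : X) * g)⁻¹ ∈ Y := by
    refine mem_of_containsLocals hloc (Subgroup.zpowers_le.2 hs)
      (fun hb => hs1 (Subgroup.zpowers_eq_bot.1 hb)) fun w hw => ?_
    obtain ⟨k, rfl⟩ := Subgroup.mem_zpowers_iff.1 hw
    rw [inv_inv, ← conj_zpow]
    refine Subgroup.zpow_mem _ ?_ k
    rw [hu] at h2
    simpa [mul_assoc] using h2
  have := Y.mul_mem (Y.inv_mem y.2) (Y.inv_mem hmem)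
  simpa using this

variable {Ω : Type*} [Group Ω] {S : Subgroup Ω} {F : FusionSystem S} {p : ℕ} {P L : Subgroup Ω}
variable [Fact p.Prime] [Finite S] (hS : IsPGroup p S) (hF : F.IsSaturated p)

include hS hF

/-- Transvections with a common centre `L` centralizing every element of `P` in turn. -/
theorem false_of_transvections (hP : F.IsEssential p P) (hab : ∀ a ∈ P, ∀ b ∈ P, a * b = b * a)
    (hLP : L ≤ P) (hLc : Nat.card L = p) (U : Set Ω) (hU : ∀ a ∈ U, a ∈ normalizerIn S P)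
    (hcomm : ∀ a ∈ U, ∀ x ∈ P, a * x * a⁻¹ * x⁻¹ ∈ L)
    (hfix : ∀ v ∈ P, ∃ a ∈ U, a ∉ P ∧ a * v * a⁻¹ = v) : False := by
  have hPS := hP.1.1
  haveI := finite_of_le hPS
  obtain ⟨W, -, hWeq, -⟩ := exists_outSylow hS hF (lt_of_essential hS hF hP) hP.2.1 hP.1
  obtain ⟨_, Y₀, hY₀⟩ := hP.2.2
  obtain ⟨Y, hY, hloc⟩ := exists_containsLocals_of_isStronglyPEmbedded hY₀ W
  have hinn : ∀ γ ∈ Inn P, γ = 1 := by
    rintro _ ⟨b, rfl⟩
    refine MulEquiv.ext fun x => Subtype.ext ?_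
    show (b : Ω) * x * (b : Ω)⁻¹ = x
    rw [hab b b.2 x x.2, mul_inv_cancel_right]
  have hne : L ≠ ⊥ := fun h => (Fact.out : p.Prime).ne_one (by rw [← hLc, h, Subgroup.card_bot])
  obtain ⟨⟨l₀, hl₀⟩, hl₀1⟩ := L.ne_bot_iff_exists_ne_one.1 hne
  haveI := finite_of_le (hLP.trans hPS)
  have hLgen : ∀ l ∈ L, ∃ k : ℤ, l = l₀ ^ k := fun l hl => by
    have h : (⟨l, hl⟩ : L) ∈ Subgroup.zpowers (⟨l₀, hl₀⟩ : L) := by
      rw [zpowers_eq_top_of_prime_card hLc hl₀1]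
      exact Subgroup.mem_top _
    obtain ⟨k, hk⟩ := Subgroup.mem_zpowers_iff.1 h
    exact ⟨k, (congrArg Subtype.val hk).symm⟩
  let mkAut : ∀ a, a ∈ normalizerIn S P → F.autGroup P := fun a ha =>
    ⟨P.normalizerMonoidHom ⟨a, ha.2⟩,
      autInducedBy_le_autGroup hPS (mem_autInducedBy_iff.2 ⟨a, ha.1, fun _ => rfl⟩)⟩
  have hmk : ∀ a (ha : a ∈ normalizerIn S P) (x : P),
      ((((mkAut a ha : F.autGroup P) : MulAut P) x : P) : Ω) = a * x * a⁻¹ := fun a ha x => rfl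
  set π := QuotientGroup.mk' ((Inn P).subgroupOf (F.autGroup P)) with hπ
  have hW : ∀ a (ha : a ∈ normalizerIn S P), π (mkAut a ha) ∈ (W : Subgroup (OutGrp F P)) :=
    fun a ha => by
      rw [hWeq]
      exact ⟨_, mem_autInducedBy_iff.2 ⟨a, ha.1, fun _ => rfl⟩, rfl⟩
  have hne1 : ∀ a (ha : a ∈ normalizerIn S P), a ∉ P → π (mkAut a ha) ≠ 1 := fun a ha haP h => by
    have h0 : mkAut a ha ∈ (Inn P).subgroupOf (F.autGroup P) :=
      (QuotientGroup.eq_one_iff (N := (Inn P).subgroupOf (F.autGroup P)) _).1 h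
    have h1 := hinn _ h0
    refine haP (hP.1.2 P (isConj_refl hPS) ⟨ha.1, fun x hx => ?_⟩)
    have h2 := hmk a ha ⟨x, hx⟩
    have h1' : ((mkAut a ha : F.autGroup P) : MulAut P) = 1 := h1
    rw [h1'] at h2
    exact eq_mul_inv_iff_mul_eq.1 h2
  refine false_of_commuting_pairs hY hloc fun q => ?_
  obtain ⟨g, rfl⟩ := QuotientGroup.mk'_surjective _ q
  obtain ⟨a, haU, haP, hav⟩ := hfix _ ((g : MulAut P) ⟨l₀, hLP hl₀⟩).2
  obtain ⟨b, hbU, hbP, hbv⟩ := hfix _ ((g : MulAut P)⁻¹ ⟨l₀, hLP hl₀⟩).2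
  have ha := hU a haU
  have hb := hU b hbU
  refine ⟨_, hW a ha, _, hW b hb, hne1 a ha haP, hne1 b hb hbP, ?_⟩
  rw [← map_inv, ← map_mul, ← map_mul]
  refine Commute.map ?_ π
  refine Subtype.ext (MulEquiv.ext fun x => ?_)
  set t : MulAut P := (mkAut a ha : MulAut P) with ht
  set s : MulAut P := (mkAut b hb : MulAut P) with hs
  show t ((g : MulAut P) (s ((g : MulAut P)⁻¹ x))) = (g : MulAut P) (s ((g : MulAut P)⁻¹ (t x)))
  have hfa : ∀ y : P, ((t y * y⁻¹ : P) : Ω) ∈ L := fun y => hcomm a haU y y.2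
  have hfb : ∀ y : P, ((s y * y⁻¹ : P) : Ω) ∈ L := fun y => hcomm b hbU y y.2
  have hta : ∀ y : P, (y : Ω) ∈ L → t ((g : MulAut P) y) = (g : MulAut P) y := fun y hy => by
    obtain ⟨k, hk⟩ := hLgen _ hy
    rw [show y = (⟨l₀, hLP hl₀⟩ : P) ^ k from Subtype.ext (by simpa using hk), map_zpow, map_zpow]
    congr 1
    exact Subtype.ext hav
  have hsb : ∀ y : P, (y : Ω) ∈ L → s ((g : MulAut P)⁻¹ y) = (g : MulAut P)⁻¹ y := fun y hy => by
    obtain ⟨k, hk⟩ := hLgen _ hy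
    rw [show y = (⟨l₀, hLP hl₀⟩ : P) ^ k from Subtype.ext (by simpa using hk), map_zpow, map_zpow]
    congr 1
    exact Subtype.ext hbv
  obtain ⟨d, e1, hdL⟩ : ∃ d, s ((g : MulAut P)⁻¹ x) = d * (g : MulAut P)⁻¹ x ∧ (d : Ω) ∈ L :=
    ⟨_, (inv_mul_cancel_right _ _).symm, hfb _⟩
  obtain ⟨c, e2, hcL⟩ : ∃ c, t x = c * x ∧ (c : Ω) ∈ L :=
    ⟨_, (inv_mul_cancel_right _ _).symm, hfa _⟩
  have hcm : ∀ u v : P, u * v = v * u := fun u v => Subtype.ext (hab u u.2 v v.2)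
  calc t ((g : MulAut P) (s ((g : MulAut P)⁻¹ x)))
      = t ((g : MulAut P) d * x) := by rw [e1, map_mul, MulAut.apply_inv_self]
    _ = (g : MulAut P) d * (c * x) := by rw [map_mul, hta d hdL, e2]
    _ = c * ((g : MulAut P) d * x) := by rw [← mul_assoc, hcm _ c, mul_assoc]
    _ = (g : MulAut P) (((g : MulAut P)⁻¹ c) * (d * (g : MulAut P)⁻¹ x)) := by
        rw [map_mul, map_mul, MulAut.apply_inv_self, MulAut.apply_inv_self]
    _ = (g : MulAut P) (s ((g : MulAut P)⁻¹ (t x))) := by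
        rw [e2, map_mul ((g : MulAut P)⁻¹), map_mul s, hsb c hcL, e1]

end CfsgLib.Fusion
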