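import Cfsg.Agent.Lib.Fusion.CubeGL
import Cfsg.Agent.Lib.Fusion.EssentialTransvection
import Cfsg.Agent.Lib.Invol.EssentialSmall

/-!
Elementary abelian essential subgroups of order `p³` with a transvection in the normalizer.
-/

set_option autoImplicit false
set_option linter.style.haveILetI false
set_option linter.unusedSectionVars false

namespace CfsgLib.Fusion.EssentialCube

open Cfsg Cfsg.FusionSystem Matrix CfsgLib.Fusion CfsgLib.Fusion.CubeGL

variable {Ω : Type*} [Group Ω] {S : Subgroup Ω} {F : FusionSystem S} {p : ℕ} [hp : Fact p.Prime]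
  [Finite S] {E : Subgroup Ω}

theorem exists_coordinates (hE : Cfsg.IsElementaryAbelian p E) [Finite E]
    (hcard : Nat.card E = p ^ 3) :
    ∃ (ε : E → (Fin 3 → ZMod p)) (ρ : MulAut E →* GL (Fin 3) (ZMod p)),
      Function.Bijective ε ∧ (∀ x y, ε (x * y) = ε x + ε y) ∧ Function.Injective ρ ∧
      ∀ α x, (ρ α : Matrix (Fin 3) (Fin 3) (ZMod p)) *ᵥ ε x = ε (α x) := by
  classical
  letI : CommGroup E := { (inferInstance : Group E) with mul_comm := hE.1.is_comm.comm }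
  have hexp' : ∀ x : Additive E, p • x = 0 := fun x => by
    show Additive.ofMul ((Additive.toMul x) ^ p) = 0
    rw [show (Additive.toMul x) ^ p = 1 from Subtype.ext (hE.2 _ (Additive.toMul x).2), ofMul_one]
  letI : Module (ZMod p) (Additive E) := AddCommGroup.zmodModule (n := p) hexp'
  haveI : Finite (Additive E) := inferInstanceAs (Finite E)
  haveI : Module.Finite (ZMod p) (Additive E) :=
    Module.Finite.of_finite (R := ZMod p) (M := Additive E)
  have hfr : Module.finrank (ZMod p) (Additive E) = 3 := by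
    have h := Module.natCard_eq_pow_finrank (K := ZMod p) (V := Additive E)
    rw [Nat.card_zmod, show Nat.card (Additive E) = p ^ 3 from hcard] at h
    exact (Nat.pow_right_injective hp.out.two_le h).symm
  let b : Module.Basis (Fin 3) (ZMod p) (Additive E) :=
    @Module.finBasisOfFinrankEq (ZMod p) (Additive E) _ _ _ _ _ _ 3 hfr
  let ρ₀ : MulAut E →* Matrix (Fin 3) (Fin 3) (ZMod p) :=
    (LinearMap.toMatrixAlgEquiv b).toMonoidHom.comp (CfsgLib.PLocal.autRep p E)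
  have hρ : ∀ α x, ρ₀ α *ᵥ b.repr (Additive.ofMul x) = b.repr (Additive.ofMul (α x)) := fun α x =>
    LinearMap.toMatrix_mulVec_repr b b (CfsgLib.PLocal.autRep p E α) (Additive.ofMul x)
  refine ⟨fun x => b.repr (Additive.ofMul x), ρ₀.toHomUnits, ?_, fun x y => ?_, ?_, hρ⟩
  · exact b.equivFun.bijective.comp Additive.ofMul.bijective
  · simp only [ofMul_mul, map_add, Finsupp.coe_add]
  · intro α β h
    refine MulEquiv.ext fun x => Additive.ofMul.injective (b.equivFun.injective ?_)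
    have h' : ρ₀ α = ρ₀ β := congrArg Units.val h
    show ⇑(b.repr (Additive.ofMul (α x))) = ⇑(b.repr (Additive.ofMul (β x)))
    rw [← hρ, ← hρ, h']

/-- The data carried by a transvection in the normalizer of an elementary abelian essential
subgroup of order `p³`. -/
theorem exists_torus (hS : IsPGroup p S) (hF : F.IsSaturated p) (hE : F.IsEssential p E)
    (hel : Cfsg.IsElementaryAbelian p E) (hcard : Nat.card E = p ^ 3) {c : Ω}
    (hc : c ∈ normalizerIn S E) (hcE : c ∉ E) {L : Subgroup Ω} (hL : Nat.card L = p)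
    (hLE : L ≤ E) (hcL : ∀ x ∈ E, c * x * c⁻¹ * x⁻¹ ∈ L) :
    Nat.card (normalizerIn S E) = p ^ 4 ∧ ∃ l h e : Ω, l ∈ E ∧ h ∈ E ∧ e ∈ E ∧ l ≠ 1 ∧
      c * l * c⁻¹ = l ∧ c * h * c⁻¹ = h ∧ c * e * c⁻¹ = l * e ∧
      (∀ i j k : ℕ, l ^ i * h ^ j * e ^ k = 1 → p ∣ i ∧ p ∣ j ∧ p ∣ k) ∧
      (∀ x ∈ E, ∃ i j k : ℕ, x = l ^ i * h ^ j * e ^ k) ∧
      ∀ a a' : ℕ, ((a : ZMod p) * (a' : ZMod p)) = 1 → ∃ θ ∈ F.autGroup E,
        ∀ (hl : l ∈ E) (hh : h ∈ E) (he : e ∈ E), ((θ ⟨l, hl⟩ : E) : Ω) = l ^ a ∧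
          ((θ ⟨h, hh⟩ : E) : Ω) = h ∧ ((θ ⟨e, he⟩ : E) : Ω) = e ^ a' := by
  classical
  have hES := hE.1.1
  haveI := finite_of_le hES
  haveI : Finite (normalizerIn S E) := finite_of_le inf_le_left
  obtain ⟨ε, ρ, hε, hadd, hρinj, hρ⟩ := exists_coordinates hel hcard
  have hab : ∀ a ∈ E, ∀ b ∈ E, a * b = b * a := fun a ha b hb =>
    congrArg Subtype.val (hel.1.is_comm.comm ⟨a, ha⟩ ⟨b, hb⟩)
  have hε1 : ε 1 = 0 := by
    have := hadd 1 1
    rwa [one_mul, left_eq_add] at this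
  have hεpow : ∀ (x : E) (k : ℕ), ε (x ^ k) = (k : ZMod p) • ε x := fun x k => by
    induction k with
    | zero => simp [hε1]
    | succ k ih => rw [pow_succ, hadd, ih, Nat.cast_succ, add_smul, one_smul]
  -- conjugation by elements of the normalizer
  let μ : normalizerIn S E →* MulAut E :=
    E.normalizerMonoidHom.comp (Subgroup.inclusion inf_le_right)
  have hμ : ∀ (g : normalizerIn S E) (x : E), ((μ g x : E) : Ω) = g * x * (g : Ω)⁻¹ :=
    fun g x => rfl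
  have hμrange : μ.range = autInducedBy S E := by
    ext α
    rw [mem_autInducedBy_iff]
    constructor
    · rintro ⟨g, rfl⟩
      exact ⟨g, g.2.1, fun x => rfl⟩
    · rintro ⟨g, hg, hgx⟩
      exact ⟨⟨g, hg, mem_normalizer_of_aut hgx⟩, MulEquiv.ext fun x => Subtype.ext (hgx x).symm⟩
  have hker : μ.ker = E.subgroupOf (normalizerIn S E) := by
    ext g
    rw [MonoidHom.mem_ker, Subgroup.mem_subgroupOf]
    constructor
    · intro h
      refine hE.1.2 E (isConj_refl hES) ⟨g.2.1, fun x hx => ?_⟩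
      have h1 := hμ g ⟨x, hx⟩
      rw [h] at h1
      exact eq_mul_inv_iff_mul_eq.1 h1
    · intro hg
      refine MulEquiv.ext fun x => Subtype.ext ?_
      rw [hμ, hab _ hg _ x.2, mul_inv_cancel_right]
      rfl
  set X : Subgroup (GL (Fin 3) (ZMod p)) := (F.autGroup E).map ρ with hXdef
  have hnormal : ∀ N : Subgroup X, N.Normal → IsPGroup p N → N = ⊥ := by
    intro N hN hNp
    let f : F.autGroup E ≃* X := Subgroup.equivMapOfInjective _ ρ hρinj
    rw [eq_bot_iff]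
    intro x hx
    have h1 := (CfsgLib.Invol.EssentialSmall.exists_pElement hS hF hE).1
      (N.comap f.toMonoidHom) inferInstance (hNp.comap_of_injective _ f.injective) (f.symm x)
      (by simpa using hx)
    have h2 := CfsgLib.Invol.EssentialSmall.inn_eq_bot_of_comm
      (fun x y : E => Subtype.ext (hab x x.2 y y.2)) h1
    rw [Subgroup.mem_bot, ← f.apply_symm_apply x,
      show f.symm x = 1 from Subtype.ext h2, map_one]
  have hmemX : ∀ g : normalizerIn S E, ρ (μ g) ∈ X := fun g =>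
    ⟨μ g, autInducedBy_le_autGroup hES (hμrange.le ⟨g, rfl⟩), rfl⟩
  -- the transvection
  obtain ⟨⟨l₀, hl₀⟩, hl₀1⟩ := L.ne_bot_iff_exists_ne_one.1 fun h =>
    hp.out.ne_one (by rw [← hL, h, Subgroup.card_bot])
  set v : Fin 3 → ZMod p := ε ⟨l₀, hLE hl₀⟩ with hvdef
  have hv : v ≠ 0 := fun h => by
    have h1 : (⟨l₀, hLE hl₀⟩ : E) = 1 := hε.1 (h.trans hε1.symm)
    exact hl₀1 (Subtype.ext (congrArg (fun z : E => (z : Ω)) h1))
  haveI : Finite L := finite_of_le (hLE.trans hES)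
  have hline : ∀ y (hy : y ∈ L), ∃ k : ZMod p, ε ⟨y, hLE hy⟩ = k • v := fun y hy => by
    obtain ⟨k, hk⟩ := (Submonoid.mem_powers_iff _ _).1 (mem_powers_iff_mem_zpowers.2
      ((zpowers_eq_top_of_prime_card hL hl₀1).ge (Subgroup.mem_top (⟨y, hy⟩ : L))))
    refine ⟨k, ?_⟩
    rw [hvdef, ← hεpow]
    congr 1
    exact Subtype.ext (congrArg Subtype.val hk).symm
  set M : Matrix (Fin 3) (Fin 3) (ZMod p) := ↑(ρ (μ ⟨c, hc⟩)) with hMdef
  have hMx : ∀ x, ∃ k : ZMod p, M *ᵥ x = x + k • v := fun x => by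
    obtain ⟨y, rfl⟩ := hε.2 x
    obtain ⟨k, hk⟩ := hline _ (hcL y y.2)
    refine ⟨k, ?_⟩
    rw [hMdef, hρ, ← hk, add_comm, ← hadd]
    congr 1
    exact Subtype.ext (by rw [hμ]; simp [mul_assoc])
  obtain ⟨i₀, hi₀⟩ := Function.ne_iff.1 hv
  rw [Pi.zero_apply] at hi₀
  set φ : Fin 3 → ZMod p := (v i₀)⁻¹ • (fun j => (M - 1) i₀ j) with hφdef
  have hMtr : M = tr v φ := ext_mulVec fun x => by
    obtain ⟨k, hk⟩ := hMx x
    rw [tr_apply, hk]
    congr 2
    rw [hφdef, smul_dotProduct, show (fun j => (M - 1) i₀ j) ⬝ᵥ x = ((M - 1) *ᵥ x) i₀ from rfl,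
      sub_mulVec, one_mulVec, hk]
    simp [mul_comm k (v i₀), ← mul_assoc, inv_mul_cancel₀ hi₀]
  haveI : Finite ↥(S ⊓ Subgroup.normalizer (E : Set Ω)) := finite_of_le inf_le_left
  obtain ⟨kc, hkc⟩ := IsPGroup.iff_card.1 (hS.to_le (inf_le_left : normalizerIn S E ≤ S))
  have hMpow : M ^ p ^ kc = 1 := by
    have h1 : (⟨c, hc⟩ : normalizerIn S E) ^ p ^ kc = 1 := by
      rw [← hkc]; exact pow_card_eq_one'
    rw [hMdef, ← Units.val_pow_eq_pow_val, ← map_pow, ← map_pow, h1, map_one, map_one,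
      Units.val_one]
  have hφv : φ ⬝ᵥ v = 0 := by
    have hpow : ∀ n : ℕ, (M ^ n) *ᵥ v = (1 + φ ⬝ᵥ v) ^ n • v := fun n => by
      induction n with
      | zero => simp
      | succ n ih =>
        rw [pow_succ, ← mulVec_mulVec, hMtr, tr_apply, ← hMtr,
          show v + (φ ⬝ᵥ v) • v = (1 + φ ⬝ᵥ v) • v by rw [add_smul, one_smul], mulVec_smul, ih,
          smul_smul, ← pow_succ']
    have h1 := eq_one_of_pow_eq_one (p := p) (k := kc) (smul_left_injective (R := ZMod p) hv (by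
      show (1 + φ ⬝ᵥ v) ^ p ^ kc • v = (1 : ZMod p) • v
      rw [← hpow, hMpow, one_mulVec, one_smul]))
    simpa using h1
  have hφ : φ ≠ 0 := fun h => hcE (by
    have h1 : ρ (μ ⟨c, hc⟩) = 1 := Units.ext (by
      rw [← hMdef, hMtr, h, tr, vecMulVec_zero, add_zero, Units.val_one])
    have h2 : (⟨c, hc⟩ : normalizerIn S E) ∈ μ.ker := hρinj (by rw [h1, map_one])
    rw [hker] at h2
    exact h2)
  have ht : Mem X (tr v φ) := ⟨_, hmemX _, hMdef.symm.trans hMtr⟩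
  -- no two transvections with one incidence
  have hauto := fullyAutomized_of_fullyNormalized hS hF hE.2.1
  have hpair : NoPair X := by
    intro a α b β hαa hβb hαb hβa hα hb hA hB
    obtain ⟨K, hKX, hKp, -, hK⟩ := exists_cube hαa hβb hαb hβa hα hb hA hB
    obtain ⟨β₀, hβ₀, hconj⟩ := exists_conj_le_autInducedBy hauto (K.comap ρ)
      (hKp.comap_of_injective _ hρinj) fun κ hκ => by
        obtain ⟨κ', hκ', he⟩ := hKX hκ
        exact hρinj he ▸ hκ'
    set g := ρ β₀ with hgdef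
    set b' : Fin 3 → ZMod p := (g : Matrix (Fin 3) (Fin 3) (ZMod p)) *ᵥ b with hb'def
    have hb' : b' ≠ 0 := fun h => hb (by
      have := congrArg ((↑g⁻¹ : Matrix (Fin 3) (Fin 3) (ZMod p)) *ᵥ ·) h
      simpa [hb'def] using this)
    obtain ⟨l', hl'⟩ := hε.2 b'
    have hl'1 : (l' : Ω) ≠ 1 := fun h => hb' (by
      rw [← hl', show l' = 1 from Subtype.ext h, hε1])
    have hl'p : orderOf (l' : Ω) = p := by
      refine orderOf_eq_prime (hel.2 _ l'.2) hl'1
    let U : Set Ω := {y | ∃ hy : y ∈ normalizerIn S E, ∃ ψ : Fin 3 → ZMod p,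
      (ρ (μ ⟨y, hy⟩) : Matrix (Fin 3) (Fin 3) (ZMod p)) = tr b' ψ}
    refine false_of_transvections hS hF hE hab (L := Subgroup.zpowers (l' : Ω))
      (Subgroup.zpowers_le.2 l'.2) (by rw [Nat.card_zpowers, hl'p]) U (fun y hy => hy.1) ?_ ?_
    · rintro y ⟨hy, ψ, hψ⟩ x hx
      refine ⟨((ψ ⬝ᵥ ε ⟨x, hx⟩).val : ℕ), ?_⟩
      show (l' : Ω) ^ ((((ψ ⬝ᵥ ε ⟨x, hx⟩).val : ℕ)) : ℤ) = _
      have h1 : μ ⟨y, hy⟩ ⟨x, hx⟩ = l' ^ (ψ ⬝ᵥ ε ⟨x, hx⟩).val * ⟨x, hx⟩ := hε.1 (by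
        rw [← hρ, hψ, tr_apply, hadd, hεpow, hl', ZMod.natCast_zmod_val, add_comm])
      have h2 := congrArg Subtype.val h1
      rw [hμ] at h2
      rw [zpow_natCast, h2]
      simp
    · intro w hw
      set w' := ε ⟨w, hw⟩
      obtain ⟨x, z, hxz, hzero⟩ : ∃ x z : ZMod p, x • α + z • β ≠ 0 ∧
          (x • α + z • β) ⬝ᵥ ((↑g⁻¹ : Matrix (Fin 3) (Fin 3) (ZMod p)) *ᵥ w') = 0 := by
        have hind : ∀ x z : ZMod p, x • α + z • β = 0 → x = 0 ∧ z = 0 := fun x z h => by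
          have h1 := congrArg (· ⬝ᵥ a) h
          simp only [add_dotProduct, smul_dotProduct, hαa, zero_dotProduct, smul_eq_mul, mul_zero,
            zero_add, mul_eq_zero] at h1
          rw [h1.resolve_right hβa, zero_smul, add_zero, smul_eq_zero] at h
          exact ⟨h.resolve_right hα, h1.resolve_right hβa⟩
        set w'' := (↑g⁻¹ : Matrix (Fin 3) (Fin 3) (ZMod p)) *ᵥ w'
        by_cases hz : α ⬝ᵥ w'' = 0
        · exact ⟨1, 0, fun h => one_ne_zero (hind 1 0 h).1, by simp [hz]⟩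
        · refine ⟨-(β ⬝ᵥ w''), α ⬝ᵥ w'', fun h => hz (hind _ _ h).2, ?_⟩
          simp only [add_dotProduct, smul_dotProduct, smul_eq_mul]
          ring
      obtain ⟨k, hkK, hk⟩ := hK x z
      obtain ⟨κ, hκ, hκk⟩ := hKX hkK
      obtain ⟨y, hy, hyx⟩ := mem_autInducedBy_iff.1 (hconj κ (by show ρ κ ∈ K; rwa [hκk]))
      have hyN : y ∈ normalizerIn S E := ⟨hy, mem_normalizer_of_aut hyx⟩
      have hμy : μ ⟨y, hyN⟩ = β₀ * κ * β₀⁻¹ := MulEquiv.ext fun u => Subtype.ext (hyx u).symm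
      have hmat : (ρ (μ ⟨y, hyN⟩) : Matrix (Fin 3) (Fin 3) (ZMod p)) =
          tr b' ((x • α + z • β) ᵥ* (↑g⁻¹ : Matrix (Fin 3) (Fin 3) (ZMod p))) := by
        rw [hμy, map_mul, map_mul, map_inv, hκk, ← hgdef, Units.val_mul, Units.val_mul, hk, mul_tr]
      refine ⟨y, ⟨hyN, _, hmat⟩, fun hyE => hxz ?_, ?_⟩
      · have h1 : (⟨y, hyN⟩ : normalizerIn S E) ∈ μ.ker := by rw [hker]; exact hyE
        rw [MonoidHom.mem_ker] at h1
        rw [h1, map_one, Units.val_one] at hmat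
        have h2 : (x • α + z • β) ᵥ* (↑g⁻¹ : Matrix (Fin 3) (Fin 3) (ZMod p)) = 0 :=
          dotProduct_eq_zero _ fun u => smul_left_injective (R := ZMod p) hb' (by
            have := congrArg (· *ᵥ u) hmat
            simpa [tr_apply] using this)
        have h3 := congrArg (· ᵥ* (g : Matrix (Fin 3) (Fin 3) (ZMod p))) h2
        simpa using h3
      · have h1 : μ ⟨y, hyN⟩ ⟨w, hw⟩ = ⟨w, hw⟩ := hε.1 (by
          rw [← hρ, hmat, tr_apply, ← dotProduct_mulVec, hzero, zero_smul, add_zero])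
        exact (hμ _ ⟨w, hw⟩).symm.trans (congrArg Subtype.val h1)
  obtain ⟨f⟩ := exists_opposite hφv hv hφ ht hnormal hpair
  -- the image of the normalizer
  let ν : normalizerIn S E →* GL (Fin 3) (ZMod p) := ρ.comp μ
  have hTp : IsPGroup p ν.range :=
    (hS.to_le (inf_le_left : normalizerIn S E ≤ S)).of_surjective ν.rangeRestrict ν.rangeRestrict_surjective
  have hTX : ν.range ≤ X := by rintro _ ⟨g, rfl⟩; exact hmemX g
  have hcommute : ∀ σ ∈ ν.range, Commute σ (ν ⟨c, hc⟩) →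
      ∃ s : ZMod p, (σ : Matrix (Fin 3) (Fin 3) (ZMod p)) = tr v (s • φ) := by
    intro σ hσ hcm
    by_contra hne
    push Not at hne
    obtain ⟨k, hk⟩ := hTp ⟨σ, hσ⟩
    refine false_of_commute hφv hv ht f (hTX hσ) (k := k) (congrArg Subtype.val hk) ?_ hne hpair
    have h1 := congrArg (fun q : GL (Fin 3) (ZMod p) => (q : Matrix (Fin 3) (Fin 3) (ZMod p))) hcm.eq
    simpa only [Units.val_mul, show (ν ⟨c, hc⟩ : Matrix (Fin 3) (Fin 3) (ZMod p)) = tr v φ from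
      hMdef.symm.trans hMtr] using h1
  have htpow : ∀ k : ℕ, ((ν ⟨c, hc⟩ ^ k : GL (Fin 3) (ZMod p)) :
      Matrix (Fin 3) (Fin 3) (ZMod p)) = tr v ((k : ZMod p) • φ) := fun k => by
    rw [Units.val_pow_eq_pow_val, show (ν ⟨c, hc⟩ : Matrix (Fin 3) (Fin 3) (ZMod p)) = tr v φ from
      hMdef.symm.trans hMtr]
    induction k with
    | zero => rw [pow_zero, Nat.cast_zero, zero_smul, tr, vecMulVec_zero, add_zero]
    | succ k ih =>
      rw [pow_succ, ih, tr_mul_tr (by rw [smul_dotProduct, hφv, smul_zero]), Nat.cast_succ,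
        add_smul, one_smul]
  have hpowers : ∀ σ ∈ ν.range, σ ∈ Subgroup.zpowers (ν ⟨c, hc⟩) := by
    have hcent : ∀ σ ∈ ν.range, Commute σ (ν ⟨c, hc⟩) := by
      haveI : Finite ν.range := inferInstance
      haveI : Nontrivial ν.range := ⟨⟨⟨_, ⟨c, hc⟩, rfl⟩, 1, fun h => hφ (by
        have h1 := congrArg (fun q : ν.range =>
          ((q : GL (Fin 3) (ZMod p)) : Matrix (Fin 3) (Fin 3) (ZMod p))) h
        simp only [OneMemClass.coe_one, Units.val_one] at h1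
        have h2 : tr v φ = 1 := (hMdef.symm.trans hMtr).symm.trans h1
        exact dotProduct_eq_zero _ fun u => smul_left_injective (R := ZMod p) hv (by
          have := congrArg (· *ᵥ u) h2
          simpa [tr_apply] using this))⟩⟩
      haveI := hTp.center_nontrivial
      obtain ⟨⟨⟨σ, hσ⟩, hσc⟩, hσ1⟩ := exists_ne (1 : Subgroup.center ν.range)
      have hcm : Commute σ (ν ⟨c, hc⟩) :=
        (congrArg Subtype.val (Subgroup.mem_center_iff.1 hσc ⟨_, ⟨c, hc⟩, rfl⟩)).symm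
      obtain ⟨s, hs⟩ := hcommute σ hσ hcm
      have hs0 : s ≠ 0 := fun h => hσ1 (Subtype.ext (Subtype.ext (Units.ext (by
        show (σ : Matrix (Fin 3) (Fin 3) (ZMod p)) = 1
        rw [hs, h, zero_smul, tr, vecMulVec_zero, add_zero]))))
      have ht' : ν ⟨c, hc⟩ = σ ^ (s⁻¹).val := Units.ext (by
        have h1 : σ = ν ⟨c, hc⟩ ^ s.val := Units.ext (by rw [htpow, ZMod.natCast_zmod_val, hs])
        rw [h1, ← pow_mul, htpow, Nat.cast_mul, ZMod.natCast_zmod_val, ZMod.natCast_zmod_val,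
          mul_inv_cancel₀ hs0, one_smul]
        exact hMdef.symm.trans hMtr)
      intro τ hτ
      rw [ht']
      exact Commute.pow_right (congrArg Subtype.val (Subgroup.mem_center_iff.1 hσc ⟨τ, hτ⟩)) _
    intro σ hσ
    obtain ⟨s, hs⟩ := hcommute σ hσ (hcent σ hσ)
    refine ⟨(s.val : ℤ), ?_⟩
    show ν ⟨c, hc⟩ ^ ((s.val : ℕ) : ℤ) = σ
    rw [zpow_natCast]
    exact Units.ext (by rw [htpow, ZMod.natCast_zmod_val, hs])
  have hN : Nat.card (normalizerIn S E) = p ^ 4 := by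
    have htord : orderOf (ν ⟨c, hc⟩) = p := orderOf_eq_prime (Units.ext (by
      rw [htpow, ZMod.natCast_self, zero_smul, tr, vecMulVec_zero, add_zero, Units.val_one]))
      fun h => hcE (by
        have h2 : (⟨c, hc⟩ : normalizerIn S E) ∈ μ.ker := hρinj (by
          show ν ⟨c, hc⟩ = ρ 1
          rw [h, map_one])
        rw [hker] at h2
        exact h2)
    have hrange : ν.range = Subgroup.zpowers (ν ⟨c, hc⟩) :=
      le_antisymm hpowers (Subgroup.zpowers_le.2 ⟨_, rfl⟩)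
    have hk : ν.ker = E.subgroupOf (normalizerIn S E) := by
      rw [show ν.ker = μ.ker from Subgroup.ext fun g => by
        simp only [MonoidHom.mem_ker, ν, MonoidHom.comp_apply, map_eq_one_iff ρ hρinj], hker]
    have h1 := ν.ker.card_mul_index
    rw [Subgroup.index_ker, hrange, Nat.card_zpowers, htord, hk,
      Nat.card_congr (Subgroup.subgroupOfEquivOfLe (le_normalizerIn hES)).toEquiv, hcard] at h1
    rw [← h1]
    ring
  obtain ⟨⟨l, hl⟩, hlv⟩ := hε.2 v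
  obtain ⟨⟨h, hh⟩, hhu⟩ := hε.2 f.u
  obtain ⟨⟨e, he⟩, hev⟩ := hε.2 f.v'
  have hact : ∀ (x y : E), ε y = tr v φ *ᵥ ε x → c * (x : Ω) * c⁻¹ = y := fun x y hxy => by
    rw [← hMtr, hMdef, hρ] at hxy
    exact ((congrArg Subtype.val (hε.1 hxy)).trans (hμ ⟨c, hc⟩ x)).symm
  refine ⟨hN, l, h, e, hl, hh, he, ?_, ?_, ?_, ?_, ?_, ?_, fun a a' haa => ?_⟩
  · intro h1
    refine hv ?_
    rw [← hlv, show (⟨l, hl⟩ : E) = 1 from Subtype.ext h1, hε1]
  · exact hact ⟨l, hl⟩ ⟨l, hl⟩ (by rw [hlv, tr_apply, hφv, zero_smul, add_zero])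
  · exact hact ⟨h, hh⟩ ⟨h, hh⟩ (by rw [hhu, tr_apply, f.φu, zero_smul, add_zero])
  · exact hact ⟨e, he⟩ (⟨l, hl⟩ * ⟨e, he⟩) (by
      rw [hadd, hlv, hev, tr_apply, f.φv', one_smul, add_comm])
  · intro i j k hijk
    have h1 : ε (⟨l, hl⟩ ^ i * ⟨h, hh⟩ ^ j * ⟨e, he⟩ ^ k) = 0 := by
      rw [← hε1]
      congr 1
      exact Subtype.ext (by simpa using hijk)
    rw [hadd, hadd, hεpow, hεpow, hεpow, hlv, hhu, hev] at h1
    have h2 := congrArg (f.φ' ⬝ᵥ ·) h1
    have h3 := congrArg (φ ⬝ᵥ ·) h1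
    simp [dotProduct_add, f.φ'v, f.φ'u, f.φ'v', hφv, f.φu, f.φv'] at h2 h3
    rw [h2, h3, zero_smul, zero_smul, zero_add, add_zero, smul_eq_zero] at h1
    exact ⟨(ZMod.natCast_eq_zero_iff _ _).1 h2,
      (ZMod.natCast_eq_zero_iff _ _).1 (h1.resolve_right f.u_ne),
      (ZMod.natCast_eq_zero_iff _ _).1 h3⟩
  · intro x hx
    obtain ⟨k, hk⟩ := f.expand hφv (ε ⟨x, hx⟩)
    refine ⟨(f.φ' ⬝ᵥ ε ⟨x, hx⟩).val, k.val, (φ ⬝ᵥ ε ⟨x, hx⟩).val, ?_⟩
    have h1 : (⟨x, hx⟩ : E) = ⟨l, hl⟩ ^ (f.φ' ⬝ᵥ ε ⟨x, hx⟩).val * ⟨h, hh⟩ ^ k.val *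
        ⟨e, he⟩ ^ (φ ⬝ᵥ ε ⟨x, hx⟩).val := hε.1 (by
      rw [hadd, hadd, hεpow, hεpow, hεpow, hlv, hhu, hev, ZMod.natCast_zmod_val,
        ZMod.natCast_zmod_val, ZMod.natCast_zmod_val, ← hk])
    simpa using congrArg Subtype.val h1
  · obtain ⟨g, ⟨θ, hθ, rfl⟩, g1, g2, g3⟩ := f.torus hφv ht (left_ne_zero_of_mul_eq_one haa)
    refine ⟨θ, hθ, fun _ _ _ => ?_⟩
    rw [← hlv, hρ, ← hεpow] at g1
    rw [← hhu, hρ] at g2
    rw [← hev, hρ, show ((a : ZMod p))⁻¹ = (a' : ZMod p) from inv_eq_of_mul_eq_one_right haa,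
      ← hεpow] at g3
    exact ⟨by simpa using congrArg Subtype.val (hε.1 g1),
      congrArg Subtype.val (hε.1 g2), by simpa using congrArg Subtype.val (hε.1 g3)⟩

end CfsgLib.Fusion.EssentialCube
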