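import Cfsg.Agent.Lib.Fusion.ExtraspecialIndexP

/-!
Saturated systems over `p`-groups with an extraspecial subgroup of index `p` and a larger centre
have a nontrivial core: the reflection of the centre coming from an essential subgroup fixes a
normal subgroup.
-/

set_option autoImplicit false
set_option linter.style.haveILetI false
set_option linter.unusedVariables false
set_option linter.unusedSectionVars false

universe u

namespace CfsgLib.Fusion.ESIndex

open Cfsg Cfsg.FusionSystem Subgroup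

variable {Ω : Type u} [Group Ω] {S Q P : Subgroup Ω} {p : ℕ} {F : FusionSystem S}

/-- The centre of `S`, in `Ω`. -/
def zS (S : Subgroup Ω) : Subgroup Ω := S ⊓ Subgroup.centralizer (S : Set Ω)

/-- Reflections of the centre. -/
def IsRefl (F : FusionSystem S) (Q : Subgroup Ω) (ι : MulAut S) : Prop :=
  ι ∈ F.autGroup S ∧ (∀ x : S, (x : Ω) ∈ zQ Q → ι x = x⁻¹) ∧
    ∃ d : S, (d : Ω) ∈ zS S ∧ d ≠ 1 ∧ ι d = d

theorem zS_comm {z : Ω} (hz : z ∈ zS S) {s : Ω} (hs : s ∈ S) : s * z = z * s := hz.2 s hs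

section

variable [Fact p.Prime] [Finite S] (st : Setting p S Q)

include st

theorem zQ_le_zS : zQ Q ≤ zS S := fun z hz =>
  ⟨st.hQS (zQ_le st hz), fun a ha => zQ_central st ha hz⟩

theorem exists_gen : ∃ u ∈ zQ Q, u ≠ 1 ∧ ∀ z ∈ zQ Q, ∃ k : ℕ, z = u ^ k := by
  have hne : zQ Q ≠ ⊥ := fun h => (Fact.out : p.Prime).ne_one
    ((card_zQ st).symm.trans (by rw [h, Subgroup.card_bot]))
  obtain ⟨⟨u, hu⟩, hu1⟩ := (zQ Q).ne_bot_iff_exists_ne_one.1 hne
  haveI := finite_Q st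
  haveI := finite_of_le (zQ_le st)
  refine ⟨u, hu, fun h => hu1 (Subtype.ext h), fun z hz => ?_⟩
  have h : (⟨z, hz⟩ : zQ Q) ∈ Subgroup.zpowers (⟨u, hu⟩ : zQ Q) := by
    rw [zpowers_eq_top_of_prime_card (card_zQ st) hu1]
    exact Subgroup.mem_top _
  obtain ⟨k, hk⟩ := (isOfFinOrder_of_finite (⟨u, hu⟩ : zQ Q)).mem_powers_iff_mem_zpowers.2 h
  exact ⟨k, (congrArg Subtype.val hk).symm⟩

/-- Two powers of a nontrivial element of the centre of `Q` give everything. -/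
theorem exists_pow {l z : Ω} (hl : l ∈ zQ Q) (hl1 : l ≠ 1) (hz : z ∈ zQ Q) :
    ∃ k : ℕ, z = l ^ k := by
  haveI := finite_Q st
  haveI := finite_of_le (zQ_le st)
  have h : (⟨z, hz⟩ : zQ Q) ∈ Subgroup.zpowers (⟨l, hl⟩ : zQ Q) := by
    rw [zpowers_eq_top_of_prime_card (card_zQ st) fun h => hl1 (congrArg Subtype.val h)]
    exact Subgroup.mem_top _
  obtain ⟨k, hk⟩ := (isOfFinOrder_of_finite (⟨l, hl⟩ : zQ Q)).mem_powers_iff_mem_zpowers.2 h
  exact ⟨k, (congrArg Subtype.val hk).symm⟩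

theorem pow_p_zQ {z : Ω} (hz : z ∈ zQ Q) : z ^ p = 1 := by
  have h := pow_card_eq_one' (x := (⟨z, hz⟩ : zQ Q))
  rw [card_zQ st] at h
  exact congrArg Subtype.val h

variable (hne : zS S ≠ zQ Q)

include hne

theorem exists_outside : ∃ c ∈ zS S, c ∉ Q := by
  by_contra h
  push Not at h
  exact hne (le_antisymm (fun z hz => mem_zQ st (h z hz) fun b hb => hz.2 b (st.hQS hb))
    (zQ_le_zS st))

theorem decompose {c : Ω} (hc : c ∈ zS S) (hcQ : c ∉ Q) {s : Ω} (hs : s ∈ S) :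
    ∃ q ∈ Q, ∃ j : ℤ, s = q * c ^ j := by
  have hcomm : ∀ q ∈ Q, ∀ j : ℤ, q * c ^ j = c ^ j * q := fun q hq j =>
    zS_comm (Subgroup.zpow_mem _ hc j) (st.hQS hq)
  let H : Subgroup Ω :=
    { carrier := {s | ∃ q ∈ Q, ∃ j : ℤ, s = q * c ^ j}
      one_mem' := ⟨1, Q.one_mem, 0, by simp⟩
      mul_mem' := by
        rintro _ _ ⟨q, hq, j, rfl⟩ ⟨q', hq', j', rfl⟩
        refine ⟨q * q', Q.mul_mem hq hq', j + j', ?_⟩
        rw [zpow_add, mul_assoc q, ← mul_assoc (c ^ j), ← hcomm q' hq' j]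
        group
      inv_mem' := by
        rintro _ ⟨q, hq, j, rfl⟩
        refine ⟨q⁻¹, Q.inv_mem hq, -j, ?_⟩
        rw [mul_inv_rev, ← zpow_neg, hcomm q⁻¹ (Q.inv_mem hq)] }
  have hHS : H ≤ S := by
    rintro _ ⟨q, hq, j, rfl⟩
    exact S.mul_mem (st.hQS hq) (S.zpow_mem hc.1 j)
  have hQH : Q < H := lt_of_le_of_ne (fun q hq => ⟨q, hq, 0, by simp⟩)
    fun h => hcQ (h.ge ⟨1, Q.one_mem, 1, by simp⟩)
  haveI := finite_of_le hHS
  have h1 := mul_card_le (p := p) (st.hS.to_le hHS) hQH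
  have h2 : Nat.card S = Nat.card Q * p := by
    rw [← Nat.card_congr (Subgroup.subgroupOfEquivOfLe st.hQS).toEquiv, ← st.hQi,
      Subgroup.card_mul_index]
  exact (Subgroup.eq_of_le_of_card_ge hHS (h2 ▸ h1)).ge hs

theorem commutator_S {a b : Ω} (ha : a ∈ S) (hb : b ∈ S) : a * b * a⁻¹ * b⁻¹ ∈ zQ Q := by
  obtain ⟨c, hc, hcQ⟩ := exists_outside st hne
  obtain ⟨q, hq, j, rfl⟩ := decompose st hne hc hcQ ha
  obtain ⟨q', hq', j', rfl⟩ := decompose st hne hc hcQ hb
  have h1 : ∀ s ∈ S, ∀ k : ℤ, s * c ^ k = c ^ k * s := fun s hs k =>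
    zS_comm (Subgroup.zpow_mem _ hc k) hs
  have e1 : q * c ^ j * (q' * c ^ j') * (q * c ^ j)⁻¹ = q * (q' * c ^ j') * q⁻¹ := by
    have := h1 _ hb j
    calc q * c ^ j * (q' * c ^ j') * (q * c ^ j)⁻¹
        = q * (c ^ j * (q' * c ^ j')) * (c ^ j)⁻¹ * q⁻¹ := by group
      _ = q * ((q' * c ^ j') * c ^ j) * (c ^ j)⁻¹ * q⁻¹ := by rw [← this]
      _ = q * (q' * c ^ j') * q⁻¹ := by group
  rw [e1]
  have := h1 _ (S.inv_mem (st.hQS hq)) j'
  have e2 : q * (q' * c ^ j') * q⁻¹ * (q' * c ^ j')⁻¹ = q * q' * q⁻¹ * q'⁻¹ := by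
    calc q * (q' * c ^ j') * q⁻¹ * (q' * c ^ j')⁻¹
        = q * q' * (c ^ j' * q⁻¹) * (c ^ j')⁻¹ * q'⁻¹ := by group
      _ = q * q' * (q⁻¹ * c ^ j') * (c ^ j')⁻¹ * q'⁻¹ := by rw [← this]
      _ = q * q' * q⁻¹ * q'⁻¹ := by group
  rw [e2]
  exact commutator_mem st hq hq'

theorem card_zS : Nat.card (zS S) = p * p := by
  haveI := finite_Q st
  haveI := finite_of_le (zQ_le st)
  haveI : Finite (zS S) := finite_of_le inf_le_left
  obtain ⟨c, hc, hcQ⟩ := exists_outside st hne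
  refine le_antisymm ?_ ?_
  · have hQn : (Q.subgroupOf S).Normal := ⟨fun x hx s => ((Q_normal st s.2) x).1 hx⟩
    have hcp : c ^ p ∈ zQ Q := by
      have h := Subgroup.pow_index_mem (Q.subgroupOf S) (⟨c, hc.1⟩ : S)
      rw [st.hQi] at h
      exact mem_zQ st h fun b hb => (Subgroup.pow_mem _ hc p).2 b (st.hQS hb)
    let f : zQ Q × Fin p → zS S := fun x =>
      ⟨x.1 * c ^ (x.2 : ℕ), (zS S).mul_mem (zQ_le_zS st x.1.2) ((zS S).pow_mem hc _)⟩
    have hf : Function.Surjective f := fun z => by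
      obtain ⟨q, hq, j, hz⟩ := decompose st hne hc hcQ z.2.1
      have hqz : q ∈ zS S := by
        have : q = z * (c ^ j)⁻¹ := by rw [hz, mul_inv_cancel_right]
        rw [this]
        exact (zS S).mul_mem z.2 ((zS S).inv_mem ((zS S).zpow_mem hc j))
      have hp0 : (p : ℤ) ≠ 0 := by exact_mod_cast (Fact.out : p.Prime).ne_zero
      refine ⟨(⟨q * (c ^ p) ^ (j / p), (zQ Q).mul_mem
          (mem_zQ st hq fun b hb => hqz.2 b (st.hQS hb)) ((zQ Q).zpow_mem hcp _)⟩,
        ⟨(j % p).toNat, ?_⟩), Subtype.ext ?_⟩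
      · have := Int.emod_lt_of_pos j (by exact_mod_cast (Fact.out : p.Prime).pos : (0 : ℤ) < p)
        omega
      · show q * (c ^ p) ^ (j / p) * c ^ (j % p).toNat = z
        rw [hz, ← zpow_natCast c p, ← zpow_mul, ← zpow_natCast c (j % p).toNat, mul_assoc,
          ← zpow_add, Int.toNat_of_nonneg (Int.emod_nonneg j hp0), Int.mul_ediv_add_emod]
    refine le_trans (Nat.card_le_card_of_surjective f hf) ?_
    rw [Nat.card_prod, card_zQ st, Nat.card_fin]
  · conv_lhs => arg 1; rw [← card_zQ st]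
    exact mul_card_le (st.hS.to_le inf_le_left)
      (lt_of_le_of_ne (zQ_le_zS st) fun h => hne h.symm)

variable (hp : p ≠ 2) (hF : F.IsSaturated p)

include hp hF

/-- Two reflections agree on the centre. -/
theorem refl_eq {ι ι' : MulAut S} (h : IsRefl F Q ι) (h' : IsRefl F Q ι') :
    ∀ x : S, (x : Ω) ∈ zS S → ι' x = ι x := by
  haveI := finite_Q st
  haveI : Finite (zS S) := finite_of_le inf_le_left
  obtain ⟨hιm, hιL, d, hdZ, hd1, hιd⟩ := h
  obtain ⟨hιm', hιL', d', hdZ', hd1', hιd'⟩ := h'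
  have htwo : ∀ z : Ω, z ^ p = 1 → z⁻¹ = z → z = 1 := fun z hz hzz => by
    have h2 : z ^ 2 = 1 := by rw [pow_two]; conv_lhs => arg 1; rw [← hzz]
                              simp
    have h3 : orderOf z ∣ 1 := by
      rw [← (Nat.coprime_primes (Fact.out : p.Prime) Nat.prime_two).2 hp]
      exact Nat.dvd_gcd (orderOf_dvd_of_pow_eq_one hz) (orderOf_dvd_of_pow_eq_one h2)
    exact orderOf_eq_one_iff.1 (Nat.dvd_one.1 h3)
  have hdL : (d : Ω) ∉ zQ Q := fun hd => hd1 (Subtype.ext (htwo d (pow_p_zQ st hd) (by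
    have := hιL d hd
    rw [hιd] at this
    exact (congrArg Subtype.val this).symm)))
  -- every central element is a product
  let M : Subgroup S :=
    { carrier := {x | (x : Ω) ∈ zS S ∧ ∃ l : S, (l : Ω) ∈ zQ Q ∧ ∃ k : ℤ, x = l * d ^ k}
      one_mem' := ⟨(zS S).one_mem, 1, (zQ Q).one_mem, 0, by simp⟩
      mul_mem' := by
        rintro _ _ ⟨h1, l, hl, k, rfl⟩ ⟨h2, l', hl', k', rfl⟩
        refine ⟨(zS S).mul_mem h1 h2, l * l', (zQ Q).mul_mem hl hl', k + k', ?_⟩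
        have e : d ^ k * l' = l' * d ^ k :=
          Subtype.ext (by simpa using zS_comm (zQ_le_zS st hl') (d ^ k).2)
        rw [zpow_add, mul_assoc l, ← mul_assoc (d ^ k), e]
        group
      inv_mem' := by
        rintro _ ⟨h1, l, hl, k, rfl⟩
        refine ⟨(zS S).inv_mem h1, l⁻¹, (zQ Q).inv_mem hl, -k, ?_⟩
        have e : d ^ (-k) * l⁻¹ = l⁻¹ * d ^ (-k) :=
          Subtype.ext (by simpa using zS_comm (zQ_le_zS st ((zQ Q).inv_mem hl)) (d ^ (-k)).2)
        rw [mul_inv_rev, ← zpow_neg, e] }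
  have hM : ∀ x : S, (x : Ω) ∈ zS S → x ∈ M := by
    have hMS : M.map S.subtype ≤ zS S := by
      rintro _ ⟨x, hx, rfl⟩
      exact hx.1
    have hlt : zQ Q < M.map S.subtype := lt_of_le_of_ne
      (fun z hz => ⟨⟨z, st.hQS (zQ_le st hz)⟩, ⟨zQ_le_zS st hz, ⟨z, st.hQS (zQ_le st hz)⟩, hz, 0,
        by simp⟩, rfl⟩)
      fun he => hdL (he.ge ⟨d, ⟨hdZ, 1, (zQ Q).one_mem, 1, by simp⟩, rfl⟩)
    haveI := finite_of_le hMS
    have h2 := mul_card_le (p := p) ((st.hS.to_le inf_le_left).to_le hMS) hlt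
    rw [card_zQ st, ← card_zS st hne] at h2
    intro x hx
    obtain ⟨y, hy, hyx⟩ := (Subgroup.eq_of_le_of_card_ge hMS h2).ge hx
    rwa [← Subtype.ext hyx]
  -- the composite is trivial on `d`
  have hrd : ι' d = d := by
    obtain ⟨-, l₁, hl₁, m, hm⟩ := hM (ι' d) (by
      refine ⟨(ι' d).2, fun s hs => ?_⟩
      have := congrArg ι' (Subtype.ext (zS_comm hdZ (ι'⁻¹ ⟨s, hs⟩).2) :
        ι'⁻¹ ⟨s, hs⟩ * d = d * ι'⁻¹ ⟨s, hs⟩)
      rw [map_mul, map_mul, MulAut.apply_inv_self] at this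
      exact congrArg Subtype.val this)
    set ρ := ι' * ι with hρ
    have hρmem : ρ ∈ F.autGroup S := mul_mem hιm' hιm
    have hρL : ∀ x : S, (x : Ω) ∈ zQ Q → ρ x = x := fun x hx => by
      rw [hρ, MulAut.mul_apply, hιL x hx, map_inv, hιL' x hx, inv_inv]
    -- `ι'` moves `d` inside its coset
    have hmod : ∃ l₂ : S, (l₂ : Ω) ∈ zQ Q ∧ ι' d = d * l₂ := by
      obtain ⟨-, l, hl, k, hk⟩ := hM d' hdZ'
      have hkne : ¬ (p : ℤ) ∣ k := fun hdvd => by
        obtain ⟨e, rfl⟩ := hdvd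
        have hdp : ((d : Ω)) ^ p ∈ zQ Q := by
          have hQn : (Q.subgroupOf S).Normal := ⟨fun x hx s => ((Q_normal st s.2) x).1 hx⟩
          have h := Subgroup.pow_index_mem (Q.subgroupOf S) d
          rw [st.hQi] at h
          exact mem_zQ st h fun b hb => (Subgroup.pow_mem _ hdZ p).2 b (st.hQS hb)
        have hd'L : (d' : Ω) ∈ zQ Q := by
          rw [hk, Subgroup.coe_mul, Subgroup.coe_zpow, zpow_mul, zpow_natCast]
          exact (zQ Q).mul_mem hl ((zQ Q).zpow_mem hdp e)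
        refine hd1' (Subtype.ext (htwo d' (pow_p_zQ st hd'L) ?_))
        have := hιL' d' hd'L
        rw [hιd'] at this
        exact (congrArg Subtype.val this).symm
      have hl2 : ι' (d ^ k) = d ^ k * (l * l) := by
        have h := hιd'
        rw [hk, map_mul, hιL' l hl] at h
        have e : d ^ k * (l * l) = l * (l * d ^ k) := Subtype.ext (by
          have h1 := zS_comm (zQ_le_zS st ((zQ Q).mul_mem hl hl)) (d ^ k).2
          simpa [mul_assoc] using h1)
        rw [e, ← mul_left_cancel_iff (a := l⁻¹), h]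
        group
      -- invert the exponent
      obtain ⟨n, hn⟩ := IsPGroup.iff_card.1 (st.hS.to_le (show zS S ≤ S from inf_le_left))
      have hdo : orderOf d ∣ p ^ n := by
        rw [← hn]
        have := orderOf_dvd_natCard (⟨d, hdZ⟩ : zS S)
        rwa [← Subgroup.orderOf_coe, Subgroup.orderOf_coe d] at this
      have hcop : IsCoprime k ((p ^ n : ℕ) : ℤ) := by
        push_cast
        exact ((Nat.prime_iff_prime_int.1 (Fact.out : p.Prime)).coprime_iff_not_dvd.2 hkne).symm.pow_right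
      obtain ⟨x, y, hxy⟩ := hcop
      have hd_eq : d = (d ^ k) ^ x := by
        conv_lhs => rw [← zpow_one d, ← hxy]
        have : d ^ ((p ^ n : ℕ) : ℤ) = 1 := by
          rw [zpow_natCast]
          exact orderOf_dvd_iff_pow_eq_one.1 hdo
        rw [zpow_add, mul_comm y, zpow_mul d _ y, this, one_zpow, mul_one, mul_comm x, zpow_mul]
      refine ⟨(l * l) ^ x, by simpa using (zQ Q).zpow_mem ((zQ Q).mul_mem hl hl) x, ?_⟩
      have hcm : Commute (d ^ k) (l * l) := Subtype.ext (by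
        simpa using zS_comm (zQ_le_zS st ((zQ Q).mul_mem hl hl)) (d ^ k).2)
      conv_lhs => rw [hd_eq, map_zpow, hl2, hcm.mul_zpow, ← hd_eq]
    obtain ⟨l₂, hl₂, hd2⟩ := hmod
    have hρd : ρ d = d * l₂ := by rw [hρ, MulAut.mul_apply, hιd, hd2]
    have hpow := pow_apply_of_fixed hρd (hρL l₂ hl₂)
    haveI : Finite (MulAut S) := inferInstance
    obtain ⟨e, m', hm', hord⟩ := Nat.exists_eq_pow_mul_and_not_dvd
      (orderOf_pos ρ).ne' p (Fact.out : p.Prime).ne_one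
    have hinn : ρ ^ m' ∈ Inn S := by
      obtain ⟨T, hT⟩ := (fullyAutomized_of_fullyNormalized st.hS hF (fullyNormalized_top F)).2
      have hTi : ∀ α ∈ autInducedBy S S, α ∈ Inn S := fun α hα => by
        obtain ⟨g, hg, hgx⟩ := mem_autInducedBy_iff.1 hα
        exact ⟨⟨g, hg⟩, MulEquiv.ext fun x => Subtype.ext (hgx x).symm⟩
      haveI : (T : Subgroup (F.autGroup S)).Normal := ⟨fun t ht γ => by
        rw [hT] at ht ⊢
        obtain ⟨a, ha⟩ := hTi _ ht
        rw [Subgroup.mem_subgroupOf]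
        refine mem_autInducedBy_iff.2 ⟨((γ : MulAut S) a : S), ((γ : MulAut S) a).2, fun x => ?_⟩
        show ((γ : MulAut S) ((t : MulAut S) ((γ : MulAut S)⁻¹ x)) : Ω) = _
        have ha' : MulAut.conj a = (t : MulAut S) := ha
        rw [← ha', MulAut.conj_apply, map_mul, map_mul, map_inv, MulAut.apply_inv_self]
        rfl⟩
      have hp' : IsPGroup p (Subgroup.zpowers ((⟨ρ, hρmem⟩ : F.autGroup S) ^ m')) := by
        refine IsPGroup.of_card (n := e) ?_
        rw [Nat.card_zpowers, orderOf_pow, ← Subgroup.orderOf_coe, hord,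
          Nat.gcd_mul_left_left, Nat.mul_div_cancel _ (Nat.pos_of_ne_zero fun h => hm' (by rw [h]; exact dvd_zero p))]
      have hsup := hp'.to_sup_of_normal_right T.isPGroup'
      have hmem : (⟨ρ, hρmem⟩ : F.autGroup S) ^ m' ∈ (T : Subgroup (F.autGroup S)) := by
        rw [← T.is_maximal' hsup le_sup_right]
        exact Subgroup.mem_sup_left (Subgroup.mem_zpowers _)
      rw [hT] at hmem
      exact hTi _ hmem
    obtain ⟨a, ha⟩ := hinn
    have hfix : (ρ ^ m') d = d := by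
      rw [← ha, MulAut.conj_apply, mul_inv_eq_iff_eq_mul]
      exact Subtype.ext (zS_comm hdZ a.2)
    rw [hpow m', mul_eq_left] at hfix
    have hl2p : l₂ ^ p = 1 := Subtype.ext (pow_p_zQ st hl₂)
    have : orderOf l₂ = 1 := Nat.eq_one_of_dvd_coprimes
      ((Fact.out : p.Prime).coprime_iff_not_dvd.2 hm') (orderOf_dvd_of_pow_eq_one hl2p)
      (orderOf_dvd_of_pow_eq_one hfix)
    rw [hd2, orderOf_eq_one_iff.1 this, mul_one]
  intro x hx
  obtain ⟨-, l, hl, k, rfl⟩ := hM x hx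
  rw [map_mul, map_mul, hιL l hl, hιL' l hl, map_zpow, map_zpow, hιd, hrd]

end

end CfsgLib.Fusion.ESIndex
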