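import Cfsg.Agent.Lib.Fusion.ExtraspecialCentre

/-!
Saturated systems over `p`-groups with an extraspecial subgroup of index `p` and a larger centre
have a nontrivial core.
-/

set_option autoImplicit false
set_option linter.style.haveILetI false
set_option linter.unusedVariables false
set_option linter.unusedSectionVars false

universe u

namespace CfsgLib.Fusion.ESIndex

open Cfsg Cfsg.FusionSystem Subgroup

variable {Ω : Type u} [Group Ω] {S Q P : Subgroup Ω} {p : ℕ} {F : FusionSystem S}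
variable [Fact p.Prime] [Finite S] (st : Setting p S Q) (hne : zS S ≠ zQ Q) (hp : p ≠ 2)
  (hF : F.IsSaturated p)

include st hne hp hF

/-- The shape of an essential subgroup. -/
theorem essential_shape (hP : F.IsEssential p P) :
    zS S ≤ P ∧ (∀ a ∈ P, ∀ b ∈ P, a * b = b * a) ∧ Nat.card S ≤ Nat.card P * p ∧
      (∀ a ∈ S, a ∈ normalizerIn S P) ∧ Nat.card P ≤ p * p * p := by
  have hPS := hP.1.1
  haveI := finite_of_le hPS
  haveI := finite_Q st
  haveI := finite_of_le (zQ_le st)
  haveI : Finite (zS S) := finite_of_le inf_le_left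
  have hr := essential_isRadical st.hS hF hP
  have hcP : centralizerIn S P ≤ P := hP.1.2 P (isConj_refl hPS)
  have hZP : zS S ≤ P := fun z hz => hcP ⟨hz.1, fun b hb => hz.2 b (hPS hb)⟩
  have hLP : zQ Q ≤ P := (zQ_le_zS st).trans hZP
  have hN : ∀ a ∈ S, a ∈ normalizerIn S P := fun a ha => ⟨ha, by
    refine Subgroup.mem_normalizer_fintype fun x hx => ?_
    have := P.mul_mem (hLP (commutator_S st hne ha (hPS hx))) hx
    rwa [inv_mul_cancel_right] at this⟩
  have hPlt := lt_of_essential st.hS hF hP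
  obtain ⟨a₀, ha₀, ha₀P⟩ := SetLike.exists_of_lt hPlt
  have hab : ∀ a ∈ P, ∀ b ∈ P, a * b = b * a := by
    by_contra hab
    push Not at hab
    obtain ⟨u, hu, v, hv, huv⟩ := hab
    have hl1 := commutator_S st hne (hPS hu) (hPS hv)
    set l := u * v * u⁻¹ * v⁻¹ with hl
    have hlne : l ≠ 1 := fun h => huv (by
      rw [hl, mul_inv_eq_one, mul_inv_eq_iff_eq_mul] at h
      exact h)
    refine ha₀P (mem_of_central_step st.hS hP.1 hr hLP (fun α hα x hx => ?_) (hN a₀ ha₀)
      (fun z hz => by rw [zQ_central st ha₀ hz, mul_inv_cancel_right]) fun x hx => ?_)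
    · obtain ⟨j, hj⟩ := exists_pow st hl1 hlne hx
      have hxl : x = ((⟨u, hu⟩ : P) * ⟨v, hv⟩ * ⟨u, hu⟩⁻¹ * ⟨v, hv⟩⁻¹) ^ j := by
        refine Subtype.ext ?_
        simpa [hl] using hj
      rw [hxl, map_pow, Subgroup.coe_pow]
      refine Subgroup.pow_mem _ ?_ j
      simp only [map_mul, map_inv, Subgroup.coe_mul, Subgroup.coe_inv]
      exact commutator_S st hne (hPS (α _).2) (hPS (α _).2)
    · have h := commutator_S st hne (S.inv_mem (hPS hx)) ha₀
      rw [inv_inv] at h
      have e : x⁻¹ * (a₀ * x * a₀⁻¹) = x⁻¹ * a₀ * x * a₀⁻¹ := by group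
      rw [e]
      exact h
  have hsize : Nat.card S ≤ Nat.card P * p := by
    by_contra hbig
    refine false_of_transvections st.hS hF hP hab hLP (card_zQ st) (S : Set Ω) hN
      (fun a ha x hx => commutator_S st hne ha (hPS hx)) fun v hv => ?_
    by_contra hall
    push Not at hall
    refine hbig ?_
    rw [← card_zQ st]
    refine card_le_of_fibres (fun a => a * v * a⁻¹ * v⁻¹)
      (fun a ha => commutator_S st hne ha (hPS hv)) fun a ha b hb heq => ?_
    by_contra hn
    refine hall _ (S.mul_mem (S.inv_mem ha) hb) hn ?_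
    rw [mul_left_inj] at heq
    calc a⁻¹ * b * v * (a⁻¹ * b)⁻¹ = a⁻¹ * (b * v * b⁻¹) * a := by group
      _ = a⁻¹ * (a * v * a⁻¹) * a := by rw [heq]
      _ = v := by group
  refine ⟨hZP, hab, hsize, hN, ?_⟩
  refine le_trans (card_le_of_fibres (K := zS S) (L := zQ Q) (fun x => a₀ * x * a₀⁻¹ * x⁻¹)
    (fun x hx => commutator_S st hne ha₀ (hPS hx)) fun x hx y hy heq => ?_)
    (by rw [card_zS st hne, card_zQ st])
  set w := x⁻¹ * y with hw
  have hwP : w ∈ P := P.mul_mem (P.inv_mem hx) hy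
  have hwa : a₀ * w = w * a₀ := by
    have e : a₀ * y * a₀⁻¹ = (a₀ * x * a₀⁻¹ * x⁻¹) * y := by rw [heq, inv_mul_cancel_right]
    rw [← mul_inv_eq_iff_eq_mul, hw]
    calc a₀ * (x⁻¹ * y) * a₀⁻¹ = (a₀ * x * a₀⁻¹)⁻¹ * (a₀ * y * a₀⁻¹) := by group
      _ = x⁻¹ * y := by rw [e]; group
  refine ⟨hPS hwP, fun b hb => ?_⟩
  have hC : S ≤ Subgroup.centralizer ({w} : Set Ω) := by
    have hPC : P ⊔ Subgroup.zpowers a₀ ≤ S ⊓ Subgroup.centralizer ({w} : Set Ω) :=
      sup_le (fun x hx => ⟨hPS hx, Subgroup.mem_centralizer_singleton_iff.2 (hab _ hx _ hwP)⟩)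
        (Subgroup.zpowers_le.2 ⟨ha₀, Subgroup.mem_centralizer_singleton_iff.2 hwa⟩)
    have hlt : P < P ⊔ Subgroup.zpowers a₀ :=
      left_lt_sup.2 fun h => ha₀P (h (Subgroup.mem_zpowers a₀))
    haveI := finite_of_le (hPC.trans inf_le_left)
    have hge := mul_card_le (p := p) (st.hS.to_le (hPC.trans inf_le_left)) hlt
    exact (Subgroup.eq_of_le_of_card_ge (hPC.trans inf_le_left) (hsize.trans hge)) ▸
      hPC.trans inf_le_right
  exact Subgroup.mem_centralizer_singleton_iff.1 (hC hb)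

/-- The reflection attached to an essential subgroup and the invariant line of the centre. -/
theorem essential_refl (hP : F.IsEssential p P) :
    (∃ ι, IsRefl F Q ι) ∧ ∀ ι, IsRefl F Q ι → ∀ α ∈ F.autGroup P, ∀ x : P,
      (∃ hx : (x : Ω) ∈ S, (x : Ω) ∈ zS S ∧ ι ⟨x, hx⟩ = ⟨x, hx⟩) →
        ∃ hy : ((α x : P) : Ω) ∈ S, ((α x : P) : Ω) ∈ zS S ∧ ι ⟨_, hy⟩ = ⟨_, hy⟩ := by
  classical
  obtain ⟨hZP, hab, hsize, hN, hPle⟩ := essential_shape st hne hp hF hP
  have hPS := hP.1.1
  haveI := finite_of_le hPS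
  haveI := finite_Q st
  haveI := finite_of_le (zQ_le st)
  haveI : Finite (zS S) := finite_of_le inf_le_left
  have hPlt := lt_of_essential st.hS hF hP
  obtain ⟨a₀, ha₀, ha₀P⟩ := SetLike.exists_of_lt hPlt
  have hr := essential_isRadical st.hS hF hP
  set G := F.autGroup P with hG
  set Z' := (zS S).subgroupOf P with hZ'
  have hcomm : ∀ u v : P, u * v = v * u := fun u v => Subtype.ext (hab u u.2 v v.2)
  have hinn : ∀ γ ∈ Inn P, γ = 1 := by
    rintro _ ⟨b, rfl⟩
    exact MulEquiv.ext fun x => by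
      rw [MulAut.conj_apply, hcomm b x, mul_inv_cancel_right]
      rfl
  obtain ⟨W, -, hWeq, hWext⟩ := exists_outSylow st.hS hF hPlt hP.2.1 hP.1
  obtain ⟨T, hT⟩ := (fullyAutomized_of_fullyNormalized st.hS hF hP.2.1).2
  have hTmem : ∀ t : G, t ∈ (T : Subgroup G) ↔
      ∃ a ∈ S, ∀ y : P, (((t : MulAut P) y : P) : Ω) = a * (y : Ω) * a⁻¹ := fun t => by
    rw [hT, Subgroup.mem_subgroupOf, mem_autInducedBy_iff]
  have hfixed : ∀ t : G, t ∈ (T : Subgroup G) → t ≠ 1 → ∀ v : P, (t : MulAut P) v = v →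
      v ∈ Z' := by
    intro t ht ht1 v hv
    obtain ⟨a, ha, hax⟩ := (hTmem t).1 ht
    have haP : a ∉ P := fun haP => ht1 (Subtype.ext (MulEquiv.ext fun y => Subtype.ext (by
      rw [hax, hab a haP y y.2, mul_inv_cancel_right]
      rfl)))
    refine ⟨hPS v.2, fun b hb => ?_⟩
    have hva : a * v = v * a := by
      have := congrArg Subtype.val hv
      rw [hax] at this
      exact mul_inv_eq_iff_eq_mul.1 this
    have hPC : P ⊔ Subgroup.zpowers a ≤ S ⊓ Subgroup.centralizer ({(v : Ω)} : Set Ω) :=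
      sup_le (fun x hx => ⟨hPS hx, Subgroup.mem_centralizer_singleton_iff.2 (hab _ hx _ v.2)⟩)
        (Subgroup.zpowers_le.2 ⟨ha, Subgroup.mem_centralizer_singleton_iff.2 hva⟩)
    have hlt : P < P ⊔ Subgroup.zpowers a :=
      left_lt_sup.2 fun h => haP (h (Subgroup.mem_zpowers a))
    haveI := finite_of_le (hPC.trans inf_le_left)
    have hge := mul_card_le (p := p) (st.hS.to_le (hPC.trans inf_le_left)) hlt
    have hS' := Subgroup.eq_of_le_of_card_ge (hPC.trans inf_le_left) (hsize.trans hge)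
    exact Subgroup.mem_centralizer_singleton_iff.1 ((hS' ▸ hPC.trans inf_le_right) hb)
  have hshift : ∀ t : G, t ∈ (T : Subgroup G) → ∀ v : P,
      (((t : MulAut P) v * v⁻¹ : P) : Ω) ∈ zQ Q := by
    intro t ht v
    obtain ⟨a, ha, hax⟩ := (hTmem t).1 ht
    rw [Subgroup.coe_mul, Subgroup.coe_inv, hax]
    exact commutator_S st hne ha (hPS v.2)
  have hTfix : ∀ t : G, t ∈ (T : Subgroup G) → ∀ z ∈ Z', (t : MulAut P) z = z := by
    intro t ht z hz
    obtain ⟨a, ha, hax⟩ := (hTmem t).1 ht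
    have hz' : (z : Ω) ∈ zS S := hz
    exact Subtype.ext (by rw [hax, zS_comm hz' ha, mul_inv_cancel_right])
  have hK : FixedExactly.stabZ G Z' = (T : Subgroup G) :=
    T.is_maximal' (FixedExactly.isPGroup_stabZ G (st.hS.to_le hPS) Z')
      fun t ht => ⟨hTfix t ht, fun v => zQ_le_zS st (hshift t ht v)⟩
  -- an element preserving the centre normalizes the Sylow subgroup
  have hnormT : ∀ g : G, (∀ z ∈ Z', (g : MulAut P) z ∈ Z') →
      ∀ t ∈ (T : Subgroup G), g * t * g⁻¹ ∈ (T : Subgroup G) := by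
    intro g hg t ht
    have hpre : ∀ z ∈ Z', (g : MulAut P)⁻¹ z ∈ Z' := by
      have hle : Z'.map (g : MulAut P).toMonoidHom ≤ Z' := by
        rintro _ ⟨z, hz, rfl⟩
        exact hg z hz
      have heq := Subgroup.eq_of_le_of_card_ge hle (le_of_eq
        (Nat.card_congr (Z'.equivMapOfInjective _ (g : MulAut P).injective).toEquiv))
      intro z hz
      obtain ⟨w, hw, hwz⟩ := heq.ge hz
      rw [← hwz]
      show (g : MulAut P)⁻¹ ((g : MulAut P) w) ∈ Z'
      rwa [MulAut.inv_apply_self]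
    rw [← hK] at ht ⊢
    refine ⟨fun z hz => ?_, fun v => ?_⟩
    · show (g : MulAut P) ((t : MulAut P) ((g : MulAut P)⁻¹ z)) = z
      rw [ht.1 _ (hpre z hz), MulAut.apply_inv_self]
    · show (g : MulAut P) ((t : MulAut P) ((g : MulAut P)⁻¹ v)) * v⁻¹ ∈ Z'
      have := hg _ (ht.2 ((g : MulAut P)⁻¹ v))
      rwa [map_mul, map_inv, MulAut.apply_inv_self] at this
  obtain ⟨u₀, hu₀, hu₀1, hu₀gen⟩ := exists_gen st
  set u : P := ⟨u₀, hZP (zQ_le_zS st hu₀)⟩ with hu
  have hshift' : ∀ t : G, t ∈ (T : Subgroup G) → ∀ v : P, ∃ k : ℕ,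
      (t : MulAut P) v = u ^ k * v := fun t ht v => by
    obtain ⟨k, hk⟩ := hu₀gen _ (hshift t ht v)
    refine ⟨k, ?_⟩
    rw [← mul_inv_eq_iff_eq_mul]
    exact Subtype.ext (by rw [hk]; rfl)
  -- sending `u` into the centre forces normalizing
  have hclaim : ∀ g : G, (g : MulAut P) u ∈ Z' → ∀ t ∈ (T : Subgroup G),
      g * t * g⁻¹ ∈ (T : Subgroup G) := by
    intro g hgu t ht
    set s := g * t * g⁻¹ with hs
    have hsZ : ∀ z ∈ Z', (s : MulAut P) z ∈ Z' := by
      intro z hz
      show (g : MulAut P) ((t : MulAut P) ((g : MulAut P)⁻¹ z)) ∈ Z'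
      obtain ⟨k, hk⟩ := hshift' t ht ((g : MulAut P)⁻¹ z)
      rw [hk, map_mul, map_pow, MulAut.apply_inv_self]
      exact Z'.mul_mem (Z'.pow_mem hgu k) hz
    have hp' : IsPGroup p (Subgroup.zpowers s) := by
      have h := T.isPGroup'.map (MulAut.conj g).toMonoidHom
      exact h.to_le (Subgroup.zpowers_le.2 ⟨t, ht, rfl⟩)
    have hle : Subgroup.zpowers s ≤ Subgroup.normalizer ((T : Subgroup G) : Set G) :=
      Subgroup.zpowers_le.2 (Subgroup.mem_normalizer_fintype fun w hw => hnormT s hsZ w hw)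
    have hsup := hp'.to_sup_of_normal_right' T.isPGroup' hle
    rw [← T.is_maximal' hsup le_sup_right]
    exact Subgroup.mem_sup_left (Subgroup.mem_zpowers _)
  -- some element moves the Sylow subgroup
  obtain ⟨g₀, t₀, ht₀, hg₀⟩ : ∃ g : G, ∃ t ∈ (T : Subgroup G), g * t * g⁻¹ ∉ (T : Subgroup G) := by
    by_contra hall
    push Not at hall
    haveI : (T : Subgroup G).Normal := ⟨fun t ht g => hall g t ht⟩
    refine ha₀P (mem_of_aut_mem_pGroup hP.1 hr (T : Subgroup G) T.isPGroup' (hN a₀ ha₀)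
      fun α hα => (hTmem α).2 ⟨a₀, ha₀, fun y => ?_⟩)
    rw [hα]
    rfl
  -- reflection from a moving element
  have hmain : ∀ g : G, ∀ t ∈ (T : Subgroup G), g * t * g⁻¹ ∉ (T : Subgroup G) →
      ∃ ι, IsRefl F Q ι ∧ ∀ (x : P) (hx : (x : Ω) ∈ S), x ∈ Z' →
        (ι ⟨x, hx⟩ = ⟨x, hx⟩ ↔ (g : MulAut P)⁻¹ x ∈ Z') := by
    intro g t ht hgt
    have ht1 : t ≠ 1 := by
      rintro rfl
      exact hgt (by simp)
    set u' := (g : MulAut P) u with hu'
    have hu'Z : u' ∉ Z' := fun h => hgt (hclaim g h t ht)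
    have hinv : (g : MulAut P)⁻¹ u ∉ Z' := fun h => by
      have hmem : g⁻¹ ∈ Subgroup.normalizer ((T : Subgroup G) : Set G) :=
        Subgroup.mem_normalizer_fintype fun w hw => hclaim g⁻¹ h w hw
      exact hgt (((Subgroup.inv_mem_iff _).1 hmem t).1 ht)
    -- moving `u'` by `u`
    have hpow : ∀ (β : MulAut P) (x c : P), β x = c * x → β c = c → ∀ k : ℕ,
        (β ^ k) x = c ^ k * x := fun β x c h1 h2 k => by
      rw [pow_apply_of_fixed (h1.trans (hcomm c x)) h2 k, hcomm]
    have huZ : u ∈ Z' := zQ_le_zS st hu₀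
    have hlne : ∀ v : P, v ∉ Z' → (t : MulAut P) v * v⁻¹ ≠ 1 := fun v hv h =>
      hv (hfixed t ht ht1 v (mul_inv_eq_one.1 h))
    obtain ⟨k₁, hk₁⟩ := exists_pow st (hshift t ht u') (fun h => hlne u' hu'Z (Subtype.ext h)) hu₀
    set v₂ := (g : MulAut P)⁻¹ u with hv₂
    obtain ⟨k₂, hk₂⟩ := exists_pow st (hshift t ht v₂) (fun h => hlne v₂ hinv (Subtype.ext h))
      ((zQ Q).inv_mem hu₀)
    set c := (t : MulAut P) u' * u'⁻¹ with hc
    set c₂ := (t : MulAut P) v₂ * v₂⁻¹ with hc₂
    have hck : c ^ k₁ = u := Subtype.ext (by rw [Subgroup.coe_pow]; exact hk₁.symm)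
    have hck₂ : c₂ ^ k₂ = u⁻¹ := Subtype.ext (by rw [Subgroup.coe_pow]; exact hk₂.symm)
    set t₁ : G := t ^ k₁ with ht₁
    set s₁ : G := g * t ^ k₂ * g⁻¹ with hs₁
    have htu : (t : MulAut P) u = u := hTfix t ht u huZ
    have e1 : (t₁ : MulAut P) u' = u * u' := by
      rw [ht₁, Subgroup.coe_pow, hpow (t : MulAut P) u' c (inv_mul_cancel_right _ _).symm
        (hTfix t ht _ (zQ_le_zS st (hshift t ht u'))) k₁, hck]
    have e2 : (t₁ : MulAut P) u = u := hTfix t₁ (Subgroup.pow_mem _ ht k₁) u huZ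
    have e3 : (s₁ : MulAut P) u = u'⁻¹ * u := by
      show (g : MulAut P) (((t ^ k₂ : G) : MulAut P) v₂) = u'⁻¹ * u
      rw [Subgroup.coe_pow, hpow (t : MulAut P) v₂ c₂ (inv_mul_cancel_right _ _).symm
        (hTfix t ht _ (zQ_le_zS st (hshift t ht v₂))) k₂, hck₂, map_mul, map_inv, hv₂,
        MulAut.apply_inv_self]
    have e4 : (s₁ : MulAut P) u' = u' := by
      show (g : MulAut P) (((t ^ k₂ : G) : MulAut P) ((g : MulAut P)⁻¹ ((g : MulAut P) u))) = u'
      rw [MulAut.inv_apply_self, hTfix _ (Subgroup.pow_mem _ ht k₂) u huZ]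
    set w : G := t₁ * s₁ * t₁ with hw
    have hwu : (w : MulAut P) u = u'⁻¹ := by
      show (t₁ : MulAut P) ((s₁ : MulAut P) ((t₁ : MulAut P) u)) = u'⁻¹
      rw [e2, e3, map_mul, map_inv, e1, e2, hcomm u u', mul_inv_rev, mul_assoc, hcomm u'⁻¹ u,
        inv_mul_cancel_left]
    have hwu' : (w : MulAut P) u' = u := by
      show (t₁ : MulAut P) ((s₁ : MulAut P) ((t₁ : MulAut P) u')) = u
      rw [e1, map_mul, e3, e4, hcomm u'⁻¹ u, inv_mul_cancel_right, e2]
    set i : G := w * w with hi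
    have hiu : (i : MulAut P) u = u⁻¹ := by
      show (w : MulAut P) ((w : MulAut P) u) = u⁻¹
      rw [hwu, map_inv, hwu']
    have hfixi : ∀ x ∈ Z', (g : MulAut P)⁻¹ x ∈ Z' → (i : MulAut P) x = x := by
      intro x hx hgx
      have h1 : (t₁ : MulAut P) x = x := hTfix t₁ (Subgroup.pow_mem _ ht k₁) x hx
      have h2 : (s₁ : MulAut P) x = x := by
        show (g : MulAut P) (((t ^ k₂ : G) : MulAut P) ((g : MulAut P)⁻¹ x)) = x
        rw [hTfix _ (Subgroup.pow_mem _ ht k₂) _ hgx, MulAut.apply_inv_self]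
      have h3 : (w : MulAut P) x = x := by
        show (t₁ : MulAut P) ((s₁ : MulAut P) ((t₁ : MulAut P) x)) = x
        rw [h1, h2, h1]
      show (w : MulAut P) ((w : MulAut P) x) = x
      rw [h3, h3]
    -- a common fixed element
    obtain ⟨d, hd1, hdZ, hdg⟩ : ∃ d : P, d ≠ 1 ∧ d ∈ Z' ∧ (g : MulAut P)⁻¹ d ∈ Z' := by
      by_contra hno
      push Not at hno
      have hinj : Function.Injective (fun x : Z' × Z' => (x.1 : P) * (g : MulAut P) x.2) := by
        intro x y hxy
        simp only at hxy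
        have h : (y.1 : P)⁻¹ * x.1 = (g : MulAut P) ((y.2 : P) * (x.2 : P)⁻¹) := by
          rw [map_mul, map_inv, eq_mul_inv_iff_mul_eq, mul_assoc, hxy, inv_mul_cancel_left]
        have h1 : (y.1 : P)⁻¹ * x.1 = 1 := by
          by_contra hne1
          refine hno _ hne1 (Z'.mul_mem (Z'.inv_mem y.1.2) x.1.2) ?_
          rw [h, MulAut.inv_apply_self]
          exact Z'.mul_mem y.2.2 (Z'.inv_mem x.2.2)
        rw [h1] at h
        have h2 := (map_eq_one_iff _ (g : MulAut P).injective).1 h.symm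
        exact Prod.ext (Subtype.ext (inv_mul_eq_one.1 h1).symm)
          (Subtype.ext (mul_inv_eq_one.1 h2).symm)
      have h := Nat.card_le_card_of_injective _ hinj
      rw [Nat.card_prod, hZ', Nat.card_congr (Subgroup.subgroupOfEquivOfLe hZP).toEquiv,
        card_zS st hne] at h
      have h4 : p * p * p * p ≤ p * p * p * 1 := by
        rw [mul_one, mul_assoc (p * p)]; exact h.trans hPle
      exact absurd (Nat.le_of_mul_le_mul_left h4 (by
        have := (Fact.out : p.Prime).pos; positivity)) (not_le.2 (Fact.out : p.Prime).one_lt)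
    have hid := hfixi d hdZ hdg
    -- the inverted element is not fixed
    have hsmall : ∀ x : P, (x : Ω) ∈ zQ Q → (i : MulAut P) x = x → x = 1 := fun x hx hix => by
      obtain ⟨k, hk⟩ := hu₀gen _ hx
      have hxk : x = u ^ k := Subtype.ext (by rw [hk]; rfl)
      rw [hxk, map_pow, hiu, inv_pow] at hix
      rw [hxk]
      have hpp : (u ^ k) ^ p = 1 := Subtype.ext (by
        simpa using pow_p_zQ st ((zQ Q).pow_mem hu₀ k))
      have h22 : (u ^ k) ^ 2 = 1 := by
        rw [pow_two]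
        conv_lhs => arg 1; rw [← hix]
        exact inv_mul_cancel _
      have h3 : orderOf (u ^ k) ∣ 1 := by
        rw [← (Nat.coprime_primes (Fact.out : p.Prime) Nat.prime_two).2 hp]
        exact Nat.dvd_gcd (orderOf_dvd_of_pow_eq_one hpp) (orderOf_dvd_of_pow_eq_one h22)
      exact orderOf_eq_one_iff.1 (Nat.dvd_one.1 h3)
    have hdL : (d : Ω) ∉ zQ Q := fun h => hd1 (hsmall d h hid)
    -- the centre is generated by `u` and `d`
    have hgenZ : Z' ≤ Subgroup.closure {u, d} := by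
      have hle : (Subgroup.closure ({u, d} : Set P)).map P.subtype ≤ zS S := by
        rw [Subgroup.map_le_iff_le_comap, Subgroup.closure_le]
        rintro _ (rfl | rfl)
        · exact huZ
        · exact hdZ
      have hlt : zQ Q < (Subgroup.closure ({u, d} : Set P)).map P.subtype :=
        lt_of_le_of_ne (fun z hz => by
          obtain ⟨k, rfl⟩ := hu₀gen z hz
          exact ⟨u ^ k, Subgroup.pow_mem _ (Subgroup.subset_closure (show u ∈ ({u, d} : Set P) from Or.inl rfl)) k, rfl⟩)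
          fun he => hdL (he.ge ⟨d, Subgroup.subset_closure (Or.inr rfl), rfl⟩)
      haveI := finite_of_le hle
      have h2 := mul_card_le (p := p) ((st.hS.to_le inf_le_left).to_le hle) hlt
      rw [card_zQ st, ← card_zS st hne] at h2
      intro x hx
      obtain ⟨y, hy, hyx⟩ := (Subgroup.eq_of_le_of_card_ge hle h2).ge hx
      rwa [← Subtype.ext hyx]
    have hiZ : ∀ z ∈ Z', (i : MulAut P) z ∈ Z' := by
      intro z hz
      have hle : Subgroup.closure ({u, d} : Set P) ≤ Z'.comap (i : MulAut P).toMonoidHom := by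
        rw [Subgroup.closure_le]
        rintro y (hy | hy)
        · show (i : MulAut P) y ∈ Z'
          rw [hy, hiu]
          exact Z'.inv_mem huZ
        · show (i : MulAut P) y ∈ Z'
          rw [Set.mem_singleton_iff.1 hy, hid]
          exact hdZ
      exact hle (hgenZ hz)
    -- extend to `S`
    have hext : IsExtendable F P (i : MulAut P) := by
      set π := QuotientGroup.mk' ((Inn P).subgroupOf (F.autGroup P)) with hπ
      have hWmem : ∀ t : G, t ∈ (T : Subgroup G) → π t ∈ (W : Subgroup (OutGrp F P)) := by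
        intro t ht
        rw [hWeq, ← hT]
        exact ⟨t, ht, rfl⟩
      refine (hWext i).1 ⟨π t, hWmem t ht, fun h => ht1 ?_, ?_⟩
      · have h0 : t ∈ (Inn P).subgroupOf (F.autGroup P) :=
          (QuotientGroup.eq_one_iff (N := (Inn P).subgroupOf (F.autGroup P)) _).1 h
        exact Subtype.ext (hinn _ h0)
      · exact hWmem _ (hnormT i hiZ t ht)
    obtain ⟨R, hPR, f, hf, hfx⟩ := hext
    obtain rfl : R = S := by
      haveI := finite_of_le hf.le
      exact Subgroup.eq_of_le_of_card_ge hf.le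
        (hsize.trans (mul_card_le (p := p) (st.hS.to_le hf.le) hPR))
    have himg : img R f = R := eq_of_le_of_card_le hf.img_le hf.card_img.ge
    refine ⟨hf.toAut himg, ?_, fun x hx hxZ => ?_⟩
    · refine ⟨hf.toAut_mem himg, fun x hx => ?_, ⟨d, hPS d.2⟩, hdZ,
        fun h => hd1 (Subtype.ext (show (d : Ω) = 1 from congrArg Subtype.val h)), Subtype.ext ?_⟩
      · obtain ⟨k, hk⟩ := hu₀gen _ hx
        refine Subtype.ext ?_
        rw [hf.toAut_apply himg, hk, show u₀ ^ k = ((u ^ k : P) : Ω) from rfl, hfx, map_pow, hiu]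
        simp [hu, inv_pow, hk]
      · rw [hf.toAut_apply himg]
        show f d = d
        rw [hfx, hid]
    · have hval : ((hf.toAut himg ⟨x, hx⟩ : R) : Ω) = ((i : MulAut P) x : P) := by
        rw [hf.toAut_apply himg]
        exact hfx x
      constructor
      · intro h
        have hix : (i : MulAut P) x = x := Subtype.ext (by rw [← hval, h])
        have hx' := hgenZ hxZ
        letI : CommGroup P := { (inferInstance : Group P) with mul_comm := hcomm }
        obtain ⟨m, n, rfl⟩ := (Subgroup.mem_closure_pair (x := u) (y := d)).1 hx'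
        have hum : (i : MulAut P) (u ^ m) = u ^ m := by
          rw [map_mul, map_zpow, map_zpow (i : MulAut P) d, hid] at hix
          rw [map_zpow]
          exact mul_right_cancel hix
        have h1 := hsmall _ (by simpa [hu] using (zQ Q).zpow_mem hu₀ m) hum
        rw [h1, one_mul, map_zpow]
        exact Z'.zpow_mem hdg n
      · intro hgx
        exact Subtype.ext (by rw [hval, hfixi x hxZ hgx])
  obtain ⟨ι₁, hι₁, hι₁x⟩ := hmain g₀ t₀ ht₀ hg₀
  refine ⟨⟨ι₁, hι₁⟩, fun ι hι => ?_⟩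
  have hD : ∀ (x : P), (∃ hx : (x : Ω) ∈ S, (x : Ω) ∈ zS S ∧ ι ⟨x, hx⟩ = ⟨x, hx⟩) ↔
      ∀ g : G, (g : MulAut P) x ∈ Z' := by
    intro x
    constructor
    · rintro ⟨hx, hxZ, hix⟩ g
      by_cases hgood : ∀ t ∈ (T : Subgroup G), g * t * g⁻¹ ∈ (T : Subgroup G)
      · refine hfixed (g * t₀ * g⁻¹) (hgood t₀ ht₀) (fun h => hg₀ ?_) _ ?_
        · rw [conj_eq_one_iff.1 h]
          simp
        · show (g : MulAut P) ((t₀ : MulAut P) ((g : MulAut P)⁻¹ ((g : MulAut P) x))) = _
          rw [MulAut.inv_apply_self, hTfix t₀ ht₀ x hxZ]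
      · push Not at hgood
        obtain ⟨t, ht, hgt⟩ := hgood
        obtain ⟨t', ht', hgt'⟩ : ∃ t' ∈ (T : Subgroup G), g⁻¹ * t' * g⁻¹⁻¹ ∉ (T : Subgroup G) := by
          by_contra hall
          push Not at hall
          have hmem : g⁻¹ ∈ Subgroup.normalizer ((T : Subgroup G) : Set G) :=
            Subgroup.mem_normalizer_fintype fun w hw => hall w hw
          exact hgt (((Subgroup.inv_mem_iff _).1 hmem t).1 ht)
        obtain ⟨ι', hι', hι'x⟩ := hmain g⁻¹ t' ht' hgt'
        have h := (hι'x x hx hxZ).1 (by rw [refl_eq st hne hp hF hι hι' ⟨x, hx⟩ hxZ, hix])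
        rwa [Subgroup.coe_inv, inv_inv] at h
    · intro h
      have hxZ : x ∈ Z' := by simpa using h 1
      refine ⟨hPS x.2, hxZ, ?_⟩
      rw [refl_eq st hne hp hF hι₁ hι ⟨x, hPS x.2⟩ hxZ]
      exact (hι₁x x (hPS x.2) hxZ).2 (by simpa using h g₀⁻¹)
  intro α hα x hx
  refine (hD (α x)).2 fun g => ?_
  exact (hD x).1 hx (g * ⟨α, hα⟩)

/-- The core is nontrivial. -/
theorem core_ne_bot : F.core ≠ ⊥ := by
  classical
  intro hcore
  haveI := finite_Q st
  haveI := finite_of_le (zQ_le st)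
  haveI : Finite (zS S) := finite_of_le inf_le_left
  by_cases hex : ∃ P, F.IsEssential p P
  · obtain ⟨P, hP⟩ := hex
    obtain ⟨ι, hι⟩ := (essential_refl st hne hp hF hP).1
    obtain ⟨hιm, hιL, d, hdZ, hd1, hιd⟩ := id hι
    let D : Subgroup Ω :=
      { carrier := {x | ∃ hx : x ∈ S, x ∈ zS S ∧ ι ⟨x, hx⟩ = ⟨x, hx⟩}
        one_mem' := ⟨S.one_mem, (zS S).one_mem, map_one ι⟩
        mul_mem' := by
          rintro a b ⟨ha, ha1, ha2⟩ ⟨hb, hb1, hb2⟩
          exact ⟨S.mul_mem ha hb, (zS S).mul_mem ha1 hb1,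
            (map_mul ι ⟨a, ha⟩ ⟨b, hb⟩).trans (by rw [ha2, hb2]; rfl)⟩
        inv_mem' := by
          rintro a ⟨ha, ha1, ha2⟩
          exact ⟨S.inv_mem ha, (zS S).inv_mem ha1,
            (map_inv ι ⟨a, ha⟩).trans (by rw [ha2]; rfl)⟩ }
    have hDn : F.IsNormal D := by
      refine isNormal_of_alperin st.hS hF (fun x hx => hx.1) fun R hR => ?_
      rcases hR with rfl | hR
      · refine ⟨fun x hx => hx.1, fun α hα x hx => ?_⟩
        obtain ⟨_, hxZ, hxi⟩ := hx
        have hcen : ∀ y : R, (y : Ω) ∈ zS R → ((α y : R) : Ω) ∈ zS R := fun y hy =>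
          ⟨(α y).2, fun s hs => by
            have := congrArg α (Subtype.ext (zS_comm hy (α⁻¹ ⟨s, hs⟩).2) :
              α⁻¹ ⟨s, hs⟩ * y = y * α⁻¹ ⟨s, hs⟩)
            rw [map_mul, map_mul, MulAut.apply_inv_self] at this
            exact congrArg Subtype.val this⟩
        have hαL : ∀ (β : MulAut R) (y : R), (y : Ω) ∈ zQ Q → ((β y : R) : Ω) ∈ zQ Q := by
          intro β y hy
          obtain ⟨c, hc, hcQ⟩ := exists_outside st hne
          by_cases hy1 : (y : Ω) = 1
          · rw [show y = 1 from Subtype.ext hy1, map_one]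
            exact (zQ Q).one_mem
          obtain ⟨a, b, hab⟩ : ∃ a b : R, a * b * a⁻¹ * b⁻¹ ≠ 1 := by
            by_contra hall
            push Not at hall
            refine hne (le_antisymm (fun z hz => ?_) (zQ_le_zS st))
            have hQ' : ∀ q ∈ Q, q ∈ zQ Q := fun q hq => mem_zQ st hq fun b hb => by
              have := congrArg Subtype.val (hall ⟨b, st.hQS hb⟩ ⟨q, st.hQS hq⟩)
              simp only [Subgroup.coe_mul, Subgroup.coe_inv, Subgroup.coe_one] at this
              rwa [mul_inv_eq_one, mul_inv_eq_iff_eq_mul] at this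
            have h1 : Nat.card Q ≤ p := (card_zQ st) ▸ Subgroup.card_le_of_le hQ'
            have hcomm : commutator Q = ⊥ := by
              rw [commutator_eq_bot_iff_center_eq_top, eq_top_iff]
              intro q _
              obtain ⟨q', hq', hqq⟩ := hQ' q q.2
              rwa [← Subtype.ext hqq]
            have h2 := st.hQ.2
            rw [← st.hQ.1.2.2, hcomm, Subgroup.card_bot] at h2
            exact absurd h2.symm (Fact.out : p.Prime).ne_one
          have hl := commutator_S st hne a.2 b.2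
          obtain ⟨k, hk⟩ := exists_pow st hl (fun h => hab (Subtype.ext h)) hy
          rw [show y = (a * b * a⁻¹ * b⁻¹) ^ k from Subtype.ext hk, map_pow, Subgroup.coe_pow]
          refine Subgroup.pow_mem _ ?_ k
          simp only [map_mul, map_inv, Subgroup.coe_mul, Subgroup.coe_inv]
          exact commutator_S st hne (β a).2 (β b).2
        have hrefl : IsRefl F Q (α * ι * α⁻¹) := by
          refine ⟨mul_mem (mul_mem hα hιm) (inv_mem hα), fun y hy => ?_, α d, hcen d hdZ,
            fun h => hd1 ((map_eq_one_iff _ α.injective).1 h), ?_⟩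
          · rw [MulAut.mul_apply, MulAut.mul_apply, hιL _ (hαL α⁻¹ y hy), map_inv,
              MulAut.apply_inv_self]
          · rw [MulAut.mul_apply, MulAut.mul_apply, MulAut.inv_apply_self, hιd]
        refine ⟨(α x).2, hcen x hxZ, ?_⟩
        have h := refl_eq st hne hp hF hrefl hι (α x) (hcen x hxZ)
        rw [MulAut.mul_apply, MulAut.mul_apply, MulAut.inv_apply_self] at h
        exact h.trans (congrArg α hxi)
      · obtain ⟨hZR, -⟩ := essential_shape st hne hp hF hR
        exact ⟨fun x hx => hZR hx.2.1,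
          fun α hα x hx => (essential_refl st hne hp hF hR).2 ι hι α hα x hx⟩
    have := IsNormal.le_core hDn (⟨d.2, hdZ, hιd⟩ : (d : Ω) ∈ D)
    rw [hcore, Subgroup.mem_bot] at this
    exact hd1 (Subtype.ext this)
  · push Not at hex
    have hSn : F.IsNormal S := by
      refine isNormal_of_alperin st.hS hF le_rfl fun R hR => ?_
      rcases hR with rfl | hR
      · exact ⟨le_rfl, fun α _ x _ => (α x).2⟩
      · exact absurd hR (hex R)
    obtain ⟨u, hu, hu1, -⟩ := exists_gen st
    have := IsNormal.le_core hSn (st.hQS (zQ_le st hu))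
    rw [hcore, Subgroup.mem_bot] at this
    exact hu1 this

end CfsgLib.Fusion.ESIndex
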