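import Cfsg.Agent.Lib.Fusion.EssentialTransvection
import Cfsg.Agent.Lib.Transfer.ClassTwo
import Cfsg.Prelude.Def_Transfer

/-!
Saturated systems over `p`-groups with an extraspecial subgroup of index `p`: basic facts and the
essential subgroups inside the extraspecial one.
-/

set_option autoImplicit false
set_option linter.style.haveILetI false
set_option linter.unusedVariables false
set_option linter.unusedSectionVars false

universe u

namespace CfsgLib.Fusion.ESIndex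

open Cfsg Cfsg.FusionSystem Subgroup
open scoped commutatorElement

variable {Ω : Type u} [Group Ω] {S Q : Subgroup Ω} {p : ℕ}

/-- The hypotheses on the pair. -/
structure Setting (p : ℕ) (S Q : Subgroup Ω) : Prop where
  hS : IsPGroup p S
  hQS : Q ≤ S
  hQ : IsExtraspecial p Q
  hQi : (Q.subgroupOf S).index = p

/-- The centre of `Q`, in `Ω`. -/
def zQ (Q : Subgroup Ω) : Subgroup Ω := (Subgroup.center Q).map Q.subtype

theorem zQ_eq (Q : Subgroup Ω) : zQ Q = Q ⊓ Subgroup.centralizer (Q : Set Ω) := by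
  refine le_antisymm ?_ fun x hx => ?_
  · rintro _ ⟨y, hy, rfl⟩
    exact ⟨y.2, fun b hb => congrArg Subtype.val (Subgroup.mem_center_iff.1 hy ⟨b, hb⟩)⟩
  · exact ⟨⟨x, hx.1⟩, Subgroup.mem_center_iff.2 fun b => Subtype.ext (hx.2 b b.2), rfl⟩

/-- Bounding a finite subgroup by the fibres of a map into another one. -/
theorem card_le_of_fibres {U K L : Subgroup Ω} [Finite K] [Finite L] (f : Ω → Ω)
    (hf : ∀ a ∈ U, f a ∈ L) (hker : ∀ a ∈ U, ∀ b ∈ U, f a = f b → a⁻¹ * b ∈ K) :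
    Nat.card U ≤ Nat.card K * Nat.card L := by
  classical
  have hrep : ∀ a : U, ∃ r ∈ U, f r = f a := fun a => ⟨a, a.2, rfl⟩
  let rep : L → Ω := fun l => if h : ∃ r ∈ U, f r = l then h.choose else 1
  have hr : ∀ a : U, rep ⟨f a, hf a a.2⟩ ∈ U ∧ f (rep ⟨f a, hf a a.2⟩) = f a := fun a => by
    simp only [rep, dif_pos (hrep a)]
    exact (hrep a).choose_spec
  let φ : U → K × L := fun a =>
    (⟨(rep ⟨f a, hf a a.2⟩)⁻¹ * a, hker _ (hr a).1 _ a.2 (hr a).2⟩, ⟨f a, hf a a.2⟩)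
  have hφ : Function.Injective φ := fun a b h => by
    have h2 : (⟨f a, hf a a.2⟩ : L) = ⟨f b, hf b b.2⟩ := congrArg Prod.snd h
    have h1 : (rep ⟨f a, hf a a.2⟩)⁻¹ * (a : Ω) = (rep ⟨f b, hf b b.2⟩)⁻¹ * b :=
      congrArg (fun x => (x.1 : Ω)) h
    rw [h2] at h1
    exact Subtype.ext (mul_left_cancel h1)
  rw [← Nat.card_prod]
  exact Nat.card_le_card_of_injective φ hφ

/-- A strictly larger `p`-subgroup is at least `p` times as large. -/
theorem mul_card_le {A B : Subgroup Ω} [Finite B] [Fact p.Prime] (hB : IsPGroup p B) (h : A < B) :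
    Nat.card A * p ≤ Nat.card B := by
  haveI := finite_of_le h.le
  obtain ⟨j, hj⟩ := IsPGroup.iff_card.1 (hB.to_le h.le)
  obtain ⟨i, hi⟩ := IsPGroup.iff_card.1 hB
  have hlt : Nat.card A < Nat.card B := lt_of_le_of_ne (Subgroup.card_le_of_le h.le)
    fun he => h.ne (Subgroup.eq_of_le_of_card_ge h.le he.ge)
  rw [hi, hj, Nat.pow_lt_pow_iff_right (Fact.out : p.Prime).one_lt] at hlt
  rw [hi, hj, ← pow_succ]
  exact Nat.pow_le_pow_right (Fact.out : p.Prime).pos hlt

section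

variable [Fact p.Prime] [Finite S] (st : Setting p S Q)

include st

theorem finite_Q : Finite Q := finite_of_le st.hQS

theorem zQ_le : zQ Q ≤ Q := Subgroup.map_subtype_le _

theorem card_zQ : Nat.card (zQ Q) = p :=
  (Nat.card_congr (Subgroup.equivMapOfInjective _ _ Q.subtype_injective).toEquiv).symm.trans
    st.hQ.2

theorem commutator_mem {a b : Ω} (ha : a ∈ Q) (hb : b ∈ Q) : a * b * a⁻¹ * b⁻¹ ∈ zQ Q := by
  refine ⟨⁅(⟨a, ha⟩ : Q), ⟨b, hb⟩⁆, ?_, rfl⟩
  exact st.hQ.1.2.2 ▸ Subgroup.commutator_mem_commutator (Subgroup.mem_top _) (Subgroup.mem_top _)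

theorem pow_mem {a : Ω} (ha : a ∈ Q) : a ^ p ∈ zQ Q := by
  haveI := finite_Q st
  refine ⟨(⟨a, ha⟩ : Q) ^ p, ?_, rfl⟩
  exact st.hQ.1.2.1 ▸ CfsgLib.Transfer.pow_mem_frattini (st.hQ.1.1) _

theorem mem_zQ {a : Ω} (ha : a ∈ Q) (h : ∀ b ∈ Q, b * a = a * b) : a ∈ zQ Q := by
  rw [zQ_eq]
  exact ⟨ha, fun b hb => h b hb⟩

theorem Q_normal : S ≤ Subgroup.normalizer (Q : Set Ω) := by
  haveI := finite_Q st
  obtain ⟨n, hn⟩ := IsPGroup.iff_card.1 st.hS
  have hn0 : n ≠ 0 := by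
    rintro rfl
    have h := (Q.subgroupOf S).index_dvd_card
    rw [hn, st.hQi, pow_zero, Nat.dvd_one] at h
    exact (Fact.out : p.Prime).ne_one h
  have hN : (Q.subgroupOf S).Normal := Subgroup.normal_of_index_eq_minFac_card (by
    rw [st.hQi, hn, Nat.pow_minFac hn0, (Fact.out : p.Prime).minFac_eq])
  intro a ha
  refine Subgroup.mem_normalizer_fintype fun x hx => ?_
  exact hN.conj_mem ⟨x, st.hQS hx⟩ hx ⟨a, ha⟩

theorem zQ_central {a z : Ω} (ha : a ∈ S) (hz : z ∈ zQ Q) : a * z = z * a := by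
  haveI := finite_Q st
  haveI := finite_of_le (zQ_le st)
  rcases eq_or_ne z 1 with rfl | hz1
  · simp
  have hconj : a * z * a⁻¹ ∈ zQ Q := by
    rw [zQ_eq]
    have hzQ := (zQ_eq Q).le hz
    refine ⟨((Q_normal st ha) z).1 hzQ.1, fun b hb => ?_⟩
    have hb' : a⁻¹ * b * a ∈ Q := by
      simpa using ((Subgroup.inv_mem _ (Q_normal st ha)) b).1 hb
    have hb'' := hzQ.2 _ hb'
    calc b * (a * z * a⁻¹) = a * (a⁻¹ * b * a * z) * a⁻¹ := by group
      _ = a * (z * (a⁻¹ * b * a)) * a⁻¹ := by rw [hb'']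
      _ = a * z * a⁻¹ * b := by group
  have hgen : Subgroup.zpowers (⟨z, hz⟩ : zQ Q) = ⊤ :=
    zpowers_eq_top_of_prime_card (card_zQ st) fun h => hz1 (congrArg Subtype.val h)
  obtain ⟨j, hj⟩ := Subgroup.mem_zpowers_iff.1
    (hgen ▸ Subgroup.mem_top (⟨_, hconj⟩ : zQ Q) : (⟨_, hconj⟩ : zQ Q) ∈ Subgroup.zpowers _)
  have hj' : a * z * a⁻¹ = z ^ j := (congrArg Subtype.val hj).symm
  have hiter : ∀ m : ℕ, a ^ m * z * (a ^ m)⁻¹ = z ^ j ^ m := by
    intro m
    induction m with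
    | zero => simp
    | succ m ih =>
      rw [pow_succ', show a * a ^ m * z * (a * a ^ m)⁻¹ = a * (a ^ m * z * (a ^ m)⁻¹) * a⁻¹ by
        group, ih, ← conj_zpow, hj', ← zpow_mul, pow_succ']
  obtain ⟨k, hk⟩ := st.hS ⟨a, ha⟩
  have hk' : a ^ p ^ k = 1 := congrArg Subtype.val hk
  have hord : orderOf z = p := by
    refine orderOf_eq_prime ?_ hz1
    have h := pow_card_eq_one' (x := (⟨z, hz⟩ : zQ Q))
    rw [card_zQ st] at h
    exact congrArg Subtype.val h
  have h1 := hiter (p ^ k)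
  rw [hk', one_mul, inv_one, mul_one] at h1
  have h2 : z ^ (1 : ℤ) = z ^ j ^ (p ^ k) := by rw [zpow_one]; exact h1
  rw [zpow_eq_zpow_iff_modEq, hord, ← ZMod.intCast_eq_intCast_iff, Int.cast_one, Int.cast_pow,
    ZMod.pow_card_pow] at h2
  have h3 : z ^ (1 : ℤ) = z ^ j := by
    rw [zpow_eq_zpow_iff_modEq, hord, ← ZMod.intCast_eq_intCast_iff, Int.cast_one]
    exact h2
  rw [← mul_inv_eq_iff_eq_mul, hj', ← h3, zpow_one]

/-- An essential subgroup inside `Q` is all of `Q`, when `S` is large. -/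
theorem essential_eq {F : FusionSystem S} (hF : F.IsSaturated p) (h6 : p ^ 6 ≤ Nat.card S)
    {P : Subgroup Ω} (hPQ : P ≤ Q) (hP : F.IsEssential p P) : P = Q := by
  by_contra hne
  haveI := finite_Q st
  haveI := finite_of_le hPQ
  have hPS := hP.1.1
  have hr := essential_isRadical st.hS hF hP
  have hcP : centralizerIn S P ≤ P := hP.1.2 P (isConj_refl hPS)
  have hLP : zQ Q ≤ P := fun z hz =>
    hcP ⟨st.hQS (zQ_le st hz), fun b hb => zQ_central st (hPS hb) hz⟩
  have hQN : ∀ a ∈ Q, a ∈ normalizerIn S P := fun a ha => ⟨st.hQS ha, by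
    refine Subgroup.mem_normalizer_fintype fun x hx => ?_
    have := P.mul_mem (hLP (commutator_mem st ha (hPQ hx))) hx
    rwa [inv_mul_cancel_right] at this⟩
  by_cases hab : ∀ a ∈ P, ∀ b ∈ P, a * b = b * a
  swap
  · push Not at hab
    obtain ⟨u, hu, v, hv, huv⟩ := hab
    refine hne (le_antisymm hPQ fun a ha => ?_)
    have hl1 := commutator_mem st (hPQ hu) (hPQ hv)
    set l := u * v * u⁻¹ * v⁻¹ with hl
    have hlne : l ≠ 1 := fun h => huv (by
      rw [hl, mul_inv_eq_one, mul_inv_eq_iff_eq_mul] at h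
      exact h)
    refine mem_of_central_step st.hS hP.1 hr hLP (fun α hα x hx => ?_) (hQN a ha)
      (fun z hz => by rw [zQ_central st (st.hQS ha) hz, mul_inv_cancel_right])
      fun x hx => ?_
    · haveI := finite_of_le (zQ_le st)
      have hgen : Subgroup.zpowers (⟨l, hl1⟩ : zQ Q) = ⊤ :=
        zpowers_eq_top_of_prime_card (card_zQ st) fun h => hlne (congrArg Subtype.val h)
      obtain ⟨j, hj⟩ := Subgroup.mem_zpowers_iff.1
        (hgen ▸ Subgroup.mem_top (⟨_, hx⟩ : zQ Q) : (⟨_, hx⟩ : zQ Q) ∈ Subgroup.zpowers _)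
      have hxl : x = ((⟨u, hu⟩ : P) * ⟨v, hv⟩ * ⟨u, hu⟩⁻¹ * ⟨v, hv⟩⁻¹) ^ j := by
        refine Subtype.ext ?_
        simpa [hl] using (congrArg Subtype.val hj).symm
      rw [hxl, map_zpow, Subgroup.coe_zpow]
      refine Subgroup.zpow_mem _ ?_ j
      simp only [map_mul, map_inv, Subgroup.coe_mul, Subgroup.coe_inv]
      exact commutator_mem st (hPQ (α _).2) (hPQ (α _).2)
    · have h := commutator_mem st (Q.inv_mem (hPQ hx)) ha
      rw [inv_inv] at h
      have : x⁻¹ * (a * x * a⁻¹) = x⁻¹ * a * x * a⁻¹ := by group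
      rw [this]
      exact h
  haveI := finite_of_le (zQ_le st)
  refine false_of_transvections st.hS hF hP hab hLP (card_zQ st) (Q : Set Ω) hQN
    (fun a ha x hx => commutator_mem st ha (hPQ hx)) fun v hv => ?_
  by_contra hall
  push Not at hall
  have h1 : Nat.card Q ≤ Nat.card P * p := by
    rw [← card_zQ st]
    refine card_le_of_fibres (fun a => a * v * a⁻¹ * v⁻¹)
      (fun a ha => commutator_mem st ha (hPQ hv)) fun a ha b hb heq => ?_
    by_contra hn
    refine hall _ (Q.mul_mem (Q.inv_mem ha) hb) hn ?_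
    rw [mul_left_inj] at heq
    calc a⁻¹ * b * v * (a⁻¹ * b)⁻¹ = a⁻¹ * (b * v * b⁻¹) * a := by group
      _ = a⁻¹ * (a * v * a⁻¹) * a := by rw [heq]
      _ = v := by group
  obtain ⟨a₀, ha₀, ha₀P⟩ := SetLike.exists_of_lt (lt_of_le_of_ne hPQ hne)
  have h2 : Nat.card P ≤ p * p := by
    conv_rhs => rw [← card_zQ st]
    refine card_le_of_fibres (fun x => a₀ * x * a₀⁻¹ * x⁻¹)
      (fun x hx => commutator_mem st ha₀ (hPQ hx)) fun x hx y hy heq => ?_
    set w := x⁻¹ * y with hw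
    have hwP : w ∈ P := P.mul_mem (P.inv_mem hx) hy
    have hwa : a₀ * w = w * a₀ := by
      have e : a₀ * y * a₀⁻¹ = (a₀ * x * a₀⁻¹ * x⁻¹) * y := by
        rw [heq, inv_mul_cancel_right]
      rw [← mul_inv_eq_iff_eq_mul, hw]
      calc a₀ * (x⁻¹ * y) * a₀⁻¹ = (a₀ * x * a₀⁻¹)⁻¹ * (a₀ * y * a₀⁻¹) := by group
        _ = x⁻¹ * y := by rw [e]; group
    refine mem_zQ st (hPQ hwP) fun b hb => ?_
    have hC : Q ≤ Subgroup.centralizer ({w} : Set Ω) := by
      have hPC : P ⊔ Subgroup.zpowers a₀ ≤ Q ⊓ Subgroup.centralizer ({w} : Set Ω) :=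
        sup_le (fun x hx => ⟨hPQ hx, Subgroup.mem_centralizer_singleton_iff.2 (hab _ hx _ hwP)⟩)
          (Subgroup.zpowers_le.2 ⟨ha₀, Subgroup.mem_centralizer_singleton_iff.2 hwa⟩)
      have hPlt : P < P ⊔ Subgroup.zpowers a₀ :=
        left_lt_sup.2 fun h => ha₀P (h (Subgroup.mem_zpowers a₀))
      haveI := finite_of_le (hPC.trans inf_le_left)
      have hge := mul_card_le (p := p) ((st.hS.to_le st.hQS).to_le (hPC.trans inf_le_left)) hPlt
      have heqQ := Subgroup.eq_of_le_of_card_ge (hPC.trans inf_le_left) (h1.trans hge)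
      exact heqQ ▸ hPC.trans inf_le_right
    exact Subgroup.mem_centralizer_singleton_iff.1 (hC hb)
  have h3 : Nat.card S = Nat.card Q * p := by
    rw [← Nat.card_congr (Subgroup.subgroupOfEquivOfLe st.hQS).toEquiv, ← st.hQi,
      Subgroup.card_mul_index]
  have h4 : p ^ 6 ≤ p ^ 4 := by
    calc p ^ 6 ≤ Nat.card Q * p := h3 ▸ h6
      _ ≤ p * p * p * p := Nat.mul_le_mul_right p (h1.trans (Nat.mul_le_mul_right p h2))
      _ = p ^ 4 := by ring
  exact absurd h4 (not_le.2 (Nat.pow_lt_pow_right (Fact.out : p.Prime).one_lt (by norm_num)))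

end

end CfsgLib.Fusion.ESIndex
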