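import Mathlib

/-!
Isometry groups of an antidiagonal sesquilinear form (symplectic and special unitary groups in a
hyperbolic basis): root elements, monomial elements and diagonal elements.
-/

set_option autoImplicit false
set_option linter.unusedVariables false
set_option linter.unusedSectionVars false
set_option linter.style.haveILetI false

namespace CfsgLib.Fusion.FormGroup

open Matrix Fin
open scoped MatrixGroups

/-- An involutory field automorphism, the antidiagonal entries and their symmetry sign. -/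
structure Dat (K : Type*) [Field K] (N : ℕ) where
  σ : K ≃+* K
  e : Fin N → K
  η : K

variable {K : Type*} [Field K] {N : ℕ}

/-- The antidiagonal matrix of the form. -/
def Dat.J (D : Dat K N) : Matrix (Fin N) (Fin N) K :=
  Matrix.of fun i j => if j = rev i then D.e i else 0

/-- Being an isometry of the form. -/
def Dat.IsIsom (D : Dat K N) (A : Matrix (Fin N) (Fin N) K) : Prop := Aᵀ * D.J * A.map D.σ = D.J

/-- The two cases in use: symplectic and unitary. -/
structure Dat.Good (D : Dat K N) : Prop where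
  hσ : ∀ x, D.σ (D.σ x) = x
  he : ∀ i, D.e i = 1 ∨ D.e i = -1
  heta : ∀ i, D.e (rev i) = D.η * D.e i
  hη : D.η = 1 ∨ D.η = -1
  three : 3 ≤ N
  adj : ∀ A : Matrix (Fin N) (Fin N) K, D.IsIsom A → ∃ t : K, t ≠ 0 ∧ A.det * (t * (D.σ t)⁻¹) = 1
  norm : ∀ x, D.σ x = x → ∃ a b, x = a * D.σ a + b * D.σ b
  theta : ∃ th : K, th ≠ 0 ∧ th + D.η * D.σ th = 0
  kind : (D.η = 1 ∧ ∃ c, D.σ c ≠ c) ∨ (D.η = -1 ∧ ∀ c, D.σ c = c)
  mid : ∀ j : Fin N, rev j = j → (∀ i, D.e i = 1) ∧ ∀ a, ∃ b, b + D.σ b + a * D.σ a = 0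
  small : (2 : K) ≠ 0 ∨ (∃ c, D.σ c ≠ c) ∨ (∃ t : K, t ≠ 0 ∧ t ≠ 1) ∨ 6 ≤ N

/-- The isometry group of determinant one. -/
def Dat.group (D : Dat K N) : Subgroup (GL (Fin N) K) where
  carrier := {g | D.IsIsom (g : Matrix (Fin N) (Fin N) K) ∧ (g : Matrix (Fin N) (Fin N) K).det = 1}
  one_mem' := ⟨by simp [Dat.IsIsom], by simp⟩
  mul_mem' := fun {a b} ha hb => ⟨by
    have h1 : ((a : Matrix (Fin N) (Fin N) K) * (b : Matrix (Fin N) (Fin N) K))ᵀ * D.J *
        ((a : Matrix (Fin N) (Fin N) K) * (b : Matrix (Fin N) (Fin N) K)).map D.σ =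
        (b : Matrix (Fin N) (Fin N) K)ᵀ * ((a : Matrix (Fin N) (Fin N) K)ᵀ * D.J *
          (a : Matrix (Fin N) (Fin N) K).map D.σ) * (b : Matrix (Fin N) (Fin N) K).map D.σ := by
      rw [transpose_mul, Matrix.map_mul]
      simp only [mul_assoc]
    show D.IsIsom ((a * b : GL (Fin N) K) : Matrix (Fin N) (Fin N) K)
    rw [Units.val_mul, Dat.IsIsom, h1, ha.1, hb.1], by rw [Units.val_mul, det_mul, ha.2, hb.2, one_mul]⟩
  inv_mem' := fun {a} ha => by
    have hm : (a : Matrix (Fin N) (Fin N) K) * (↑a⁻¹ : Matrix (Fin N) (Fin N) K) = 1 := a.mul_inv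
    refine ⟨?_, by
      have h := congrArg Matrix.det hm
      rwa [det_mul, ha.2, one_mul, det_one] at h⟩
    have h := congrArg (fun X => (↑a⁻¹ : Matrix (Fin N) (Fin N) K)ᵀ * X *
      (↑a⁻¹ : Matrix (Fin N) (Fin N) K).map D.σ) ha.1
    simp only [← mul_assoc, ← transpose_mul] at h
    rw [mul_assoc _ ((a : Matrix (Fin N) (Fin N) K).map D.σ), ← Matrix.map_mul, hm] at h
    simpa [Dat.IsIsom] using h.symm

variable {D : Dat K N}

theorem mem_group {g : GL (Fin N) K} :
    g ∈ D.group ↔ D.IsIsom (g : Matrix (Fin N) (Fin N) K) ∧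
      (g : Matrix (Fin N) (Fin N) K).det = 1 := Iff.rfl

/-! ### Signs -/

theorem Dat.Good.e_ne (hD : D.Good) (i : Fin N) : D.e i ≠ 0 := by
  rcases hD.he i with h | h <;> rw [h] <;> simp

theorem Dat.Good.e_mul_self (hD : D.Good) (i : Fin N) : D.e i * D.e i = 1 := by
  rcases hD.he i with h | h <;> rw [h] <;> simp

theorem Dat.Good.σ_e (hD : D.Good) (i : Fin N) : D.σ (D.e i) = D.e i := by
  rcases hD.he i with h | h <;> rw [h] <;> simp

theorem Dat.Good.σ_eta (hD : D.Good) : D.σ D.η = D.η := by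
  rcases hD.hη with h | h <;> rw [h] <;> simp

theorem Dat.Good.eta_mul_self (hD : D.Good) : D.η * D.η = 1 := by
  rcases hD.hη with h | h <;> rw [h] <;> simp

theorem Dat.Good.J_mul_J (hD : D.Good) : D.J * D.J = D.η • (1 : Matrix (Fin N) (Fin N) K) := by
  ext a c
  rw [Matrix.mul_apply, Finset.sum_eq_single (rev a) (fun b _ hb => by simp [Dat.J, hb]) (by simp)]
  simp only [Dat.J, Matrix.of_apply, if_true, Fin.rev_rev, Matrix.smul_apply, smul_eq_mul]
  rcases eq_or_ne c a with h | h
  · subst h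
    rw [if_pos rfl, Matrix.one_apply_eq, mul_one, hD.heta, mul_left_comm, hD.e_mul_self, mul_one]
  · rw [if_neg h, mul_zero, Matrix.one_apply_ne h.symm, mul_zero]

/-- The rows of an isometry satisfy the same relations. -/
theorem Dat.IsIsom.rows (hD : D.Good) {A : Matrix (Fin N) (Fin N) K} (h : D.IsIsom A) :
    A * D.J * (A.map D.σ)ᵀ = D.J := by
  have hη : D.η ≠ 0 := by rcases hD.hη with h | h <;> rw [h] <;> simp
  have h1 : (D.η • (D.J * Aᵀ * D.J)) * A.map D.σ = 1 := by
    rw [smul_mul, mul_assoc (D.J * Aᵀ), mul_assoc D.J, ← mul_assoc Aᵀ]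
    rw [show Aᵀ * D.J * A.map D.σ = D.J from h, hD.J_mul_J, smul_smul, hD.eta_mul_self, one_smul]
  have h2 := mul_eq_one_comm.1 h1
  have h3 : A.map D.σ * D.J * Aᵀ = D.J := by
    have h4 := congrArg (· * D.J) h2
    simp only [one_mul, mul_smul_comm, smul_mul_assoc, mul_assoc, hD.J_mul_J, mul_one, smul_smul,
      hD.eta_mul_self, one_smul] at h4
    rw [mul_assoc]; exact h4
  have h5 := congrArg (fun X : Matrix (Fin N) (Fin N) K => X.map D.σ) h3
  simp only [Matrix.map_mul, Matrix.map_map] at h5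
  have hJ : D.J.map D.σ = D.J := by
    ext i j
    simp only [Dat.J, Matrix.map_apply, Matrix.of_apply]
    split_ifs <;> simp [hD.σ_e]
  rw [hJ, show ((D.σ : K → K) ∘ (D.σ : K → K)) = id from funext hD.hσ, Matrix.map_id,
    transpose_map] at h5
  exact h5

theorem Dat.IsIsom.row_apply (hD : D.Good) {A : Matrix (Fin N) (Fin N) K} (h : D.IsIsom A)
    (a b : Fin N) :
    ∑ i, A a i * D.e i * D.σ (A b (rev i)) = if b = rev a then D.e a else 0 := by
  have h' := congrFun (congrFun (h.rows hD) a) b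
  simp only [Dat.J, Matrix.of_apply] at h'
  rw [← h', Matrix.mul_apply]
  refine Fintype.sum_equiv Fin.revPerm _ _ fun i => ?_
  rw [Matrix.mul_apply, Finset.sum_eq_single i (fun c _ hc => by
    rw [Matrix.of_apply, if_neg fun he => hc (Fin.rev_injective he.symm), mul_zero]) (by simp)]
  simp [Fin.revPerm_apply, Matrix.transpose_apply]

theorem Dat.IsIsom.col_apply {A : Matrix (Fin N) (Fin N) K} (h : D.IsIsom A) (a b : Fin N) :
    ∑ i, A i a * D.e i * D.σ (A (rev i) b) = if b = rev a then D.e a else 0 := by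
  have h' := congrFun (congrFun h a) b
  simp only [Dat.J, Matrix.of_apply] at h'
  rw [← h', Matrix.mul_apply]
  refine Fintype.sum_equiv Fin.revPerm _ _ fun i => ?_
  rw [Matrix.mul_apply, Finset.sum_eq_single i (fun c _ hc => by
    rw [Matrix.of_apply, if_neg fun he => hc (Fin.rev_injective he.symm), mul_zero]) (by simp)]
  simp [Fin.revPerm_apply, Matrix.transpose_apply]

/-! ### Elements `1 + M` with `M` nilpotent -/

variable {p : ℕ} [Fact p.Prime] [CharP K p]

theorem eq_one_of_pow {z : K} {k : ℕ} (h : z ^ p ^ k = 1) : z = 1 := by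
  have h1 : (z - 1) ^ p ^ k = 0 := by rw [sub_pow_char_pow, h, one_pow, sub_self]
  exact sub_eq_zero.1 (eq_zero_of_pow_eq_zero h1)

theorem one_add_pow_prime_pow {M : Matrix (Fin N) (Fin N) K} [NeZero N] (hM : M ^ 3 = 0) :
    (1 + M) ^ p ^ 2 = 1 := by
  have h3 : 3 ≤ p ^ 2 := le_trans (by norm_num)
    (Nat.pow_le_pow_left (Fact.out : p.Prime).two_le 2)
  rw [add_pow_char_pow_of_commute _ _ (Commute.one_left M), one_pow,
    ← Nat.sub_add_cancel h3, pow_add, hM, mul_zero, add_zero]

theorem exists_elt [NeZero N] (p : ℕ) [Fact p.Prime] [CharP K p] {M : Matrix (Fin N) (Fin N) K}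
    (hM : M ^ 3 = 0) (hiso : D.IsIsom (1 + M)) :
    ∃ g ∈ D.group, (g : Matrix (Fin N) (Fin N) K) = 1 + M ∧ g ^ p ^ 2 = 1 := by
  have hp := one_add_pow_prime_pow (p := p) hM
  have hu : IsUnit (1 + M) := IsUnit.of_pow_eq_one hp (pow_ne_zero _ (Fact.out : p.Prime).ne_zero)
  refine ⟨hu.unit, ⟨hiso, ?_⟩, hu.unit_spec, Units.ext (by simpa using hp)⟩
  refine eq_one_of_pow (p := p) (k := 2) ?_
  rw [← det_pow, hu.unit_spec, hp, det_one]

/-! ### Root elements -/

theorem sne {i j k l : Fin N} (h : j ≠ k) {c d : K} : single i j c * single k l d = 0 :=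
  Matrix.single_mul_single_of_ne c i j k h d

theorem J_mul_single (i j : Fin N) (c : K) :
    D.J * single i j c = single (rev i) j (D.e (rev i) * c) := by
  ext a b
  rw [Matrix.mul_apply, Finset.sum_eq_single i (fun x _ hx => by
    simp [Matrix.single_apply, Ne.symm hx]) (by simp)]
  simp only [Dat.J, Matrix.of_apply, Matrix.single_apply]
  by_cases ha : i = rev a
  · subst ha
    simp [Fin.rev_rev]
  · rw [if_neg ha, zero_mul, if_neg fun h => ha (by rw [← h.1, Fin.rev_rev])]

theorem single_mul_J (i j : Fin N) (c : K) :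
    single i j c * D.J = single i (rev j) (c * D.e j) := by
  ext a b
  rw [Matrix.mul_apply, Finset.sum_eq_single j (fun x _ hx => by
    simp [Matrix.single_apply, Ne.symm hx]) (by simp)]
  simp only [Dat.J, Matrix.of_apply, Matrix.single_apply]
  by_cases hb : b = rev j
  · subst hb
    by_cases ha : i = a <;> simp [ha]
  · rw [if_neg hb, mul_zero, if_neg fun h => hb h.2.symm]

/-- The short root element, less the identity. -/
def shM (D : Dat K N) (i j : Fin N) (c : K) : Matrix (Fin N) (Fin N) K :=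
  single i j c + single (rev j) (rev i) (-(D.σ c * D.e i * D.e j))

/-- The long root element, less the identity. -/
def lgM (i : Fin N) (c : K) : Matrix (Fin N) (Fin N) K := single i (rev i) c

/-- The root element through the middle index `j`, less the identity. -/
def mdM (D : Dat K N) (i j : Fin N) (a b : K) : Matrix (Fin N) (Fin N) K :=
  single i j a + single i (rev i) b + single j (rev i) (-D.σ a)

/-- Indices admissible for a short root. -/
def Adm (i j : Fin N) : Prop := i ≠ j ∧ i ≠ rev j ∧ i ≠ rev i ∧ j ≠ rev j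

theorem Adm.symm {i j : Fin N} (h : Adm i j) : Adm j i :=
  ⟨h.1.symm, fun h' => h.2.1 (by rw [h', Fin.rev_rev]), h.2.2.2, h.2.2.1⟩

theorem isIsom_sh (hD : D.Good) {i j : Fin N} (h : Adm i j) (c : K) :
    D.IsIsom (1 + shM D i j c) := by
  obtain ⟨h1, h2, h3, h4⟩ := h
  have h2' : rev i ≠ j := fun h' => h2 (by rw [← h', Fin.rev_rev])
  have h1' : rev i ≠ rev j := fun h' => h1 (Fin.rev_injective h')
  unfold Dat.IsIsom shM
  simp only [transpose_add, transpose_one, transpose_single, Matrix.map_add _ (map_add D.σ),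
    Matrix.map_one _ (map_zero D.σ) (map_one D.σ), Matrix.map_single, add_mul,
    mul_add, one_mul, mul_one, J_mul_single, single_mul_J, Fin.rev_rev]
  simp only [sne h3.symm, sne h1',
    sne h4, sne h1'.symm,
    sne h1, sne h1.symm,
    sne h4.symm, sne h3, add_zero, zero_add,
    map_neg, map_mul, hD.hσ, hD.σ_e, hD.heta]
  have e1 : D.η * D.e i * D.σ c + -(D.σ c * D.e i * D.e j) * (D.η * D.e j) = 0 := by
    linear_combination (-(D.η * D.σ c * D.e i)) * hD.e_mul_self j
  have e2 : c * D.e i + D.e j * -(c * D.e i * D.e j) = 0 := by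
    linear_combination (-(c * D.e i)) * hD.e_mul_self j
  ext a b
  simp only [Matrix.add_apply, Matrix.single_apply]
  split_ifs with q1 q2 q3 q4 <;>
    first
    | ring1
    | linear_combination e1
    | linear_combination e2
    | (exfalso; simp_all)

theorem isIsom_lg (hD : D.Good) {i : Fin N} (h : i ≠ rev i) {c : K} (hc : c + D.η * D.σ c = 0) :
    D.IsIsom (1 + lgM i c) := by
  unfold Dat.IsIsom lgM
  simp only [transpose_add, transpose_one, transpose_single, Matrix.map_add _ (map_add D.σ),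
    Matrix.map_one _ (map_zero D.σ) (map_one D.σ), Matrix.map_single, add_mul,
    mul_add, one_mul, mul_one, J_mul_single, single_mul_J,
    sne h.symm, add_zero]
  have e1 : D.e (rev i) * D.σ c + c * D.e i = 0 := by
    rw [hD.heta]; linear_combination D.e i * hc
  rw [add_assoc, ← Matrix.single_add, add_comm (c * D.e i), e1, Matrix.single_zero, add_zero]

theorem isIsom_md (hD : D.Good) {i j : Fin N} (hj : rev j = j) (h : i ≠ j) (h' : i ≠ rev i)
    {a b : K} (hb : b + D.σ b + a * D.σ a = 0) : D.IsIsom (1 + mdM D i j a b) := by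
  have he := (hD.mid j hj).1
  have h2 : rev i ≠ j := fun hh => h (by rw [← Fin.rev_rev i, hh, hj])
  unfold Dat.IsIsom mdM
  simp only [transpose_add, transpose_one, transpose_single, Matrix.map_add _ (map_add D.σ),
    Matrix.map_one _ (map_zero D.σ) (map_one D.σ), Matrix.map_single, add_mul,
    mul_add, one_mul, mul_one, J_mul_single, single_mul_J, Fin.rev_rev, hj,
    sne h'.symm, sne h.symm,
    sne h2, single_mul_single_same, map_neg, hD.hσ, he, add_zero, zero_add]
  ext x y
  simp only [Matrix.add_apply, Matrix.single_apply]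
  split_ifs with q1 q2 q3 q4 q5 <;>
    first
    | ring1
    | linear_combination hb
    | (exfalso; simp_all)

theorem shM_pow (D : Dat K N) {i j : Fin N} (h : Adm i j) (c : K) : shM D i j c ^ 3 = 0 := by
  obtain ⟨h1, h2, h3, h4⟩ := h
  have h2' : rev i ≠ j := fun h' => h2 (by rw [← h', Fin.rev_rev])
  have h1' : rev i ≠ rev j := fun h' => h1 (Fin.rev_injective h')
  rw [pow_succ, pow_succ, pow_one, show shM D i j c * shM D i j c = 0 by
    simp only [shM, add_mul, mul_add, sne h1.symm,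
      sne h4, sne h3.symm,
      sne h1', add_zero], zero_mul]

theorem lgM_pow {i : Fin N} (h : i ≠ rev i) (c : K) : lgM i c ^ 3 = 0 := by
  rw [pow_succ, pow_succ, pow_one, show lgM i c * lgM i c = 0 by
    simp only [lgM, sne h.symm], zero_mul]

theorem mdM_pow (D : Dat K N) {i j : Fin N} (hj : rev j = j) (h : i ≠ j) (h' : i ≠ rev i) (a b : K) :
    mdM D i j a b ^ 3 = 0 := by
  have h2 : rev i ≠ j := fun hh => h (by rw [← Fin.rev_rev i, hh, hj])
  rw [pow_succ, pow_succ, pow_one]
  simp only [mdM, add_mul, mul_add, single_mul_single_same, sne h.symm,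
    sne h2, sne h'.symm, add_zero, zero_add]

theorem exists_sh (p : ℕ) [Fact p.Prime] [CharP K p] (hD : D.Good) {i j : Fin N} (h : Adm i j)
    (c : K) : ∃ g ∈ D.group, (g : Matrix (Fin N) (Fin N) K) = 1 + shM D i j c ∧ g ^ p ^ 2 = 1 := by
  haveI : NeZero N := ⟨by have := hD.three; omega⟩
  exact exists_elt p (shM_pow D h c) (isIsom_sh hD h c)

theorem exists_lg (p : ℕ) [Fact p.Prime] [CharP K p] (hD : D.Good) {i : Fin N} (h : i ≠ rev i)
    {c : K} (hc : c + D.η * D.σ c = 0) :
    ∃ g ∈ D.group, (g : Matrix (Fin N) (Fin N) K) = 1 + lgM i c ∧ g ^ p ^ 2 = 1 := by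
  haveI : NeZero N := ⟨by have := hD.three; omega⟩
  exact exists_elt p (lgM_pow h c) (isIsom_lg hD h hc)

theorem exists_md (p : ℕ) [Fact p.Prime] [CharP K p] (hD : D.Good) {i j : Fin N} (hj : rev j = j)
    (h : i ≠ j) (h' : i ≠ rev i) {a b : K} (hb : b + D.σ b + a * D.σ a = 0) :
    ∃ g ∈ D.group, (g : Matrix (Fin N) (Fin N) K) = 1 + mdM D i j a b ∧ g ^ p ^ 2 = 1 := by
  haveI : NeZero N := ⟨by have := hD.three; omega⟩
  exact exists_elt p (mdM_pow D hj h h' a b) (isIsom_md hD hj h h' hb)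

/-! ### Diagonal and monomial elements -/

/-- The monomial matrix sending `e_j` to `w j • e_(π j)`. -/
def mono (π : Equiv.Perm (Fin N)) (w : Fin N → K) : Matrix (Fin N) (Fin N) K :=
  Matrix.of fun i j => if i = π j then w j else 0

theorem mono_mul_single (π : Equiv.Perm (Fin N)) (w : Fin N → K) (i j : Fin N) (c : K) :
    mono π w * single i j c = single (π i) j (w i * c) := by
  ext a b
  rw [Matrix.mul_apply, Finset.sum_eq_single i (fun x _ hx => by
    simp [Matrix.single_apply, Ne.symm hx]) (by simp)]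
  simp only [mono, Matrix.of_apply, Matrix.single_apply]
  by_cases ha : a = π i <;> by_cases hb : j = b <;> simp [ha, hb, Ne.symm]

theorem single_mul_mono (π : Equiv.Perm (Fin N)) (w : Fin N → K) (i j : Fin N) (c : K) :
    single i (π j) c * mono π w = single i j (c * w j) := by
  ext a b
  rw [Matrix.mul_apply, Finset.sum_eq_single (π j) (fun x _ hx => by
    simp [Matrix.single_apply, Ne.symm hx]) (by simp)]
  simp only [mono, Matrix.of_apply, Matrix.single_apply]
  by_cases hb : j = b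
  · subst hb
    by_cases ha : i = a <;> simp [ha]
  · by_cases ha : i = a <;> simp [ha, hb, fun h => hb (π.injective h)]

theorem mono_one (w : Fin N → K) : mono 1 w = Matrix.diagonal w := by
  ext i j
  rcases eq_or_ne i j with h | h
  · subst h; simp [mono]
  · simp [mono, h]

theorem isIsom_mono (π : Equiv.Perm (Fin N)) (hπ : ∀ i, π (rev i) = rev (π i)) (w : Fin N → K)
    (h : ∀ i, w i * D.e (π i) * D.σ (w (rev i)) = D.e i) : D.IsIsom (mono π w) := by
  unfold Dat.IsIsom
  ext a b
  rw [Matrix.mul_apply, Finset.sum_eq_single (π b) (fun x _ hx => by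
    simp [mono, Matrix.map_apply, hx]) (by simp), Matrix.mul_apply,
    Finset.sum_eq_single (π a) (fun x _ hx => by
      simp [mono, Matrix.transpose_apply, hx]) (by simp)]
  simp only [mono, Dat.J, Matrix.transpose_apply, Matrix.map_apply, Matrix.of_apply, if_true]
  by_cases hb : b = rev a
  · subst hb
    rw [if_pos (hπ a), if_pos rfl, h]
  · rw [if_neg fun he => hb (π.injective (he.trans (hπ a).symm)), if_neg hb, mul_zero, zero_mul]

theorem det_mono_ne_zero (π : Equiv.Perm (Fin N)) (w : Fin N → K) (hw : ∀ i, w i ≠ 0) :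
    (mono π w).det ≠ 0 := by
  have h : mono π w = (Matrix.diagonal fun i => w (π.symm i)).submatrix id π.symm.symm := by
    ext i j
    simp only [mono, Matrix.of_apply, Matrix.submatrix_apply, id_eq, Matrix.diagonal_apply,
      Equiv.symm_symm]
    by_cases hi : i = π j
    · rw [if_pos hi, if_pos hi, hi, Equiv.symm_apply_apply]
    · rw [if_neg hi, if_neg hi]
  rw [h, Matrix.det_permute', Matrix.det_diagonal]
  refine mul_ne_zero ?_ (Finset.prod_ne_zero_iff.2 fun i _ => hw _)
  rcases Int.units_eq_one_or (Equiv.Perm.sign π.symm.symm) with h | h <;> rw [h] <;> simp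

theorem exists_mono (π : Equiv.Perm (Fin N)) (hπ : ∀ i, π (rev i) = rev (π i)) (w : Fin N → K)
    (h : ∀ i, w i * D.e (π i) * D.σ (w (rev i)) = D.e i) (hw : ∀ i, w i ≠ 0)
    (hdet : (mono π w).det = 1) : ∃ g ∈ D.group, (g : Matrix (Fin N) (Fin N) K) = mono π w :=
  ⟨Matrix.GeneralLinearGroup.mkOfDetNeZero _ (det_mono_ne_zero π w hw),
    ⟨isIsom_mono π hπ w h, hdet⟩, rfl⟩

/-- The first index. -/
def Dat.Good.i0 (hD : D.Good) : Fin N := ⟨0, by have := hD.three; omega⟩

theorem Dat.Good.i0_ne (hD : D.Good) : hD.i0 ≠ rev hD.i0 := by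
  have := hD.three
  simp [Dat.Good.i0, Fin.ext_iff]
  omega

theorem mono_mul (π τ : Equiv.Perm (Fin N)) (w v : Fin N → K) :
    mono π w * mono τ v = mono (π * τ) (fun j => w (τ j) * v j) := by
  ext i j
  simp only [mono, Matrix.mul_apply, Matrix.of_apply, Equiv.Perm.coe_mul, Function.comp_apply]
  rw [Finset.sum_eq_single (τ j) (fun b _ hb => by simp [hb]) (by simp), if_pos rfl]
  show (if i = π (τ j) then w (τ j) else 0) * v j = if i = π (τ j) then w (τ j) * v j else 0
  rw [ite_mul, zero_mul]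

/-- A monomial element for any permutation commuting with the reversal. -/
theorem exists_weyl (hD : D.Good) (π : Equiv.Perm (Fin N)) (hπ : ∀ i, π (rev i) = rev (π i)) :
    ∃ g ∈ D.group, ∃ w : Fin N → K, (∀ i, w i ≠ 0) ∧
      (g : Matrix (Fin N) (Fin N) K) = mono π w := by
  set w : Fin N → K := fun j => if j ≤ rev j then 1 else D.e (π (rev j)) * D.e (rev j) with hw
  have hw0 : ∀ i, w i ≠ 0 := fun i => by
    simp only [hw]
    split_ifs
    · exact one_ne_zero
    · exact mul_ne_zero (hD.e_ne _) (hD.e_ne _)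
  have hform : ∀ i, w i * D.e (π i) * D.σ (w (rev i)) = D.e i := by
    intro i
    simp only [hw, Fin.rev_rev]
    rcases lt_trichotomy i (rev i) with h | h | h
    · rw [if_pos h.le, if_neg (not_le.2 h), one_mul, map_mul, hD.σ_e, hD.σ_e, ← mul_assoc,
        hD.e_mul_self, one_mul]
    · have he := (hD.mid i h.symm).1
      simp only [← h, le_refl, if_true, he, map_one, mul_one]
    · rw [if_neg (not_le.2 h), if_pos h.le, map_one, mul_one, hπ, hD.heta, hD.heta]
      linear_combination (D.e i * D.η * D.η) * hD.e_mul_self (π i) + D.e i * hD.eta_mul_self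
  obtain ⟨t, ht, hdet⟩ := hD.adj _ (isIsom_mono π hπ w hform)
  set v : Fin N → K := fun j => if j = hD.i0 then t else if j = rev hD.i0 then (D.σ t)⁻¹ else 1
    with hv
  have hσt : D.σ t ≠ 0 := fun h0 => ht (by rw [← hD.hσ t, h0, map_zero])
  have hv0 : ∀ i, v i ≠ 0 := fun i => by
    simp only [hv]; split_ifs; exacts [ht, inv_ne_zero hσt, one_ne_zero]
  have hprod : ∏ i, v i = t * (D.σ t)⁻¹ := by
    rw [Fintype.prod_eq_mul hD.i0 (rev hD.i0) hD.i0_ne fun x hx => by simp [hv, hx.1, hx.2]]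
    simp [hv, hD.i0_ne.symm]
  have hform2 : ∀ i, (w i * v i) * D.e (π i) * D.σ (w (rev i) * v (rev i)) = D.e i := by
    intro i
    rw [map_mul, show w i * v i * D.e (π i) * (D.σ (w (rev i)) * D.σ (v (rev i))) =
      (w i * D.e (π i) * D.σ (w (rev i))) * (v i * D.σ (v (rev i))) by ring, hform]
    simp only [hv]
    by_cases h1 : i = hD.i0
    · subst h1
      simp [hD.i0_ne.symm, hD.hσ, ht, hσt]
    · by_cases h2 : i = rev hD.i0
      · subst h2
        simp [hD.i0_ne.symm, Fin.rev_rev, hσt]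
      · have h3 : rev i ≠ hD.i0 := fun h => h2 (by rw [← h, Fin.rev_rev])
        have h4 : rev i ≠ rev hD.i0 := fun h => h1 (Fin.rev_injective h)
        simp [h1, h2, h3, h4]
  have hm : mono π w * mono 1 v = mono π fun j => w j * v j := by
    rw [mono_mul, mul_one]; rfl
  obtain ⟨g, hg, hgv⟩ := exists_mono π hπ _ hform2 (fun i => mul_ne_zero (hw0 i) (hv0 i)) (by
    rw [← hm, det_mul, mono_one, det_diagonal, hprod, hdet])
  exact ⟨g, hg, _, fun i => mul_ne_zero (hw0 i) (hv0 i), hgv⟩

/-- The diagonal element with `t` at `i`, `u` at `j` and the conjugate inverses at the mirror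
positions. -/
theorem exists_torus (hD : D.Good) {i j : Fin N} (h : Adm i j) {t u : K} (ht : t ≠ 0) (hu : u ≠ 0)
    (hdet : t * (D.σ t)⁻¹ * (u * (D.σ u)⁻¹) = 1) :
    ∃ g ∈ D.group, ∃ w : Fin N → K, (∀ x, w x ≠ 0) ∧
      (g : Matrix (Fin N) (Fin N) K) = Matrix.diagonal w ∧ w i = t ∧ w j = u ∧
      w (rev i) = (D.σ t)⁻¹ ∧ w (rev j) = (D.σ u)⁻¹ := by
  obtain ⟨h1, h2, h3, h4⟩ := h
  have h2' : j ≠ rev i := fun h' => h2 (by rw [h', Fin.rev_rev])
  have h1' : rev i ≠ rev j := fun h' => h1 (Fin.rev_injective h')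
  set w : Fin N → K := fun x => if x = i then t else if x = rev i then (D.σ t)⁻¹ else
    if x = j then u else if x = rev j then (D.σ u)⁻¹ else 1 with hw
  have hσ0 : ∀ {x : K}, x ≠ 0 → D.σ x ≠ 0 := fun {x} hx h0 => hx (by rw [← hD.hσ x, h0, map_zero])
  have hw0 : ∀ x, w x ≠ 0 := fun x => by
    simp only [hw]
    split_ifs
    exacts [ht, inv_ne_zero (hσ0 ht), hu, inv_ne_zero (hσ0 hu), one_ne_zero]
  have wi : w i = t := by simp [hw]
  have wi' : w (rev i) = (D.σ t)⁻¹ := by simp [hw, h3.symm]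
  have wj : w j = u := by simp [hw, h1.symm, h2']
  have wj' : w (rev j) = (D.σ u)⁻¹ := by simp [hw, h2.symm, h1'.symm, h4.symm]
  have hform : ∀ x, w x * D.e ((1 : Equiv.Perm (Fin N)) x) * D.σ (w (rev x)) = D.e x := by
    intro x
    rw [Equiv.Perm.one_apply, mul_right_comm]
    suffices w x * D.σ (w (rev x)) = 1 by rw [this, one_mul]
    by_cases a1 : x = i
    · subst a1; rw [wi, wi', map_inv₀, hD.hσ, mul_inv_cancel₀ ht]
    by_cases a2 : x = rev i
    · subst a2; rw [Fin.rev_rev, wi, wi', inv_mul_cancel₀ (hσ0 ht)]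
    by_cases a3 : x = j
    · subst a3; rw [wj, wj', map_inv₀, hD.hσ, mul_inv_cancel₀ hu]
    by_cases a4 : x = rev j
    · subst a4; rw [Fin.rev_rev, wj, wj', inv_mul_cancel₀ (hσ0 hu)]
    have b1 : rev x ≠ i := fun h' => a2 (by rw [← h', Fin.rev_rev])
    have b2 : rev x ≠ rev i := fun h' => a1 (Fin.rev_injective h')
    have b3 : rev x ≠ j := fun h' => a4 (by rw [← h', Fin.rev_rev])
    have b4 : rev x ≠ rev j := fun h' => a3 (Fin.rev_injective h')
    simp [hw, a1, a2, a3, a4, b1, b2, b3, b4]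
  obtain ⟨g, hg, hgv⟩ := exists_mono (D := D) 1 (fun _ => rfl) w hform hw0 (by
    rw [mono_one, det_diagonal]
    have hP : ∏ x, w x = ∏ x ∈ ({i, rev i, j, rev j} : Finset (Fin N)), w x := by
      refine (Finset.prod_subset (Finset.subset_univ _) fun x _ hx => ?_).symm
      simp only [Finset.mem_insert, Finset.mem_singleton, not_or] at hx
      simp [hw, hx.1, hx.2.1, hx.2.2.1, hx.2.2.2]
    rw [hP, Finset.prod_insert (by simp [h3, h1, h2]), Finset.prod_insert (by simp [h2'.symm, h1']),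
      Finset.prod_insert (by simp [h4]), Finset.prod_singleton, wi, wi', wj, wj', ← mul_assoc, hdet])
  exact ⟨g, hg, w, hw0, by rw [hgv, mono_one], wi, wj, wi', wj'⟩

/-- Conjugation by a monomial element moves `1 + c E_ij + d E_kl`. -/
theorem mono_conj {g u : GL (Fin N) K} {π : Equiv.Perm (Fin N)} {w : Fin N → K}
    {M M' : Matrix (Fin N) (Fin N) K} (hg : (g : Matrix (Fin N) (Fin N) K) = mono π w)
    (hu : (u : Matrix (Fin N) (Fin N) K) = 1 + M) (h : mono π w * M = M' * mono π w) :
    ((g * u * g⁻¹ : GL (Fin N) K) : Matrix (Fin N) (Fin N) K) = 1 + M' := by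
  have h1 : (g : Matrix (Fin N) (Fin N) K) * (u : Matrix (Fin N) (Fin N) K) =
      (1 + M') * (g : Matrix (Fin N) (Fin N) K) := by
    rw [hg, hu, mul_add, add_mul, one_mul, mul_one, h]
  rw [Units.val_mul, Units.val_mul, h1, mul_assoc, ← Units.val_mul, mul_inv_cancel, Units.val_one,
    mul_one]

end CfsgLib.Fusion.FormGroup
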