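import Cfsg.Agent.Lib.Fusion.FormGroupUni
import Cfsg.Agent.Lib.Solvable.Nilpotent

/-!
The unitriangular subgroup of the isometry group of an antidiagonal form has no proper nontrivial
strongly closed subgroup.
-/

set_option autoImplicit false
set_option linter.unusedVariables false
set_option linter.unusedSectionVars false
set_option linter.style.haveILetI false

namespace CfsgLib.Fusion.FormGroup

open Matrix Fin Subgroup

variable {K : Type*} [Field K] {N : ℕ} {D : Dat K N}

/-! ### Conjugation by monomial elements -/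

theorem sh_conj (hD : D.Good) {g u : D.group} {π : Equiv.Perm (Fin N)}
    (hπ : ∀ x, π (rev x) = rev (π x)) {w : Fin N → K} (hw : ∀ x, w x ≠ 0) (hg : mat g = mono π w)
    {i j : Fin N} (h : Adm i j) {c : K} (hu : mat u = 1 + shM D i j c) :
    Adm (π i) (π j) ∧ mat (g * u * g⁻¹) = 1 + shM D (π i) (π j) (w i * c / w j) := by
  have hA : Adm (π i) (π j) := ⟨fun e => h.1 (π.injective e),
    fun e => h.2.1 (π.injective (e.trans (hπ j).symm)),
    fun e => h.2.2.1 (π.injective (e.trans (hπ i).symm)),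
    fun e => h.2.2.2 (π.injective (e.trans (hπ j).symm))⟩
  refine ⟨hA, sh_partner hD hA (d := w (rev j) * -(D.σ c * D.e i * D.e j) / w (rev i)) ?_⟩
  refine mono_conj (π := π) (w := w) hg hu ?_
  rw [← hπ, ← hπ, shM, mul_add, add_mul, mono_mul_single, mono_mul_single, single_mul_mono,
    single_mul_mono, div_mul_cancel₀ _ (hw j), div_mul_cancel₀ _ (hw (rev i))]

theorem lg_conj (hD : D.Good) {g u : D.group} {π : Equiv.Perm (Fin N)}
    (hπ : ∀ x, π (rev x) = rev (π x)) {w : Fin N → K} (hw : ∀ x, w x ≠ 0) (hg : mat g = mono π w)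
    {i : Fin N} {c : K} (hu : mat u = 1 + lgM i c) :
    mat (g * u * g⁻¹) = 1 + lgM (π i) (w i * c / w (rev i)) := by
  refine mono_conj (π := π) (w := w) hg hu ?_
  rw [lgM, lgM, ← hπ, mono_mul_single, single_mul_mono, div_mul_cancel₀ _ (hw (rev i))]

theorem md_conj (hD : D.Good) {g u : D.group} {π : Equiv.Perm (Fin N)}
    (hπ : ∀ x, π (rev x) = rev (π x)) {w : Fin N → K} (hw : ∀ x, w x ≠ 0) (hg : mat g = mono π w)
    {i j : Fin N} (hj : rev j = j) (h : i ≠ j) (h' : i ≠ rev i) {a b : K}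
    (hu : mat u = 1 + mdM D i j a b) :
    ∃ a' b', mat (g * u * g⁻¹) = 1 + mdM D (π i) (π j) a' b' ∧ b' + D.σ b' + a' * D.σ a' = 0 := by
  have hj' : rev (π j) = π j := by rw [← hπ, hj]
  have h1 : π i ≠ π j := fun e => h (π.injective e)
  have h1' : π i ≠ rev (π i) := fun e => h' (π.injective (e.trans (hπ i).symm))
  refine ⟨w i * a / w j, w i * b / w (rev i), ?_⟩
  have := md_partner hD hj' h1 h1' (g := g * u * g⁻¹) (a := w i * a / w j)
    (b := w i * b / w (rev i)) (d := w j * -D.σ a / w (rev i)) (by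
      refine mono_conj (π := π) (w := w) hg hu ?_
      rw [← hπ i, mdM, mul_add, mul_add, add_mul, add_mul, mono_mul_single, mono_mul_single,
        mono_mul_single, single_mul_mono, single_mul_mono, single_mul_mono,
        div_mul_cancel₀ _ (hw j), div_mul_cancel₀ _ (hw (rev i)), div_mul_cancel₀ _ (hw (rev i))])
  exact ⟨this.2, this.1⟩

theorem mono_one_eq {g : D.group} {w : Fin N → K} (h : mat g = Matrix.diagonal w) :
    mat g = mono 1 w := by rw [mono_one]; exact h

/-- The permutation swapping two mirror pairs. -/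
def ps (i k : Fin N) : Equiv.Perm (Fin N) :=
  if k = rev i then Equiv.swap i (rev i) else Equiv.swap i k * Equiv.swap (rev i) (rev k)

theorem swap_comm_apply {a b c d : Fin N} (h1 : a ≠ c) (h2 : a ≠ d) (h3 : b ≠ c) (h4 : b ≠ d)
    (y : Fin N) : Equiv.swap a b (Equiv.swap c d y) = Equiv.swap c d (Equiv.swap a b y) := by
  simp only [Equiv.swap_apply_def]
  split_ifs <;> simp_all

theorem rev_swap (a b x : Fin N) :
    rev (Equiv.swap a b x) = Equiv.swap (rev a) (rev b) (rev x) :=
  (Fin.rev_injective.swap_apply a b x).symm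

theorem ps_rev {i k : Fin N} (hi : i ≠ rev i) (hk : k ≠ rev k) (x : Fin N) :
    ps i k (rev x) = rev (ps i k x) := by
  unfold ps
  split_ifs with h
  · rw [rev_swap, Fin.rev_rev, Equiv.swap_comm (rev i) i]
  · simp only [Equiv.Perm.coe_mul, Function.comp_apply]
    rw [rev_swap, rev_swap, Fin.rev_rev, Fin.rev_rev]
    exact swap_comm_apply hi (fun e => h (by rw [e, Fin.rev_rev])) h hk _

theorem ps_self {i k : Fin N} (hi : i ≠ rev i) (hk : k ≠ rev k) : ps i k i = k := by
  unfold ps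
  split_ifs with h
  · rw [Equiv.swap_apply_left, h]
  · simp only [Equiv.Perm.coe_mul, Function.comp_apply]
    rw [Equiv.swap_apply_of_ne_of_ne hi (fun e => h (by rw [e, Fin.rev_rev])),
      Equiv.swap_apply_left]

theorem ps_fix {i k x : Fin N} (h1 : x ≠ i) (h2 : x ≠ rev i) (h3 : x ≠ k) (h4 : x ≠ rev k) :
    ps i k x = x := by
  unfold ps
  split_ifs with h
  · exact Equiv.swap_apply_of_ne_of_ne h1 h2
  · simp only [Equiv.Perm.coe_mul, Function.comp_apply]
    rw [Equiv.swap_apply_of_ne_of_ne h2 h4, Equiv.swap_apply_of_ne_of_ne h1 h3]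

theorem exists_weylG (hD : D.Good) (π : Equiv.Perm (Fin N)) (hπ : ∀ x, π (rev x) = rev (π x)) :
    ∃ (g : D.group) (w : Fin N → K), (∀ x, w x ≠ 0) ∧ mat g = mono π w := by
  obtain ⟨g, hg, w, hw, hgv⟩ := exists_weyl hD π hπ
  exact ⟨⟨g, hg⟩, w, hw, hgv⟩

theorem exists_torusG (hD : D.Good) {i j : Fin N} (h : Adm i j) {t u : K} (ht : t ≠ 0) (hu : u ≠ 0)
    (hdet : t * (D.σ t)⁻¹ * (u * (D.σ u)⁻¹) = 1) :
    ∃ (g : D.group) (w : Fin N → K), (∀ x, w x ≠ 0) ∧ mat g = mono 1 w ∧ w i = t ∧ w j = u ∧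
      w (rev i) = (D.σ t)⁻¹ ∧ w (rev j) = (D.σ u)⁻¹ := by
  obtain ⟨g, hg, w, hw, hgv, h'⟩ := exists_torus hD h ht hu hdet
  exact ⟨⟨g, hg⟩, w, hw, by rw [mono_one]; exact hgv, h'⟩

/-- Over a finite field every element is a sum of two squares. -/
theorem exists_sq_add (K : Type*) [Field K] [Finite K] (r : K) : ∃ a b : K, r = a * a + b * b := by
  have := Fintype.ofFinite K
  by_cases h2 : (2 : K) = 0
  · have : CharP K 2 := CharTwo.of_one_ne_zero_of_two_eq_zero one_ne_zero h2
    obtain ⟨u, hu⟩ := FiniteField.isSquare_of_char_two (ringChar.eq K 2) r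
    exact ⟨u, 0, by rw [hu]; ring⟩
  · obtain ⟨u, v, h⟩ := CfsgLib.Classical.SemiNorm.exists_binary_field (0 : K) 1 (by
      have : (4 : K) ≠ 0 := by
        rw [show (4 : K) = 2 * 2 by norm_num]; exact mul_ne_zero h2 h2
      simpa using this) r
    exact ⟨u, v, by rw [← h]; ring⟩

variable [Fintype K]

/-! ### The centre of the unitriangular subgroup -/

/-- Commuting with `1 + M` is commuting with `M`. -/
theorem commute_entry {x u : D.group} (h : x * u = u * x) {M : Matrix (Fin N) (Fin N) K}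
    (hu : mat u = 1 + M) (a b : Fin N) : (M * mat x) a b = (mat x * M) a b := by
  have h1 := congrArg mat h
  rw [mat_mul, mat_mul, hu, mul_add, add_mul, one_mul, mul_one] at h1
  have h2 : mat x * M = M * mat x := add_left_cancel h1
  exact (congrFun (congrFun h2 a) b).symm

theorem center_shape (p : ℕ) [Fact p.Prime] [CharP K p] (hD : D.Good) (h4 : 4 ≤ N) {i0 i1 : Fin N}
    (h0 : (i0 : ℕ) = 0) (h1 : (i1 : ℕ) = 1) {x : D.group} (hx : x ∈ U D)
    (hc : ∀ u ∈ U D, x * u = u * x) :
    ∃ t s, s + D.η * D.σ s = 0 ∧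
      mat x = (1 + shM D i0 (rev i1) t) * (1 + lgM i0 s) ∧
      (((2 : K) ≠ 0 ∨ ∃ c, D.σ c ≠ c) → t = 0) := by
  have hN := h4
  set L := rev i0 with hL
  have hLv : (L : ℕ) = N - 1 := by rw [hL, rev_val]; omega
  have hi1' : (rev i1 : ℕ) = N - 2 := by rw [rev_val]; omega
  set X := mat x with hX
  have hXU : IsUni X := hx
  have ne : ∀ {u v : Fin N}, (u : ℕ) ≠ v → u ≠ v := fun h e => h (congrArg Fin.val e)
  -- rows `1 .. N - 2` are trivial off the last column
  have hrowA : ∀ j b : Fin N, 1 ≤ (j : ℕ) → (j : ℕ) + 2 ≤ N → b ≠ j → b ≠ L → X j b = 0 := by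
    intro j b hj hj' hbj hbL
    have hj0 : i0 < j := Fin.lt_def.2 (by omega)
    by_cases hm : rev j = j
    · obtain ⟨-, hex⟩ := hD.mid j hm
      obtain ⟨b0, hb0⟩ := hex 1
      have hij : i0 ≠ rev i0 := ne (by rw [rev_val]; omega)
      obtain ⟨u, hu, -⟩ := exists_mdG p hD hm hj0.ne hij hb0
      have h := commute_entry (hc u (md_mem_U hm hj0 hu)) hu i0 b
      rw [mdM] at h
      simp only [add_mul, mul_add, Matrix.add_apply, single_mul_apply', mul_single_apply', if_true] at h
      rw [if_neg hj0.ne, if_neg hbj, if_neg hbL, if_neg hbL,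
        show mat x (rev i0) b = 0 from IsUni.lower hXU _ _ (Fin.lt_def.2 (by
          have := Fin.val_ne_of_ne hbL; rw [← hL]; omega))] at h
      simpa using h
    · have hadm : Adm i0 j := ⟨hj0.ne, ne (by rw [rev_val]; omega), ne (by rw [rev_val]; omega),
        Ne.symm hm⟩
      obtain ⟨u, hu, -⟩ := exists_shG p hD hadm 1
      have h := commute_entry (hc u (sh_mem_U hj0 hu)) hu i0 b
      rw [shM] at h
      simp only [add_mul, mul_add, Matrix.add_apply, single_mul_apply', mul_single_apply', if_true] at h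
      rw [if_neg hadm.2.1, if_neg hbj, if_neg hbL] at h
      simpa using h
  -- rows `2 .. N - 2` are trivial in the last column
  have hrowB : ∀ j : Fin N, 2 ≤ (j : ℕ) → (j : ℕ) + 2 ≤ N → X j L = 0 := by
    intro j hj hj'
    have hi1j : i1 < j := Fin.lt_def.2 (by omega)
    have h11 : i1 < rev i1 := Fin.lt_def.2 (by omega)
    have hL1' : L ≠ rev i1 := ne (by omega)
    by_cases hj1 : j = rev i1
    · subst hj1
      obtain ⟨th, hth0, hth⟩ := hD.theta
      obtain ⟨u, hu, -⟩ := exists_lgG p hD h11.ne hth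
      have h := commute_entry (hc u (lg_mem_U h11 hu)) hu i1 L
      rw [lgM, single_mul_apply', mul_single_apply', if_pos rfl, if_neg hL1'] at h
      exact (mul_eq_zero.1 h).resolve_left hth0
    by_cases hm : rev j = j
    · obtain ⟨-, hex⟩ := hD.mid j hm
      obtain ⟨b0, hb0⟩ := hex 1
      obtain ⟨u, hu, -⟩ := exists_mdG p hD hm hi1j.ne h11.ne hb0
      have h := commute_entry (hc u (md_mem_U hm hi1j hu)) hu i1 L
      rw [mdM] at h
      simp only [add_mul, mul_add, Matrix.add_apply, single_mul_apply', mul_single_apply', if_true] at h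
      rw [if_neg hi1j.ne, if_neg (ne (by omega) : L ≠ j), if_neg hL1',
        if_neg hL1'] at h
      by_cases hb : mat x (rev i1) L = 0
      · simpa [hb] using h
      · exfalso
        obtain ⟨th, hth0, hth⟩ := hD.theta
        obtain ⟨u, hu, -⟩ := exists_lgG p hD h11.ne hth
        have h' := commute_entry (hc u (lg_mem_U h11 hu)) hu i1 L
        rw [lgM, single_mul_apply', mul_single_apply', if_pos rfl, if_neg hL1'] at h'
        exact hb ((mul_eq_zero.1 h').resolve_left hth0)
    · have hadm : Adm i1 j := ⟨hi1j.ne, fun e => hj1 (by rw [e, Fin.rev_rev]), h11.ne, Ne.symm hm⟩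
      obtain ⟨u, hu, -⟩ := exists_shG p hD hadm 1
      have h := commute_entry (hc u (sh_mem_U hi1j hu)) hu i1 L
      rw [shM] at h
      simp only [add_mul, mul_add, Matrix.add_apply, single_mul_apply', mul_single_apply', if_true] at h
      rw [if_neg hadm.2.1, if_neg (ne (by omega) : L ≠ j), if_neg hL1'] at h
      simpa using h
  have hrowD : ∀ j b : Fin N, 2 ≤ (j : ℕ) → (j : ℕ) + 2 ≤ N → b ≠ j → X j b = 0 := fun j b hj hj' hb => by
    by_cases hbL : b = L
    · rw [hbL]; exact hrowB j hj hj'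
    · exact hrowA j b (by omega) hj' hb hbL
  have hrow0 : ∀ b : Fin N, 1 ≤ (b : ℕ) → (b : ℕ) + 3 ≤ N → X i0 b = 0 := by
    intro b hb hb'
    have h := row_rel hD x i0 (rev b)
    rw [← hX, if_neg (fun e => by
        have := congrArg Fin.val (Fin.rev_injective e); omega),
      Finset.sum_eq_single b (fun y _ hy => by
        rw [hrowD (rev b) (rev y) (by rw [rev_val]; omega) (by rw [rev_val]; omega)
          (fun e => hy (Fin.rev_injective e)), map_zero, mul_zero]) (by simp),
      hXU.diag, map_one, mul_one] at h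
    exact (mul_eq_zero.1 h).resolve_right (hD.e_ne b)
  set t := X i0 (rev i1) with ht
  set s := X i0 L with hs
  set t' := X i1 L with ht'
  have h01 : i0 ≠ rev i1 := ne (by omega)
  have h0L : i0 ≠ L := ne (by omega)
  have hrow0' : ∀ b : Fin N, b ≠ i0 → b ≠ rev i1 → b ≠ L → X i0 b = 0 := fun b b1 b2 b3 => by
    have := Fin.val_ne_of_ne b1
    have := Fin.val_ne_of_ne b2
    have := Fin.val_ne_of_ne b3
    exact hrow0 b (by omega) (by omega)
  have hcond : s + D.η * D.σ s = 0 := by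
    have h := row_rel hD x i0 i0
    rw [← hX, ← hL, if_neg h0L, Fintype.sum_eq_add i0 L h0L (fun y hy => by
      by_cases h : y = rev i1
      · subst h
        rw [Fin.rev_rev, hrow0' i1 (ne (by omega)) (ne (by omega)) (ne (by omega)), map_zero,
          mul_zero]
      · rw [hrow0' y hy.1 h hy.2, zero_mul, zero_mul]),
      hXU.diag, one_mul, ← hL, hL, Fin.rev_rev, ← hL, hXU.diag, map_one, mul_one, ← hs, hL,
      hD.heta] at h
    linear_combination (D.η * D.e i0) * h - (s * D.η * D.η) * hD.e_mul_self i0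
      - (D.η * D.σ s) * hD.e_mul_self i0 - s * hD.eta_mul_self
  have ht'eq : t' = -(D.σ t * D.e i0 * D.e (rev i1)) := by
    have h := row_rel hD x i0 i1
    rw [← hX, if_neg (ne (by omega) : i1 ≠ rev i0), Fintype.sum_eq_add i0 (rev i1) h01 (fun y hy => by
      by_cases h : y = L
      · subst h
        rw [hL, Fin.rev_rev, show X i1 i0 = 0 from hXU.lower _ _ (Fin.lt_def.2 (by omega)), map_zero,
          mul_zero]
      · rw [hrow0' y hy.1 hy.2 h, zero_mul, zero_mul]),
      hXU.diag, one_mul, ← hL, ← ht', Fin.rev_rev, hXU.diag, map_one, mul_one, ← ht] at h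
    have h2 : D.σ t' = -(t * D.e i0 * D.e (rev i1)) := by
      linear_combination D.e i0 * h - D.σ t' * hD.e_mul_self i0
    rw [← hD.hσ t', h2, map_neg, map_mul, map_mul, hD.σ_e, hD.σ_e]
  refine ⟨t, s, hcond, ?_, fun hk => ?_⟩
  · rw [add_mul, one_mul, mul_add, mul_one, shM, lgM, add_mul,
      sne (ne (by omega) : rev i1 ≠ i0),
      sne (h0L.symm), add_zero, add_zero, Fin.rev_rev]
    ext a b
    simp only [Matrix.add_apply, Matrix.single_apply, Matrix.one_apply]
    rcases le_or_gt b a with hba | hba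
    · rw [hXU a b hba,
        if_neg (show ¬(i0 = a ∧ rev i0 = b) from fun e => by
          rw [← e.1, ← e.2, ← hL] at hba; have := Fin.le_def.1 hba; omega),
        if_neg (show ¬(i0 = a ∧ rev i1 = b) from fun e => by
          rw [← e.1, ← e.2] at hba; have := Fin.le_def.1 hba; omega),
        if_neg (show ¬(i1 = a ∧ rev i0 = b) from fun e => by
          rw [← e.1, ← e.2, ← hL] at hba; have := Fin.le_def.1 hba; omega)]
      simp
    rw [if_neg hba.ne]
    have hbav := Fin.lt_def.1 hba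
    have hbN := b.2
    by_cases ha0 : a = i0
    · subst ha0
      by_cases hbL : b = L
      · subst hbL
        simp [← hL, ← hs, h0L, h01, ne (show (rev i1 : ℕ) ≠ L by omega), ne (show (i1 : ℕ) ≠ a by omega)]
      by_cases hb1 : b = rev i1
      · subst hb1
        simp [← ht, ← hL, ne (show (L : ℕ) ≠ rev i1 by omega), ne (show (i1 : ℕ) ≠ a by omega)]
      rw [hrow0' b hba.ne' hb1 hbL]
      simp [← hL, Ne.symm hb1, Ne.symm hbL]
    · by_cases ha1 : a = i1
      · subst ha1
        by_cases hbL : b = L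
        · subst hbL
          simp [← hL, ← ht', ht'eq, ne (show (i0 : ℕ) ≠ a by omega)]
        · rw [hrowA a b (by omega) (by omega) hba.ne' hbL]
          simp [← hL, Ne.symm hbL, ne (show (i0 : ℕ) ≠ a by omega)]
      · have := Fin.val_ne_of_ne ha0
        have := Fin.val_ne_of_ne ha1
        rw [hrowD a b (by omega) (by omega) hba.ne']
        simp [Ne.symm ha0, Ne.symm ha1]
  · have h01' : i0 < i1 := Fin.lt_def.2 (by omega)
    have hadm : Adm i0 i1 := ⟨h01'.ne, h01, h0L, ne (by omega)⟩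
    have hcomm : ∀ c : K, c * t' = -(D.σ c * D.e i0 * D.e i1) * t := by
      intro c
      obtain ⟨u, hu, -⟩ := exists_shG p hD hadm c
      have h := commute_entry (hc u (sh_mem_U h01' hu)) hu i0 L
      rw [shM] at h
      simp only [add_mul, mul_add, Matrix.add_apply, single_mul_apply', mul_single_apply', if_true] at h
      rw [if_neg h01, if_neg (ne (by omega) : L ≠ i1), if_pos hL, add_zero,
        zero_add, ← hX, ← ht, ← ht'] at h
      linear_combination h
    have h1c := hcomm 1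
    rw [map_one, ht'eq, hD.heta] at h1c
    have hσt : D.σ t = D.η * t := by
      linear_combination (-(D.η * D.e i0 * D.e i1)) * h1c
        - (D.σ t * D.η * D.η * D.e i1 * D.e i1 - D.η * t * D.e i1 * D.e i1) * hD.e_mul_self i0
        - (D.σ t * D.η * D.η - D.η * t) * hD.e_mul_self i1 - D.σ t * hD.eta_mul_self
    rcases hD.kind with ⟨hη, c, hc'⟩ | ⟨hη, hσ⟩
    · have h2 := hcomm c
      rw [ht'eq, hD.heta, hσt, hη] at h2
      have h3 : (D.σ c - c) * t = 0 := by
        linear_combination (D.e i0 * D.e i1) * h2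
          + ((c - D.σ c) * t * (D.e i1 * D.e i1)) * hD.e_mul_self i0
          + ((c - D.σ c) * t) * hD.e_mul_self i1
      exact (mul_eq_zero.1 h3).resolve_left (sub_ne_zero.2 hc')
    · rcases hk with hk | ⟨c, hc'⟩
      · rw [hσ, hη] at hσt
        have h3 : 2 * t = 0 := by linear_combination hσt
        exact (mul_eq_zero.1 h3).resolve_left hk
      · exact absurd (hσ c) hc'

/-! ### Root elements in a strongly closed subgroup -/

theorem sh_add (hD : D.Good) {i j : Fin N} (h : Adm i j) {x y : D.group} {c c' : K}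
    (hx : mat x = 1 + shM D i j c) (hy : mat y = 1 + shM D i j c') :
    mat (x * y) = 1 + shM D i j (c + c') := by
  obtain ⟨h1, h2, h3, h4⟩ := h
  have h1' : rev i ≠ rev j := fun h' => h1 (Fin.rev_injective h')
  rw [mat_mul, hx, hy, shM, shM, shM, map_add]
  simp only [mul_add, add_mul, mul_one, one_mul, sne h1.symm, sne h4, sne h3.symm, sne h1',
    add_zero, zero_add, single_add, add_mul, neg_add]
  abel

theorem lg_add {i : Fin N} (h : i ≠ rev i) {x y : D.group} {c c' : K}
    (hx : mat x = 1 + lgM i c) (hy : mat y = 1 + lgM i c') :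
    mat (x * y) = 1 + lgM i (c + c') := by
  rw [mat_mul, hx, hy, lgM, lgM, lgM, single_add]
  simp only [mul_add, add_mul, mul_one, one_mul, sne h.symm, add_zero]
  abel

/-- The commutator identity of `x_{01}(a)` with a long root element. -/
theorem sh_lg_ident (hD : D.Good) {i j : Fin N} (h : Adm i j) (a th : K)
    (hth : th + D.η * D.σ th = 0) :
    (1 + shM D i j a) * (1 + lgM j th) =
      (1 + shM D i (rev j) (a * th)) * (1 + lgM i (D.e i * D.e j * (a * D.σ a * th))) *
        (1 + lgM j th) * (1 + shM D i j a) := by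
  obtain ⟨h1, h2, h3, h4⟩ := h
  have h2' : rev i ≠ j := fun h' => h2 (by rw [← h', Fin.rev_rev])
  have h1' : rev i ≠ rev j := fun h' => h1 (Fin.rev_injective h')
  have hd : -(D.σ (a * th) * D.e i * D.e (rev j)) = D.σ a * D.e i * D.e j * th := by
    rw [map_mul, hD.heta]
    linear_combination (-(D.σ a * D.e i * D.e j)) * hth
  simp only [shM, lgM, hd, Fin.rev_rev]
  simp only [mul_add, add_mul, mul_one, one_mul, sne h1.symm, sne h4, sne h3.symm, sne h1', sne h1,
    sne h2, sne h2.symm, sne h2', sne h2'.symm, sne h4.symm, sne h1'.symm, sne h3,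
    single_mul_single_same, add_zero, zero_add, zero_mul, mul_zero]
  ext x y
  simp only [Matrix.add_apply, Matrix.single_apply]
  split_ifs <;>
    first
    | ring1
    | (exfalso; simp_all)

/-- The commutator identity of a short root element with one through the middle. -/
theorem sh_md_ident (hD : D.Good) {i j o : Fin N} (ho : rev o = o) (h : Adm i j) (a b : K)
    (hb : b + D.σ b + a * D.σ a = 0) :
    (1 + shM D i j 1) * (1 + mdM D j o a b) =
      (1 + mdM D i o a b) * (1 + shM D i (rev j) (-D.σ b)) * (1 + mdM D j o a b) *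
        (1 + shM D i j 1) := by
  obtain ⟨h1, h2, h3, h4⟩ := h
  have he := (hD.mid o ho).1
  have h2' : rev i ≠ j := fun h' => h2 (by rw [← h', Fin.rev_rev])
  have h1' : rev i ≠ rev j := fun h' => h1 (Fin.rev_injective h')
  have oi : o ≠ i := fun e => h3 (by rw [← e, ho])
  have oj : o ≠ j := fun e => h4 (by rw [← e, ho])
  have oi' : o ≠ rev i := fun e => oi (by rw [← ho, e, Fin.rev_rev])
  have oj' : o ≠ rev j := fun e => oj (by rw [← ho, e, Fin.rev_rev])
  have hd : -(D.σ (-D.σ b) * D.e i * D.e (rev j)) = b := by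
    rw [map_neg, hD.hσ, he, he]; ring
  simp only [shM, mdM, hd]
  simp only [Fin.rev_rev, map_one, he, one_mul, mul_one]
  simp only [mul_add, add_mul, mul_one, one_mul, sne h1.symm, sne h4, sne h3.symm, sne h1', sne h1,
    sne h2, sne h2.symm, sne h2', sne h2'.symm, sne h4.symm, sne h1'.symm, sne h3,
    sne oi, sne oi.symm, sne oj, sne oj.symm, sne oi', sne oi'.symm, sne oj', sne oj'.symm,
    single_mul_single_same, add_zero, zero_add, zero_mul, mul_zero]
  have hσb : D.σ b = -(b + a * D.σ a) := by linear_combination hb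
  simp only [hσb, neg_neg, neg_mul, mul_neg, mul_one, neg_add, Matrix.single_add, ← Matrix.single_neg]
  abel

/-- The identity used over the field with two elements. -/
theorem two_ident (h2 : (2 : K) = 0) {i j k : Fin N} (hij : i ≠ j) (hik : i ≠ k) (hjk : j ≠ k)
    (hij' : i ≠ rev j) (hik' : i ≠ rev k) (hjk' : j ≠ rev k) (hi : i ≠ rev i) (hj : j ≠ rev j)
    (hk : k ≠ rev k) :
    (1 + (single j k (1 : K) + single (rev k) (rev j) 1)) *
        (1 + (single i (rev k) 1 + single k (rev i) 1 + single k (rev k) 1)) =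
      (1 + (single j (rev k) 1 + single k (rev j) 1)) *
          (1 + (single i (rev j) 1 + single j (rev i) 1 + single j (rev j) 1)) *
          (1 + (single i (rev k) 1 + single k (rev i) 1 + single k (rev k) 1)) *
        (1 + (single j k (1 : K) + single (rev k) (rev j) 1)) := by
  have r : ∀ {u v : Fin N}, u ≠ v → rev u ≠ rev v := fun h e => h (Fin.rev_injective e)
  have r' : ∀ {u v : Fin N}, u ≠ rev v → rev u ≠ v := fun h e => h (by rw [← e, Fin.rev_rev])
  simp only [mul_add, add_mul, mul_one, one_mul, sne hij, sne hij.symm, sne hik, sne hik.symm,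
    sne hjk, sne hjk.symm, sne hij', sne hij'.symm, sne hik', sne hik'.symm, sne hjk',
    sne hjk'.symm, sne hi, sne hi.symm, sne hj, sne hj.symm, sne hk, sne hk.symm, sne (r hij),
    sne (r hij).symm, sne (r hik), sne (r hik).symm, sne (r hjk), sne (r hjk).symm, sne (r' hij'),
    sne (r' hij').symm, sne (r' hik'), sne (r' hik').symm, sne (r' hjk'), sne (r' hjk').symm,
    single_mul_single_same, add_zero, zero_add, zero_mul, mul_zero]
  have e : ∀ X : Matrix (Fin N) (Fin N) K, X + X = 0 := fun X => by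
    rw [← two_smul K, h2, zero_smul]
  rw [← sub_eq_zero]
  refine Eq.trans ?_ (neg_eq_zero.2 (e (single k (rev j) 1 + single i (rev j) 1 + single j (rev j) 1)))
  abel

theorem noStronglyClosed (p : ℕ) [Fact p.Prime] [CharP K p] (hD : D.Good) (h4 : 4 ≤ N) :
    NoStronglyClosed (U D) := by
  intro T hT hTc
  refine or_iff_not_imp_left.2 fun hT0 => le_antisymm hT ?_
  have hN := h4
  set i0 : Fin N := ⟨0, by omega⟩ with hi0
  set i1 : Fin N := ⟨1, by omega⟩ with hi1
  have h0v : (i0 : ℕ) = 0 := rfl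
  have h1v : (i1 : ℕ) = 1 := rfl
  have ne : ∀ {u v : Fin N}, (u : ℕ) ≠ v → u ≠ v := fun h e => h (congrArg Fin.val e)
  have h00 : i0 < rev i0 := Fin.lt_def.2 (by rw [rev_val]; omega)
  have h11 : i1 < rev i1 := Fin.lt_def.2 (by rw [rev_val]; omega)
  have h01 : i0 < i1 := Fin.lt_def.2 (by omega)
  have h01' : i0 < rev i1 := h01.trans h11
  have hA : Adm i0 i1 := ⟨h01.ne, h01'.ne, h00.ne, h11.ne⟩
  have hA' : Adm i0 (rev i1) := ⟨h01'.ne, by rw [Fin.rev_rev]; exact h01.ne, h00.ne,
    by rw [Fin.rev_rev]; exact h11.ne'⟩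
  have hback : ∀ (g X : D.group), X ∈ U D → g * X * g⁻¹ ∈ T → X ∈ T := fun g X hX hgX => by
    have e : g⁻¹ * (g * X * g⁻¹) * g⁻¹⁻¹ = X := by group
    exact e ▸ hTc _ hgX g⁻¹ (e.symm ▸ hX)
  have hnorm : ∀ x ∈ T, ∀ u ∈ U D, u * x * u⁻¹ ∈ T := fun x hx u hu =>
    hTc x hx u (mul_mem (mul_mem hu (hT hx)) (inv_mem hu))
  have hmul1 : ∀ {X : D.group}, mat X = 1 → X ∈ T := fun {X} h => by
    rw [show X = 1 from mat_inj (h.trans mat_one.symm)]; exact one_mem T
  have sσ : ∀ {z : K}, z ≠ 0 → D.σ z ≠ 0 := fun {z} hz h0 => hz (by rw [← hD.hσ z, h0, map_zero])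
  -- one long root element gives the whole long root group
  have hLscal : ∀ (y : D.group) (c : K), c ≠ 0 → y ∈ T → mat y = 1 + lgM i0 c →
      ∀ (X : D.group) (d : K), mat X = 1 + lgM i0 d → X ∈ T := by
    intro y c hc hy hmy X d hX
    have hcc := lg_cond hD h00.ne hmy
    have hdd := lg_cond hD h00.ne hX
    have h1 : ∀ a : K, ∃ Y ∈ T, mat Y = 1 + lgM i0 (a * D.σ a * c) := by
      intro a
      rcases eq_or_ne a 0 with rfl | ha
      · exact ⟨1, one_mem T, by rw [mat_one]; simp [lgM]⟩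
      obtain ⟨g, w, hw, hg, w0, w1, w0', -⟩ := exists_torusG hD hA ha (inv_ne_zero ha) (by
        rw [map_inv₀, inv_inv]; field_simp [sσ ha])
      have hm := lg_conj hD (π := 1) (fun _ => rfl) hw hg hmy
      rw [Equiv.Perm.one_apply, w0, w0', div_inv_eq_mul] at hm
      exact ⟨_, hTc y hy g (lg_mem_U h00 hm), by rw [hm]; ring_nf⟩
    obtain ⟨a, b, hab⟩ := hD.norm (d / c) (by
      have e1 : D.σ c = -(D.η * c) := by linear_combination D.η * hcc - D.σ c * hD.eta_mul_self
      have e2 : D.σ d = -(D.η * d) := by linear_combination D.η * hdd - D.σ d * hD.eta_mul_self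
      have hη : D.η ≠ 0 := by rcases hD.hη with h | h <;> rw [h] <;> simp
      rw [map_div₀, e1, e2]
      field_simp)
    obtain ⟨Y, hY, hmY⟩ := h1 a
    obtain ⟨Z, hZ, hmZ⟩ := h1 b
    have : X = Y * Z := mat_inj (by
      rw [hX, lg_add h00.ne hmY hmZ, ← add_mul, ← hab, div_mul_cancel₀ _ hc])
    rw [this]; exact mul_mem hY hZ
  -- one short root element gives all short root groups
  have hS : ∀ (y : D.group) (i j : Fin N) (c : K), Adm i j → i < j → c ≠ 0 → y ∈ T →
      mat y = 1 + shM D i j c →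
      ∀ (k l : Fin N) (X : D.group) (d : K), Adm k l → k < l → mat X = 1 + shM D k l d → X ∈ T := by
    have hmove : ∀ (k l : Fin N), Adm k l → ∃ π : Equiv.Perm (Fin N),
        (∀ x, π (rev x) = rev (π x)) ∧ π k = i0 ∧ π l = rev i1 := by
      intro k l hkl
      have hr1 := ps_rev hkl.2.2.1 h00.ne
      set j1 := ps k i0 l with hj1
      have hs := ps_self hkl.2.2.1 h00.ne
      have hj : j1 ≠ rev j1 := fun e => hkl.2.2.2 ((ps k i0).injective (e.trans (hr1 l).symm))
      have hr2 := ps_rev (i := j1) (k := rev i1) hj (by rw [Fin.rev_rev]; exact h11.ne')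
      refine ⟨ps j1 (rev i1) * ps k i0, fun x => by
        simp only [Equiv.Perm.coe_mul, Function.comp_apply, hr1, hr2], ?_, ?_⟩
      · simp only [Equiv.Perm.coe_mul, Function.comp_apply, hs]
        refine ps_fix (fun e => hkl.1 ((ps k i0).injective (hs.trans e)))
          (fun e => hkl.2.1 ((ps k i0).injective ?_)) h01'.ne (by rw [Fin.rev_rev]; exact h01.ne)
        rw [hr1, ← hj1, hs, e]
      · simp only [Equiv.Perm.coe_mul, Function.comp_apply, ← hj1]
        exact ps_self hj (by rw [Fin.rev_rev]; exact h11.ne')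
    intro y i j c hij hlt hc hy hmy k l X d hkl hkl' hX
    -- to the base position
    obtain ⟨π, hπ, hπi, hπj⟩ := hmove i j hij
    obtain ⟨g, w, hw, hg⟩ := exists_weylG hD π hπ
    obtain ⟨-, hm⟩ := sh_conj hD hπ hw hg hij hmy
    rw [hπi, hπj] at hm
    have hy' : g * y * g⁻¹ ∈ T := hTc y hy g (sh_mem_U h01' hm)
    set c0 := w i * c / w j with hc0
    have hc0' : c0 ≠ 0 := div_ne_zero (mul_ne_zero (hw i) hc) (hw j)
    have h1 : ∀ a : K, ∃ Y ∈ T, mat Y = 1 + shM D i0 (rev i1) (a * a * c0) := by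
      intro a
      rcases eq_or_ne a 0 with rfl | ha
      · exact ⟨1, one_mem T, by rw [mat_one]; simp [shM]⟩
      obtain ⟨g', w', hw', hg', w0, w1, -, -⟩ := exists_torusG hD hA' ha (inv_ne_zero ha) (by
        rw [map_inv₀, inv_inv]; field_simp [sσ ha])
      obtain ⟨-, hm'⟩ := sh_conj hD (π := 1) (fun _ => rfl) hw' hg' hA' hm
      simp only [Equiv.Perm.one_apply, w0, w1, div_inv_eq_mul] at hm'
      exact ⟨_, hTc _ hy' g' (sh_mem_U h01' hm'), by rw [hm']; ring_nf⟩
    obtain ⟨ρ, hρ, hρk, hρl⟩ := hmove k l hkl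
    obtain ⟨g', w', hw', hg'⟩ := exists_weylG hD ρ hρ
    obtain ⟨-, hm'⟩ := sh_conj hD hρ hw' hg' hkl hX
    rw [hρk, hρl] at hm'
    obtain ⟨a, b, hab⟩ := exists_sq_add K (w' k * d / w' l / c0)
    obtain ⟨Y, hY, hmY⟩ := h1 a
    obtain ⟨Z, hZ, hmZ⟩ := h1 b
    refine hback g' X (sh_mem_U hkl' hX) ?_
    have : g' * X * g'⁻¹ = Y * Z := mat_inj (by
      rw [hm', sh_add hD hA' hmY hmZ, ← add_mul, ← hab, div_mul_cancel₀ _ hc0'])
    rw [this]; exact mul_mem hY hZ
  -- a nontrivial central element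
  haveI : Group.IsNilpotent (U D) := (isPGroup_U (p := p) hD).isNilpotent
  haveI : (T.subgroupOf (U D)).Normal := ⟨fun x hx g =>
    hTc x.1 hx g.1 (mul_mem (mul_mem g.2 x.2) (inv_mem g.2))⟩
  have hne := CfsgLib.Solvable.normal_inf_center_ne_bot (T.subgroupOf (U D)) (fun h => hT0 (by
    rw [Subgroup.subgroupOf_eq_bot] at h
    exact h.eq_bot_of_le hT))
  obtain ⟨⟨z, hzU⟩, hz, hz1⟩ := ((Subgroup.ne_bot_iff_exists_ne_one).1 hne : _)|> fun ⟨y, hy⟩ =>
    (⟨y.1, y.2, fun h => hy (Subtype.ext h)⟩ : ∃ x, x ∈ T.subgroupOf (U D) ⊓ center _ ∧ x ≠ 1)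
  have hzT : z ∈ T := hz.1
  have hz1' : z ≠ 1 := fun h => hz1 (Subtype.ext h)
  obtain ⟨t, s, hs, hzm, hts⟩ := center_shape p hD h4 h0v h1v hzU fun u hu =>
    congrArg Subtype.val (Subgroup.mem_center_iff.1 hz.2 ⟨u, hu⟩).symm
  -- the long root subgroup at the first position
  obtain ⟨th, hth0, hth⟩ := hD.theta
  obtain ⟨u1, hu1, -⟩ := exists_lgG p hD h11.ne hth
  obtain ⟨s1, hs1, -⟩ := exists_shG p hD hA 1
  obtain ⟨S1, hS1, -⟩ := exists_shG p hD hA' (1 * th)
  obtain ⟨L1, hL1, -⟩ := exists_lgG p hD (c := D.e i0 * D.e i1 * (1 * D.σ 1 * th)) h00.ne (by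
    rw [map_one, map_mul, map_mul, map_mul, map_mul, map_one, hD.σ_e, hD.σ_e]
    linear_combination (D.e i0 * D.e i1) * hth)
  have hid : s1 * u1 = S1 * L1 * u1 * s1 := mat_inj (by
    simp only [mat_mul, hs1, hu1, hS1, hL1]
    exact sh_lg_ident hD hA 1 th hth)
  have hcom : S1 * L1 = s1 * u1 * s1⁻¹ * u1⁻¹ := by rw [hid]; group
  have hshlong : (∀ (k l : Fin N) (X : D.group) (d : K), Adm k l → k < l →
      mat X = 1 + shM D k l d → X ∈ T) →
      ∃ (y : D.group) (c : K), c ≠ 0 ∧ y ∈ T ∧ mat y = 1 + lgM i0 c := by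
    intro hall
    have hs1T := hall _ _ s1 _ hA h01 hs1
    have hS1T := hall _ _ S1 _ hA' h01' hS1
    refine ⟨L1, _, ?_, ?_, hL1⟩
    · simp [hD.e_ne, hth0]
    · have h2 : s1 * (u1 * s1⁻¹ * u1⁻¹) ∈ T :=
        mul_mem hs1T (hnorm _ (inv_mem hs1T) u1 (lg_mem_U h11 hu1))
      rw [show s1 * (u1 * s1⁻¹ * u1⁻¹) = S1 * L1 by rw [hcom]; group] at h2
      simpa using mul_mem (inv_mem hS1T) h2
  have hlong : ∃ (y : D.group) (c : K), c ≠ 0 ∧ y ∈ T ∧ mat y = 1 + lgM i0 c := by
    by_cases ht : t = 0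
    · refine ⟨z, s, fun h => hz1' (mat_inj ?_), hzT, ?_⟩ <;> subst ht
      · rw [hzm, h, mat_one]; simp [shM, lgM]
      · rw [hzm]; simp [shM]
    have h2 : (2 : K) = 0 := by
      by_contra h; exact ht (hts (Or.inl h))
    have hσ : ∀ c, D.σ c = c := fun c => by
      by_contra h; exact ht (hts (Or.inr ⟨c, h⟩))
    by_cases hs0 : s = 0
    · exact hshlong (hS z i0 (rev i1) t hA' h01' ht hzT (by rw [hzm, hs0]; simp [lgM]))
    by_cases hl : ∃ l : K, l ≠ 0 ∧ l ≠ 1
    · obtain ⟨l, hl0, hl1⟩ := hl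
      obtain ⟨g, w, hw, hg, w0, w1, w0', w1'⟩ := exists_torusG hD hA hl0 (inv_ne_zero hl0) (by
        rw [map_inv₀, inv_inv]; field_simp [sσ hl0])
      obtain ⟨a, ha, -⟩ := exists_shG p hD hA' t
      obtain ⟨b, hb, -⟩ := exists_lgG p hD h00.ne hs
      have hzab : z = a * b := mat_inj (by rw [hzm, mat_mul, ha, hb])
      obtain ⟨-, hca⟩ := sh_conj hD (π := 1) (fun _ => rfl) hw hg hA' ha
      have hcb := lg_conj hD (π := 1) (fun _ => rfl) hw hg hb
      simp only [Equiv.Perm.one_apply, w0, w1', w0', hσ, inv_inv] at hca hcb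
      rw [mul_div_cancel_left₀ _ hl0] at hca
      rw [div_inv_eq_mul] at hcb
      have hga : g * a * g⁻¹ = a := mat_inj (by rw [hca, ha])
      have hgz : g * z * g⁻¹ = a * (g * b * g⁻¹) := by
        calc g * z * g⁻¹ = g * a * g⁻¹ * (g * b * g⁻¹) := by rw [hzab]; group
          _ = a * (g * b * g⁻¹) := by rw [hga]
      have hmem : g * z * g⁻¹ ∈ T := hTc z hzT g (by
        rw [hgz]; exact mul_mem (sh_mem_U h01' ha) (lg_mem_U h00 hcb))
      obtain ⟨b', hb', -⟩ := exists_lgG p hD h00.ne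
        (show -s + D.η * D.σ (-s) = 0 by rw [map_neg]; linear_combination -hs)
      have hb'' : b' = b⁻¹ := eq_inv_of_mul_eq_one_left (mat_inj (by
        rw [lg_add h00.ne hb' hb, mat_one]; simp [lgM]))
      refine ⟨b' * (g * b * g⁻¹), -s + l * s * l, ?_, ?_, lg_add h00.ne hb' hcb⟩
      · intro h
        have h' : (l - 1) * (l - 1) * s = 0 := by linear_combination h + (1 - l) * s * h2
        simp [sub_eq_zero, hl1, hs0] at h'
      · rw [hb'', show b⁻¹ * (g * b * g⁻¹) = z⁻¹ * (g * z * g⁻¹) by rw [hgz, hzab]; group]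
        exact mul_mem (inv_mem hzT) hmem
    -- the field with two elements
    push Not at hl
    have h6 : 6 ≤ N := by
      rcases hD.small with h | ⟨c, h⟩ | ⟨c, h, h'⟩ | h
      · exact absurd h2 h
      · exact absurd (hσ c) h
      · exact absurd (hl c h) h'
      · exact h
    have he1 : ∀ i, D.e i = 1 := fun i => hl _ (hD.e_ne i)
    have hneg : (-1 : K) = 1 := by linear_combination -h2
    set i2 : Fin N := ⟨2, by omega⟩ with hi2
    have h2v : (i2 : ℕ) = 2 := rfl
    have h12 : i1 < i2 := Fin.lt_def.2 (by omega)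
    have h22 : i2 < rev i2 := Fin.lt_def.2 (by rw [rev_val]; omega)
    have hB : Adm i1 i2 := ⟨h12.ne, (h12.trans h22).ne, h11.ne, h22.ne⟩
    have hB' : Adm i1 (rev i2) := ⟨(h12.trans h22).ne, by rw [Fin.rev_rev]; exact h12.ne, h11.ne,
      by rw [Fin.rev_rev]; exact h22.ne'⟩
    have hshM : ∀ i j : Fin N, shM D i j (1 : K) = single i j 1 + single (rev j) (rev i) 1 := fun i j => by
      rw [shM, he1, he1, map_one, mul_one, mul_one, hneg]
    have hz0 : mat z = 1 + (single i0 (rev i1) 1 + single i1 (rev i0) 1 + single i0 (rev i0) 1) := by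
      rw [hzm, hl t ht, hl s hs0, hshM, lgM, Fin.rev_rev]
      simp only [mul_add, add_mul, mul_one, one_mul, sne h01'.ne', sne h00.ne', add_zero]
      abel
    have hmk : ∀ π : Equiv.Perm (Fin N), (∀ x, π (rev x) = rev (π x)) → ∀ y : D.group,
        ∀ i j k : Fin N, mat y = 1 + (single i (rev j) 1 + single j (rev i) 1 + single k (rev k) 1) →
        ∃ g : D.group, mat (g * y * g⁻¹) = 1 + (single (π i) (rev (π j)) 1 +
          single (π j) (rev (π i)) 1 + single (π k) (rev (π k)) 1) := by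
      intro π hπ y i j k hy
      obtain ⟨g, w, hw, hg⟩ := exists_weylG hD π hπ
      refine ⟨g, mono_conj (π := π) (w := w) hg hy ?_⟩
      simp only [mul_add, add_mul, ← hπ, mono_mul_single, single_mul_mono, fun a => hl (w a) (hw a),
        mul_one]
    -- swap the first two pairs
    obtain ⟨g1, hg1⟩ := hmk _ (ps_rev h00.ne h11.ne) z i0 i1 i0 hz0
    have e0 := ps_self h00.ne h11.ne
    have e1 : ps i0 i1 i1 = i0 := by
      simp only [ps, if_neg (ne (by rw [rev_val]; omega) : i1 ≠ rev i0), Equiv.Perm.coe_mul,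
        Function.comp_apply]
      rw [Equiv.swap_apply_of_ne_of_ne (ne (by rw [rev_val]; omega)) h11.ne, Equiv.swap_apply_right]
    rw [e0, e1, add_comm (single i1 (rev i0) 1)] at hg1
    set x1 := g1 * z * g1⁻¹ with hx1
    have hx1U : x1 ∈ U D := by
      refine mem_U_of_strict hg1 fun a b hba => ?_
      simp only [Matrix.add_apply, Matrix.single_apply]
      rw [if_neg (fun e => absurd h01' (not_lt.2 (by rw [← e.1, ← e.2] at hba; exact hba))),
        if_neg (fun e => absurd (h11.trans (Fin.rev_lt_rev.2 h01))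
          (not_lt.2 (by rw [← e.1, ← e.2] at hba; exact hba))),
        if_neg (fun e => absurd h11 (not_lt.2 (by rw [← e.1, ← e.2] at hba; exact hba)))]
      simp
    have hx1T : x1 ∈ T := hTc z hzT g1 hx1U
    obtain ⟨g2, hg2⟩ := hmk _ (ps_rev h11.ne h22.ne) x1 i0 i1 i1 hg1
    have e2 := ps_self h11.ne h22.ne
    have e3 : ps i1 i2 i0 = i0 := ps_fix h01.ne h01'.ne (ne (by omega)) (ne (by rw [rev_val]; omega))
    rw [e2, e3] at hg2
    set x2 := g2 * x1 * g2⁻¹ with hx2
    have h02 : i0 < i2 := h01.trans h12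
    have hx2U : x2 ∈ U D := by
      refine mem_U_of_strict hg2 fun a b hba => ?_
      simp only [Matrix.add_apply, Matrix.single_apply]
      rw [if_neg (fun e => absurd (h02.trans h22) (not_lt.2 (by rw [← e.1, ← e.2] at hba; exact hba))),
        if_neg (fun e => absurd (h22.trans (Fin.rev_lt_rev.2 h02))
          (not_lt.2 (by rw [← e.1, ← e.2] at hba; exact hba))),
        if_neg (fun e => absurd h22 (not_lt.2 (by rw [← e.1, ← e.2] at hba; exact hba)))]
      simp
    have hx2T : x2 ∈ T := hTc x1 hx1T g2 hx2U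
    obtain ⟨u, hu, -⟩ := exists_shG p hD hB (1 : K)
    obtain ⟨S, hS', -⟩ := exists_shG p hD hB' (1 : K)
    rw [hshM] at hu
    have hSm : mat S = 1 + (single i1 (rev i2) 1 + single i2 (rev i1) 1) := by
      rw [hS', hshM, Fin.rev_rev]
    have hkey : u * x2 = S * x1 * x2 * u := mat_inj (by
      simp only [mat_mul, hu, hSm, hg1, hg2]
      exact two_ident h2 h01.ne h02.ne h12.ne h01'.ne (h02.trans h22).ne (h12.trans h22).ne h00.ne
        h11.ne h22.ne)
    have hST : S ∈ T := by
      rw [show S = u * x2 * u⁻¹ * x2⁻¹ * x1⁻¹ by rw [hkey]; group]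
      exact mul_mem (mul_mem (hnorm _ hx2T u
        (sh_mem_U h12 (show mat u = 1 + shM D i1 i2 1 by rw [hshM]; exact hu))) (inv_mem hx2T))
        (inv_mem hx1T)
    exact hshlong (hS S i1 (rev i2) 1 hB' (h12.trans h22) one_ne_zero hST hS')
  obtain ⟨y, c, hc, hy, hmy⟩ := hlong
  have hLbase := hLscal y c hc hy hmy
  have hLall : ∀ (i : Fin N) (X : D.group) (d : K), i < rev i → mat X = 1 + lgM i d → X ∈ T := by
    intro i X d hi hX
    obtain ⟨g, w, hw, hg⟩ := exists_weylG hD _ (ps_rev hi.ne h00.ne)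
    have h := lg_conj hD (ps_rev hi.ne h00.ne) hw hg hX
    rw [ps_self hi.ne h00.ne] at h
    exact hback g X (lg_mem_U hi hX) (hLbase _ _ h)
  have hu1T := hLall i1 u1 th h11 hu1
  have hS1T : S1 ∈ T := by
    have h2 : s1 * u1 * s1⁻¹ * u1⁻¹ ∈ T :=
      mul_mem (hnorm _ hu1T s1 (sh_mem_U h01 hs1)) (inv_mem hu1T)
    rw [← hcom] at h2
    simpa using mul_mem h2 (inv_mem (hLbase L1 _ hL1))
  have hSall := hS S1 i0 (rev i1) (1 * th) hA' h01' (by simpa using hth0) hS1T hS1
  refine U_le_of_roots p hD T (fun i j g c h h' hg => hSall i j g c h h' hg)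
    (fun i g c h hg => hLall i g c h hg) fun i o X a b ho hio hX => ?_
  -- through the middle
  have hov := congrArg Fin.val ho
  rw [rev_val] at hov
  have hi' : i ≠ rev i := fun e => by
    have h' := congrArg Fin.val e
    rw [rev_val] at h'
    exact hio.ne (Fin.ext (by omega))
  have ho1 : i1 < o := Fin.lt_def.2 (by omega)
  have ho0 : i0 < o := h01.trans ho1
  obtain ⟨g, w, hw, hg⟩ := exists_weylG hD _ (ps_rev hi' h00.ne)
  obtain ⟨a', b', hm, hab⟩ := md_conj hD (ps_rev hi' h00.ne) hw hg ho hio.ne hi' hX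
  rw [ps_self hi' h00.ne, ps_fix hio.ne' (fun e => hio.ne (by rw [← Fin.rev_rev i, ← e, ho]))
    ho0.ne' (fun e => ho0.ne (by rw [← Fin.rev_rev i0, ← e, ho]))] at hm
  refine hback g X (md_mem_U ho hio hX) ?_
  obtain ⟨s2, hs2, -⟩ := exists_shG p hD hA' (-D.σ b')
  obtain ⟨m1, hm1, -⟩ := exists_mdG p hD ho ho1.ne h11.ne hab
  have hid2 : s1 * m1 = g * X * g⁻¹ * s2 * m1 * s1 := mat_inj (by
    simp only [mat_mul, hs1, hm1, hs2, ← mat_mul g, ← mat_mul (g * X), hm]
    exact sh_md_ident hD ho hA a' b' hab)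
  have h2 : s1 * (m1 * s1⁻¹ * m1⁻¹) ∈ T :=
    mul_mem (hSall _ _ s1 _ hA h01 hs1)
      (hnorm _ (inv_mem (hSall _ _ s1 _ hA h01 hs1)) m1 (md_mem_U ho ho1 hm1))
  have h3 : g * X * g⁻¹ = s1 * (m1 * s1⁻¹ * m1⁻¹) * s2⁻¹ := by
    rw [show s1 * (m1 * s1⁻¹ * m1⁻¹) = s1 * m1 * s1⁻¹ * m1⁻¹ by group, hid2]; group
  rw [h3]
  exact mul_mem h2 (inv_mem (hSall _ _ s2 _ hA' h01' hs2))

end CfsgLib.Fusion.FormGroup
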