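import Cfsg.Agent.Lib.Fusion.FormGroupClosed

/-!
The normaliser of the unitriangular subgroup of the isometry group of an antidiagonal form is
generated by products of `p`-elements normalising radicals of the minimal parabolic subgroups; the
fusion system of the central quotient is simple.
-/

set_option autoImplicit false
set_option linter.unusedVariables false
set_option linter.unusedSectionVars false
set_option linter.style.haveILetI false

namespace CfsgLib.Fusion.FormGroup

open Matrix Fin Subgroup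

variable {K : Type*} [Field K] {N : ℕ} {D : Dat K N}

/-! ### Levi projection of a block upper triangular matrix -/

/-- Block upper triangular. -/
def InP (β : Fin N → ℕ) (A : Matrix (Fin N) (Fin N) K) : Prop :=
  ∀ a b, β b < β a → A a b = 0

/-- The block diagonal part. -/
def lev (β : Fin N → ℕ) (A : Matrix (Fin N) (Fin N) K) : Matrix (Fin N) (Fin N) K :=
  Matrix.of fun a b => if β a = β b then A a b else 0

theorem InP.one (β : Fin N → ℕ) : InP β (1 : Matrix (Fin N) (Fin N) K) := fun a b h =>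
  Matrix.one_apply_ne fun e => by rw [e] at h; exact lt_irrefl _ h

theorem InP.mul {β : Fin N → ℕ} {A B : Matrix (Fin N) (Fin N) K} (hA : InP β A) (hB : InP β B) :
    InP β (A * B) := fun a b h => by
  rw [Matrix.mul_apply]
  refine Finset.sum_eq_zero fun c _ => ?_
  rcases lt_or_ge (β c) (β a) with h1 | h1
  · rw [hA a c h1, zero_mul]
  · rw [hB c b (h.trans_le h1), mul_zero]

theorem lev_one (β : Fin N → ℕ) : lev β (1 : Matrix (Fin N) (Fin N) K) = 1 := by
  ext a b
  rcases eq_or_ne a b with h | h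
  · subst h; simp [lev]
  · simp [lev, h]

theorem lev_mul {β : Fin N → ℕ} {A B : Matrix (Fin N) (Fin N) K} (hA : InP β A) (hB : InP β B) :
    lev β (A * B) = lev β A * lev β B := by
  ext a b
  simp only [lev, Matrix.of_apply, Matrix.mul_apply]
  by_cases hab : β a = β b
  · rw [if_pos hab]
    refine Finset.sum_congr rfl fun c _ => ?_
    rcases lt_trichotomy (β c) (β a) with h | h | h
    · rw [if_neg h.ne', hA a c h, zero_mul, zero_mul]
    · rw [if_pos h.symm, if_pos (h.trans hab)]
    · rw [if_neg h.ne, hB c b (hab ▸ h), mul_zero, zero_mul]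
  · rw [if_neg hab]
    refine (Finset.sum_eq_zero fun c _ => ?_).symm
    by_cases h : β a = β c
    · rw [if_neg fun h' => hab (h.trans h'), mul_zero]
    · rw [if_neg h, zero_mul]

theorem InP.one_add_single {β : Fin N → ℕ} {i j : Fin N} (h : β i ≤ β j) (c : K) :
    InP β (1 + single i j c) := fun a b hab => by
  rw [Matrix.add_apply, InP.one β a b hab, zero_add, Matrix.single_apply,
    if_neg fun e => absurd h (not_le.2 (by rw [e.1, e.2]; exact hab))]

variable [Fintype K]

variable (D) in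
/-- The parabolic subgroup of a block structure. -/
def par (β : Fin N → ℕ) : Subgroup D.group where
  carrier := {g | InP β (mat g)}
  one_mem' := InP.one β
  mul_mem' := fun {a b} ha hb => InP.mul ha hb
  inv_mem' := fun {A} hA => by
    have h : A⁻¹ = A ^ (orderOf A - 1) := by
      refine inv_eq_of_mul_eq_one_left ?_
      rw [← pow_succ, Nat.sub_add_cancel (orderOf_pos A), pow_orderOf_eq_one]
    rw [Set.mem_ofPred_eq] at hA ⊢
    rw [h]
    induction orderOf A - 1 with
    | zero => exact InP.one β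
    | succ m ih =>
      rw [pow_succ, mat_mul]
      exact InP.mul ih hA

theorem mem_par {β : Fin N → ℕ} {g : D.group} : g ∈ par D β ↔ InP β (mat g) := Iff.rfl

variable (D) in
/-- The radical of a parabolic subgroup. -/
def rad (β : Fin N → ℕ) : Subgroup D.group where
  carrier := {g | g ∈ par D β ∧ lev β (mat g) = 1}
  one_mem' := ⟨one_mem _, lev_one β⟩
  mul_mem' := fun {a b} ha hb => ⟨mul_mem ha.1 hb.1, by
    rw [mat_mul, lev_mul ha.1 hb.1, ha.2, hb.2, one_mul]⟩
  inv_mem' := fun {a} ha => ⟨inv_mem ha.1, by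
    have h := lev_mul (β := β) ha.1 (inv_mem ha.1 : a⁻¹ ∈ par D β)
    rwa [mat_mul_inv, lev_one, ha.2, one_mul, eq_comm] at h⟩

theorem par_le_normalizer (β : Fin N → ℕ) :
    par D β ≤ Subgroup.normalizer (rad D β : Set D.group) := by
  have key : ∀ g ∈ par D β, ∀ r ∈ rad D β, g * r * g⁻¹ ∈ rad D β := by
    intro g hg r hr
    refine ⟨mul_mem (mul_mem hg hr.1) (inv_mem hg), ?_⟩
    have hgr : InP β (mat (g * r)) := (mul_mem hg hr.1 : g * r ∈ par D β)
    rw [mat_mul, lev_mul hgr (inv_mem hg : g⁻¹ ∈ par D β), mat_mul, lev_mul hg hr.1, hr.2, mul_one,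
      ← lev_mul hg (inv_mem hg : g⁻¹ ∈ par D β), mat_mul_inv, lev_one]
  intro g hg n
  refine ⟨fun hn => key g hg n hn, fun hn => ?_⟩
  have := key g⁻¹ (inv_mem hg) _ hn
  simpa [mul_assoc] using this

theorem rad_le_U {β : Fin N → ℕ} (hβ : Monotone β) : rad D β ≤ U D := fun g hg a b h => by
  rcases eq_or_lt_of_le (hβ h) with h1 | h1
  · have := congrFun (congrFun hg.2 a) b
    rwa [lev, Matrix.of_apply, if_pos h1.symm, Matrix.one_apply] at this
  · rw [hg.1 a b h1, if_neg fun e => by rw [e] at h1; exact lt_irrefl _ h1]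

theorem U_le_par {β : Fin N → ℕ} (hβ : Monotone β) : U D ≤ par D β := fun g hg a b h =>
  IsUni.lower hg a b (lt_of_not_ge fun hab => absurd (hβ hab) (not_le.2 h))

theorem mem_rad_of_strict {β : Fin N → ℕ} (hβ : Monotone β) {g : D.group}
    (hg : g ∈ U D) (h : ∀ a b : Fin N, a < b → β a = β b → mat g a b = 0) : g ∈ rad D β := by
  refine ⟨U_le_par hβ hg, ?_⟩
  ext a b
  rw [lev, Matrix.of_apply, Matrix.one_apply]
  rcases le_or_gt b a with hba | hba
  · rcases eq_or_ne a b with rfl | hab
    · rw [if_pos rfl, if_pos rfl, IsUni.diag hg]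
    · rw [if_neg hab, IsUni.lower hg a b (lt_of_le_of_ne hba hab.symm), ite_self]
  · rw [if_neg hba.ne]
    split_ifs with h1
    · exact h a b hba h1
    · rfl

/-! ### Embedded small matrices -/

/-- The injection matrix of `f`. -/
def inj (K : Type*) [Field K] {k : ℕ} (f : Fin k → Fin N) : Matrix (Fin N) (Fin k) K :=
  Matrix.of fun x y => if x = f y then 1 else 0

/-- A small matrix placed on the rows and columns `f`. -/
def emb {k : ℕ} (f : Fin k → Fin N) (A : Matrix (Fin k) (Fin k) K) : Matrix (Fin N) (Fin N) K :=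
  1 + (inj K f) * (A - 1) * (inj K f)ᵀ

theorem emb_mul {k : ℕ} {f : Fin k → Fin N} (hf : Function.Injective f)
    (A B : Matrix (Fin k) (Fin k) K) : emb f A * emb f B = emb f (A * B) := by
  have hP : (inj K f)ᵀ * (inj K f) = 1 := by
    ext a b
    simp [inj, Matrix.mul_apply, Matrix.one_apply, hf.eq_iff, eq_comm]
  have h : inj K f * (A - 1) * (inj K f)ᵀ * (inj K f * (B - 1) * (inj K f)ᵀ) =
      inj K f * ((A - 1) * (B - 1)) * (inj K f)ᵀ := by
    rw [show inj K f * (A - 1) * (inj K f)ᵀ * (inj K f * (B - 1) * (inj K f)ᵀ) =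
      inj K f * (A - 1) * ((inj K f)ᵀ * inj K f) * ((B - 1) * (inj K f)ᵀ) by
        simp only [Matrix.mul_assoc], hP, Matrix.mul_one]
    simp only [Matrix.mul_assoc]
  have h2 : A * B - 1 = (A - 1) + (B - 1) + (A - 1) * (B - 1) := by noncomm_ring
  unfold emb
  simp only [h2, Matrix.mul_add, Matrix.add_mul, Matrix.one_mul, Matrix.mul_one, h]
  abel

theorem inj_mul_single {k : ℕ} (f : Fin k → Fin N) (a b : Fin k) (c : K) :
    (inj K f) * single a b c * (inj K f)ᵀ =
      single (f a) (f b) c := by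
  ext x y
  rw [Matrix.mul_apply, Finset.sum_eq_single b (fun z _ hz => by
    rw [Matrix.mul_single_apply_of_ne _ _ _ _ _ hz, zero_mul]) (by simp),
    Matrix.mul_single_apply_same, Matrix.single_apply]
  simp only [inj, Matrix.transpose_apply, Matrix.of_apply]
  by_cases hx : x = f a <;> by_cases hy : y = f b <;> simp [hx, hy, Ne.symm]

theorem emb_diagonal {k : ℕ} {f : Fin k → Fin N} (hf : Function.Injective f) (v : Fin k → K) :
    ∃ w : Fin N → K, emb f (Matrix.diagonal v) = Matrix.diagonal w ∧ (∀ y, w (f y) = v y) ∧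
      ∀ x, (∀ y, x ≠ f y) → w x = 1 := by
  refine ⟨fun x => 1 + ∑ y, if x = f y then v y - 1 else 0, ?_, fun y => ?_, fun x hx => ?_⟩
  · ext x x'
    have hv : Matrix.diagonal v - 1 = Matrix.diagonal fun y => v y - 1 := by
      rw [← Matrix.diagonal_one, Matrix.diagonal_sub]
    rw [emb, hv, Matrix.add_apply, Matrix.mul_apply]
    simp only [Matrix.mul_diagonal, Matrix.transpose_apply, inj, Matrix.of_apply,
      Matrix.diagonal_apply, Matrix.one_apply]
    rcases eq_or_ne x x' with h | h
    · subst h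
      rw [if_pos rfl, if_pos rfl]
      congr 1
      refine Finset.sum_congr rfl fun y _ => ?_
      split_ifs <;> ring
    · rw [if_neg h, if_neg h, zero_add]
      refine Finset.sum_eq_zero fun y _ => ?_
      by_cases h1 : x = f y
      · simp [show x' ≠ f y from fun h2 => h (h1.trans h2.symm)]
      · simp [h1]
  · show 1 + (∑ z, if f y = f z then v z - 1 else 0) = v y
    rw [Finset.sum_eq_single y (fun z _ hz => if_neg fun e => hz (hf e).symm) (by simp),
      if_pos rfl]
    ring
  · show 1 + (∑ z, if x = f z then v z - 1 else 0) = 1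
    rw [Finset.sum_eq_zero fun y _ => if_neg (hx y), add_zero]

variable (p : ℕ) [Fact p.Prime] [CharP K p]

variable (D) in
/-- The subgroup generated by the `p`-elements normalising a radical. -/
def pGen (β : Fin N → ℕ) : Subgroup D.group :=
  Subgroup.closure {g | g ∈ Subgroup.normalizer (rad D β : Set D.group) ∧ ∃ k, orderOf g = p ^ k}

variable {p}

theorem mem_pGen {β : Fin N → ℕ} {g : D.group} (hg : InP β (mat g)) (h : g ^ p ^ 2 = 1) :
    g ∈ pGen D p β :=
  Subgroup.subset_closure ⟨par_le_normalizer β hg, orderOf_pow_two h⟩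

theorem diag_mem_normalizer_U {h : D.group} {w : Fin N → K} (hh : mat h = Matrix.diagonal w) :
    h ∈ Subgroup.normalizer (U D : Set D.group) := by
  have hm : Monotone (fun a : Fin N => (a : ℕ)) := fun a b h => h
  have e : rad D (fun a : Fin N => (a : ℕ)) = U D := le_antisymm (rad_le_U hm) fun g hg =>
    mem_rad_of_strict hm hg fun a b hab h => absurd (Fin.ext h) hab.ne
  rw [← e]
  exact par_le_normalizer _ fun a b hab => by
    rw [hh]; exact Matrix.diagonal_apply_ne _ fun e => by rw [e] at hab; exact lt_irrefl _ hab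

/-! ### A pair of short roots -/

/-- The classes of the parabolic of the short roots at `(i, j)`. -/
def bpair (i j : Fin N) (x : Fin N) : ℕ :=
  if x = j then (i : ℕ) else if x = rev i then (rev j : ℕ) else x

theorem bpair_mono {i j : Fin N} (hij : (j : ℕ) = i + 1) (hjj : j < rev j) :
    Monotone (bpair i j) := fun a b hab => by
  have := Fin.lt_def.1 hjj
  have := Fin.le_def.1 hab
  simp only [bpair, rev_val, Fin.ext_iff] at *
  split_ifs <;> omega

theorem bpair_eq {i j : Fin N} (hij : (j : ℕ) = i + 1) (hjj : j < rev j) {a b : Fin N} (hab : a < b)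
    (h : bpair i j a = bpair i j b) : a = i ∧ b = j ∨ a = rev j ∧ b = rev i := by
  have := Fin.lt_def.1 hjj
  have := Fin.lt_def.1 hab
  simp only [bpair, rev_val, Fin.ext_iff] at *
  split_ifs at h <;> omega

theorem pair_centralizer (p : ℕ) [Fact p.Prime] [CharP K p] (hD : D.Good) {i j : Fin N}
    (hij : (j : ℕ) = i + 1) (hjj : j < rev j) :
    U D ⊓ Subgroup.centralizer (rad D (bpair i j) : Set D.group) ≤ rad D (bpair i j) := by
  rintro g ⟨hg, hgc⟩
  have hlt : i < j := Fin.lt_def.2 (by omega)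
  have hji' : rev j < rev i := Fin.rev_lt_rev.2 hlt
  obtain ⟨th, hth0, hth⟩ := hD.theta
  obtain ⟨u, hu, -⟩ := exists_lgG p hD hjj.ne hth
  have huR : u ∈ rad D (bpair i j) := by
    refine mem_rad_of_strict (bpair_mono hij hjj) (lg_mem_U hjj hu) fun a b hab h => ?_
    rw [hu, Matrix.add_apply, Matrix.one_apply_ne hab.ne, zero_add, lgM, Matrix.single_apply, if_neg]
    rintro ⟨rfl, rfl⟩
    rcases bpair_eq hij hjj hab h with ⟨h1, -⟩ | ⟨h1, -⟩
    · exact hlt.ne h1.symm
    · exact hjj.ne h1
  have h := commute_entry (x := g) (hgc u huR).symm hu i (rev j)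
  rw [lgM, single_mul_apply', mul_single_apply', if_neg hlt.ne, if_pos rfl] at h
  have hgij : mat g i j = 0 := (mul_eq_zero.1 h.symm).resolve_right hth0
  have hg2 : mat g (rev j) (rev i) = 0 := by
    have h := row_rel hD g i (rev j)
    rw [if_neg hji'.ne, Fintype.sum_eq_add i j hlt.ne (by
      rintro x ⟨hxi, hxj⟩
      rcases lt_or_gt_of_ne hxi with hx | hx
      · rw [IsUni.lower hg i x hx, zero_mul, zero_mul]
      · have hjx : j < x := Fin.lt_def.2 (by
          have := Fin.lt_def.1 hx; have := Fin.val_ne_of_ne hxj; omega)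
        rw [IsUni.lower hg _ _ (Fin.rev_lt_rev.2 hjx), map_zero, mul_zero]),
      hgij, zero_mul, zero_mul, add_zero, IsUni.diag hg, one_mul] at h
    apply D.σ.injective
    rw [map_zero]
    exact (mul_eq_zero.1 h).resolve_left (hD.e_ne i)
  refine mem_rad_of_strict (bpair_mono hij hjj) hg fun a b hab h => ?_
  rcases bpair_eq hij hjj hab h with ⟨h1, h2⟩ | ⟨h1, h2⟩ <;> rw [h1, h2] <;> assumption

theorem four_mul_ident {a b c d : K} (ha : a ≠ 0) (hb : b ≠ 0) (hc : c ≠ 0) (hd : d ≠ 0) :
    (1 + (single (0 : Fin 4) 1 a + single 2 3 c)) * (1 + (single 1 0 (-1 / a) + single 3 2 (-1 / c))) *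
        (1 + (single 0 1 a + single 2 3 c)) *
      ((1 + (single 0 1 b + single 2 3 d)) * (1 + (single 1 0 (-1 / b) + single 3 2 (-1 / d))) *
        (1 + (single 0 1 b + single 2 3 d))) =
    Matrix.diagonal ![-a / b, -b / a, -c / d, -d / c] := by
  have hw : ∀ a c : K, a ≠ 0 → c ≠ 0 → (1 + (single (0 : Fin 4) 1 a + single 2 3 c)) *
      (1 + (single 1 0 (-1 / a) + single 3 2 (-1 / c))) * (1 + (single 0 1 a + single 2 3 c)) =
      !![0, a, 0, 0; -1 / a, 0, 0, 0; 0, 0, 0, c; 0, 0, -1 / c, 0] := by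
    intro a c ha hc
    ext x y
    fin_cases x <;> fin_cases y <;>
      simp [Matrix.mul_apply, Fin.sum_univ_four, Matrix.one_apply, Matrix.single_apply, ha, hc] <;>
      field_simp <;> ring
  rw [hw a c ha hc, hw b d hb hd]
  ext x y
  fin_cases x <;> fin_cases y <;>
    simp [Matrix.mul_apply, Fin.sum_univ_four, Matrix.diagonal] <;> field_simp

theorem emb_one_add {k : ℕ} (f : Fin k → Fin N) (X : Matrix (Fin k) (Fin k) K) :
    emb f (1 + X) = 1 + (inj K f) * X * (inj K f)ᵀ := by rw [emb, add_sub_cancel_left]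

theorem pair_diag (p : ℕ) [Fact p.Prime] [CharP K p] (hD : D.Good) {i j : Fin N}
    (hij : (j : ℕ) = i + 1) (hjj : j < rev j) {t : K} (ht : t ≠ 0) :
    ∃ h ∈ normalGenSet p (U D), ∃ w : Fin N → K, mat h = Matrix.diagonal w ∧ w i = t ∧
      ∀ x, x < i → w x = 1 := by
  have hlt : i < j := Fin.lt_def.2 (by omega)
  have hji' : rev j < rev i := Fin.rev_lt_rev.2 hlt
  have hij' : i < rev j := hlt.trans hjj
  have hii : i < rev i := hij'.trans hji'
  have hmono := bpair_mono hij hjj
  have hadm : Adm i j := ⟨hlt.ne, hij'.ne, hii.ne, hjj.ne⟩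
  set κ : K := D.e i * D.e j with hκ
  have hκ2 : κ * κ = 1 := by
    rw [hκ, mul_mul_mul_comm, hD.e_mul_self, hD.e_mul_self, one_mul]
  have hκ0 : κ ≠ 0 := mul_ne_zero (hD.e_ne i) (hD.e_ne j)
  have sσ : ∀ {z : K}, z ≠ 0 → D.σ z ≠ 0 := fun {z} hz h0 => hz (by rw [← hD.hσ z, h0, map_zero])
  set f : Fin 4 → Fin N := ![i, j, rev j, rev i] with hf
  have hfi : Function.Injective f := (Fin.strictMono_iff_lt_succ.2 fun x => by
    fin_cases x <;> simp [hf] <;> assumption).injective
  have hup : ∀ a : K, ∃ g ∈ pGen D p (bpair i j),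
      mat g = emb f (1 + (single 0 1 a + single 2 3 (-(D.σ a * κ)))) := by
    intro a
    obtain ⟨g, hg, hg2⟩ := exists_shG p hD hadm a
    refine ⟨g, mem_pGen (U_le_par hmono (sh_mem_U hlt hg)) hg2, ?_⟩
    rw [hg, emb_one_add, Matrix.mul_add, Matrix.add_mul, inj_mul_single, inj_mul_single, shM, hκ]
    simp [hf, mul_assoc]
  have hlo : ∀ a : K, ∃ g ∈ pGen D p (bpair i j),
      mat g = emb f (1 + (single 1 0 a + single 3 2 (-(D.σ a * κ)))) := by
    intro a
    obtain ⟨g, hg, hg2⟩ := exists_shG p hD hadm.symm a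
    refine ⟨g, mem_pGen (fun x y hxy => ?_) hg2, ?_⟩
    · have e1 : bpair i j j = bpair i j i := by simp [bpair, hlt.ne, hii.ne]
      have e2 : bpair i j (rev i) = bpair i j (rev j) := by
        simp [bpair, hji'.ne, hij'.ne, hjj.ne', (hjj.trans hji').ne']
      rw [hg, shM, Matrix.add_apply, InP.one _ x y hxy, zero_add, Matrix.add_apply,
        Matrix.single_apply, Matrix.single_apply, if_neg, if_neg, add_zero]
      · rintro ⟨rfl, rfl⟩; omega
      · rintro ⟨rfl, rfl⟩; omega
    · rw [hg, emb_one_add, Matrix.mul_add, Matrix.add_mul, inj_mul_single, inj_mul_single, shM, hκ]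
      simp [hf, mul_comm, mul_left_comm, mul_assoc]
  have key : ∀ a : K, a ≠ 0 → ∃ g ∈ pGen D p (bpair i j),
      mat g = emb f ((1 + (single 0 1 a + single 2 3 (-(D.σ a * κ)))) *
        (1 + (single 1 0 (-1 / a) + single 3 2 (-1 / -(D.σ a * κ)))) *
        (1 + (single 0 1 a + single 2 3 (-(D.σ a * κ))))) := by
    intro a ha
    obtain ⟨x, hx, hxm⟩ := hup a
    obtain ⟨y, hy, hym⟩ := hlo (-1 / a)
    refine ⟨x * y * x, mul_mem (mul_mem hx hy) hx, ?_⟩
    have e : -(D.σ (-1 / a) * κ) = -1 / -(D.σ a * κ) := by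
      have := sσ ha
      rw [map_div₀, map_neg, map_one]
      field_simp
      linear_combination hκ2
    rw [mat_mul, mat_mul, hxm, hym, e, emb_mul hfi, emb_mul hfi]
  obtain ⟨g1, hg1, hm1⟩ := key (-t) (neg_ne_zero.2 ht)
  obtain ⟨g2, hg2, hm2⟩ := key 1 one_ne_zero
  obtain ⟨w, hw, hwf, hw1⟩ := emb_diagonal hfi
    ![-(-t) / 1, -1 / -t, -(-(D.σ (-t) * κ)) / -(D.σ 1 * κ),
      -(-(D.σ 1 * κ)) / -(D.σ (-t) * κ)]
  have hm : mat (g1 * g2) = Matrix.diagonal w := by
    rw [mat_mul, hm1, hm2, emb_mul hfi, four_mul_ident (neg_ne_zero.2 ht) one_ne_zero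
      (neg_ne_zero.2 (mul_ne_zero (sσ (neg_ne_zero.2 ht)) hκ0))
      (neg_ne_zero.2 (mul_ne_zero (sσ one_ne_zero) hκ0)), hw]
  refine ⟨g1 * g2, ⟨diag_mem_normalizer_U hm, rad D (bpair i j), rad_le_U hmono,
    (U_le_par hmono).trans (par_le_normalizer _), pair_centralizer p hD hij hjj,
    mul_mem hg1 hg2⟩, w, hm, ?_, fun x hx => hw1 x fun y => ?_⟩
  · simpa [hf] using hwf 0
  · fin_cases y <;> simp [hf]
    exacts [hx.ne, (hx.trans hlt).ne, (hx.trans hij').ne, (hx.trans hii).ne]

/-! ### The innermost block -/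

/-- The classes of the parabolic of the innermost roots. -/
def bmid (i : Fin N) (x : Fin N) : ℕ := if i ≤ x ∧ x ≤ rev i then (i : ℕ) else x

theorem bmid_mono (i : Fin N) : Monotone (bmid i) := fun a b hab => by
  have := Fin.le_def.1 hab
  simp only [bmid, Fin.le_def, rev_val] at *
  split_ifs <;> omega

theorem bmid_eq {i : Fin N} (hlast : N ≤ 2 * (i : ℕ) + 3) (hii : i < rev i) {a b : Fin N}
    (hab : a < b) (h : bmid i a = bmid i b) : a = i ∧ b ≤ rev i ∨ rev a = a ∧ b = rev i := by
  have := Fin.lt_def.1 hab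
  have := Fin.lt_def.1 hii
  simp only [bmid, Fin.le_def, rev_val, Fin.ext_iff] at *
  split_ifs at h <;> omega

theorem mid_centralizer (p : ℕ) [Fact p.Prime] [CharP K p] (hD : D.Good) (h4 : 4 ≤ N) {i : Fin N}
    (hlast : N ≤ 2 * (i : ℕ) + 3) (hii : i < rev i) :
    U D ⊓ Subgroup.centralizer (rad D (bmid i) : Set D.group) ≤ rad D (bmid i) := by
  rintro g ⟨hg, hgc⟩
  have hN := hD.three
  have hiiv := Fin.lt_def.1 hii
  rw [rev_val] at hiiv
  set k : Fin N := ⟨(i : ℕ) - 1, by omega⟩ with hk
  have hkv : (k : ℕ) = (i : ℕ) - 1 := rfl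
  have hki : k < i := Fin.lt_def.2 (by omega)
  have hki' : k < rev i := hki.trans hii
  have hkk : k < rev k := hki'.trans (Fin.rev_lt_rev.2 hki)
  obtain ⟨u, hu, -⟩ := exists_shG p hD (i := k) (j := i) ⟨hki.ne, hki'.ne, hkk.ne, hii.ne⟩ 1
  have huR : u ∈ rad D (bmid i) := by
    refine mem_rad_of_strict (bmid_mono i) (sh_mem_U hki hu) fun a b hab h => ?_
    rw [hu, shM, Matrix.add_apply, Matrix.one_apply_ne hab.ne, zero_add, Matrix.add_apply,
      Matrix.single_apply, Matrix.single_apply, if_neg, if_neg, add_zero]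
    · rintro ⟨rfl, rfl⟩
      rcases bmid_eq hlast hii hab h with ⟨-, h2⟩ | ⟨h1, -⟩
      · exact absurd h2 (not_le.2 (Fin.rev_lt_rev.2 hki))
      · exact hii.ne (by rwa [Fin.rev_rev] at h1)
    · rintro ⟨rfl, rfl⟩
      rcases bmid_eq hlast hii hab h with ⟨h1, -⟩ | ⟨h1, -⟩
      · exact hki.ne h1
      · exact hkk.ne h1.symm
  have hrow : ∀ b : Fin N, i < b → b ≤ rev i → mat g i b = 0 := by
    intro b hb hb'
    have h := commute_entry (x := g) (hgc u huR).symm hu k b
    rw [shM] at h
    simp only [add_mul, mul_add, Matrix.add_apply, single_mul_apply', mul_single_apply', if_true]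
      at h
    rw [if_neg hki'.ne, if_neg hb.ne', if_neg (lt_of_le_of_lt hb' (Fin.rev_lt_rev.2 hki)).ne] at h
    simpa using h
  refine mem_rad_of_strict (bmid_mono i) hg fun a b hab h => ?_
  rcases bmid_eq hlast hii hab h with ⟨h1, h2⟩ | ⟨h1, h2⟩
  · rw [h1]; exact hrow b (h1 ▸ hab) h2
  · subst h2
    have hia : i < a := Fin.lt_def.2 (by
      have := congrArg Fin.val h1; rw [rev_val] at this; omega)
    have hr := row_rel hD g i a
    rw [if_neg hab.ne, Fintype.sum_eq_add i a hia.ne (by
      rintro x ⟨hxi, hxa⟩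
      rcases lt_or_gt_of_ne hxi with hx | hx
      · rw [IsUni.lower hg i x hx, zero_mul, zero_mul]
      · rcases lt_or_gt_of_ne hxa with hx' | hx'
        · have := Fin.lt_def.1 hx
          have := Fin.lt_def.1 hx'
          have := congrArg Fin.val h1
          rw [rev_val] at this
          omega
        · rw [IsUni.lower hg a (rev x) (lt_of_lt_of_eq (Fin.rev_lt_rev.2 hx') h1),
            map_zero, mul_zero]),
      hrow a hia hab.le, zero_mul, zero_mul, add_zero, IsUni.diag hg, one_mul] at hr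
    apply D.σ.injective
    rw [map_zero]
    exact (mul_eq_zero.1 hr).resolve_left (hD.e_ne i)

theorem two_mul_ident {a b : K} (ha : a ≠ 0) (hb : b ≠ 0) :
    (1 + single (0 : Fin 2) 1 a) * (1 + single 1 0 (-1 / a)) * (1 + single 0 1 a) *
      ((1 + single 0 1 b) * (1 + single 1 0 (-1 / b)) * (1 + single 0 1 b)) =
    Matrix.diagonal ![-a / b, -b / a] := by
  ext x y
  fin_cases x <;> fin_cases y <;>
    simp [Matrix.mul_apply, Fin.sum_univ_two, Matrix.one_apply, Matrix.single_apply] <;>
    field_simp <;> ring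

theorem bmid_block {i x : Fin N} (h : i ≤ x) (h' : x ≤ rev i) : bmid i x = i := if_pos ⟨h, h'⟩

theorem even_diag (p : ℕ) [Fact p.Prime] [CharP K p] (hD : D.Good) (h4 : 4 ≤ N) {i : Fin N}
    (hlast : N = 2 * (i : ℕ) + 2) {t : K} (ht : t ≠ 0) (htσ : D.σ t = t) :
    ∃ h ∈ normalGenSet p (U D), ∃ w : Fin N → K, mat h = Matrix.diagonal w ∧ w i = t ∧
      ∀ x, x < i → w x = 1 := by
  have hii : i < rev i := Fin.lt_def.2 (by rw [rev_val]; omega)
  obtain ⟨th, hth0, hth⟩ := hD.theta
  have sσ : ∀ {z : K}, z ≠ 0 → D.σ z ≠ 0 := fun {z} hz h0 => hz (by rw [← hD.hσ z, h0, map_zero])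
  set f : Fin 2 → Fin N := ![i, rev i] with hf
  have hfi : Function.Injective f := (Fin.strictMono_iff_lt_succ.2 fun x => by
    fin_cases x <;> simp [hf] <;> assumption).injective
  have key : ∀ a : K, a ≠ 0 → a + D.η * D.σ a = 0 → ∃ g ∈ pGen D p (bmid i),
      mat g = emb f ((1 + single 0 1 a) * (1 + single 1 0 (-1 / a)) * (1 + single 0 1 a)) := by
    intro a ha hc
    have hc' : -1 / a + D.η * D.σ (-1 / a) = 0 := by
      have := sσ ha
      rw [map_div₀, map_neg, map_one]
      field_simp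
      linear_combination (-D.η) * hc + D.σ a * hD.eta_mul_self
    obtain ⟨x, hxm, hx2⟩ := exists_lgG p hD hii.ne hc
    obtain ⟨y, hym, hy2⟩ := exists_lgG p hD (i := rev i) (by rw [Fin.rev_rev]; exact hii.ne') hc'
    have hx : x ∈ pGen D p (bmid i) := mem_pGen (U_le_par (bmid_mono i) (lg_mem_U hii hxm)) hx2
    have hy : y ∈ pGen D p (bmid i) := mem_pGen (by
      rw [hym, lgM, Fin.rev_rev]
      exact InP.one_add_single (by rw [bmid_block hii.le le_rfl, bmid_block le_rfl hii.le]) _) hy2
    refine ⟨x * y * x, mul_mem (mul_mem hx hy) hx, ?_⟩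
    rw [← emb_mul hfi, ← emb_mul hfi, mat_mul, mat_mul, hxm, hym]
    simp [emb_one_add, inj_mul_single, lgM, hf, Fin.rev_rev]
  obtain ⟨g1, hg1, hm1⟩ := key (t * th) (mul_ne_zero ht hth0) (by
    rw [map_mul, htσ]; linear_combination t * hth)
  obtain ⟨g2, hg2, hm2⟩ := key (-th) (neg_ne_zero.2 hth0) (by rw [map_neg]; linear_combination -hth)
  obtain ⟨w, hw, hwf, hw1⟩ := emb_diagonal hfi ![-(t * th) / -th, -(-th) / (t * th)]
  have hm : mat (g1 * g2) = Matrix.diagonal w := by
    rw [mat_mul, hm1, hm2, emb_mul hfi, two_mul_ident (mul_ne_zero ht hth0) (neg_ne_zero.2 hth0),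
      hw]
  refine ⟨g1 * g2, ⟨diag_mem_normalizer_U hm, rad D (bmid i), rad_le_U (bmid_mono i),
    (U_le_par (bmid_mono i)).trans (par_le_normalizer _), mid_centralizer p hD h4 (by omega) hii,
    mul_mem hg1 hg2⟩, w, hm, ?_, fun x hx => hw1 x fun y => ?_⟩
  · have h0 := hwf 0
    simp [hf] at h0
    rw [h0]
    field_simp
  · fin_cases y <;> simp [hf]
    exacts [hx.ne, (hx.trans hii).ne]

theorem three_mul_ident {a a' b b' : K} (hb : b ≠ 0) (hb' : b' ≠ 0) (h : b + b' + a * a' = 0) :
    (1 + (single (2 : Fin 3) 1 (-a / b') + single 2 0 (1 / b') + single 1 0 (a' / b))) *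
      (1 + (single 0 1 a + single 0 2 b + single 1 2 (-a'))) *
      (1 + (single 2 1 (-a / b) + single 2 0 (1 / b') + single 1 0 (a' / b'))) =
    !![0, 0, b; 0, -b' / b, 0; 1 / b', 0, 0] := by
  ext x y
  fin_cases x <;> fin_cases y <;>
    simp [Matrix.mul_apply, Fin.sum_univ_three, Matrix.one_apply, Matrix.single_apply] <;>
    field_simp <;>
    first
    | ring1
    | linear_combination h
    | linear_combination -h
    | linear_combination b * h
    | linear_combination b' * h
    | linear_combination a * h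
    | linear_combination a' * h
    | linear_combination (-a) * h
    | linear_combination (-a') * h
    | linear_combination (-b) * h
    | linear_combination (-b') * h

theorem odd_diag (p : ℕ) [Fact p.Prime] [CharP K p] (hD : D.Good) (h4 : 4 ≤ N)
    (hn : ∀ b : K, ∃ a, b + D.σ b + a * D.σ a = 0) {i : Fin N}
    (hlast : N = 2 * (i : ℕ) + 3) {t : K} (ht : t ≠ 0) :
    ∃ h ∈ normalGenSet p (U D), ∃ w : Fin N → K, mat h = Matrix.diagonal w ∧ w i = t ∧
      ∀ x, x < i → w x = 1 := by
  have hii : i < rev i := Fin.lt_def.2 (by rw [rev_val]; omega)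
  set o : Fin N := ⟨(i : ℕ) + 1, by omega⟩ with ho
  have hov : (o : ℕ) = (i : ℕ) + 1 := rfl
  have hoo : rev o = o := Fin.ext (by rw [rev_val]; omega)
  have hio : i < o := Fin.lt_def.2 (by omega)
  have hoi : o < rev i := hoo ▸ Fin.rev_lt_rev.2 hio
  have sσ : ∀ {z : K}, z ≠ 0 → D.σ z ≠ 0 := fun {z} hz h0 => hz (by rw [← hD.hσ z, h0, map_zero])
  set f : Fin 3 → Fin N := ![i, o, rev i] with hf
  have hfi : Function.Injective f := (Fin.strictMono_iff_lt_succ.2 fun x => by
    fin_cases x <;> simp [hf] <;> assumption).injective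
  have hY : ∀ c d : K, d + D.σ d + c * D.σ c = 0 → ∃ g ∈ pGen D p (bmid i),
      mat g = emb f (1 + (single 2 1 c + single 2 0 d + single 1 0 (-D.σ c))) := by
    intro c d h
    obtain ⟨g, hg, hg2⟩ := exists_mdG p hD (i := rev i) hoo hoi.ne'
      (by rw [Fin.rev_rev]; exact hii.ne') h
    refine ⟨g, mem_pGen (fun x y hxy => ?_) hg2, ?_⟩
    · have e1 := bmid_block hio.le hoi.le
      have e2 := bmid_block hii.le (le_refl (rev i))
      have e3 := bmid_block (le_refl i) hii.le
      rw [hg, mdM, Fin.rev_rev, Matrix.add_apply, InP.one _ x y hxy, zero_add]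
      simp only [Matrix.add_apply, Matrix.single_apply]
      rw [if_neg, if_neg, if_neg, add_zero, add_zero] <;> rintro ⟨rfl, rfl⟩ <;> omega
    · rw [hg, mdM, Fin.rev_rev]
      simp [emb_one_add, Matrix.mul_add, Matrix.add_mul, inj_mul_single, hf]
  have key : ∀ b : K, b ≠ 0 → ∃ g ∈ pGen D p (bmid i),
      mat g = emb f !![0, 0, b; 0, -D.σ b / b, 0; 1 / D.σ b, 0, 0] := by
    intro b hb
    obtain ⟨a, hab⟩ := hn b
    have hb' := sσ hb
    have hcond : ∀ c : K, c * D.σ c = a * D.σ a / (b * D.σ b) →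
        1 / D.σ b + D.σ (1 / D.σ b) + c * D.σ c = 0 := by
      intro c hc
      rw [hc, map_div₀, map_one, hD.hσ]
      field_simp
      linear_combination hab
    obtain ⟨Y1, hY1, hY1m⟩ := hY (-a / D.σ b) (1 / D.σ b) (hcond _ (by
      rw [map_div₀, map_neg, hD.hσ]; field_simp))
    obtain ⟨Y2, hY2, hY2m⟩ := hY (-a / b) (1 / D.σ b) (hcond _ (by
      rw [map_div₀, map_neg]; field_simp))
    obtain ⟨X, hXm, hX2⟩ := exists_mdG p hD hoo hio.ne hii.ne hab
    have hX : X ∈ pGen D p (bmid i) :=
      mem_pGen (U_le_par (bmid_mono i) (md_mem_U hoo hio hXm)) hX2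
    refine ⟨Y1 * X * Y2, mul_mem (mul_mem hY1 hX) hY2, ?_⟩
    have e1 : -D.σ (-a / D.σ b) = D.σ a / b := by rw [map_div₀, map_neg, hD.hσ]; ring
    have e2 : -D.σ (-a / b) = D.σ a / D.σ b := by rw [map_div₀, map_neg]; ring
    have eX : mat X = emb f (1 + (single 0 1 a + single 0 2 b + single 1 2 (-D.σ a))) := by
      rw [hXm, mdM]
      simp [emb_one_add, Matrix.mul_add, Matrix.add_mul, inj_mul_single, hf]
    rw [mat_mul, mat_mul, hY1m, hY2m, eX, e1, e2, emb_mul hfi, emb_mul hfi,
      three_mul_ident hb hb' hab]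
  obtain ⟨g1, hg1, hm1⟩ := key t ht
  obtain ⟨g2, hg2, hm2⟩ := key 1 one_ne_zero
  obtain ⟨w, hw, hwf, hw1⟩ := emb_diagonal hfi ![t, D.σ t / t, 1 / D.σ t]
  have hm : mat (g1 * g2) = Matrix.diagonal w := by
    rw [mat_mul, hm1, hm2, emb_mul hfi, ← hw]
    congr 1
    ext x y
    fin_cases x <;> fin_cases y <;>
      simp [Matrix.mul_apply, Fin.sum_univ_three, Matrix.diagonal] <;> field_simp
  refine ⟨g1 * g2, ⟨diag_mem_normalizer_U hm, rad D (bmid i), rad_le_U (bmid_mono i),
    (U_le_par (bmid_mono i)).trans (par_le_normalizer _), mid_centralizer p hD h4 (by omega) hii,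
    mul_mem hg1 hg2⟩, w, hm, ?_, fun x hx => hw1 x fun y => ?_⟩
  · simpa [hf] using hwf 0
  · fin_cases y <;> simp [hf]
    exacts [hx.ne, (hx.trans hio).ne, (hx.trans hii).ne]

/-! ### The normaliser -/

theorem normalizerGenerated (p : ℕ) [Fact p.Prime] [CharP K p] (hD : D.Good) (h4 : 4 ≤ N)
    (hn : ∀ j : Fin N, rev j = j → ∀ b : K, ∃ a, b + D.σ b + a * D.σ a = 0) :
    NormalizerGenerated p (U D) := by
  intro g hg
  set H := Subgroup.closure ((Subgroup.centralizer (U D : Set D.group) : Set D.group) ∪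
    (U D : Set D.group) ∪ normalGenSet p (U D))
  have hN := hD.three
  have hne : ∀ (h : D.group) (w : Fin N → K), mat h = Matrix.diagonal w → ∀ x, w x ≠ 0 := by
    intro h w hh x h0
    have hdet := mat_det h
    rw [hh, Matrix.det_diagonal, Finset.prod_eq_zero (Finset.mem_univ x) h0] at hdet
    exact zero_ne_one hdet
  have hrel : ∀ (h : D.group) (w : Fin N → K), mat h = Matrix.diagonal w →
      ∀ x, w x * D.σ (w (rev x)) = 1 := by
    intro h w hh x
    have h1 := row_rel hD h x (rev x)
    rw [if_pos rfl, hh, Finset.sum_eq_single x (fun y _ hy => by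
      rw [Matrix.diagonal_apply_ne _ hy.symm, zero_mul, zero_mul]) (by simp),
      Matrix.diagonal_apply_eq, Matrix.diagonal_apply_eq] at h1
    exact mul_left_cancel₀ (hD.e_ne x) (by linear_combination h1)
  have key : ∀ (s k : ℕ), N ≤ 2 * k + s → ∀ (h : D.group) (w : Fin N → K),
      mat h = Matrix.diagonal w → (∀ x : Fin N, (x : ℕ) < k → w x = 1) → h ∈ H := by
    intro s
    induction s using Nat.strong_induction_on with
    | _ s ih =>
    intro k hs h w hh h1
    have h1' : ∀ x : Fin N, N ≤ (x : ℕ) + k → w x = 1 := by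
      intro x hx
      have e := hrel h w hh (rev x)
      rw [h1 (rev x) (by rw [rev_val]; omega), one_mul, Fin.rev_rev] at e
      exact D.σ.injective (by rw [e, map_one])
    have hdet := mat_det h
    rw [hh, Matrix.det_diagonal] at hdet
    rcases Nat.lt_or_ge (2 * k + 1) N with hlt | hge
    swap
    · suffices h = 1 by rw [this]; exact one_mem _
      refine mat_inj ?_
      rw [hh, mat_one, ← Matrix.diagonal_one]
      congr 1
      funext x
      by_cases hx : (x : ℕ) < k ∨ N ≤ (x : ℕ) + k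
      · exact hx.elim (h1 x) (h1' x)
      rw [Finset.prod_eq_single x (fun y _ hy => by
        have := Fin.val_ne_of_ne hy
        by_cases hy' : (y : ℕ) < k
        · exact h1 y hy'
        · exact h1' y (by omega)) (by simp)] at hdet
      exact hdet
    set i : Fin N := ⟨k, by omega⟩ with hi
    have hiv : (i : ℕ) = k := rfl
    have hwi := hne h w hh i
    obtain ⟨a, ha, v, hav, hvi, hv1⟩ : ∃ a ∈ normalGenSet p (U D), ∃ v : Fin N → K,
        mat a = Matrix.diagonal v ∧ v i = w i ∧ ∀ x, x < i → v x = 1 := by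
      rcases Nat.lt_or_ge (2 * k + 3) N with h3 | h3
      · exact pair_diag p hD (j := ⟨k + 1, by omega⟩) rfl
          (Fin.lt_def.2 (by rw [rev_val]; show k + 1 < N - 1 - (k + 1); omega)) hwi
      rcases Nat.lt_or_ge (2 * k + 2) N with h2 | h2
      · refine odd_diag p hD h4 (hn ⟨k + 1, by omega⟩ (Fin.ext (by
          rw [rev_val]; show N - 1 - (k + 1) = k + 1; omega))) (by omega) hwi
      · refine even_diag p hD h4 (by omega) hwi ?_
        have hii : i ≠ rev i := fun e => by
          have := congrArg Fin.val e; rw [rev_val] at this; omega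
        rw [Fintype.prod_eq_mul i (rev i) hii (fun y hy => by
          have := Fin.val_ne_of_ne hy.1
          have := Fin.val_ne_of_ne hy.2
          rw [rev_val] at this
          by_cases hy' : (y : ℕ) < k
          · exact h1 y hy'
          · exact h1' y (by omega))] at hdet
        have e := hrel h w hh (rev i)
        rw [Fin.rev_rev] at e
        exact (mul_left_cancel₀ (hne h w hh (rev i)) (by rw [e]; linear_combination -hdet))
    have haH : a ∈ H := Subgroup.subset_closure (Or.inr ha)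
    have hinv : mat a⁻¹ = Matrix.diagonal fun x => (v x)⁻¹ := by
      refine left_inv_eq_right_inv (a := mat a) (by rw [← mat_mul, inv_mul_cancel, mat_one]) ?_
      rw [hav, Matrix.diagonal_mul_diagonal, ← Matrix.diagonal_one]
      congr 1
      funext x
      exact mul_inv_cancel₀ (hne a v hav x)
    have hrest : a⁻¹ * h ∈ H := by
      refine ih (s - 2) (by omega) (k + 1) (by omega) _ (fun x => (v x)⁻¹ * w x)
        (by rw [mat_mul, hinv, hh, Matrix.diagonal_mul_diagonal]) fun x hx => ?_
      rcases eq_or_ne x i with rfl | hxi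
      · rw [hvi, inv_mul_cancel₀ hwi]
      · have := Fin.val_ne_of_ne hxi
        rw [hv1 x (Fin.lt_def.2 (by omega)), h1 x (by omega), inv_one, one_mul]
    have h4 := mul_mem haH hrest
    rwa [mul_inv_cancel_left] at h4
  have hup := normalizer_upper p hD hg
  set d : Fin N → K := fun a => mat g a a
  have hd0 : ∀ a, d a ≠ 0 := by
    intro a h0
    have h := mat_det g
    rw [Matrix.det_of_isUpperTriangular (fun x y h => hup x y h),
      Finset.prod_eq_zero (Finset.mem_univ a) h0] at h
    exact zero_ne_one h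
  obtain ⟨E, hE, hEm⟩ := exists_mono (D := D) 1 (fun _ => rfl) d (fun x => by
    have h1 := row_rel hD g x (rev x)
    rw [if_pos rfl, Finset.sum_eq_single x (fun y _ hy => by
      rcases lt_or_gt_of_ne hy with hy | hy
      · rw [hup x y hy, zero_mul, zero_mul]
      · rw [hup _ _ (Fin.rev_lt_rev.2 hy), map_zero, mul_zero]) (by simp)] at h1
    exact h1) hd0 (by
    have h := mat_det g
    rw [Matrix.det_of_isUpperTriangular (fun x y h => hup x y h)] at h
    rwa [mono_one, Matrix.det_diagonal])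
  set E' : D.group := ⟨E, hE⟩
  have hE' : mat E' = Matrix.diagonal d := by rw [← mono_one]; exact hEm
  have hEH : E' ∈ H := key N 0 (by omega) E' d hE' fun x hx => by omega
  have hB : E'⁻¹ * g ∈ U D := by
    intro a b hba
    have he : (mat E' * mat (E'⁻¹ * g)) a b = mat g a b := by
      rw [← mat_mul, mul_inv_cancel_left]
    rw [hE', Matrix.diagonal_mul] at he
    rcases eq_or_ne a b with rfl | hab
    · rw [if_pos rfl]
      exact mul_left_cancel₀ (hd0 a) (he.trans (mul_one _).symm)
    · rw [hup a b (lt_of_le_of_ne hba hab.symm)] at he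
      rw [if_neg hab]
      exact (mul_eq_zero.1 he).resolve_left (hd0 a)
  have h4 := mul_mem hEH (Subgroup.subset_closure (Or.inl (Or.inr hB)) : E'⁻¹ * g ∈ H)
  rwa [mul_inv_cancel_left] at h4

theorem U_ne_bot (p : ℕ) [Fact p.Prime] [CharP K p] (hD : D.Good) : U D ≠ ⊥ := fun h => by
  have hN := hD.three
  obtain ⟨u, hu, hne⟩ := exists_link p hD (a := (⟨0, by omega⟩ : Fin N)) (a' := ⟨1, by omega⟩) rfl
  rw [(Subgroup.eq_bot_iff_forall _).1 h u hu, mat_one] at hne
  exact hne (Matrix.one_apply_ne (by simp [Fin.ext_iff]))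

/-- The `p`-fusion system of the central quotient of a group isomorphic to an isometry group of an
antidiagonal form is simple. -/
theorem isSimple_quotient (p : ℕ) [Fact p.Prime] [CharP K p] (hD : D.Good) (h4 : 4 ≤ N)
    (hn : ∀ j : Fin N, rev j = j → ∀ b : K, ∃ a, b + D.σ b + a * D.σ a = 0)
    {G : Type*} [Group G] (e : G ≃* D.group) (S : Sylow p (G ⧸ Subgroup.center G)) :
    (Cfsg.groupFusionSystem (S : Subgroup (G ⧸ Subgroup.center G))).IsSimple p := by
  haveI : Finite G := Finite.of_equiv D.group e.symm.toEquiv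
  refine group_isSimple_quotient (Subgroup.center G) le_rfl (fun z hz k hk => ?_)
    ((U D).map e.symm.toMonoidHom) ((isPGroup_U hD).map _) ?_ ?_
    ((noStronglyClosed p hD h4).map e.symm) ((normalizerGenerated p hD h4 hn).map e.symm) S
  · refine e.injective ?_
    rw [map_one]
    refine center_pFree hD (Subgroup.mem_center_iff.2 fun x => ?_) k
      (by rw [← map_pow, hk, map_one])
    rw [← e.apply_symm_apply x, ← map_mul, ← map_mul, Subgroup.mem_center_iff.1 hz]
  · rw [Subgroup.index_map_of_bijective (f := e.symm.toMonoidHom) e.symm.bijective]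
    exact not_dvd_index_of_pElements (isPGroup_U hD) fun g hg k hk => pElement_mem hD hg k hk
  · rw [Ne, Subgroup.map_eq_bot_iff_of_injective _ e.symm.injective]
    exact U_ne_bot p hD

end CfsgLib.Fusion.FormGroup
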