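/-
Finite groups of affine automorphisms of a free group, seen as a tree: if a finite subgroup `H` of
`FreeGroup E ⋊ K` (with `K` permuting the basis) acts by `u ↦ w (k • u)`, then it fixes an element
which is a prefix of one of the translation parts. This is the centre-of-a-finite-tree argument; no
inversion can occur because `K` preserves the sign of a letter.
-/
import Mathlib.GroupTheory.FreeGroup.Reduce
import Mathlib.GroupTheory.SemidirectProduct
import Mathlib.Data.Set.Card
import Mathlib.Tactic.Group

set_option autoImplicit false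
set_option linter.unusedSectionVars false

namespace CfsgLib.Fusion.FreeTree

open FreeGroup

universe u v

variable {E : Type u} [DecidableEq E]

theorem toWord_mk_of_isReduced {L : List (E × Bool)} (hL : IsReduced L) : (mk L).toWord = L := by
  rw [toWord_mk]; exact hL.reduce_eq

theorem mk_cons (a : E × Bool) (L : List (E × Bool)) :
    mk (a :: L) = mk [a] * mk L := by rw [mul_mk]; rfl

theorem mk_append (L M : List (E × Bool)) : mk (L ++ M) = mk L * mk M := by rw [mul_mk]

theorem isReduced_of_prefix {L M : List (E × Bool)} (h : L <+: M) (hM : IsReduced M) :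
    IsReduced L :=
  hM.infix h.isInfix

theorem isReduced_of_suffix {a : E × Bool} {L : List (E × Bool)} (h : IsReduced (a :: L)) :
    IsReduced L :=
  h.infix (List.suffix_cons a L).isInfix

/-- A point between `mk La` and `mk Lb` is a prefix of one of them. -/
theorem prefix_between : ∀ (La Lb : List (E × Bool)), IsReduced La → IsReduced Lb →
    ∀ q : List (E × Bool), q <+: ((mk La)⁻¹ * mk Lb).toWord →
      ∃ r : List (E × Bool), (r <+: La ∨ r <+: Lb) ∧ mk La * mk q = mk r := by
  intro La
  induction La with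
  | nil =>
    intro Lb _ hb q hq
    refine ⟨q, Or.inr ?_, ?_⟩
    · rw [← one_eq_mk, inv_one, one_mul, toWord_mk_of_isReduced hb] at hq
      exact hq
    · rw [← one_eq_mk, one_mul]
  | cons a La ih =>
    intro Lb ha hb q hq
    by_cases hhead : ∃ Lb', Lb = a :: Lb'
    · obtain ⟨Lb', rfl⟩ := hhead
      have ha' : IsReduced La := isReduced_of_suffix ha
      have hb' : IsReduced Lb' := isReduced_of_suffix hb
      rw [mk_cons a La, mk_cons a Lb'] at hq
      have hq' : q <+: ((mk La)⁻¹ * mk Lb').toWord := by
        have h : (mk [a] * mk La)⁻¹ * (mk [a] * mk Lb') = (mk La)⁻¹ * mk Lb' := by group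
        rwa [h] at hq
      obtain ⟨r, hr, hreq⟩ := ih Lb' ha' hb' q hq'
      refine ⟨a :: r, ?_, ?_⟩
      · exact hr.imp (fun h => List.cons_prefix_cons.mpr ⟨rfl, h⟩)
          (fun h => List.cons_prefix_cons.mpr ⟨rfl, h⟩)
      · rw [mk_cons a La, mk_cons a r, mul_assoc, hreq]
    · have hred : IsReduced (invRev (a :: La) ++ Lb) := by
        refine List.IsChain.append ?_ hb ?_
        · rw [← toWord_mk_of_isReduced ha, ← toWord_inv]
          exact isReduced_toWord
        · intro x hx y hy
          have hxe : x = (a.1, !a.2) := by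
            simp only [invRev, List.map_cons, List.reverse_cons, List.getLast?_append,
              List.getLast?_singleton, Option.some_or, Option.mem_def, Option.some.injEq] at hx
            exact hx.symm
          subst hxe
          obtain ⟨Lb', rfl⟩ : ∃ Lb', Lb = y :: Lb' := by
            cases Lb with
            | nil => simp at hy
            | cons z L =>
              simp only [List.head?_cons, Option.mem_def, Option.some.injEq] at hy
              exact ⟨L, by rw [hy]⟩
          intro h1
          by_contra h2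
          refine hhead ⟨Lb', ?_⟩
          have h3 : y = a := by
            have h1' : a.1 = y.1 := h1
            apply Prod.ext h1'.symm
            have h2' : ¬ (!a.2) = y.2 := h2
            revert h2'
            cases a.2 <;> cases y.2 <;> simp
          rw [h3]
      have hw : ((mk (a :: La))⁻¹ * mk Lb).toWord = invRev (a :: La) ++ Lb := by
        rw [inv_mk, mul_mk, toWord_mk, hred.reduce_eq]
      rw [hw] at hq
      rcases List.prefix_or_prefix_of_prefix hq (List.prefix_append (invRev (a :: La)) Lb) with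
        h | h
      · obtain ⟨t, ht⟩ := h
        refine ⟨invRev t, Or.inl ?_, ?_⟩
        · refine ⟨invRev q, ?_⟩
          have h' := congrArg invRev ht
          rwa [invRev_append, invRev_invRev] at h'
        · have h' : (mk (a :: La))⁻¹ = mk q * mk t := by rw [inv_mk, ← ht, mk_append]
          have h'' : mk (a :: La) = (mk t)⁻¹ * (mk q)⁻¹ := by
            rw [← mul_inv_rev, ← h', inv_inv]
          rw [h'', mul_assoc, inv_mul_cancel, mul_one, inv_mk]
      · obtain ⟨t, rfl⟩ := h
        refine ⟨t, Or.inr ((List.prefix_append_right_inj _).mp hq), ?_⟩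
        rw [mk_append, ← inv_mk, ← mul_assoc, mul_inv_cancel, one_mul]

/-- `c` lies between `a` and `b`. -/
def Between (a b c : FreeGroup E) : Prop := (a⁻¹ * c).toWord <+: (a⁻¹ * b).toWord

theorem between_mk (a b : FreeGroup E) {q : List (E × Bool)} (hq : q <+: (a⁻¹ * b).toWord) :
    Between a b (a * mk q) := by
  rw [Between, inv_mul_cancel_left, toWord_mk_of_isReduced (isReduced_of_prefix hq isReduced_toWord)]
  exact hq

theorem between_left (a b : FreeGroup E) : Between a b a := by
  rw [Between, inv_mul_cancel, toWord_one]; exact List.nil_prefix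

theorem between_right (a b : FreeGroup E) : Between a b b := List.prefix_refl _

theorem between_prefix {a b c : FreeGroup E} (h : Between a b c) :
    ∃ r : List (E × Bool), (r <+: a.toWord ∨ r <+: b.toWord) ∧ c = mk r := by
  obtain ⟨r, hr, hreq⟩ := prefix_between a.toWord b.toWord isReduced_toWord isReduced_toWord
    (a⁻¹ * c).toWord (by rw [mk_toWord, mk_toWord]; exact h)
  refine ⟨r, hr, ?_⟩
  rw [← hreq, mk_toWord, mk_toWord, mul_inv_cancel_left]

/-- A set of vertices is convex if it contains every point between two of its points. -/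
def Convex (Y : Set (FreeGroup E)) : Prop :=
  ∀ a ∈ Y, ∀ b ∈ Y, ∀ c, Between a b c → c ∈ Y

/-- The convex hull of `1` and a set. -/
def hull (X : Set (FreeGroup E)) : Set (FreeGroup E) :=
  {c | ∃ x ∈ X, ∃ r : List (E × Bool), r <+: x.toWord ∧ c = mk r}

theorem hull_finite {X : Set (FreeGroup E)} (hX : X.Finite) : (hull X).Finite := by
  refine ((hX.biUnion (t := fun x => mk '' {r | r ∈ x.toWord.inits})
    (fun x _ => (List.finite_toSet _).image _))).subset ?_
  rintro c ⟨x, hx, r, hr, rfl⟩
  exact Set.mem_biUnion hx ⟨r, (List.mem_inits r x.toWord).mpr hr, rfl⟩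

theorem mem_hull_of_prefix {X : Set (FreeGroup E)} {y : FreeGroup E} (hy : y ∈ hull X)
    {r : List (E × Bool)} (hr : r <+: y.toWord) : mk r ∈ hull X := by
  obtain ⟨x, hx, s, hs, rfl⟩ := hy
  rw [toWord_mk_of_isReduced (isReduced_of_prefix hs isReduced_toWord)] at hr
  exact ⟨x, hx, r, hr.trans hs, rfl⟩

theorem hull_convex (X : Set (FreeGroup E)) : Convex (hull X) := by
  intro a ha b hb c hc
  obtain ⟨r, hr, rfl⟩ := between_prefix hc
  rcases hr with hr | hr
  · exact mem_hull_of_prefix ha hr
  · exact mem_hull_of_prefix hb hr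

theorem self_mem_hull {X : Set (FreeGroup E)} {x : FreeGroup E} (hx : x ∈ X) : x ∈ hull X :=
  ⟨x, hx, x.toWord, List.prefix_refl _, mk_toWord.symm⟩

/-- The vertices of `Y` which lie strictly between two vertices of `Y`. -/
def interior (Y : Set (FreeGroup E)) : Set (FreeGroup E) :=
  {c | ∃ a ∈ Y, ∃ b ∈ Y, Between a b c ∧ c ≠ a ∧ c ≠ b}

theorem interior_subset {Y : Set (FreeGroup E)} (hY : Convex Y) : interior Y ⊆ Y := by
  rintro c ⟨a, ha, b, hb, hc, -, -⟩
  exact hY a ha b hb c hc

theorem toWord_ne_nil_of_ne {a b : FreeGroup E} (h : b ≠ a) : (a⁻¹ * b).toWord ≠ [] := by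
  rw [Ne, toWord_eq_nil_iff, inv_mul_eq_one]
  exact fun h' => h h'.symm

theorem interior_convex {Y : Set (FreeGroup E)} (hY : Convex Y) : Convex (interior Y) := by
  intro p hp q hq c hc
  by_cases hcp : c = p
  · rw [hcp]; exact hp
  by_cases hcq : c = q
  · rw [hcq]; exact hq
  exact ⟨p, interior_subset hY hp, q, interior_subset hY hq, hc, hcp, hcq⟩

/-- In a finite convex set with at least two points some point is not interior. -/
theorem interior_ne {Y : Set (FreeGroup E)} (hfin : Y.Finite) (hY : Convex Y)
    (hne : Y.Nonempty) : interior Y ≠ Y := by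
  intro heq
  obtain ⟨y, hy, hmax⟩ := hfin.exists_maximalFor (fun y => y.toWord.length) Y hne
  rw [← heq] at hy
  obtain ⟨a, ha, b, hb, hc, hna, hnb⟩ := hy
  obtain ⟨t, ht⟩ := hc
  set s := (a⁻¹ * y).toWord with hs
  have hsne : s ≠ [] := toWord_ne_nil_of_ne hna
  have htne : t ≠ [] := by
    rintro rfl
    rw [List.append_nil] at ht
    exact hnb (mul_left_cancel (toWord_injective ht))
  obtain ⟨s', ls, hse⟩ : ∃ s' ls, s = s' ++ [ls] :=
    ⟨s.dropLast, s.getLast hsne, (List.dropLast_append_getLast hsne).symm⟩
  obtain ⟨lt, t', hte⟩ : ∃ lt t', t = lt :: t' := ⟨t.head htne, t.tail, (List.cons_head_tail htne).symm⟩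
  have hab : IsReduced (s' ++ [ls] ++ lt :: t') := by
    rw [← hse, ← hte, ht]; exact isReduced_toWord
  have hne2 : ls.1 = lt.1 → ls.2 = lt.2 := by
    have h1 : IsReduced [ls, lt] := hab.infix ⟨s', t', by simp⟩
    exact (isReduced_cons_cons.mp h1).1
  -- the two neighbours of `y`
  have hn1 : a * mk s' ∈ Y := hY a ha b hb _ (between_mk a b ⟨[ls] ++ t, by rw [← ht, hse]; simp⟩)
  have hn2 : a * mk (s ++ [lt]) ∈ Y :=
    hY a ha b hb _ (between_mk a b ⟨t', by rw [← ht, hte]; simp⟩)
  have hy_eq : y = a * mk s := by rw [hs, mk_toWord, mul_inv_cancel_left]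
  have he1 : a * mk s' = y * mk [(ls.1, !ls.2)] := by
    rw [hy_eq, hse, mk_append, mul_assoc, mul_assoc]
    have : mk [(ls.1, !ls.2)] = (mk [ls])⁻¹ := by rw [inv_mk]; rfl
    rw [this, mul_inv_cancel, mul_one]
  have he2 : a * mk (s ++ [lt]) = y * mk [lt] := by rw [hy_eq, mk_append, mul_assoc]
  rw [he1] at hn1
  rw [he2] at hn2
  -- one of them is longer
  have hlong : ∀ l : E × Bool, y * mk [l] ∈ Y →
      ∃ w, y.toWord = w ∧ ∀ L, w = L → ¬ IsReduced (L ++ [l]) := by
    intro l hl
    refine ⟨_, rfl, fun L hL hred => ?_⟩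
    have h1 : (y * mk [l]).toWord = L ++ [l] := by
      rw [← toWord_mk_of_isReduced hred, mk_append, ← hL, mk_toWord]
    have h2 := hmax hl (by
      simp only [h1, hL]; simp)
    simp only [h1, hL] at h2
    simp at h2
  obtain ⟨w1, hw1, h1⟩ := hlong _ hn1
  obtain ⟨w2, hw2, h2⟩ := hlong _ hn2
  have key : ∀ l : E × Bool, IsReduced (y.toWord ++ [l]) ∨
      ∃ z, y.toWord.getLast? = some z ∧ z.1 = l.1 ∧ z.2 ≠ l.2 := by
    intro l
    by_cases h : ∃ z, y.toWord.getLast? = some z ∧ z.1 = l.1 ∧ z.2 ≠ l.2
    · exact Or.inr h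
    · refine Or.inl (List.IsChain.append isReduced_toWord (List.isChain_singleton l) ?_)
      intro x hx z hz
      simp only [List.head?_cons, Option.mem_def, Option.some.injEq] at hz
      subst hz
      intro h'
      by_contra h''
      exact h ⟨x, hx, h', h''⟩
  rcases key (ls.1, !ls.2) with h | ⟨z, hz, hz1, hz2⟩
  · exact h1 _ rfl (hw1 ▸ h)
  rcases key lt with h | ⟨z', hz', hz1', hz2'⟩
  · exact h2 _ rfl (hw2 ▸ h)
  rw [hz, Option.some.injEq] at hz'
  subst hz'
  have h3 : ls.2 = lt.2 := hne2 (hz1.symm.trans hz1')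
  rw [← h3] at hz2'
  simp only at hz2
  revert hz2 hz2'
  cases z.2 <;> cases ls.2 <;> simp

/-- A nonempty convex set without interior points consists of one point or of two adjacent points. -/
theorem small_of_interior_empty {Y : Set (FreeGroup E)} (hY : interior Y = ∅) :
    ∀ a ∈ Y, ∀ b ∈ Y, a ≠ b → (∃ l, (a⁻¹ * b).toWord = [l]) ∧ ∀ c ∈ Y, c = a ∨ c = b := by
  have hone : ∀ a ∈ Y, ∀ b ∈ Y, a ≠ b → ∃ l, (a⁻¹ * b).toWord = [l] := by
    intro a ha b hb hab
    rcases hw : (a⁻¹ * b).toWord with _ | ⟨l, rest⟩
    · exact absurd hw (toWord_ne_nil_of_ne (Ne.symm hab))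
    · rcases rest with _ | ⟨l', rest⟩
      · exact ⟨l, rfl⟩
      · have hpre : [l] <+: (a⁻¹ * b).toWord := ⟨l' :: rest, by rw [hw]; rfl⟩
        have hmem : a * mk [l] ∈ interior Y := by
          refine ⟨a, ha, b, hb, between_mk a b hpre, ?_, ?_⟩
          · intro h
            have h' := congrArg toWord (mul_eq_left.mp h)
            rw [toWord_one, toWord_mk_of_isReduced IsReduced.singleton] at h'
            simp at h'
          · intro h
            have h' := congrArg (fun z => (a⁻¹ * z).toWord) h
            simp only [inv_mul_cancel_left] at h'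
            rw [toWord_mk_of_isReduced IsReduced.singleton, hw] at h'
            simp at h'
        rw [hY] at hmem
        exact absurd hmem (Set.notMem_empty _)
  intro a ha b hb hab
  refine ⟨hone a ha b hb hab, fun c hc => ?_⟩
  by_contra hne
  rw [not_or] at hne
  obtain ⟨l, hl⟩ := hone a ha b hb hab
  obtain ⟨m, hm⟩ := hone b hb c hc (Ne.symm hne.2)
  obtain ⟨k, hk⟩ := hone a ha c hc (Ne.symm hne.1)
  have h1 : (a⁻¹ * c).toWord = reduce ([l] ++ [m]) := by
    rw [← hl, ← hm, ← toWord_mul]; congr 1; group
  rw [hk] at h1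
  have hpar := congrArg List.length h1
  by_cases hlm : l.1 = m.1 → l.2 = m.2
  · have hred : reduce ([l] ++ [m]) = [l, m] :=
      (isReduced_cons_cons.mpr ⟨hlm, IsReduced.singleton⟩ : IsReduced [l, m]).reduce_eq
    have hpar' := hpar.trans (congrArg List.length hred)
    simp at hpar'
  · have h2 : mk ([l] ++ [m]) = 1 := by
      rw [Classical.not_imp] at hlm
      have hm' : m = (l.1, !l.2) := by
        refine Prod.ext (show m.1 = (l.1, !l.2).1 from hlm.1.symm) ?_
        have := hlm.2
        revert this
        cases l.2 <;> cases m.2 <;> simp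
      rw [hm', mk_append]
      have : mk [(l.1, !l.2)] = (mk [l])⁻¹ := by rw [inv_mk]; rfl
      rw [this, mul_inv_cancel]
    have h3 : reduce ([l] ++ [m]) = [] := by rw [← toWord_mk, h2, toWord_one]
    rw [h3] at hpar
    simp at hpar

section Affine

variable {K : Type v} [Group K] [MulAction K E]

variable (K E) in
/-- `K` acting on the free group on `E` through its action on `E`. -/
def freeAct : K →* MulAut (FreeGroup E) where
  toFun k := FreeGroup.freeGroupCongr (MulAction.toPerm k)
  map_one' := by
    apply MulEquiv.ext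
    intro x
    induction x using FreeGroup.induction_on with
    | C1 => simp
    | of x => simp [FreeGroup.freeGroupCongr]
    | inv_of x h => rw [_root_.map_inv, _root_.map_inv, h]
    | mul x y hx hy => rw [_root_.map_mul, _root_.map_mul, hx, hy]
  map_mul' k l := by
    apply MulEquiv.ext
    intro x
    induction x using FreeGroup.induction_on with
    | C1 => simp
    | of x => simp [FreeGroup.freeGroupCongr, mul_smul]
    | inv_of x h => rw [_root_.map_inv, _root_.map_inv, h]
    | mul x y hx hy => rw [_root_.map_mul, _root_.map_mul, hx, hy]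

theorem freeAct_mk (k : K) (L : List (E × Bool)) :
    freeAct E K k (mk L) = mk (L.map fun l => (k • l.1, l.2)) := by
  show FreeGroup.map (MulAction.toPerm k) (mk L) = _
  rw [FreeGroup.map.mk]
  rfl

theorem toWord_freeAct (k : K) (x : FreeGroup E) :
    (freeAct E K k x).toWord = x.toWord.map fun l => (k • l.1, l.2) := by
  conv_lhs => rw [← mk_toWord (x := x), freeAct_mk]
  apply toWord_mk_of_isReduced
  show List.IsChain _ _
  rw [List.isChain_map]
  exact (isReduced_toWord (x := x)).imp fun a b h h' => h (MulAction.injective k h')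

theorem freeAct_prefix (k : K) {x y : FreeGroup E} (h : x.toWord <+: y.toWord) :
    (freeAct E K k x).toWord <+: (freeAct E K k y).toWord := by
  rw [toWord_freeAct, toWord_freeAct]
  exact h.map _

/-- The affine action of `FreeGroup E ⋊ K`. -/
def pt (g : FreeGroup E ⋊[freeAct E K] K) (u : FreeGroup E) : FreeGroup E :=
  g.left * freeAct E K g.right u

theorem pt_mul (g h : FreeGroup E ⋊[freeAct E K] K) (u : FreeGroup E) :
    pt (g * h) u = pt g (pt h u) := by
  simp [pt, mul_assoc, map_mul]

theorem pt_one (u : FreeGroup E) : pt (1 : FreeGroup E ⋊[freeAct E K] K) u = u := by simp [pt]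

theorem pt_apply_one (g : FreeGroup E ⋊[freeAct E K] K) : pt g 1 = g.left := by simp [pt]

theorem inv_pt_mul_pt (g : FreeGroup E ⋊[freeAct E K] K) (x y : FreeGroup E) :
    (pt g x)⁻¹ * pt g y = freeAct E K g.right (x⁻¹ * y) := by
  simp [pt, mul_assoc]

theorem pt_between (g : FreeGroup E ⋊[freeAct E K] K) {a b c : FreeGroup E} (h : Between a b c) :
    Between (pt g a) (pt g b) (pt g c) := by
  rw [Between, inv_pt_mul_pt, inv_pt_mul_pt]
  exact freeAct_prefix _ h

theorem pt_injective (g : FreeGroup E ⋊[freeAct E K] K) : Function.Injective (pt g) := fun x y h =>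
  (freeAct E K g.right).injective (mul_left_cancel h)

theorem exists_fixed_of_convex (H : Subgroup (FreeGroup E ⋊[freeAct E K] K)) :
    ∀ (n : ℕ) (Y : Set (FreeGroup E)), Y.Finite → Y.ncard = n → Y.Nonempty → Convex Y →
      (∀ h ∈ H, ∀ y ∈ Y, pt h y ∈ Y) → ∃ u ∈ Y, ∀ h ∈ H, pt h u = u := by
  intro n
  induction n using Nat.strong_induction_on with
  | _ n ih =>
    intro Y hfin hn hne hY hinv
    by_cases hint : interior Y = ∅
    · obtain ⟨a, ha⟩ := hne
      refine ⟨a, ha, fun h hh => ?_⟩
      by_contra hmove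
      obtain ⟨⟨l, hl⟩, hall⟩ := small_of_interior_empty hint a ha _ (hinv h hh a ha) (Ne.symm hmove)
      have hb : pt h (pt h a) = a := by
        rcases hall _ (hinv h hh _ (hinv h hh a ha)) with h' | h'
        · exact h'
        · exact absurd (pt_injective h h') hmove
      have h1 : ((pt h a)⁻¹ * a).toWord = (freeAct E K h.right (a⁻¹ * pt h a)).toWord := by
        rw [← inv_pt_mul_pt h a (pt h a), hb]
      rw [toWord_freeAct, hl] at h1
      have h2 : ((pt h a)⁻¹ * a).toWord = invRev [l] := by
        rw [← hl, ← toWord_inv, mul_inv_rev, inv_inv]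
      rw [h2] at h1
      simp [invRev] at h1
    · have hsub : interior Y ⊂ Y := (interior_subset hY).ssubset_of_ne (interior_ne hfin hY hne)
      have hlt : (interior Y).ncard < n := hn ▸ Set.ncard_lt_ncard hsub hfin
      obtain ⟨u, hu, hfix⟩ := ih _ hlt (interior Y) (hfin.subset hsub.subset) rfl
        (Set.nonempty_iff_ne_empty.mpr hint) (interior_convex hY) (by
          rintro h hh c ⟨a, ha, b, hb, hc, hna, hnb⟩
          exact ⟨pt h a, hinv h hh a ha, pt h b, hinv h hh b hb, pt_between h hc,
            fun e => hna (pt_injective h e), fun e => hnb (pt_injective h e)⟩)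
      exact ⟨u, hsub.subset hu, hfix⟩

/-- **Fixed point**: a finite subgroup of `FreeGroup E ⋊ K` fixes a prefix of one of its translation parts. -/
theorem exists_fixed (H : Subgroup (FreeGroup E ⋊[freeAct E K] K)) [Finite H] :
    ∃ u : FreeGroup E, (∃ h ∈ H, u.toWord <+: h.left.toWord) ∧ ∀ h ∈ H, pt h u = u := by
  have hX : ((fun h => h.left) '' (H : Set (FreeGroup E ⋊[freeAct E K] K))).Finite :=
    (Set.toFinite _).image _
  set X : Set (FreeGroup E) := (fun h => h.left) '' (H : Set (FreeGroup E ⋊[freeAct E K] K)) with hXd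
  have hone : (1 : FreeGroup E) ∈ X := ⟨1, H.one_mem, rfl⟩
  have hinvX : ∀ h ∈ H, ∀ x ∈ X, pt h x ∈ X := by
    rintro h hh x ⟨g, hg, rfl⟩
    exact ⟨h * g, H.mul_mem hh hg, by show (h * g).left = _; simp [pt]⟩
  have hinv : ∀ h ∈ H, ∀ y ∈ hull X, pt h y ∈ hull X := by
    rintro h hh y ⟨x, hx, r, hr, rfl⟩
    have hb : Between 1 x (mk r) := by
      rw [Between, inv_one, one_mul, one_mul,
        toWord_mk_of_isReduced (isReduced_of_prefix hr isReduced_toWord)]
      exact hr
    exact hull_convex X _ (self_mem_hull (hinvX h hh 1 hone)) _ (self_mem_hull (hinvX h hh x hx)) _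
      (pt_between h hb)
  obtain ⟨u, ⟨x, ⟨h, hh, rfl⟩, r, hr, rfl⟩, hfix⟩ := exists_fixed_of_convex H _ (hull X)
    (hull_finite hX) rfl ⟨1, self_mem_hull hone⟩ (hull_convex X) hinv
  refine ⟨mk r, ⟨h, hh, ?_⟩, hfix⟩
  rw [toWord_mk_of_isReduced (isReduced_of_prefix hr isReduced_toWord)]
  exact hr

end Affine

end CfsgLib.Fusion.FreeTree
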