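import Cfsg.Agent.Lib.Fusion.FunctorCenter

/-!
Characteristic `p`-functors, read on subgroups of `S` and in models.
-/

set_option autoImplicit false
set_option linter.style.haveILetI false
set_option linter.unusedVariables false
set_option linter.unusedSectionVars false

universe u

namespace CfsgLib.Fusion

open Cfsg Cfsg.FusionSystem Subgroup

variable {Ω : Type u} [Group Ω] {S : Subgroup Ω} {F : FusionSystem S} {p : ℕ}
  (W : ∀ (Q : Type u) [Group Q], Subgroup Q)
  (hW2 : ∀ (Q R : Type u) [Group Q] [Group R] [Finite Q], IsPGroup p Q → ∀ φ : Q ≃* R,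
    (W Q).map φ.toMonoidHom = W R)

/-- A functor read on a subgroup, as a subgroup of the ambient group. -/
abbrev funcOn (T : Subgroup Ω) : Subgroup Ω := (W ↥T).map T.subtype

theorem funcOn_le (T : Subgroup Ω) : funcOn W T ≤ T := Subgroup.map_subtype_le _

include hW2

theorem img_funcOn [Finite S] (hS : IsPGroup p S) {T : Subgroup Ω} {f : Ω → Ω}
    (hf : IsMap F T f) (hfT : img T f = T) : img (funcOn W T) f = funcOn W T := by
  haveI := finite_of_le hf.le
  have h := hW2 T T (hS.to_le hf.le) (hf.toAut hfT)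
  ext y
  rw [(hf.mono (funcOn_le W T)).mem_img]
  constructor
  · rintro ⟨_, ⟨w, hw, rfl⟩, rfl⟩
    refine ⟨hf.toAut hfT w, ?_, hf.toAut_apply hfT w⟩
    rw [← h]
    exact ⟨w, hw, rfl⟩
  · rintro ⟨v, hv, rfl⟩
    rw [SetLike.mem_coe, ← h] at hv
    obtain ⟨w, hw, rfl⟩ := hv
    exact ⟨w, ⟨w, hw, rfl⟩, (hf.toAut_apply hfT w).symm⟩

theorem normalizer_le_funcOn [Finite S] (hS : IsPGroup p S) {T : Subgroup Ω} (hT : T ≤ S) :
    normalizerIn S T ≤ normalizerIn S (funcOn W T) := by
  intro a ha
  refine ⟨ha.1, ?_⟩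
  have hm := isMap_conj (innerFusionSystem S) hT ha.1
  have hi : img T (fun x => a * x * a⁻¹) = T := by
    ext y
    rw [hm.mem_img]
    constructor
    · rintro ⟨x, hx, rfl⟩
      exact (ha.2 x).1 hx
    · exact fun hy => ⟨a⁻¹ * y * a, (Subgroup.mem_normalizer_iff''.1 ha.2 y).1 hy, by group⟩
  have h := img_funcOn W hW2 hS hm hi
  intro x
  constructor
  · intro hx
    exact h.le ((hm.mono (funcOn_le W T)).apply_mem_img hx)
  · intro hx
    obtain ⟨w, hw, hwx⟩ := (hm.mono (funcOn_le W T)).mem_img.1 (h.ge hx)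
    obtain rfl : w = x := mul_left_cancel (mul_right_cancel hwx)
    exact hw

theorem normalizerIn_funcOn_top [Finite S] (hS : IsPGroup p S) :
    normalizerIn S (funcOn W S) = S :=
  le_antisymm inf_le_left ((le_inf le_rfl Subgroup.le_normalizer).trans
    (normalizer_le_funcOn W hW2 hS le_rfl))

theorem funcOn_map_embedding {G : Type u} [Group G] {T : Subgroup Ω} [Finite T] (hT : IsPGroup p T)
    {ι : T →* G} (hι : Function.Injective ι) {P : Subgroup G} (hP : P = ι.range) :
    (W ↥P).map P.subtype = ((funcOn W T).subgroupOf T).map ι := by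
  subst hP
  rw [← hW2 T ι.range hT (MonoidHom.ofInjective hι), Subgroup.map_map, funcOn,
    Subgroup.subgroupOf, Subgroup.comap_map_eq_self_of_injective T.subtype_injective]
  rfl

end CfsgLib.Fusion
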