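import Cfsg.Agent.Lib.Fusion.FunctorNormal
import Cfsg.Agent.S5090

/-!
A characteristic subgroup that is normal in all constrained groups without a section yields a
functor, hence a normal subgroup of every saturated system without that section.
-/

set_option autoImplicit false
set_option linter.style.haveILetI false
set_option linter.unusedVariables false
set_option linter.unusedSectionVars false

universe u w

namespace CfsgLib.Fusion

open Cfsg Cfsg.FusionSystem Subgroup

variable (p : ℕ) (H : Type w) [Group H]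

/-- `W` is normal in every constrained group without the section `H` having `Q` as Sylow subgroup. -/
def GoodIn (Q : Type u) [Group Q] (W : Subgroup Q) : Prop :=
  ∀ (G : Type u) [Group G] [Finite G] (τ : Q →* G), Function.Injective τ →
    (∃ P : Sylow p G, (P : Subgroup G) = τ.range) → ¬ Cfsg.Involves H G →
    Subgroup.centralizer (Cfsg.pCore p G : Set G) ≤ Cfsg.pCore p G → (W.map τ).Normal

/-- The largest characteristic subgroup normal in the constrained groups without `H`. -/
noncomputable def charFunc (Q : Type u) [Group Q] : Subgroup Q :=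
  sSup {W : Subgroup Q | W.Characteristic ∧ GoodIn.{u, w} p H Q W}

theorem normal_of_forall_le_map {G : Type*} [Group G] {W : Subgroup G}
    (h : ∀ g : G, W.map (MulAut.conj g).toMonoidHom ≤ W) : W.Normal :=
  ⟨fun x hx g => h g ⟨x, hx, rfl⟩⟩

theorem goodIn_charFunc (Q : Type u) [Group Q] : GoodIn.{u, w} p H Q (charFunc.{u, w} p H Q) := by
  intro G _ _ τ hτ hP hfree hc
  refine normal_of_forall_le_map fun g => ?_
  rw [Subgroup.map_map, Subgroup.map_le_iff_le_comap]
  refine sSup_le fun W hW => ?_
  rw [← Subgroup.map_le_iff_le_comap]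
  have hn := hW.2 G τ hτ hP hfree hc
  rintro _ ⟨x, hx, rfl⟩
  obtain ⟨y, hy, hyx⟩ := hn.conj_mem _ ⟨x, hx, rfl⟩ g
  exact ⟨y, le_sSup (α := Subgroup Q) hW hy, hyx⟩

theorem charFunc_map_equiv (Q R : Type u) [Group Q] [Group R] (φ : Q ≃* R) :
    (charFunc.{u, w} p H Q).map φ.toMonoidHom = charFunc.{u, w} p H R := by
  have key : ∀ {A B : Type u} [Group A] [Group B] (e : A ≃* B),
      (charFunc.{u, w} p H A).map e.toMonoidHom ≤ charFunc.{u, w} p H B := by
    intro A B _ _ e
    rw [Subgroup.map_le_iff_le_comap]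
    refine sSup_le fun W hW => ?_
    rw [← Subgroup.map_le_iff_le_comap]
    refine le_sSup ⟨Subgroup.characteristic_iff_map_eq.2 fun f => ?_, fun G _ _ τ hτ hP hfree hc => ?_⟩
    · have h1 := (Subgroup.characteristic_iff_map_eq.1 hW.1) ((e.trans f).trans e.symm)
      conv_rhs => rw [← h1]
      rw [Subgroup.map_map, Subgroup.map_map]
      congr 1
      ext x
      simp
    · rw [Subgroup.map_map]
      refine hW.2 G (τ.comp e.toMonoidHom) (hτ.comp e.injective) ?_ hfree hc
      obtain ⟨P, hP⟩ := hP
      refine ⟨P, ?_⟩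
      rw [hP, MonoidHom.range_eq_map, MonoidHom.range_eq_map, ← Subgroup.map_map,
        ← MonoidHom.range_eq_map e.toMonoidHom, MonoidHom.range_eq_top.2 e.surjective]
  refine le_antisymm (key φ) fun x hx => ⟨φ.symm x, key φ.symm ⟨x, hx, rfl⟩, ?_⟩
  exact φ.apply_symm_apply x

theorem charFunc_normalInFree : NormalInFree.{u, w} p H (charFunc.{u, w} p H) := by
  intro L _ _ P hc hfree
  exact goodIn_charFunc p H _ L (P : Subgroup L).subtype (Subgroup.subtype_injective _)
    ⟨P, (Subgroup.range_subtype _).symm⟩ hfree hc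

/-- Every nontrivial `p`-group has a nontrivial good characteristic subgroup. -/
def HasGoodCharacteristic : Prop :=
  ∀ (Q : Type u) [Group Q] [Finite Q], IsPGroup p Q → Nontrivial Q →
    ∃ W : Subgroup Q, W ≠ ⊥ ∧ W.Characteristic ∧ GoodIn.{u, w} p H Q W

variable {p H}

theorem charFunc_ne_bot (h : HasGoodCharacteristic.{u, w} p H) (Q : Type u) [Group Q] [Finite Q]
    (hQ : IsPGroup p Q) (hne : Nontrivial Q) : charFunc.{u, w} p H Q ≠ ⊥ := fun hb => by
  obtain ⟨W, hW, hWc, hWg⟩ := h Q hQ hne
  exact hW (le_bot_iff.1 (hb ▸ le_sSup (α := Subgroup Q) ⟨hWc, hWg⟩))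

/-- A good characteristic subgroup gives one normal in every saturated system without `H`. -/
theorem exists_characteristic_isNormal [Fact p.Prime] (h : HasGoodCharacteristic.{u, w} p H)
    {Ω : Type u} [Group Ω] {S : Subgroup Ω} [Finite S] (hS : IsPGroup p S) (hne : S ≠ ⊥) :
    ∃ W : Subgroup Ω, W ≤ S ∧ W ≠ ⊥ ∧ (W.subgroupOf S).Characteristic ∧
      ∀ F : FusionSystem S, F.IsSaturated p → F.IsSectionFree p H → F.IsNormal W := by
  refine ⟨funcOn (charFunc.{u, w} p H) S, funcOn_le _ S,
    funcOn_ne_bot _ (charFunc_ne_bot h) hS hne, ?_, fun F hF hfree =>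
    funcOn_isNormal _ (charFunc_ne_bot h) (fun Q R _ _ _ _ φ => charFunc_map_equiv p H Q R φ)
      (charFunc_normalInFree p H) Ω S F hS hF hfree⟩
  rw [funcOn, Subgroup.subgroupOf, Subgroup.comap_map_eq_self_of_injective S.subtype_injective]
  exact Subgroup.characteristic_iff_map_eq.2 fun e => charFunc_map_equiv p H S S e

variable {Ω : Type u} [Group Ω] {S : Subgroup Ω} [Finite S] {F : FusionSystem S} [Fact p.Prime]

theorem core_ne_bot_of_charFree (h : HasGoodCharacteristic.{u, w} p H) (hS : IsPGroup p S) (hF : F.IsSaturated p)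
    (hfree : F.IsSectionFree p H) (hne : S ≠ ⊥) : F.core ≠ ⊥ := fun hc => by
  refine funcOn_ne_bot (charFunc.{u, w} p H) (charFunc_ne_bot h) hS hne (le_bot_iff.1 ?_)
  rw [← hc]
  exact IsNormal.le_core (funcOn_isNormal (charFunc.{u, w} p H) (charFunc_ne_bot h) (fun Q R _ _ _ _ φ => charFunc_map_equiv p H Q R φ)
    (charFunc_normalInFree p H) Ω S F hS hF hfree)

/-- A `H`-free saturated system is constrained. -/
theorem isConstrained_of_charFree (h : HasGoodCharacteristic.{u, w} p H) (hS : IsPGroup p S) (hF : F.IsSaturated p)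
    (hfree : F.IsSectionFree p H) : F.IsConstrained p := by
  refine ⟨hF, F.core, core_isNormal, ?_⟩
  by_cases hne : S = ⊥
  · refine (IsNormal.centric_iff core_isNormal).2 fun x hx => ?_
    have : x ∈ (⊥ : Subgroup Ω) := hne ▸ hx.1
    rw [Subgroup.mem_bot.1 this]
    exact one_mem _
  have hn := funcOn_isNormal (charFunc.{u, w} p H) (charFunc_ne_bot h) (fun Q R _ _ _ _ φ => charFunc_map_equiv p H Q R φ) (charFunc_normalInFree p H)
  exact centric_core_of_ne_bot (charFunc.{u, w} p H) (charFunc_ne_bot h) (fun Q R _ _ _ _ φ => charFunc_map_equiv p H Q R φ) (charFunc_normalInFree p H)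
    hS hF hfree (fun Ω' _ S' _ F' _ hS' hF' hf' => hn Ω' S' F' hS' hF' hf')
    (fun F' _ hF' hf' => hn Ω S F' hS hF' hf') (core_ne_bot_of_charFree h hS hF hfree hne)

/-- A `H`-free saturated system is realizable. -/
theorem isRealizable_of_charFree (h : HasGoodCharacteristic.{u, w} p H) (hS : IsPGroup p S) (hF : F.IsSaturated p)
    (hfree : F.IsSectionFree p H) : F.IsRealizable p := by
  obtain ⟨G, hG, ι, hfin, hr, hT, -⟩ :=
    Cfsg.Agent.S5090.result p hS F (isConstrained_of_charFree h hS hF hfree)
  exact ⟨G, hG, hfin, ι, hr, hT⟩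

/-- A `H`-free saturated system is solvable. -/
theorem isSolvableSystem_of_charFree (h : HasGoodCharacteristic.{u, w} p H) (hS : IsPGroup p S) (hF : F.IsSaturated p)
    (hfree : F.IsSectionFree p H) : F.IsSolvableSystem := by
  intro R hR hRS _ E hE
  have hn : normalizerIn S R = S := StronglyClosed.normalizerIn_eq hR
  have hRn : F.IsFullyNormalized R := ⟨hR.1, fun T hT => by
    rw [hn]; exact Subgroup.card_le_of_le inf_le_left⟩
  set N := normSys F R hR.1 hn with hNdef
  have hNs : N.IsSaturated p := isSaturated_normSys hS hF hR.1 hn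
  have hNfree : N.IsSectionFree p H := isSectionFree_castSys hn
    (isSectionFree_normalizer hS hF hRn (isNormalizerSystem_normalizerSys F R hR.1) hfree)
  have hRN : N.IsNormal R := isNormal_normSys_self hR.1 hn
  set θ := QuotientGroup.mk' (R.subgroupOf S) with hθ
  obtain ⟨hRS', hker, hrange, hhom⟩ := hE
  have hNE : N.IsFactorSystem R θ E := by
    refine ⟨hRS', hker, hrange, fun P' φ' => (hhom P' φ').trans ?_⟩
    refine and_congr_right fun hP' => exists_congr fun φ => and_congr_left fun _ => ?_
    have hRA : R ≤ preimageAlong θ P' := le_preimageAlong_of_ker hker hRS'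
    constructor
    · intro hφ
      have hm := isMap_of_hom hφ
      have hi : img R (toFun φ) = R := by
        haveI := finite_of_le hR.1
        exact StronglyClosed.img_eq hR hm hRA
      obtain ⟨χ, hχ, hχf⟩ : IsMap N (preimageAlong θ P') (toFun φ) :=
        (isMap_normSys_iff hR.1 hn).2 ⟨hm.le, fun x hx => hm.mem hx, toFun φ,
          by rwa [sup_eq_left.2 hRA], fun _ _ => rfl, hi⟩
      have e : χ = φ := MonoidHom.ext fun x => (hχf x).trans (toFun_apply φ x)
      rwa [← e]
    · intro hφ
      obtain ⟨-, -, g, hg, hgx, -⟩ := (isMap_normSys_iff hR.1 hn).1 (isMap_of_hom hφ)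
      obtain ⟨χ, hχ, hχf⟩ := (hg.mono le_sup_left).congr hgx
      have e : χ = φ := MonoidHom.ext fun x => (hχf x).trans (toFun_apply φ x)
      rwa [← e]
  haveI : Finite θ.range := Subtype.finite
  haveI : Finite (⊤ : Subgroup (↥S ⧸ R.subgroupOf S)) := Subtype.finite
  have hTp : IsPGroup p (⊤ : Subgroup (↥S ⧸ R.subgroupOf S)) :=
    (hS.to_quotient _).to_subgroup _
  have hEs : E.IsSaturated p :=
    isSaturated_image hS hNs (isSurjectiveMorphism_factor hS hNs (IsNormal.stronglyClosed hRN) hNE)
  refine core_ne_bot_of_charFree h hTp hEs (isSectionFree_factor hS hNs hRN hNE hNfree) fun h => ?_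
  refine hRS (le_antisymm hR.1 fun x hx => ?_)
  refine (hker ⟨x, hx⟩).1 (Subgroup.mem_bot.1 ?_)
  rw [← h]
  exact Subgroup.mem_top _

end CfsgLib.Fusion
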