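import Cfsg.Agent.Lib.Fusion.QuadraticTrace
import Cfsg.Agent.Lib.Fusion.GroupSystem
import Mathlib.Algebra.Group.Action.End
import Mathlib.GroupTheory.GroupAction.ConjAct
import Mathlib.GroupTheory.GroupAction.Defs

/-!
Glauberman's argument: with quadratic elements outside `O_p(G)`, a `p`-th power of a `P`-fixed
element of an abelian normal subgroup which is fixed by `N_G(Q)` is central, `Q` being the
subgroup of `P` generated by the quadratic elements.
-/

set_option autoImplicit false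
set_option linter.style.haveILetI false
set_option linter.unusedVariables false
set_option linter.unusedSectionVars false

namespace CfsgLib.Fusion

open Cfsg Subgroup
open scoped commutatorElement

variable {G : Type*} [Group G] [Finite G] {p : ℕ} [Fact p.Prime]

/-- The conjugation action of `G` on a normal subgroup. -/
@[instance_reducible]
def conjNormalAction (V : Subgroup G) [V.Normal] : MulDistribMulAction G V :=
  MulDistribMulAction.compHom V (MulAut.conjNormal : G →* MulAut V)

theorem fixed_of_quadratic (P : Sylow p G) {M : Subgroup G} (hPM : (P : Subgroup G) ≤ M)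
    (Γ : Set G) (hΓc : ∀ γ ∈ Γ, ∀ g : G, g * γ * g⁻¹ ∈ Γ)
    (hN : Subgroup.normalizer
      ((Subgroup.closure {γ | γ ∈ Γ ∧ γ ∈ (P : Subgroup G)} : Subgroup G) : Set G) ≤ M) :
    ∀ V : Subgroup G, V.Normal → IsPGroup p V → (∀ a ∈ V, ∀ b ∈ V, a * b = b * a) →
      (∀ γ ∈ Γ, ∀ a ∈ V, γ * (γ * a * γ⁻¹ * a⁻¹) * γ⁻¹ = γ * a * γ⁻¹ * a⁻¹) →
      ∀ w ∈ V, (∀ x ∈ (P : Subgroup G), x * w * x⁻¹ = w) →
        (∀ m ∈ M, m * w ^ p * m⁻¹ = w ^ p) → ∀ g : G, g * w ^ p * g⁻¹ = w ^ p := by
  intro V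
  induction V using WellFoundedLT.induction with
  | _ V ih =>
    intro hVn hVp hVc hquad w hw hwP hwM g
    haveI := hVn
    classical
    letI : CommGroup V :=
      { (inferInstance : Group V) with mul_comm := fun a b => Subtype.ext (hVc a a.2 b b.2) }
    letI : MulDistribMulAction G V := conjNormalAction V
    have hsm : ∀ (g : G) (a : V), ((g • a : V) : G) = g * (a : G) * g⁻¹ := fun g a =>
      MulAut.conjNormal_apply g a
    by_cases hV : V = ⊥
    · subst hV
      rw [Subgroup.mem_bot.1 hw]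
      simp
    set w₀ : V := ⟨w, hw⟩ with hw₀
    set PM := (P : Subgroup G).subgroupOf M with hPMdef
    letI : Fintype (M ⧸ PM) := Fintype.ofFinite _
    have hw₀P : ∀ m ∈ PM, (m : G) • w₀ = w₀ := fun m hm =>
      Subtype.ext ((hsm _ _).trans (hwP m hm))
    let e : M ⧸ PM → V := fun c => ((c.out : M) : G) • w₀
    have he : ∀ (m : M) (c : M ⧸ PM), e (m • c) = (m : G) • e c := fun m c => by
      obtain ⟨⟨k, hk⟩, hk'⟩ := QuotientGroup.mk_out_eq_mul PM (m * c.out)
      have h1 : m • c = ((m * c.out : M) : M ⧸ PM) := by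
        conv_lhs => rw [← QuotientGroup.out_eq' c]
        rfl
      show (((m • c).out : M) : G) • w₀ = (m : G) • ((c.out : M) : G) • w₀
      rw [h1, hk', Subgroup.coe_mul, Subgroup.coe_mul, mul_smul, hw₀P k hk, mul_smul]
    set wM : V := ∏ c : M ⧸ PM, e c with hwMdef
    have hwMfix : ∀ m ∈ M, m • wM = wM := fun m hm => by
      rw [hwMdef, Finset.smul_prod']
      exact Fintype.prod_equiv (MulAction.toPerm (⟨m, hm⟩ : M)) _ _ fun c => (he ⟨m, hm⟩ c).symm
    have hz : ∀ m ∈ M, m • w₀ ^ p = w₀ ^ p := fun m hm =>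
      Subtype.ext ((hsm _ _).trans (hwM m hm))
    have hwMp : wM ^ p = (w₀ ^ p) ^ Nat.card (M ⧸ PM) := by
      rw [hwMdef, ← Finset.prod_pow]
      simp only [e, ← smul_pow', Nat.card_eq_fintype_card]
      rw [Finset.prod_congr rfl fun c _ => hz _ (c.out : M).2, Finset.prod_const, Finset.card_univ]
    have hn : ¬ p ∣ Nat.card (M ⧸ PM) := fun hd => P.not_dvd_index
      (hd.trans (Subgroup.relIndex_dvd_index_of_le hPM))
    obtain ⟨k, hk⟩ := IsPGroup.iff_card.1 hVp
    have hbij : Function.Bijective (fun a : V => a ^ Nat.card (M ⧸ PM)) := by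
      refine (powCoprime ?_).bijective
      rw [hk]
      exact Nat.Coprime.pow_left k ((Fact.out : p.Prime).coprime_iff_not_dvd.2 hn)
    obtain ⟨v, hv⟩ := hbij.2 wM
    replace hv : v ^ Nat.card (M ⧸ PM) = wM := hv
    have hvM : ∀ m ∈ M, m • v = v := fun m hm => hbij.1 (by
      show (m • v) ^ _ = v ^ _
      rw [← smul_pow', hv, hwMfix m hm])
    have hvp : v ^ p = w₀ ^ p := hbij.1 (by
      show (v ^ p) ^ _ = (w₀ ^ p) ^ _
      rw [← pow_mul, mul_comm, pow_mul, hv, hwMp])
    letI : Fintype (G ⧸ M) := Fintype.ofFinite _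
    let f : G ⧸ M → V := fun c => c.out • v
    have hf : ∀ (g : G) (c : G ⧸ M), f (g • c) = g • f c := fun g c => by
      obtain ⟨⟨k, hk⟩, hk'⟩ := QuotientGroup.mk_out_eq_mul M (g * c.out)
      have h1 : g • c = ((g * c.out : G) : G ⧸ M) := by
        conv_lhs => rw [← QuotientGroup.out_eq' c]
        rfl
      show (g • c).out • v = g • c.out • v
      rw [h1, hk', mul_smul, hvM k hk, mul_smul]
    have hmov : ∀ x ∈ (Finset.univ.erase ((1 : G) : G ⧸ M)),
        ∃ γ ∈ Γ, γ ∈ (P : Subgroup G) ∧ γ • x ≠ x := by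
      intro x hx
      by_contra hno
      push Not at hno
      refine (Finset.mem_erase.1 hx).1 ?_
      obtain ⟨a, rfl⟩ := QuotientGroup.mk_surjective x
      refine QuotientGroup.eq.2 ?_
      rw [mul_one]
      set Q := Subgroup.closure {γ | γ ∈ Γ ∧ γ ∈ (P : Subgroup G)} with hQ
      have hQP : Q ≤ (P : Subgroup G) := (Subgroup.closure_le _).2 fun γ hγ => hγ.2
      have hQM : conjSub a⁻¹ Q ≤ M := by
        rw [conjSub, Subgroup.map_le_iff_le_comap, Subgroup.closure_le]
        rintro γ ⟨hγ, hγP⟩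
        have h1 := QuotientGroup.eq.1 (hno γ hγ hγP : ((γ * a : G) : G ⧸ M) = (a : G ⧸ M))
        show a⁻¹ * γ * a⁻¹⁻¹ ∈ M
        have h2 : ((γ * a)⁻¹ * a)⁻¹ ∈ M := M.inv_mem h1
        rw [inv_inv]
        rwa [show ((γ * a)⁻¹ * a)⁻¹ = a⁻¹ * γ * a by group] at h2
      obtain ⟨m, hm, hmQ⟩ := exists_conj_le_of_sylow P.isPGroup' hPM
        (fun hd => P.not_dvd_index (hd.trans (Subgroup.relIndex_dvd_index_of_le hPM)))
        (IsPGroup.map (P.isPGroup'.to_le hQP) _) hQM
      have hle : conjSub (m * a⁻¹) Q ≤ Q := by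
        rw [conjSub, Subgroup.map_le_iff_le_comap, Subgroup.closure_le]
        rintro γ ⟨hγ, hγP⟩
        refine Subgroup.subset_closure ⟨hΓc γ hγ _, hmQ ?_⟩
        show m * a⁻¹ * γ * (m * a⁻¹)⁻¹ ∈ conjSub m (conjSub a⁻¹ Q)
        rw [← conjSub_mul]
        exact conj_mem_conjSub (Subgroup.subset_closure ⟨hγ, hγP⟩)
      have hQeq : conjSub (m * a⁻¹) Q = Q :=
        eq_of_le_of_card_le hle (card_conjSub _ _).ge
      have hmem : m * a⁻¹ ∈ M := hN fun x => by
        constructor
        · intro hx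
          exact hQeq.le (conj_mem_conjSub hx)
        · intro hx
          have h1 : _ ∈ conjSub (m * a⁻¹) Q := hQeq.ge hx
          rw [mem_conjSub] at h1
          simpa [mul_assoc] using h1
      have h3 := M.mul_mem (M.inv_mem hm) hmem
      simpa using h3
    have hΓ : ∀ γ ∈ Γ, ∀ a : V, γ • ((γ • a) / a) = (γ • a) / a := fun γ hγ a => by
      have h1 : (((γ • a) / a : V) : G) = γ * (a : G) * γ⁻¹ * (a : G)⁻¹ := by
        rw [div_eq_mul_inv, Subgroup.coe_mul, hsm]
        rfl
      apply Subtype.ext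
      rw [hsm, h1]
      exact hquad γ hγ a a.2
    obtain ⟨a, haP, hae⟩ := QuadraticTrace.exists_root_finset f hf Γ hΓ (P : Subgroup G)
      P.isPGroup' _ _ rfl (fun r hr x hx => by
        rw [Finset.mem_erase] at hx ⊢
        refine ⟨fun h => hx.1 ?_, Finset.mem_univ _⟩
        rw [← inv_smul_smul r x, h]
        exact QuotientGroup.eq.2 (by simpa using hPM hr)) hmov
    set T : V := ∏ c : G ⧸ M, f c with hTdef
    have hT : ∀ g : G, g • T = T := fun g => by
      rw [hTdef, Finset.smul_prod']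
      exact Fintype.prod_equiv (MulAction.toPerm g) _ _ fun c => (hf g c).symm
    have hsplit : T ^ p = w₀ ^ p * (a ^ p) ^ p := by
      rw [hTdef, ← Finset.mul_prod_erase _ _ (Finset.mem_univ ((1 : G) : G ⧸ M)), mul_pow, hae]
      congr 1
      obtain ⟨⟨k, hk⟩, hk'⟩ := QuotientGroup.mk_out_eq_mul M (1 : G)
      show ((((1 : G) : G ⧸ M).out) • v) ^ p = _
      rw [hk', one_mul, hvM k hk, hvp]
    have haM : ∀ m ∈ M, m • (a ^ p) ^ p = (a ^ p) ^ p := fun m hm => by
      have h1 : m • T ^ p = T ^ p := by rw [smul_pow', hT]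
      rw [hsplit, smul_mul', hz m hm] at h1
      exact mul_left_cancel h1
    set V' : Subgroup G := (powMonoidHom p : V →* V).range.map V.subtype with hV'
    have hV'V : V' ≤ V := Subgroup.map_subtype_le _
    have hV'n : V'.Normal := ⟨by
      rintro _ ⟨b, ⟨c, rfl⟩, rfl⟩ g
      refine ⟨(g • c) ^ p, ⟨g • c, rfl⟩, ?_⟩
      rw [← smul_pow']
      exact hsm _ _⟩
    have hlt : V' < V := by
      refine lt_of_le_of_ne hV'V fun hEq => ?_
      have hsurj : Function.Surjective (fun b : V => b ^ p) := fun b => by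
        obtain ⟨c, ⟨d, hd⟩, hc⟩ := hEq.ge b.2
        exact ⟨d, hd.trans (Subtype.ext hc)⟩
      haveI : Nontrivial V := V.nontrivial_iff_ne_bot.2 hV
      obtain ⟨j, hj, hcard⟩ := (IsPGroup.nontrivial_iff_card hVp).1 inferInstance
      obtain ⟨b, hb⟩ := exists_prime_orderOf_dvd_card' (G := V) p (hcard ▸ dvd_pow_self p hj.ne')
      have hinj := Finite.injective_iff_surjective.2 hsurj
      have h1 : b = 1 := hinj (by
        show b ^ p = 1 ^ p
        rw [one_pow, ← hb, pow_orderOf_eq_one])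
      rw [h1, orderOf_one] at hb
      exact (Fact.out : p.Prime).one_lt.ne hb
    have hfix := ih V' hlt hV'n (hVp.to_le hV'V) (fun b hb c hc => hVc b (hV'V hb) c (hV'V hc))
      (fun γ hγ b hb => hquad γ hγ b (hV'V hb)) ((a ^ p : V) : G) ⟨a ^ p, ⟨a, rfl⟩, rfl⟩
      (fun x hx => (hsm x (a ^ p)).symm.trans (congrArg Subtype.val (haP x hx)))
      (fun m hm => by
        have h1 := congrArg Subtype.val (haM m hm)
        rw [hsm, SubmonoidClass.coe_pow] at h1
        exact h1) g
    have h2 : g • w₀ ^ p = w₀ ^ p := by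
      have h3 : g • T ^ p = T ^ p := by rw [smul_pow', hT]
      have h4 : g • (a ^ p) ^ p = (a ^ p) ^ p := Subtype.ext (by
        rw [hsm, SubmonoidClass.coe_pow]
        exact hfix)
      rw [hsplit, smul_mul', h4] at h3
      exact mul_right_cancel h3
    have h5 := congrArg Subtype.val h2
    rw [hsm, SubmonoidClass.coe_pow] at h5
    exact h5

end CfsgLib.Fusion
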