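import Cfsg.Agent.Lib.Fusion.Functor
import Cfsg.Agent.Lib.Fusion.QuadraticFixed

/-!
The functor engine for centres and its group theoretic input.
-/

set_option autoImplicit false
set_option linter.style.haveILetI false
set_option linter.unusedVariables false
set_option linter.unusedSectionVars false

universe u

namespace CfsgLib.Fusion

open Cfsg Cfsg.FusionSystem Subgroup
open scoped commutatorElement

section Engine

variable {Ω : Type u} [Group Ω] {S : Subgroup Ω} [Finite S] {F : FusionSystem S} {p : ℕ}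
  [Fact p.Prime]
  (W : ∀ (Q : Type u) [Group Q], Subgroup Q)
  (hW2 : ∀ (Q R : Type u) [Group Q] [Group R] [Finite Q], IsPGroup p Q → ∀ φ : Q ≃* R,
    (W Q).map φ.toMonoidHom = W R)
  (hWZ : ∀ (Q : Type u) [Group Q] [Finite Q], IsPGroup p Q → Subgroup.center Q ≤ W Q)

include hW2 hWZ

/-- An element of `Z(S)` fixed by the maps normalizing `W(S)` is central as soon as, in every
model of the normalizer of a fully normalized centric subgroup, being fixed by the normalizer of `W` of a Sylow subgroup forces being fixed. -/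
theorem mem_center_of_functor' (hS : IsPGroup p S) (hF : F.IsSaturated p) {z : Ω} (hzS : z ∈ S)
    (hzC : ∀ a ∈ S, a * z * a⁻¹ = z)
    (hfixN : ∀ (P : Subgroup Ω) (f : Ω → Ω), IsMap F P f → funcOn W S ≤ P →
      img (funcOn W S) f = funcOn W S → z ∈ P → f z = z)
    (hG : ∀ U, F.IsCentric U → ∀ hUn : F.IsFullyNormalized U,
      ∀ (G : Type u) [Group G] [Finite G] (Ps : Sylow p G)
      (ι : normalizerIn S U →* G), (normalizerSys F U hUn.1).IsRealizedBy ι → (Ps : Subgroup G) = ι.range →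
      ((U.subgroupOf (normalizerIn S U)).map ι).Normal →
      Subgroup.centralizer (((U.subgroupOf (normalizerIn S U)).map ι : Subgroup G) : Set G) ≤
        (U.subgroupOf (normalizerIn S U)).map ι →
      ∀ hzT : z ∈ normalizerIn S U,
        (∀ g ∈ Subgroup.normalizer (((W ↥(Ps : Subgroup G)).map (Ps : Subgroup G).subtype :
          Subgroup G) : Set G), g * ι ⟨z, hzT⟩ * g⁻¹ = ι ⟨z, hzT⟩) →
        ∀ g : G, g * ι ⟨z, hzT⟩ * g⁻¹ = ι ⟨z, hzT⟩) :
    z ∈ F.center := by
  refine mem_center_of_local hS hF hzS hzC fun U hUc hUn habove α hα hzU => ?_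
  haveI : Finite ↥(normalizerIn S U) := finite_normalizerIn
  have hTS : normalizerIn S U ≤ S := inf_le_left
  have hTp : IsPGroup p (normalizerIn S U) := hS.to_le hTS
  have hUT : U ≤ normalizerIn S U := le_normalizerIn hUn.1
  have hE := isNormalizerSystem_normalizerSys F U hUn.1
  obtain ⟨G, hg, ι, hfin, hr, ⟨Ps, hPs⟩, hUnorm, hUcent⟩ :=
    Model.exists_model_normalizer F hS hF hUc hUn hE
  haveI := hfin
  have hzT : z ∈ normalizerIn S U := hUT hzU
  have hzW : z ∈ funcOn W (normalizerIn S U) := by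
    refine ⟨⟨z, hzT⟩, hWZ _ hTp (Subgroup.mem_center_iff.2 fun x => Subtype.ext ?_), rfl⟩
    have h1 := hzC x (hTS x.2)
    calc (x : Ω) * z = x * z * (x : Ω)⁻¹ * x := by group
      _ = z * x := by rw [h1]
  have hWT : funcOn W (normalizerIn S U) ≤ normalizerIn S U := funcOn_le W _
  have hL : ∀ g ∈ Subgroup.normalizer
      ((((funcOn W (normalizerIn S U)).subgroupOf (normalizerIn S U)).map ι : Subgroup G) : Set G),
      g * ι ⟨z, hzT⟩ * g⁻¹ = ι ⟨z, hzT⟩ := by
    intro g hgM
    have hU₁T : U ⊔ funcOn W (normalizerIn S U) ≤ normalizerIn S U := sup_le hUT hWT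
    have hmem : U ⊔ funcOn W (normalizerIn S U) ≤
        preimage ι (ι.range.comap (MulAut.conj g).toMonoidHom) := by
      refine sup_le (fun u hu => ?_) (fun w hw => ?_)
      · refine mem_preimage.2 ⟨hUT hu, ?_⟩
        obtain ⟨v, -, hv⟩ := hUnorm.conj_mem _ ⟨⟨u, hUT hu⟩, hu, rfl⟩ g
        exact ⟨v, hv⟩
      · refine mem_preimage.2 ⟨hWT hw, ?_⟩
        obtain ⟨v, -, hv⟩ := (hgM _).1 ⟨⟨w, hWT hw⟩, hw, rfl⟩
        exact ⟨v, hv⟩
    obtain ⟨f, hf, hfx⟩ := realized_exists_map hr hU₁T g fun x hx =>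
      (mem_preimage.1 (hmem hx)).2
    obtain ⟨hfzT, hfz⟩ := hfx z (Subgroup.mem_sup_left hzU)
    obtain ⟨-, -, f', hf', hf'x, -⟩ := (isMap_normalizerSystem_iff hE).1 hf
    have hfU : IsMap F (U ⊔ funcOn W (normalizerIn S U)) f :=
      (hf'.mono le_sup_left).congr hf'x
    have hWi : img (funcOn W (normalizerIn S U)) f = funcOn W (normalizerIn S U) := by
      haveI : Finite (funcOn W (normalizerIn S U)) := finite_of_le (hWT.trans hTS)
      refine eq_of_le_of_card_le (fun y hy => ?_) (hfU.mono le_sup_right).card_img.ge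
      obtain ⟨w, hw, rfl⟩ := (hfU.mono le_sup_right).mem_img.1 hy
      obtain ⟨hw', he⟩ := hfx w (Subgroup.mem_sup_right hw)
      obtain ⟨v, hv, hvι⟩ := (hgM _).1 ⟨⟨w, hWT hw⟩, hw, rfl⟩
      rw [hr.1 (hvι.trans he.symm)] at hv
      exact hv
    have hfix : f z = z := by
      rcases hTS.eq_or_lt with hTeq | hlt
      · rw [hTeq] at hWi
        refine hfixN _ f hfU ?_ hWi (Subgroup.mem_sup_left hzU)
        rw [hTeq]
        exact le_sup_right
      · have hlt' : Nat.card (normalizerIn S U) <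
            Nat.card (normalizerIn S (funcOn W (normalizerIn S U))) := by
          haveI : Finite ↥(normalizerIn S (funcOn W (normalizerIn S U))) := finite_normalizerIn
          have h1 := lt_of_lt_of_le (lt_normalizerIn hS hlt)
            (normalizer_le_funcOn W hW2 hS hTS)
          exact lt_of_not_ge fun h => h1.ne (eq_of_le_of_card_le h1.le h)
        have hm := hfU.mono
          (le_sup_right : funcOn W (normalizerIn S U) ≤ U ⊔ funcOn W (normalizerIn S U))
        have h2 := habove _ (hWT.trans hTS) hlt' _ (hm.toAut_mem hWi) hzW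
        rwa [hm.toAut_apply] at h2
    rw [← hfz]
    exact congrArg ι (Subtype.ext hfix)
  have hall := hG U hUc hUn G Ps ι hr hPs hUnorm hUcent hzT
    (by rw [funcOn_map_embedding W hW2 hTp hr.1 hPs]; exact hL)
  have hαE : IsMap (normalizerSys F U hUn.1) U (toFun (U.subtype.comp α.toMonoidHom)) := by
    refine (isMap_normalizerSystem_iff hE).2 ⟨hUT, fun x hx => ?_, _, ?_,
      fun _ _ => rfl, img_toFun_aut α⟩
    · rw [toFun_aut_apply α hx]
      exact hUT (α ⟨x, hx⟩).2
    · rw [sup_idem]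
      exact isMap_of_autGroup hUn.1 hα
  obtain ⟨g, hg⟩ := realized_exists_elem hr hαE
  have h3 := hg z hzU hzT (by rw [toFun_aut_apply α hzU]; exact hUT (α ⟨z, hzU⟩).2)
  rw [hall] at h3
  have h4 := congrArg Subtype.val (hr.1 h3)
  simp only [toFun_aut_apply α hzU] at h4
  exact h4

/-- An element of `Z(S)` fixed by the maps normalizing `W(S)` is central as soon as, in every
model, being fixed by the normalizer of `W` of a Sylow subgroup forces being fixed. -/
theorem mem_center_of_functor (hS : IsPGroup p S) (hF : F.IsSaturated p) {z : Ω} (hzS : z ∈ S)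
    (hzC : ∀ a ∈ S, a * z * a⁻¹ = z)
    (hfixN : ∀ (P : Subgroup Ω) (f : Ω → Ω), IsMap F P f → funcOn W S ≤ P →
      img (funcOn W S) f = funcOn W S → z ∈ P → f z = z)
    (hG : ∀ U, F.IsCentric U → ∀ (G : Type u) [Group G] [Finite G] (Ps : Sylow p G)
      (ι : normalizerIn S U →* G), Function.Injective ι → (Ps : Subgroup G) = ι.range →
      ((U.subgroupOf (normalizerIn S U)).map ι).Normal →
      Subgroup.centralizer (((U.subgroupOf (normalizerIn S U)).map ι : Subgroup G) : Set G) ≤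
        (U.subgroupOf (normalizerIn S U)).map ι →
      ∀ hzT : z ∈ normalizerIn S U,
        (∀ g ∈ Subgroup.normalizer (((W ↥(Ps : Subgroup G)).map (Ps : Subgroup G).subtype :
          Subgroup G) : Set G), g * ι ⟨z, hzT⟩ * g⁻¹ = ι ⟨z, hzT⟩) →
        ∀ g : G, g * ι ⟨z, hzT⟩ * g⁻¹ = ι ⟨z, hzT⟩) :
    z ∈ F.center :=
  mem_center_of_functor' W hW2 hWZ hS hF hzS hzC hfixN
    fun U hUc _ G _ _ Ps ι hr => hG U hUc G Ps ι hr.1

end Engine

/-- The group theorem: quadratic elements outside `O_p` whenever `W(P)` is not normal make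
`p`-th powers in the centre of `P` fixed by `N_G(W(P))` central. -/
theorem central_pow_of_functor {p : ℕ} [Fact p.Prime]
    (W : ∀ (Q : Type u) [Group Q], Subgroup Q)
    (hW2 : ∀ (Q R : Type u) [Group Q] [Group R] [Finite Q], IsPGroup p Q → ∀ φ : Q ≃* R,
      (W Q).map φ.toMonoidHom = W R)
    (hq : ∀ (G : Type u) [Group G] [Finite G] (P : Sylow p G),
      Subgroup.centralizer ((Cfsg.pCore p G : Subgroup G) : Set G) ≤ Cfsg.pCore p G →
      ¬ (((W ↥(P : Subgroup G)).map (P : Subgroup G).subtype : Subgroup G)).Normal →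
      ∃ g : G, g ∈ (P : Subgroup G) ∧ g ∉ Cfsg.pCore p G ∧
        ⁅⁅Subgroup.center ↥(Cfsg.pCore p G) |>.map (Cfsg.pCore p G).subtype, Subgroup.zpowers g⁆,
          Subgroup.zpowers g⁆ = ⊥) :
    ∀ (n : ℕ) (G : Type u) [Group G] [Finite G] (P : Sylow p G), Nat.card G = n →
      Subgroup.centralizer ((Cfsg.pCore p G : Subgroup G) : Set G) ≤ Cfsg.pCore p G →
      ∀ w ∈ Cfsg.pCore p G, (∀ x ∈ (P : Subgroup G), x * w * x⁻¹ = w) →
      (∀ g ∈ Subgroup.normalizer (((W ↥(P : Subgroup G)).map (P : Subgroup G).subtype :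
          Subgroup G) : Set G), g * w ^ p * g⁻¹ = w ^ p) →
      ∀ g : G, g * w ^ p * g⁻¹ = w ^ p := by
  intro n
  induction n using Nat.strong_induction_on with
  | _ n ih =>
    intro G _ _ P hn hc w hw hwP hwN g
    by_cases hWn : (((W ↥(P : Subgroup G)).map (P : Subgroup G).subtype : Subgroup G)).Normal
    · exact hwN g (by rw [Subgroup.normalizer_eq_top_iff.2 hWn]; exact Subgroup.mem_top g)
    obtain ⟨g₀, hg₀P, hg₀, hquad⟩ := hq G P hc hWn
    haveI hcn : (Cfsg.pCore p G).Normal := CfsgLib.Solvable.pCore_normal p G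
    set V : Subgroup G :=
      (Subgroup.center ↥(Cfsg.pCore p G)).map (Cfsg.pCore p G).subtype with hV
    have hVn : V.Normal := by rw [hV]; infer_instance
    have hVc : ∀ a ∈ V, ∀ b ∈ V, a * b = b * a := by
      rintro _ ⟨a, ha, rfl⟩ _ ⟨b, hb, rfl⟩
      exact congrArg Subtype.val (Subgroup.mem_center_iff.1 hb a)
    have hwV : w ∈ V := ⟨⟨w, hw⟩, Subgroup.mem_center_iff.2 fun x => Subtype.ext (by
      have h1 := hwP x (pCore_le_sylow P x.2)
      show (x : G) * w = w * x
      calc (x : G) * w = x * w * (x : G)⁻¹ * x := by group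
        _ = w * x := by rw [h1]), rfl⟩
    set Γ : Set G := Set.range fun x => x * g₀ * x⁻¹ with hΓ
    have hΓc : ∀ γ ∈ Γ, ∀ g : G, g * γ * g⁻¹ ∈ Γ := by
      rintro _ ⟨x, rfl⟩ g
      exact ⟨g * x, by group⟩
    have hΓq : ∀ γ ∈ Γ, ∀ a ∈ V, γ * (γ * a * γ⁻¹ * a⁻¹) * γ⁻¹ = γ * a * γ⁻¹ * a⁻¹ := by
      rintro _ ⟨x, rfl⟩ a ha
      have ha' : x⁻¹ * a * x ∈ V := by simpa using hVn.conj_mem a ha x⁻¹
      have h1 : ⁅g₀, x⁻¹ * a * x⁆ ∈ ⁅V, Subgroup.zpowers g₀⁆ := by
        rw [Subgroup.commutator_comm]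
        exact Subgroup.commutator_mem_commutator (Subgroup.mem_zpowers g₀) ha'
      have h2 := Subgroup.commutator_mem_commutator h1 (Subgroup.mem_zpowers g₀)
      rw [hquad, Subgroup.mem_bot, commutatorElement_eq_one_iff_mul_comm] at h2
      rw [commutatorElement_def] at h2
      have h3 : g₀ * (g₀ * (x⁻¹ * a * x) * g₀⁻¹ * (x⁻¹ * a * x)⁻¹) * g₀⁻¹ =
          g₀ * (x⁻¹ * a * x) * g₀⁻¹ * (x⁻¹ * a * x)⁻¹ := by
        rw [← h2, mul_inv_cancel_right]
      calc x * g₀ * x⁻¹ * (x * g₀ * x⁻¹ * a * (x * g₀ * x⁻¹)⁻¹ * a⁻¹) * (x * g₀ * x⁻¹)⁻¹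
          = x * (g₀ * (g₀ * (x⁻¹ * a * x) * g₀⁻¹ * (x⁻¹ * a * x)⁻¹) * g₀⁻¹) * x⁻¹ := by group
        _ = x * (g₀ * (x⁻¹ * a * x) * g₀⁻¹ * (x⁻¹ * a * x)⁻¹) * x⁻¹ := by rw [h3]
        _ = _ := by group
    set Q : Subgroup G := Subgroup.closure {γ | γ ∈ Γ ∧ γ ∈ (P : Subgroup G)} with hQ
    set L : Subgroup G := Subgroup.normalizer (Q : Set G) with hLdef
    have hQP : Q ≤ (P : Subgroup G) := (Subgroup.closure_le _).2 fun γ hγ => hγ.2
    have hg₀Q : g₀ ∈ Q := Subgroup.subset_closure ⟨⟨1, by simp⟩, hg₀P⟩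
    have hPL : (P : Subgroup G) ≤ L := fun x hx => by
      have key : ∀ y ∈ (P : Subgroup G), ∀ q ∈ Q, y * q * y⁻¹ ∈ Q := fun y hy q hq => by
        have hle : Q ≤ Q.comap (MulAut.conj y).toMonoidHom := by
          rw [hQ, Subgroup.closure_le]
          rintro γ ⟨hγ, hγP⟩
          exact Subgroup.subset_closure ⟨hΓc γ hγ y,
            (P : Subgroup G).mul_mem ((P : Subgroup G).mul_mem hy hγP)
              ((P : Subgroup G).inv_mem hy)⟩
        exact hle hq
      intro q
      refine ⟨fun hq => key x hx q hq, fun hq => ?_⟩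
      have := key x⁻¹ ((P : Subgroup G).inv_mem hx) _ hq
      simpa [mul_assoc] using this
    have hLne : L ≠ ⊤ := fun h => hg₀ (CfsgLib.Solvable.le_pCore
      (Subgroup.normalizer_eq_top_iff.1 h) (P.isPGroup'.to_le hQP) hg₀Q)
    have hcoreL : Cfsg.pCore p G ≤ L := (pCore_le_sylow P).trans hPL
    have hLfix : ∀ m ∈ L, m * w ^ p * m⁻¹ = w ^ p := by
      intro m hm
      have hlt : Nat.card L < n := hn ▸ lt_of_le_of_ne (Subgroup.card_le_card_group L)
        fun h => hLne (Subgroup.eq_top_of_card_eq _ h)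
      have hsub : (Cfsg.pCore p G).subgroupOf L ≤ Cfsg.pCore p L :=
        CfsgLib.Solvable.le_pCore inferInstance
          ((CfsgLib.Solvable.pCore_isPGroup p).of_equiv
            (Subgroup.subgroupOfEquivOfLe hcoreL).symm)
      have hcL : Subgroup.centralizer ((Cfsg.pCore p L : Subgroup L) : Set L) ≤ Cfsg.pCore p L := by
        intro x hx
        refine hsub (hc fun y hy => ?_)
        exact congrArg Subtype.val (hx ⟨y, hcoreL hy⟩ (hsub hy))
      have hPLc : ((P.subtype hPL : Sylow p L) : Subgroup L) = (P : Subgroup G).subgroupOf L := rfl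
      have hW' : (W ↥((P.subtype hPL : Sylow p L) : Subgroup L)).map
          ((P.subtype hPL : Sylow p L) : Subgroup L).subtype =
          ((W ↥(P : Subgroup G)).map (P : Subgroup G).subtype).subgroupOf L := by
        rw [← hW2 ↥(P : Subgroup G) ↥((P.subtype hPL : Sylow p L) : Subgroup L) P.isPGroup'
          (Subgroup.subgroupOfEquivOfLe hPL).symm]
        ext y
        constructor
        · rintro ⟨_, ⟨v, hv, rfl⟩, rfl⟩
          exact ⟨v, hv, rfl⟩
        · rintro ⟨v, hv, hvy⟩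
          exact ⟨_, ⟨v, hv, rfl⟩, Subtype.ext hvy⟩
      have h1 := ih _ hlt L (P.subtype hPL) rfl hcL ⟨w, hcoreL hw⟩ (hsub hw)
        (fun x hx => Subtype.ext (hwP x hx)) (fun x hx => Subtype.ext ?_) ⟨m, hm⟩
      · exact congrArg Subtype.val h1
      · rw [hW'] at hx
        refine hwN x fun y => ?_
        have hWle : (W ↥(P : Subgroup G)).map (P : Subgroup G).subtype ≤ L :=
          (Subgroup.map_subtype_le _).trans hPL
        constructor
        · intro hy
          exact (hx ⟨y, hWle hy⟩).1 hy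
        · intro hy
          have hyL : y ∈ L := by
            have := L.mul_mem (L.mul_mem (L.inv_mem x.2) (hWle hy)) x.2
            simpa [mul_assoc] using this
          exact (hx ⟨y, hyL⟩).2 hy
    exact fixed_of_quadratic P hPL Γ hΓc le_rfl V hVn
      (IsPGroup.to_le (CfsgLib.Solvable.pCore_isPGroup p) (Subgroup.map_subtype_le _)) hVc hΓq
      w hwV hwP hLfix g

end CfsgLib.Fusion
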