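import Cfsg.Agent.Lib.Fusion.FactorSectionFree
import Cfsg.Agent.Lib.Fusion.ConstrainedPart
import Cfsg.Agent.Lib.Fusion.Functor
import Cfsg.Agent.Lib.Fusion.NormalCriteria

/-!
A functor whose value on a Sylow subgroup is normal in every section-free constrained group has
value on `S` normal in every section-free saturated system over `S`.
-/

set_option autoImplicit false
set_option linter.style.haveILetI false
set_option linter.unusedVariables false
set_option linter.unusedSectionVars false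

universe u w

namespace CfsgLib.Fusion

open Cfsg Cfsg.FusionSystem Subgroup

/-- An element is fixed by an automorphism of order prime to `p` fixing `x⁻¹ α x`. -/
theorem apply_eq_self_of_fixes_sub {P : Type*} [Group P] {p : ℕ} [Fact p.Prime] (hP : IsPGroup p P)
    {α : MulAut P} (hc : (orderOf α).Coprime p) (x : P) (h : α (x⁻¹ * α x) = x⁻¹ * α x) :
    α x = x := by
  have h1 := pow_apply_of_fixed (β := α) (x := x) (mul_inv_cancel_left x (α x)).symm h (orderOf α)
  rw [pow_orderOf_eq_one, MulAut.one_apply, left_eq_mul] at h1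
  obtain ⟨k, hk⟩ := hP (x⁻¹ * α x)
  have h2 : orderOf (x⁻¹ * α x) = 1 := Nat.eq_one_of_dvd_coprimes (hc.pow_right k)
    (orderOf_dvd_of_pow_eq_one h1) (orderOf_dvd_of_pow_eq_one hk)
  rw [orderOf_eq_one_iff, inv_mul_eq_one] at h2
  exact h2.symm

/-- The value of `W` on a Sylow subgroup is normal in constrained groups without the section `H`. -/
def NormalInFree (p : ℕ) (H : Type w) [Group H] (W : ∀ (Q : Type u) [Group Q], Subgroup Q) : Prop :=
  ∀ (L : Type u) [Group L] [Finite L] (P : Sylow p L),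
    Subgroup.centralizer ((Cfsg.pCore p L : Subgroup L) : Set L) ≤ Cfsg.pCore p L →
    ¬ Cfsg.Involves H L →
    (((W ↥(P : Subgroup L)).map (P : Subgroup L).subtype : Subgroup L)).Normal

section Step

variable {Ω : Type u} [Group Ω] {S : Subgroup Ω} [Finite S] {F : FusionSystem S} {p : ℕ}
  [Fact p.Prime] {H : Type w} [Group H]
  (W : ∀ (Q : Type u) [Group Q], Subgroup Q)
  (hW1 : ∀ (Q : Type u) [Group Q] [Finite Q], IsPGroup p Q → Nontrivial Q → W Q ≠ ⊥)
  (hW2 : ∀ (Q R : Type u) [Group Q] [Group R] [Finite Q], IsPGroup p Q → ∀ φ : Q ≃* R,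
    (W Q).map φ.toMonoidHom = W R)
  (hW3 : NormalInFree p H W)

include hW1 in
theorem funcOn_ne_bot {T : Subgroup Ω} [Finite T] (hT : IsPGroup p T) (hne : T ≠ ⊥) :
    funcOn W T ≠ ⊥ := fun h =>
  hW1 T hT ((Subgroup.nontrivial_iff_ne_bot T).2 hne)
    ((Subgroup.map_eq_bot_iff_of_injective (W T) T.subtype_injective).1 h)

theorem isSectionFree_castSys {T T' : Subgroup Ω} (h : T = T') {E : FusionSystem T}
    (hE : E.IsSectionFree p H) : (castSys h E).IsSectionFree p H := by
  subst h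
  exact hE

include hW2 hW3 in
/-- With a centric core the functor gives a normal subgroup. -/
theorem funcOn_isNormal_of_constrained (hS : IsPGroup p S) (hF : F.IsSaturated p)
    (hfree : F.IsSectionFree p H) {Q : Subgroup Ω} (hQn : F.IsNormal Q) (hQc : F.IsCentric Q) :
    F.IsNormal (funcOn W S) := by
  have hn := IsNormal.fullyNormalized hQn
  have hT : normalizerIn S Q = S := IsNormal.normalizerIn_eq hQn
  have hNs := isNormalizerSystem_normalizerSys F Q hQn.1
  haveI : Finite ↥(normalizerIn S Q) := finite_normalizerIn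
  have hTp : IsPGroup p (normalizerIn S Q) := hS.to_le inf_le_left
  obtain ⟨G, hG, ι, hfin, hr, ⟨Ps, hPs⟩, hM, hc⟩ :=
    Model.exists_model_normalizer F hS hF hQc hn hNs
  haveI := hfin
  have hm := isModel_of_normal_centric hTp hr ⟨Ps, hPs⟩ (le_normalizerIn hQn.1) hM hc
  have hWn := hW3 G Ps hm.2.2.2 (hfree Q hn hQc _ hNs G ι hm)
  rw [funcOn_map_embedding W hW2 hTp hr.1 hPs] at hWn
  have hle : ((funcOn W (normalizerIn S Q)).subgroupOf (normalizerIn S Q)).map ι ≤ ι.range :=
    Subgroup.map_le_range _ _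
  have h1 := preimage_isNormal hr hWn hle
  have e : preimage ι (((funcOn W (normalizerIn S Q)).subgroupOf (normalizerIn S Q)).map ι) =
      funcOn W (normalizerIn S Q) := by
    rw [preimage, Subgroup.comap_map_eq_self_of_injective hr.1,
      Subgroup.map_subgroupOf_eq_of_le (funcOn_le W _)]
  rw [e, show funcOn W (normalizerIn S Q) = funcOn W S from
    congrArg (fun T => funcOn W T) hT] at h1
  refine isNormal_iff.2 ⟨funcOn_le W S, fun P f hf => ?_⟩
  obtain ⟨g, hg, hgx, hgQ⟩ := (isNormal_iff.1 hQn).2 P f hf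
  have hfE : IsMap (normalizerSys F Q hQn.1) P f := (isMap_normalizerSystem_iff hNs).2
    ⟨hT.symm ▸ hf.le, fun x hx => hT.symm ▸ hf.mem hx, g, hg, hgx, hgQ⟩
  obtain ⟨k, hk, hkx, hkW⟩ := (isNormal_iff.1 h1).2 P f hfE
  obtain ⟨-, -, k2, hk2, hk2x, -⟩ := (isMap_normalizerSystem_iff hNs).1 hk
  exact ⟨k, (hk2.mono le_sup_left).congr hk2x, hkx, hkW⟩

variable (hS : IsPGroup p S) (hF : F.IsSaturated p) (hfree : F.IsSectionFree p H)
  (hsmall : ∀ (Ω' : Type u) [Group Ω'] (S' : Subgroup Ω') [Finite S'] (F' : FusionSystem S'),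
    Nat.card S' < Nat.card S → IsPGroup p S' → F'.IsSaturated p → F'.IsSectionFree p H →
    F'.IsNormal (funcOn W S'))
  (hcore : ∀ F' : FusionSystem S, Nat.card F.core < Nat.card F'.core → F'.IsSaturated p →
    F'.IsSectionFree p H → F'.IsNormal (funcOn W S))

include hW1 hW2 hW3 hS hF hfree hsmall hcore

/-- A non-trivial core of a counterexample is centric. -/
theorem centric_core_of_ne_bot (hQ : F.core ≠ ⊥) : F.IsCentric F.core := by
  by_contra hcen
  set Q := F.core with hQdef
  have hQn : F.IsNormal Q := core_isNormal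
  set C := centralizerIn S Q with hC
  have hCQ : ¬ C ≤ Q := fun hC => hcen ((IsNormal.centric_iff hQn).2 hC)
  have hCS : C ≤ S := inf_le_left
  haveI : Finite C := finite_centralizerIn
  have hCp := hS.to_le hCS
  have hQc := IsNormal.stronglyClosed hQn
  have hCs := isCentralizerSystem_centralizerSys F Q hQn.1
  set EC := centralizerSys F Q hQn.1 with hEC
  have hECs : EC.IsSaturated p := isSaturated_centralizerSystem hS hF
    (fullyCentralized_of_fullyNormalized hS hF (IsNormal.fullyNormalized hQn)) hCs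
  set Z := Q ⊓ C with hZ
  have hZn : EC.IsNormal Z := by
    refine isNormal_iff.2 ⟨inf_le_right, fun P f hf => ?_⟩
    obtain ⟨hP, hfP, g, hg, hgx, hgQ⟩ := (isMap_centralizerSystem_iff hCs).1 hf
    have hle : P ⊔ Z ≤ P ⊔ Q := sup_le_sup_left inf_le_left P
    have hgC : ∀ x ∈ P ⊔ Z, g x ∈ C := by
      intro x hx
      refine (hg.mono hle).img_sup_le le_sup_left le_sup_right ?_ ?_
        ((hg.mono hle).apply_mem_img hx)
      · intro y hy
        obtain ⟨a, ha, rfl⟩ := (hg.mono le_sup_left).mem_img.1 hy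
        rw [hgx a ha]
        exact hfP a ha
      · intro y hy
        obtain ⟨a, ha, rfl⟩ := (hg.mono (inf_le_left.trans le_sup_right)).mem_img.1 hy
        rw [hgQ a ha.1]
        exact ha.2
    refine ⟨g, (isMap_centralizerSystem_iff hCs).2 ⟨sup_le hP inf_le_right, hgC, g,
      hg.mono (sup_le hle le_sup_right), fun _ _ => rfl, hgQ⟩, hgx, ?_⟩
    rw [img_congr (g := id) fun x hx => hgQ x (Subgroup.mem_inf.1 hx).1]
    show Subgroup.closure (id '' (Z : Set Ω)) = Z
    rw [Set.image_id, Subgroup.closure_eq]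
  have hZc := IsNormal.stronglyClosed hZn
  haveI : (Z.subgroupOf C).Normal :=
    (Subgroup.normal_subgroupOf_iff_le_normalizer inf_le_right).2 (StronglyClosed.le_normalizer hZc)
  set θ := QuotientGroup.mk' (Z.subgroupOf C) with hθ
  have hker : ∀ s : C, θ s = 1 ↔ (s : Ω) ∈ Z := fun s => QuotientGroup.eq_one_iff s
  set E := factorSys EC hZc θ hker with hE
  have hEf : EC.IsFactorSystem Z θ E := ⟨inf_le_right, hker, rfl, fun P' φ' => Iff.rfl⟩
  have hEs : E.IsSaturated p :=
    isSaturated_image hCp hECs (isSurjectiveMorphism_factor hCp hECs hZc hEf)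
  haveI : Finite θ.range := Subtype.finite
  have hp' : IsPGroup p θ.range := hCp.of_surjective θ.rangeRestrict θ.rangeRestrict_surjective
  have hZne : Z ≠ ⊥ := fun h => by
    obtain ⟨z, hz, hz1, hzc⟩ := exists_central_mem hS hQn.1 (StronglyClosed.le_normalizer hQc) hQ
    refine hz1 (Subgroup.mem_bot.1 (h ▸ ⟨hz, hQn.1 hz, fun q hq => ?_⟩))
    exact mul_inv_eq_iff_eq_mul.1 (hzc q (hQn.1 hq))
  have hlt : Nat.card θ.range < Nat.card S := by
    rw [Nat.card_congr (QuotientGroup.quotientKerEquivRange θ).symm.toEquiv]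
    have hk : θ.ker = Z.subgroupOf C := QuotientGroup.ker_mk' _
    rw [Nat.card_congr (QuotientGroup.quotientMulEquivOfEq hk).toEquiv]
    refine lt_of_lt_of_le (lt_of_le_of_ne
      (Nat.card_le_card_of_surjective θ (QuotientGroup.mk'_surjective _)) fun h => hZne ?_)
      (Subgroup.card_le_of_le hCS)
    have h1 := Subgroup.card_eq_card_quotient_mul_card_subgroup (Z.subgroupOf C)
    rw [h] at h1
    have h2 : Nat.card (Z.subgroupOf C) = 1 := (Nat.mul_eq_left Nat.card_pos.ne').1 h1.symm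
    rw [Nat.card_congr (Subgroup.subgroupOfEquivOfLe (inf_le_right : Z ≤ C)).toEquiv] at h2
    exact Subgroup.card_eq_one.1 h2
  have hXn : E.IsNormal (funcOn W θ.range) := hsmall _ θ.range E hlt hp' hEs
    (isSectionFree_factor hCp hECs hZn hEf (isSectionFree_centralizer hS hF hQn hCs hfree))
  set Xb := funcOn W θ.range with hXb
  set X := preimageAlong θ Xb with hX
  have hXC : X ≤ C := preimageAlong_le
  have hXQ : ¬ X ≤ Q := fun h => by
    refine funcOn_ne_bot W hW1 hp' (fun hb => hCQ fun c hc => ?_)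
      ((Subgroup.eq_bot_iff_forall _).2 fun y hy => ?_)
    · exact ((hker ⟨c, hc⟩).1 (Subgroup.mem_bot.1 (hb ▸ ⟨⟨c, hc⟩, rfl⟩))).1
    · obtain ⟨c, rfl⟩ := funcOn_le W _ hy
      exact (hker c).2 ⟨h (mem_preimageAlong.2 ⟨c.2, hy⟩), c.2⟩
  -- automorphisms of `C/Z` coming from maps preserving `Q`
  have hCm : ∀ (U : Subgroup Ω) (g : Ω → Ω), IsMap F U g → C ≤ U → Q ≤ U → img Q g = Q →
      (∀ c ∈ C, g c ∈ C) ∧ ∀ y ∈ X, g y ∈ X := by
    intro U g hg hCU hQU hgQ
    have hgC : ∀ c ∈ C, g c ∈ C := fun c hc => by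
      have h1 := hg.apply_mem_centralizerIn hQU (hCU hc) hc.2
      rwa [hgQ] at h1
    refine ⟨hgC, fun y hy => ?_⟩
    have hgZ : ∀ z ∈ Z, g z ∈ Z := fun z hz =>
      ⟨hgQ.le ((hg.mono hQU).apply_mem_img hz.1), hgC z hz.2⟩
    let γ : C →* C := ((hg.mono hCU).toHom).codRestrict C fun c => hgC c c.2
    have hγ : ∀ c : C, ((γ c : C) : Ω) = g c := fun c => rfl
    have hle : Z.subgroupOf C ≤ (Z.subgroupOf C).comap γ := fun c hc => hgZ c hc
    let γb := QuotientGroup.map (Z.subgroupOf C) (Z.subgroupOf C) γ hle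
    have hγs : Function.Surjective γ := by
      have hi : img C g = C := (hg.mono hCU).img_eq_of_forall le_rfl hgC
      intro c
      obtain ⟨x, hx, hxc⟩ := (hg.mono hCU).mem_img.1 (hi.ge c.2)
      exact ⟨⟨x, hx⟩, Subtype.ext hxc⟩
    have hbs : Function.Surjective γb := fun y => by
      obtain ⟨c, rfl⟩ := QuotientGroup.mk'_surjective _ y
      obtain ⟨d, rfl⟩ := hγs c
      exact ⟨θ d, rfl⟩
    haveI : Finite (C ⧸ Z.subgroupOf C) := Finite.of_surjective θ (QuotientGroup.mk'_surjective _)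
    have hbb : Function.Bijective γb := ⟨Finite.injective_iff_surjective.2 hbs, hbs⟩
    obtain ⟨hyC, hy'⟩ := mem_preimageAlong.1 hy
    refine mem_preimageAlong.2 ⟨hgC y hyC, ?_⟩
    have hrange : ∀ v, v ∈ θ.range := fun v =>
      ⟨_, (QuotientGroup.mk'_surjective _ v).choose_spec⟩
    let e1 : θ.range ≃* θ.range := MulEquiv.ofBijective
      ((γb.comp θ.range.subtype).codRestrict θ.range fun v => hrange _)
      ⟨fun a b h => Subtype.ext (hbb.1 (congrArg Subtype.val h)), fun v => by
        obtain ⟨a, ha⟩ := hbb.2 (v : C ⧸ Z.subgroupOf C)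
        exact ⟨⟨a, hrange a⟩, Subtype.ext ha⟩⟩
    obtain ⟨w, hw, hwy⟩ := hy'
    refine ⟨e1 w, ?_, ?_⟩
    · rw [← hW2 θ.range θ.range hp' e1]
      exact ⟨w, hw, rfl⟩
    · show γb (w : C ⧸ Z.subgroupOf C) = _
      rw [show ((w : θ.range) : C ⧸ Z.subgroupOf C) = θ ⟨y, hyC⟩ from hwy]
      rfl
  -- `X` is normal in the system
  have hXS : X ≤ S := hXC.trans hCS
  have hSX : S ≤ Subgroup.normalizer (X : Set Ω) := fun a ha => by
    haveI : Finite (X : Set Ω) := (finite_of_le hXS : Finite X)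
    refine Subgroup.mem_normalizer_fintype fun y hy => ?_
    have hm := isMap_conj F (le_refl S) ha
    exact (hCm S _ hm hCS hQn.1 (StronglyClosed.img_eq hQc hm hQn.1)).2 y hy
  have hkey : ∀ R : Subgroup Ω, R ≤ S → Q ≤ R → ∀ α ∈ F.autGroup R,
      ∀ D : Subgroup Ω, D = R ⊓ C → ∃ (δ g : Ω → Ω) (Y : Subgroup Ω),
        IsMap F Y g ∧ C ≤ Y ∧ Q ≤ Y ∧ img Q g = Q ∧ IsMap EC D δ ∧
        ∀ (x : Ω) (hx : x ∈ D) (hxR : x ∈ R), δ x ∈ C ∧ g (δ x) = ((α ⟨x, hxR⟩ : R) : Ω) := by
    intro R hR hQR α hα D hD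
    subst hD
    have hm := isMap_of_autGroup hR hα
    have hiQ : img Q (toFun (R.subtype.comp α.toMonoidHom)) = Q := by
      haveI := finite_of_le hQn.1
      exact StronglyClosed.img_eq hQc hm hQR
    obtain ⟨g, hg, hgx⟩ := receptive_extend_centralizer
      (receptive_of_fullyNormalized hS hF (IsNormal.fullyNormalized hQn)) (hm.mono hQR) hiQ
    have hgQ : img Q g = Q := (img_congr hgx).trans hiQ
    have hgY : img (Q ⊔ C) g = Q ⊔ C := by
      haveI := finite_of_le hg.le
      refine eq_of_le_of_card_le (hg.img_sup_le le_sup_left le_sup_right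
        (hgQ.le.trans le_sup_left) fun y hy => ?_) hg.card_img.ge
      obtain ⟨a, ha, rfl⟩ := (hg.mono le_sup_right).mem_img.1 hy
      exact Subgroup.mem_sup_right ((hCm _ g hg le_sup_right le_sup_left hgQ).1 a ha)
    obtain ⟨k, hk, hkx, hky, -⟩ := hg.exists_inv
    rw [hgY] at hk hky
    have hαC : ∀ x ∈ R ⊓ C, toFun (R.subtype.comp α.toMonoidHom) x ∈ C := fun x hx => by
      have h1 := hm.apply_mem_centralizerIn hQR hx.1 hx.2.2
      rwa [hiQ] at h1
    have hkQ : img Q k = Q := by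
      haveI := finite_of_le hQn.1
      exact StronglyClosed.img_eq hQc hk le_sup_left
    have hkC : ∀ c ∈ C, k c ∈ C := (hCm _ k hk le_sup_right le_sup_left hkQ).1
    have hsup : ∀ x ∈ R ⊓ C ⊔ Q, toFun (R.subtype.comp α.toMonoidHom) x ∈ Q ⊔ C := by
      intro x hx
      have hle : R ⊓ C ⊔ Q ≤ R := sup_le inf_le_left hQR
      refine (hm.mono hle).img_sup_le le_sup_left le_sup_right ?_ ?_
        ((hm.mono hle).apply_mem_img hx)
      · intro y hy
        obtain ⟨a, ha, rfl⟩ := (hm.mono inf_le_left).mem_img.1 hy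
        exact Subgroup.mem_sup_right (hαC a ha)
      · exact hiQ.le.trans le_sup_left
    have hδ : IsMap F (R ⊓ C ⊔ Q) (fun x => k (toFun (R.subtype.comp α.toMonoidHom) x)) :=
      (hm.mono (sup_le inf_le_left hQR)).comp hk hsup
    refine ⟨_, g, _, hg, le_sup_right, le_sup_left, hgQ,
      (isMap_centralizerSystem_iff hCs).2 ⟨inf_le_right, fun x hx => hkC _ (hαC x hx), _, hδ,
        fun _ _ => rfl, fun x hx => ?_⟩, fun x hx hxR => ⟨hkC _ (hαC x hx), ?_⟩⟩
    · show k (toFun _ x) = x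
      rw [← hgx x hx, hkx x (Subgroup.mem_sup_left hx)]
    · show g (k (toFun _ x)) = _
      rw [(hky _ (Subgroup.mem_sup_right (hαC x hx))).2, toFun_aut_apply α hxR]
  have hcentral : ∀ z ∈ Z, ∀ c ∈ C, z * c = c * z := fun z hz c hc => hc.2 z hz.1
  -- the extension to `X`
  have hext : ∀ R : Subgroup Ω, R ≤ S → Q ≤ R → ∀ α ∈ F.autGroup R,
      ∃ μ : Ω → Ω, (∀ x ∈ X, μ x ∈ X) ∧
        (∀ a x : Ω, a ∈ X → x ∈ R ⊓ C → μ (a * x * a⁻¹) = μ a * μ x * (μ a)⁻¹) ∧
        ∀ (x : Ω) (hx : x ∈ R ⊓ C), (μ x)⁻¹ * ((α ⟨x, hx.1⟩ : R) : Ω) ∈ Z := by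
    intro R hR hQR α hα
    obtain ⟨δ, g, Y, hg, hCY, hQY, hgQ, hδ, hδv⟩ := hkey R hR hQR α hα _ rfl
    set D := R ⊓ C with hD
    have hDC : D ≤ C := inf_le_right
    set Dd := imageAlong θ D with hDd
    obtain ⟨χ, hχ⟩ := exists_inducedAlong (θ := θ) hDC hδ fun y hy hy1 =>
      (hker _).2 (StronglyClosed.apply_mem hZc hδ hy ((hker _).1 hy1))
    obtain ⟨ε, hε, hεv⟩ : ∃ ε, IsMap E Dd ε ∧ ∀ (x : Ω) (hx : x ∈ D),
        ε (θ ⟨x, hDC hx⟩) = θ ⟨δ x, hδ.mem hx⟩ := by
      refine ⟨toFun χ, ?_, fun x hx => by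
        rw [toFun_of_mem χ (mem_imageAlong.2 ⟨x, hDC hx, hx, rfl⟩), hχ x hx]⟩
      obtain ⟨⟨-, hsm⟩, -, -⟩ := isSurjectiveMorphism_factor hCp hECs hZc hEf
      obtain ⟨φ', hφ', hind⟩ := hsm D _ hδ.toHom_mem
      have e : χ = φ' := by
        refine MonoidHom.ext fun y => ?_
        obtain ⟨x, hxC, hx, hxy⟩ := mem_imageAlong.1 y.2
        have ey : y = ⟨θ ⟨x, hxC⟩, mem_imageAlong.2 ⟨x, hxC, hx, rfl⟩⟩ := Subtype.ext hxy.symm
        rw [ey, hχ x hx, inducedAlong_apply hind hx hxC (hδ.mem hx)]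
        rfl
      exact e ▸ isMap_of_hom hφ'
    obtain ⟨ν, hν, hνx, hνX⟩ := (isNormal_iff.1 hXn).2 Dd ε hε
    have hDdle : Dd ≤ θ.range := hε.le
    -- lift `ν`
    set V := preimageAlong θ (Dd ⊔ Xb)
    obtain ⟨-, F', hF', hF'v⟩ :=
      (isMap_induced_iff (P' := Dd ⊔ Xb) (f' := ν) (S' := θ.range) (E := E)
        (fun P' φ' => Iff.rfl) rfl).1 hν
    have hDV : D ≤ V := fun x hx => mem_preimageAlong.2
      ⟨hDC hx, Subgroup.mem_sup_left (mem_imageAlong.2 ⟨x, hDC hx, hx, rfl⟩)⟩
    have hXV : X ≤ V := fun x hx => by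
      obtain ⟨hxC, hx'⟩ := mem_preimageAlong.1 hx
      exact mem_preimageAlong.2 ⟨hxC, Subgroup.mem_sup_right hx'⟩
    refine ⟨fun x => g (F' x), fun x hx => ?_, fun a x ha hx => ?_, fun x hx => ?_⟩
    · refine (hCm Y g hg hCY hQY hgQ).2 _ (mem_preimageAlong.2 ⟨hF'.mem (hXV hx), ?_⟩)
      obtain ⟨hxC, hx'⟩ := mem_preimageAlong.1 hx
      rw [← hF'v x (hXV hx)]
      exact hνX.le ((hν.mono le_sup_right).apply_mem_img hx')
    · show g (F' (a * x * a⁻¹)) = _
      rw [hF'.map_conj (hXV ha) (hDV hx),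
        hg.map_conj (hCY (hF'.mem (hXV ha))) (hCY (hF'.mem (hDV hx)))]
    · obtain ⟨hδC, hδg⟩ := hδv x hx hx.1
      have h1 : (F' x)⁻¹ * δ x ∈ Z := by
        refine (hker (⟨F' x, hF'.mem (hDV hx)⟩⁻¹ * ⟨δ x, hδC⟩)).1 ?_
        rw [map_mul, map_inv, ← hF'v x (hDV hx),
          hνx _ (mem_imageAlong.2 ⟨x, hDC hx, hx, rfl⟩), hεv x hx, inv_mul_cancel]
      rw [← hδg, ← hg.map_inv (hCY (hF'.mem (hDV hx))),
        ← hg.map_mul (hCY (C.inv_mem (hF'.mem (hDV hx)))) (hCY hδC)]
      exact ⟨hgQ.le ((hg.mono hQY).apply_mem_img h1.1), (hCm Y g hg hCY hQY hgQ).1 _ h1.2⟩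
  have hXrad : ∀ R : Subgroup Ω, F.IsCentric R → F.IsRadical p R → X ≤ R := by
    intro R hRc hRr
    haveI := finite_of_le hRc.1
    have hQR : Q ≤ R := IsNormal.le_centricRadical hS hQn hRc hRr
    refine le_of_normalizer_inf_le hS hRc.1 hXS (fun a ha => hSX (hRc.1 ha)) fun a haX haR => ?_
    have hinvQ : ∀ γ : F.autGroup R, ∀ x : R, (x : Ω) ∈ Q →
        (((γ : MulAut R) x : R) : Ω) ∈ Q := fun γ x hx => by
      have := StronglyClosed.apply_mem hQc (isMap_of_autGroup hRc.1 γ.2) x.2 hx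
      rwa [toFun_aut_apply _ x.2] at this
    have hinvC : ∀ γ : F.autGroup R, ∀ x : R, (x : Ω) ∈ C →
        (((γ : MulAut R) x : R) : Ω) ∈ C := fun γ x hx => by
      have hm := isMap_of_autGroup hRc.1 γ.2
      have hiQ : img Q (toFun (R.subtype.comp (γ : MulAut R).toMonoidHom)) = Q := by
        haveI := finite_of_le hQn.1
        exact StronglyClosed.img_eq hQc hm hQR
      have h1 := hm.apply_mem_centralizerIn hQR x.2 hx.2
      rwa [hiQ, toFun_aut_apply _ x.2] at h1
    let K : Subgroup (F.autGroup R) :=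
      { carrier := {γ | (∀ x : R, (x : Ω) ∈ Q → (((γ : MulAut R) x : R) : Ω) = x) ∧
          ∃ b ∈ X, ∀ x : R, (x : Ω) ∈ C →
            (b * x * b⁻¹)⁻¹ * (((γ : MulAut R) x : R) : Ω) ∈ Z}
        one_mem' := ⟨fun x _ => rfl, 1, X.one_mem, fun x _ => by simp⟩
        mul_mem' := by
          rintro γ γ' ⟨hγ, b, hb, h⟩ ⟨hγ', b', hb', h'⟩
          refine ⟨fun x hx => ?_, b * b', X.mul_mem hb hb', fun x hx => ?_⟩
          · rw [Subgroup.coe_mul, MulAut.mul_apply, hγ _ (hinvQ γ' x hx), hγ' x hx]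
          · rw [Subgroup.coe_mul, MulAut.mul_apply]
            have h1 := h _ (hinvC γ' x hx)
            obtain ⟨z, hz, hze⟩ : ∃ z ∈ Z, (((γ' : MulAut R) x : R) : Ω) = b' * x * b'⁻¹ * z :=
              ⟨_, h' x hx, by group⟩
            rw [hze] at h1
            have hzb : z * b⁻¹ = b⁻¹ * z := hcentral z hz _ (C.inv_mem (hXC hb))
            have e2 : b * (b' * x * b'⁻¹ * z) * b⁻¹ = b * b' * x * (b * b')⁻¹ * z := by
              calc b * (b' * x * b'⁻¹ * z) * b⁻¹ = b * b' * x * b'⁻¹ * (z * b⁻¹) := by group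
                _ = b * b' * x * b'⁻¹ * (b⁻¹ * z) := by rw [hzb]
                _ = _ := by group
            rw [e2] at h1
            have h2 := Z.mul_mem hz h1
            simpa [mul_assoc] using h2
        inv_mem' := by
          rintro γ ⟨hγ, b, hb, h⟩
          refine ⟨fun x hx => ?_, b⁻¹, X.inv_mem hb, fun x hx => ?_⟩
          · have h2 := hγ _ (hinvQ γ⁻¹ x hx)
            rw [Subgroup.coe_inv, MulAut.apply_inv_self] at h2
            exact h2.symm
          · have h1 := h _ (hinvC γ⁻¹ x hx)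
            rw [Subgroup.coe_inv, MulAut.apply_inv_self] at h1
            rw [Subgroup.coe_inv]
            set y : Ω := (((γ : MulAut R)⁻¹ x : R) : Ω) with hyd
            have e : (b⁻¹ * x * b⁻¹⁻¹)⁻¹ * y = ((b * y * b⁻¹)⁻¹ * x)⁻¹ := by
              calc (b⁻¹ * x * b⁻¹⁻¹)⁻¹ * y
                  = b⁻¹ * (((b * y * b⁻¹)⁻¹ * x)⁻¹) * b := by group
                _ = ((b * y * b⁻¹)⁻¹ * x)⁻¹ * b⁻¹ * b := by
                    rw [← hcentral _ (Z.inv_mem h1) _ (C.inv_mem (hXC hb))]
                _ = _ := by group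
            rw [e]
            exact Z.inv_mem h1 }
    have hZR : Z ≤ R := inf_le_left.trans hQR
    haveI : K.Normal := ⟨fun γ hγ σ => by
      obtain ⟨hγQ, b, hb, h⟩ := hγ
      obtain ⟨μ, hμX, hμconj, hμα⟩ := hext R hRc.1 hQR _ σ.2
      refine ⟨fun x hx => ?_, μ b, hμX b hb, fun x hx => ?_⟩
      · simp only [Subgroup.coe_mul, Subgroup.coe_inv, MulAut.mul_apply]
        have h0 := hinvQ σ⁻¹ x hx
        rw [Subgroup.coe_inv] at h0
        rw [show (γ : MulAut R) ((σ : MulAut R)⁻¹ x) = (σ : MulAut R)⁻¹ x from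
          Subtype.ext (hγQ _ h0), MulAut.apply_inv_self]
      · simp only [Subgroup.coe_mul, Subgroup.coe_inv, MulAut.mul_apply]
        set y := (σ : MulAut R)⁻¹ x with hy
        have hxy : (σ : MulAut R) y = x := MulAut.apply_inv_self _ _ _
        have hyC : (y : Ω) ∈ C := by
          have := hinvC σ⁻¹ x hx
          rwa [Subgroup.coe_inv] at this
        set z : Ω := (b * y * b⁻¹)⁻¹ * (((γ : MulAut R) y : R) : Ω) with hzd
        have hz : z ∈ Z := h y hyC
        have hwe : b * y * b⁻¹ = (((γ : MulAut R) y : R) : Ω) * z⁻¹ := by rw [hzd]; group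
        have hwR : b * y * b⁻¹ ∈ R := by
          rw [hwe]; exact R.mul_mem (SetLike.coe_mem _) (R.inv_mem (hZR hz))
        have hwC : b * y * b⁻¹ ∈ C := C.mul_mem (C.mul_mem (hXC hb) hyC) (C.inv_mem (hXC hb))
        have e1 : (γ : MulAut R) y = ⟨_, hwR⟩ * ⟨z, hZR hz⟩ := Subtype.ext (by
          show _ = b * y * b⁻¹ * ((b * y * b⁻¹)⁻¹ * (((γ : MulAut R) y : R) : Ω))
          rw [mul_inv_cancel_left])
        obtain ⟨z1, hz1, hσw⟩ : ∃ z1 ∈ Z, (((σ : MulAut R) ⟨_, hwR⟩ : R) : Ω) =
            μ b * μ y * (μ b)⁻¹ * z1 := by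
          refine ⟨_, hμα _ ⟨hwR, hwC⟩, ?_⟩
          rw [← hμconj b y hb ⟨y.2, hyC⟩]
          group
        obtain ⟨z2, hz2, hμy⟩ : ∃ z2 ∈ Z, μ y = (x : Ω) * z2 := by
          refine ⟨_, Z.inv_mem (hμα y ⟨y.2, hyC⟩), ?_⟩
          rw [show ((σ : MulAut R) ⟨(y : Ω), y.2⟩) = x from hxy]
          group
        rw [e1, map_mul, Subgroup.coe_mul, hσw, hμy]
        have hzc : z2 * (μ b)⁻¹ = (μ b)⁻¹ * z2 :=
          hcentral z2 hz2 _ (C.inv_mem (hXC (hμX b hb)))
        have e2 : (μ b * x * (μ b)⁻¹)⁻¹ * (μ b * ((x : Ω) * z2) * (μ b)⁻¹ * z1 *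
            (((σ : MulAut R) ⟨z, hZR hz⟩ : R) : Ω)) =
            z2 * z1 * (((σ : MulAut R) ⟨z, hZR hz⟩ : R) : Ω) := by
          calc _ = (μ b * x * (μ b)⁻¹)⁻¹ * (μ b * x * (z2 * (μ b)⁻¹) * z1 *
              (((σ : MulAut R) ⟨z, hZR hz⟩ : R) : Ω)) := by group
            _ = (μ b * x * (μ b)⁻¹)⁻¹ * (μ b * x * ((μ b)⁻¹ * z2) * z1 *
              (((σ : MulAut R) ⟨z, hZR hz⟩ : R) : Ω)) := by rw [hzc]
            _ = _ := by group
        rw [e2]
        exact Z.mul_mem (Z.mul_mem hz2 hz1)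
          ⟨hinvQ σ ⟨z, hZR hz⟩ hz.1, hinvC σ ⟨z, hZR hz⟩ hz.2⟩⟩
    have hK : IsPGroup p K := isPGroup_of_coprime_trivial fun γ hγc => by
      obtain ⟨hγQ, b, hb, h⟩ := γ.2
      obtain ⟨k, hk⟩ := hS ⟨b, hXS hb⟩
      set γ0 : MulAut R := ((γ : F.autGroup R) : MulAut R) with hγ0
      have hc : (orderOf γ0).Coprime p := by
        rwa [hγ0, Subgroup.orderOf_coe, Subgroup.orderOf_coe]
      have hpow : ∀ n : ℕ, γ0 ^ n ∈ {δ : MulAut R | (∀ x : R, (x : Ω) ∈ Q → ((δ x : R) : Ω) = x) ∧
          ∀ x : R, (x : Ω) ∈ C → (b ^ n * x * (b ^ n)⁻¹)⁻¹ * ((δ x : R) : Ω) ∈ Z} := by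
        intro n
        induction n with
        | zero => exact ⟨fun x _ => rfl, fun x _ => by simp⟩
        | succ n ih =>
          refine ⟨fun x hx => ?_, fun x hx => ?_⟩
          · rw [pow_succ γ0, MulAut.mul_apply, show γ0 x = x from Subtype.ext (hγQ x hx), ih.1 x hx]
          · rw [pow_succ γ0, MulAut.mul_apply]
            have h1 := ih.2 (γ0 x) (hinvC _ x hx)
            obtain ⟨z, hz, hze⟩ : ∃ z ∈ Z, ((γ0 x : R) : Ω) = b * x * b⁻¹ * z :=
              ⟨_, h x hx, by rw [hγ0]; group⟩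
            rw [hze] at h1
            have hzb : z * (b ^ n)⁻¹ = (b ^ n)⁻¹ * z :=
              hcentral z hz _ (C.inv_mem (C.pow_mem (hXC hb) n))
            have e2 : b ^ n * (b * x * b⁻¹ * z) * (b ^ n)⁻¹ =
                b ^ (n + 1) * x * (b ^ (n + 1))⁻¹ * z := by
              calc b ^ n * (b * x * b⁻¹ * z) * (b ^ n)⁻¹
                  = b ^ n * b * x * b⁻¹ * (z * (b ^ n)⁻¹) := by group
                _ = b ^ n * b * x * b⁻¹ * ((b ^ n)⁻¹ * z) := by rw [hzb]
                _ = _ := by group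
            rw [e2] at h1
            have h2 := Z.mul_mem hz h1
            simpa [mul_assoc, pow_succ] using h2
      have hk' : b ^ p ^ k = 1 := congrArg Subtype.val hk
      obtain ⟨hQfix, hCfix⟩ := hpow (p ^ k)
      set δ := γ0 ^ p ^ k
      have hδc : (orderOf δ).Coprime p := hc.coprime_dvd_left (orderOf_pow_dvd _)
      have hRp := hS.to_le hRc.1
      have hCδ : ∀ x : R, (x : Ω) ∈ C → δ x = x := fun x hx => by
        refine apply_eq_self_of_fixes_sub hRp hδc x (Subtype.ext (hQfix _ ?_))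
        have h1 := hCfix x hx
        rw [hk'] at h1
        simpa using h1.1
      have hδ1 : δ = 1 := eq_one_of_fixes_sub hRp hδc fun x => by
        refine hCδ _ ⟨hRc.1 (SetLike.coe_mem _), fun q hq => ?_⟩
        have hq' : (x : Ω) * q * (x : Ω)⁻¹ ∈ Q :=
          StronglyClosed.conj_mem hQc (hRc.1 x.2) hq
        have h1 : δ (x * ⟨q, hQR hq⟩ * x⁻¹) = x * ⟨q, hQR hq⟩ * x⁻¹ := Subtype.ext (hQfix _ hq')
        rw [map_mul, map_mul, map_inv,
          show δ ⟨q, hQR hq⟩ = ⟨q, hQR hq⟩ from Subtype.ext (hQfix _ hq)] at h1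
        have h2 : ((δ x : R) : Ω) * q * ((δ x : R) : Ω)⁻¹ = x * q * (x : Ω)⁻¹ :=
          congrArg Subtype.val h1
        show q * ((x : Ω)⁻¹ * ((δ x : R) : Ω)) = (x : Ω)⁻¹ * ((δ x : R) : Ω) * q
        calc q * ((x : Ω)⁻¹ * ((δ x : R) : Ω))
            = (x : Ω)⁻¹ * (x * q * (x : Ω)⁻¹) * ((δ x : R) : Ω) := by group
          _ = (x : Ω)⁻¹ * (((δ x : R) : Ω) * q * ((δ x : R) : Ω)⁻¹) * ((δ x : R) : Ω) := by rw [h2]
          _ = (x : Ω)⁻¹ * ((δ x : R) : Ω) * q := by group
      exact Subtype.ext (Subtype.ext (eq_one_of_pow_prime_pow (k := k) hc hδ1))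
    refine mem_of_aut_mem_pGroup hRc hRr K hK ⟨hXS haX, haR⟩ fun γ hγ => ⟨fun x hx => ?_, a, haX,
      fun x hx => ?_⟩
    · rw [hγ]
      show a * x * a⁻¹ = x
      rw [← (hXC haX).2 x hx, mul_inv_cancel_right]
    · rw [hγ]
      show (a * x * a⁻¹)⁻¹ * (a * x * a⁻¹) ∈ Z
      rw [inv_mul_cancel]
      exact Z.one_mem
  have hXinv : ∀ R : Subgroup Ω, R ≤ S → Q ≤ R → X ≤ R → ∀ α ∈ F.autGroup R,
      ∀ x : R, (x : Ω) ∈ X → ((α x : R) : Ω) ∈ X := by
    intro R hR hQR hXR α hα x hx
    obtain ⟨μ, hμX, -, hμα⟩ := hext R hR hQR α hα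
    have h1 := hμα x ⟨x.2, hXC hx⟩
    have hZX : Z ≤ X := fun z hz => mem_preimageAlong.2
      ⟨hz.2, by rw [(hker ⟨z, hz.2⟩).2 hz]; exact Subgroup.one_mem _⟩
    have h2 := X.mul_mem (hμX x hx) (hZX h1)
    rwa [mul_inv_cancel_left] at h2
  refine hXQ (IsNormal.le_core (isNormal_of_alperin hS hF hXS fun P hP => ?_))
  rcases hP with rfl | hP
  · exact ⟨hXS, hXinv P le_rfl hQn.1 hXS⟩
  · have hr := essential_isRadical hS hF hP
    exact ⟨hXrad P hP.1 hr, hXinv P hP.1.1 (IsNormal.le_centricRadical hS hQn hP.1 hr)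
      (hXrad P hP.1 hr)⟩

/-- The functor gives a normal subgroup, given the result for smaller systems and larger cores. -/
theorem funcOn_isNormal_step : F.IsNormal (funcOn W S) := by
  by_cases hcen : F.IsCentric F.core
  · exact funcOn_isNormal_of_constrained W hW2 hW3 hS hF hfree core_isNormal hcen
  have hQ : F.core = ⊥ := by
    by_contra hne
    exact hcen (centric_core_of_ne_bot W hW1 hW2 hW3 hS hF hfree hsmall hcore hne)
  set X := funcOn W S with hX
  have hXS : X ≤ S := funcOn_le W S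
  have hXn : normalizerIn S X = S := normalizerIn_funcOn_top W hW2 hS
  set E := normSys F X hXS hXn with hE
  have hle : F ≤ E := by
    refine alperin_inductive hS hF fun R hR hlarge => ?_
    haveI := finite_of_le hR.1
    rcases hR.1.eq_or_lt with rfl | hRS
    · intro α hα
      refine mem_autGroup_normSys hXS hXn hXS le_rfl hα fun x hx => ?_
      have hm := isMap_of_autGroup (le_refl R) hα
      have h1 := img_funcOn W hW2 hS hm (img_toFun_aut α)
      have h2 := h1.le ((hm.mono hXS).apply_mem_img hx)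
      rwa [toFun_aut_apply α x.2] at h2
    by_cases hRc : F.IsCentric R
    swap
    · rw [← extAut_eq_of_not_centric hS hF hR hRc]
      refine (Subgroup.closure_le _).2 fun β hβ => ?_
      obtain ⟨V, hRV, g, hg, hgx⟩ := hβ
      haveI := finite_of_le hg.le
      have hlt : Nat.card R < Nat.card V :=
        lt_of_not_ge fun h => hRV.ne (eq_of_le_of_card_le hRV.le h)
      exact (autGroup_iff_isMap hR.1 fun x => (hgx x).symm).2 ((hlarge _ g hg hlt).mono hRV.le)
    -- maps normalizing a subgroup with a large normalizer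
    have inner : ∀ n, ∀ U : Subgroup Ω, U ≤ S → U ≠ ⊥ →
        Nat.card R < Nat.card (normalizerIn S U) → Nat.card S - Nat.card (normalizerIn S U) = n →
        ∀ (P : Subgroup Ω) (f : Ω → Ω), U ≤ P → P ≤ normalizerIn S U → IsMap F P f →
          img U f = U → IsMap E P f := by
      intro n
      induction n using Nat.strong_induction_on with
      | _ n ih =>
        intro U hU hUne hRU hn P f hUP hPN hf hfU
        haveI := finite_of_le hU
        haveI : Finite ↥(normalizerIn S U) := finite_normalizerIn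
        have hN1 : Nat.card (normalizerIn S U) ≤ Nat.card S := Subgroup.card_le_of_le inf_le_left
        have hfN : ∀ x ∈ P, f x ∈ normalizerIn S U := fun x hx => by
          have h1 := hf.apply_mem_normalizerIn hUP hx (hPN hx).2
          rwa [hfU] at h1
        by_cases hUn : F.IsFullyNormalized U
        · have hNs := isNormalizerSystem_normalizerSys F U hU
          have hNsat := isSaturated_normalizerSystem hS hF hUn hNs
          have hNfree := isSectionFree_normalizer hS hF hUn hNs hfree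
          have hfNs : IsMap (normalizerSys F U hU) P f := (isMap_normalizerSystem_iff hNs).2
            ⟨hPN, hfN, f, by rwa [sup_eq_left.2 hUP], fun _ _ => rfl, hfU⟩
          rcases (inf_le_left : normalizerIn S U ≤ S).eq_or_lt with hT | hT
          · -- `U` is normalized by `S`
            have hlt : Nat.card F.core < Nat.card (normSys F U hU hT).core := by
              rw [hQ, Subgroup.card_bot]
              haveI := finite_of_le (core_le (normSys F U hU hT))
              refine lt_of_lt_of_le (Finite.one_lt_card_iff_nontrivial.2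
                ((Subgroup.nontrivial_iff_ne_bot U).2 hUne))
                (Subgroup.card_le_of_le (IsNormal.le_core (isNormal_normSys_self hU hT)))
            have h1 := hcore _ hlt (isSaturated_normSys hS hF hU hT)
              (isSectionFree_castSys hT hNfree)
            obtain ⟨g, hg, hgx, hgX⟩ := (isNormal_iff.1 h1).2 P f ((isMap_castSys hT _).2 hfNs)
            exact (isMap_normSys_iff hXS hXn).2
              ⟨hf.le, fun x hx => hf.mem hx, g, hg.of_normSys, hgx, hgX⟩
          · -- the functor moves `U` to a subgroup with a larger normalizer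
            set T1 := normalizerIn S U with hT1
            have hT1S : T1 ≤ S := hT.le
            have hTlt : Nat.card T1 < Nat.card S :=
              lt_of_not_ge fun h => hT.ne (eq_of_le_of_card_le hT.le h)
            have h1 := hsmall Ω T1 (normalizerSys F U hU) hTlt (hS.to_le hT1S) hNsat hNfree
            obtain ⟨g, hg, hgx, hgV⟩ := (isNormal_iff.1 h1).2 P f hfNs
            obtain ⟨-, -, g2, hg2, hg2x, -⟩ := (isMap_normalizerSystem_iff hNs).1 hg
            have hgF : IsMap F (P ⊔ funcOn W T1) g := (hg2.mono le_sup_left).congr hg2x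
            have hVne : funcOn W T1 ≠ ⊥ := funcOn_ne_bot W hW1 (hS.to_le hT1S) fun hb =>
              hUne (le_bot_iff.1 (hb ▸ le_normalizerIn hU))
            have hNV : normalizerIn S T1 ≤ normalizerIn S (funcOn W T1) :=
              normalizer_le_funcOn W hW2 hS hT1S
            have hlt : Nat.card T1 < Nat.card (normalizerIn S (funcOn W T1)) := by
              haveI : Finite ↥(normalizerIn S (funcOn W T1)) := finite_normalizerIn
              have h2 := lt_of_lt_of_le (lt_normalizerIn hS hT) hNV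
              exact lt_of_not_ge fun h => h2.ne (eq_of_le_of_card_le h2.le h)
            have hle2 : Nat.card (normalizerIn S (funcOn W T1)) ≤ Nat.card S :=
              Subgroup.card_le_of_le inf_le_left
            have h3 := ih _ (by omega) _ ((funcOn_le W T1).trans hT1S) hVne (lt_trans hRU hlt) rfl
              _ g le_sup_right
              (sup_le (hPN.trans ((le_normalizerIn hT1S).trans hNV))
                ((funcOn_le W T1).trans ((le_normalizerIn hT1S).trans hNV))) hgF hgV
            exact (h3.mono le_sup_left).congr hgx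
        · -- pass to a fully normalized conjugate
          obtain ⟨U', hUU', hU'⟩ := exists_fullyNormalized_conj F hU
          obtain ⟨ψ, hψ, hψi, hψN⟩ :=
            exists_map_normalizerIn_of_fullyNormalized hS hF hU' hUU'
          have hψE : IsMap E (normalizerIn S U) ψ := hlarge _ ψ hψ hRU
          subst hψi
          have hlt : Nat.card (normalizerIn S U) < Nat.card (normalizerIn S (img U ψ)) := by
            by_contra hge
            refine hUn ⟨hU, fun V hV => ?_⟩
            exact (hU'.2 V (isConj_trans (isConj_symm hUU') hV)).trans (not_lt.1 hge)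
          have hψP := hψE.mono hPN
          have hψPF := hψ.mono hPN
          obtain ⟨k, hk, hkx, hky, -⟩ := hψPF.exists_inv
          have hcomp : IsMap F (img P ψ) (fun y => ψ (f (k y))) :=
            (hk.comp hf fun y hy => (hky y hy).1).comp hψ fun y hy => hfN _ (hky y hy).1
          have hle2 : Nat.card (normalizerIn S (img U ψ)) ≤ Nat.card S :=
            Subgroup.card_le_of_le inf_le_left
          have hUne' : img U ψ ≠ ⊥ := fun h => hUne <| by
            refine (Subgroup.eq_bot_iff_forall _).2 fun x hx => hψ.eq_one (le_normalizerIn hU hx) ?_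
            have := (hψ.mono (le_normalizerIn hU)).apply_mem_img hx
            rwa [h, Subgroup.mem_bot] at this
          have hiU : img (img U ψ) (fun y => ψ (f (k y))) = img U ψ := by
            haveI := finite_of_le hU'.1
            refine hcomp.img_eq_of_forall (img_mono hUP) fun y hy => ?_
            obtain ⟨u, hu, rfl⟩ := (hψ.mono (le_normalizerIn hU)).mem_img.1 hy
            show ψ (f (k (ψ u))) ∈ _
            rw [hkx u (hUP hu)]
            exact (hψ.mono (le_normalizerIn hU)).apply_mem_img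
              (hfU.le ((hf.mono hUP).apply_mem_img hu))
          have h3 := ih _ (by omega) _ hU'.1 hUne' (lt_trans hRU hlt) rfl _ _ (img_mono hUP)
            (fun y hy => by
              obtain ⟨x, hx, rfl⟩ := hψPF.mem_img.1 hy
              exact hψN x (hPN hx)) hcomp hiU
          -- transport back
          obtain ⟨l, hl, hlx, hly, -⟩ := hψE.exists_inv
          have h4 : IsMap E P (fun x => ψ (f (k (ψ x)))) :=
            hψP.comp h3 fun x hx => hψPF.apply_mem_img hx
          refine (h4.comp hl fun x hx => ?_).congr fun x hx => ?_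
          · show ψ (f (k (ψ x))) ∈ _
            rw [hkx x hx]
            exact hψE.apply_mem_img (hfN x hx)
          · show l (ψ (f (k (ψ x)))) = f x
            rw [hkx x hx, hlx _ (hfN x hx)]
    -- the model of `N_F(R)`
    intro α hα
    set T := normalizerIn S R with hTdef
    haveI : Finite T := finite_normalizerIn
    have hTS : T ≤ S := inf_le_left
    have hTp := hS.to_le hTS
    have hRT : R ≤ T := le_normalizerIn hR.1
    have hNs := isNormalizerSystem_normalizerSys F R hR.1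
    obtain ⟨G, hG, ι, hfin, hr, ⟨Ps, hPs⟩, hM, hc⟩ :=
      Model.exists_model_normalizer F hS hF hRc hR hNs
    haveI := hfin
    have hm := isModel_of_normal_centric hTp hr ⟨Ps, hPs⟩ hRT hM hc
    have hWn := hW3 G Ps hm.2.2.2 (hfree R hR hRc _ hNs G ι hm)
    rw [funcOn_map_embedding W hW2 hTp hr.1 hPs] at hWn
    set V := funcOn W T with hV
    have hVT : V ≤ T := funcOn_le W T
    have hαN : IsMap (normalizerSys F R hR.1) R (toFun (R.subtype.comp α.toMonoidHom)) := by
      refine (isMap_normalizerSystem_iff hNs).2 ⟨hRT, fun x hx => ?_, _, ?_,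
        fun _ _ => rfl, img_toFun_aut α⟩
      · rw [toFun_aut_apply α hx]
        exact hRT (α ⟨x, hx⟩).2
      · rw [sup_idem]
        exact isMap_of_autGroup hR.1 hα
    obtain ⟨g0, hg0⟩ := realized_exists_elem hr hαN
    have hU : R ⊔ V ≤ T := sup_le hRT hVT
    have hmem : R ⊔ V ≤ preimage ι (ι.range.comap (MulAut.conj g0).toMonoidHom) := by
      refine sup_le (fun x hx => mem_preimage.2 ⟨hRT hx, ?_⟩)
        fun x hx => mem_preimage.2 ⟨hVT hx, ?_⟩
      · obtain ⟨v, -, hv⟩ := hM.conj_mem _ ⟨⟨x, hRT hx⟩, hx, rfl⟩ g0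
        exact ⟨v, hv⟩
      · obtain ⟨v, -, hv⟩ := hWn.conj_mem _ ⟨⟨x, hVT hx⟩, hx, rfl⟩ g0
        exact ⟨v, hv⟩
    obtain ⟨f, hf, hfx⟩ := realized_exists_map hr hU g0 fun x hx => (mem_preimage.1 (hmem hx)).2
    obtain ⟨-, -, f2, hf2, hf2x, -⟩ := (isMap_normalizerSystem_iff hNs).1 hf
    have hfF : IsMap F (R ⊔ V) f := (hf2.mono le_sup_left).congr hf2x
    have hfV : img V f = V := by
      haveI := finite_of_le (hVT.trans hTS)
      refine hfF.img_eq_of_forall le_sup_right fun x hx => ?_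
      obtain ⟨hfT, he⟩ := hfx x (Subgroup.mem_sup_right hx)
      obtain ⟨v, hv, hvι⟩ := hWn.conj_mem _ ⟨⟨x, hVT hx⟩, hx, rfl⟩ g0
      rw [hr.1 (hvι.trans he.symm)] at hv
      exact hv
    have hTS' : T < S ∨ T = S := lt_or_eq_of_le hTS
    have hlt : Nat.card R < Nat.card (normalizerIn S V) := by
      haveI : Finite ↥(normalizerIn S V) := finite_normalizerIn
      refine lt_of_lt_of_le ?_ (Subgroup.card_le_of_le
        ((le_normalizerIn hTS).trans (normalizer_le_funcOn W hW2 hS hTS)))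
      exact lt_of_not_ge fun h => (lt_normalizerIn hS hRS).ne (eq_of_le_of_card_le hRT h)
    have hRne : T ≠ ⊥ := fun hb => by
      have h1 : R = ⊥ := le_bot_iff.1 (hb ▸ hRT)
      exact absurd (lt_normalizerIn hS hRS) (by rw [← hTdef, hb, h1]; exact lt_irrefl _)
    have h := inner _ V (hVT.trans hTS) (funcOn_ne_bot W hW1 hTp hRne) hlt rfl _ f le_sup_right
      (hU.trans ((le_normalizerIn hTS).trans (normalizer_le_funcOn W hW2 hS hTS))) hfF hfV
    refine (autGroup_iff_isMap hR.1 fun x => ?_).2 (h.mono le_sup_left)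
    obtain ⟨hfT, he⟩ := hfx x (Subgroup.mem_sup_left x.2)
    have h1 := hg0 x x.2 (hRT x.2) (by rw [toFun_aut_apply α x.2]; exact hRT (α x).2)
    rw [← he] at h1
    have h2 := congrArg Subtype.val (hr.1 h1)
    simp only [toFun_aut_apply α x.2] at h2
    exact h2
  refine isNormal_iff.2 ⟨hXS, fun P f hf => ?_⟩
  obtain ⟨-, -, g, hg, hgx, hgX⟩ :=
    (isMap_normSys_iff hXS hXn).1 (le_iff_isMap.1 hle P f hf)
  exact ⟨g, hg, hgx, hgX⟩

end Step

/-- A functor with normal values in section-free constrained groups gives normal subgroups in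
section-free saturated systems. -/
theorem funcOn_isNormal {p : ℕ} [Fact p.Prime] {H : Type w} [Group H]
    (W : ∀ (Q : Type u) [Group Q], Subgroup Q)
    (hW1 : ∀ (Q : Type u) [Group Q] [Finite Q], IsPGroup p Q → Nontrivial Q → W Q ≠ ⊥)
    (hW2 : ∀ (Q R : Type u) [Group Q] [Group R] [Finite Q], IsPGroup p Q → ∀ φ : Q ≃* R,
      (W Q).map φ.toMonoidHom = W R)
    (hW3 : NormalInFree p H W) :
    ∀ (Ω : Type u) [Group Ω] (S : Subgroup Ω) [Finite S] (F : FusionSystem S), IsPGroup p S →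
      F.IsSaturated p → F.IsSectionFree p H → F.IsNormal (funcOn W S) := by
  suffices h : ∀ n m, ∀ (Ω : Type u) [Group Ω] (S : Subgroup Ω) [Finite S] (F : FusionSystem S),
      Nat.card S = n → Nat.card S - Nat.card F.core = m → IsPGroup p S → F.IsSaturated p →
      F.IsSectionFree p H → F.IsNormal (funcOn W S) from
    fun Ω _ S _ F => h _ _ Ω S F rfl rfl
  intro n
  induction n using Nat.strong_induction_on with
  | _ n ihn =>
    intro m
    induction m using Nat.strong_induction_on with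
    | _ m ihm =>
      intro Ω _ S _ F hn hm hS hF hfree
      refine funcOn_isNormal_step W hW1 hW2 hW3 hS hF hfree
        (fun Ω' _ S' _ F' hlt hS' hF' hf' =>
          ihn _ (hn ▸ hlt) _ Ω' S' F' rfl rfl hS' hF' hf')
        fun F' hlt hF' hf' => ihm _ ?_ Ω S F' hn rfl hS hF' hf'
      haveI := finite_of_le (core_le F')
      have := Subgroup.card_le_of_le (core_le F')
      omega

end CfsgLib.Fusion
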