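import Cfsg.Agent.Lib.Fusion.GTReplaceModel

/-!
The axiomatic Glauberman–Thompson criterion for fusion systems.
-/

set_option autoImplicit false
set_option linter.style.haveILetI false
set_option linter.unusedVariables false
set_option linter.unusedSectionVars false

universe u

namespace CfsgLib.Fusion

open Cfsg Cfsg.FusionSystem Subgroup

variable {Ω : Type u} [Group Ω] {S : Subgroup Ω} {F E : FusionSystem S} {P Q R U : Subgroup Ω}
  {p : ℕ}

theorem autGroup_mono_of_le (hle : E ≤ F) (hP : P ≤ S) {α : MulAut P} (hα : α ∈ E.autGroup P) :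
    α ∈ F.autGroup P :=
  (autGroup_iff_isMap hP fun x => (toFun_aut_apply α x.2).symm).2
    (le_iff_isMap.1 hle _ _ (isMap_of_autGroup hP hα))

theorem memInf_self {𝒜 : Set (Subgroup Ω)} (h : ∀ A ∈ 𝒜, A ≤ S) :
    memInf 𝒜 S = ⨅ A ∈ 𝒜, A :=
  le_antisymm (le_iInf₂ fun A hA => memInf_le hA (h A hA))
    (le_iInf₂ fun A hA => iInf₂_le (f := fun A (_ : A ∈ 𝒜) => A) A hA.1)

section Replace

variable [Fact p.Prime] [Finite S] {𝒜 : Set (Subgroup Ω)}

/-- A system with a normal subgroup, by downward induction on it. -/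
theorem coprimeTrivial_gt_normal (hp : p ≠ 2) (hS : IsPGroup p S)
    (h𝒜 : ∀ A ∈ 𝒜, A ≤ S ∧ IsMulCommutative A) (hne : 𝒜.Nonempty)
    (hinv : ∀ U : Subgroup Ω, U ≤ S → (∃ A ∈ 𝒜, A ≤ U) → ∀ α ∈ F.autGroup U, ∀ x : U,
      (x : Ω) ∈ memInf 𝒜 U → ((α x : U) : Ω) ∈ memInf 𝒜 U)
    (hrep : ∀ B : Subgroup Ω, B ≤ S → ⁅⁅B, B⁆, B⁆ = ⊥ → (∃ A ∈ 𝒜, ⁅B, B⁆ ≤ A ∧ ¬ B ≤ A) →
      ∃ A ∈ 𝒜, ⁅B, B⁆ ≤ A ∧ ¬ B ≤ A ∧ B ≤ Subgroup.normalizer (A : Set Ω))
    (hI : ∀ P ≤ S, memInf 𝒜 S ≤ P → ∀ α ∈ F.autGroup P,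
      (∀ x : P, (x : Ω) ∈ memInf 𝒜 S → ((α x : P) : Ω) ∈ memInf 𝒜 S) →
      (orderOf α).Coprime p → α = 1) :
    ∀ (Q : Subgroup Ω) (E : FusionSystem S), E ≤ F → E.IsSaturated p → E.IsNormal Q →
      CoprimeTrivial E p := by
  obtain ⟨A₀, hA₀⟩ := hne
  have hIS : memInf 𝒜 S ≤ S := (memInf_le hA₀ (h𝒜 A₀ hA₀).1).trans (h𝒜 A₀ hA₀).1
  intro Q
  induction hn : Nat.card S - Nat.card Q using Nat.strong_induction_on generalizing Q with
  | _ n ih =>
    intro E hle hE hQn
    have hrec : ∀ (X : Subgroup Ω) (hX : X ≤ S) (hXn : normalizerIn S X = S), Q < X →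
        CoprimeTrivial (normSys E X hX hXn) p := by
      intro X hX hXn hQX
      refine ih _ ?_ X rfl _ (fun P => (normSys_le hX hXn P).trans (hle P))
        (isSaturated_normSys hS hE hX hXn) (isNormal_normSys_self hX hXn)
      haveI := finite_of_le hX
      have h1 : Nat.card Q < Nat.card X :=
        lt_of_not_ge fun h => hQX.ne (eq_of_le_of_card_le hQX.le h)
      have h2 := Subgroup.card_le_of_le hX
      omega
    have hQc := IsNormal.stronglyClosed hQn
    by_cases hQS : Q = S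
    · intro R hR α hα hc
      obtain ⟨g, hg, hgx, hgQ⟩ := (isNormal_iff.1 hQn).2 R _ (isMap_of_autGroup hR hα)
      haveI := finite_of_le hg.le
      have hi : img (R ⊔ Q) g = R ⊔ Q := by
        rw [hg.img_sup le_sup_left le_sup_right, hgQ, img_congr hgx, img_toFun_aut]
      refine eq_one_of_extension hg hi le_sup_left
        (fun x => (hgx x x.2).trans (toFun_aut_apply α x.2)) hc fun n hn => ?_
      have hle' : S ≤ R ⊔ Q := hQS.ge.trans le_sup_right
      have e : R ⊔ Q = S := le_antisymm hg.le hle'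
      have hmem := autGroup_mono_of_le hle hg.le (Subgroup.pow_mem _ (hg.toAut_mem hi) n)
      refine hI _ hg.le (hIS.trans hle') _ hmem (fun x hx => ?_) hn
      have heI : memInf 𝒜 (R ⊔ Q) = memInf 𝒜 S := congrArg (memInf 𝒜) e
      have h1 := hinv _ hg.le ⟨A₀, hA₀, (h𝒜 A₀ hA₀).1.trans hle'⟩ _ hmem x (heI.ge hx)
      exact heI.le h1
    obtain ⟨X, hX, hXn, hQX, -, hctl⟩ :=
      exists_quotient_control hS hE (centerThompsonComplement.{u} p hp) hQn hQS
    by_cases hQC : centralizerIn S Q ≤ Q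
    · exact coprimeTrivial_gt_centric hp hS hE hQn hQC hQS h𝒜 ⟨A₀, hA₀⟩
        (fun U hU hA α hα => hinv U hU hA α (autGroup_mono_of_le hle hU hα)) hrep
        (fun P hP hIP α hα => hI P hP hIP α (autGroup_mono_of_le hle hP hα)) hrec
    -- automorphisms of order prime to `p` fix `Q`
    set C := centralizerIn S Q
    have hCc : E.StronglyClosed C := by
      refine stronglyClosed_iff.2 ⟨inf_le_left, fun X f hX hf x hx => ?_⟩
      obtain ⟨g, hg, hgx, hgQ⟩ := (isNormal_iff.1 hQn).2 X f hf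
      have h1 := hg.apply_mem_centralizerIn le_sup_right (Subgroup.mem_sup_left hx) (hX hx).2
      rw [hgQ, hgx x hx] at h1
      exact h1
    set Y := Q ⊔ C with hYdef
    have hY : Y ≤ S := sup_le hQn.1 inf_le_left
    have hYc : E.StronglyClosed Y := StronglyClosed.sup hS hE hQc hCc
    have hYt := hrec Y hY (StronglyClosed.normalizerIn_eq hYc) (left_lt_sup.2 hQC)
    refine coprimeTrivial_of_normal hS hE hQn (fun R hR hQR α hα hc x hx => ?_)
      (fun R hR hQR α hα hc => hctl (hrec X hX hXn hQX) R hR hQR α hα hc)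
    haveI := finite_of_le hQn.1
    haveI := finite_of_le hY
    have hm := (isMap_of_autGroup hR hα).mono hQR
    have hiQ : img Q (toFun (R.subtype.comp α.toMonoidHom)) = Q :=
      StronglyClosed.img_eq hQc hm le_rfl
    obtain ⟨g, hg, hgx⟩ := receptive_extend_centralizer
      (receptive_of_fullyNormalized hS hE (IsNormal.fullyNormalized hQn)) hm hiQ
    have hiY : img Y g = Y := StronglyClosed.img_eq hYc hg le_rfl
    obtain ⟨k, hk⟩ : ∃ k, hg.toAut hiY ^ p ^ k = 1 := by
      obtain ⟨j, hj⟩ := exists_coprime_pow (p := p) (hg.toAut hiY) (isOfFinOrder_of_finite _)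
      exact ⟨j, eq_one_of_coprimeTrivial_normSys hYt le_rfl hY
        (Subgroup.pow_mem _ (hg.toAut_mem hiY) _) (fun y _ => SetLike.coe_mem _) hj⟩
    have hval : ∀ (n : ℕ) (y : Ω) (hy : y ∈ Q),
        (((hg.toAut hiY ^ n) ⟨y, Subgroup.mem_sup_left hy⟩ : Y) : Ω) =
          ((α ^ n) ⟨y, hQR hy⟩ : R) := by
      intro n
      induction n with
      | zero => intro y hy; rfl
      | succ n ih =>
        intro y hy
        rw [pow_succ, MulAut.mul_apply, pow_succ, MulAut.mul_apply]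
        have h1 : g y ∈ Q := by
          rw [hgx y hy]
          exact StronglyClosed.apply_mem hQc hm hy hy
        rw [show hg.toAut hiY ⟨y, Subgroup.mem_sup_left hy⟩ = ⟨g y, Subgroup.mem_sup_left h1⟩ from
          Subtype.ext (IsMap.toAut_apply hg hiY _), ih (g y) h1]
        congr 2
        refine Subtype.ext ?_
        show g y = _
        rw [hgx y hy, toFun_aut_apply α (hQR hy)]
    obtain ⟨m, hm'⟩ := exists_pow_eq_self_of_coprime (hc.pow_right k).symm
    have h1 := hval (p ^ k * m) x hx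
    rw [pow_mul, hk, one_pow, pow_mul, hm'] at h1
    exact h1.symm

/-- The normalizer of every nontrivial fully normalized subgroup has no automorphisms of order
prime to `p`. -/
theorem coprimeTrivial_gt_local (hp : p ≠ 2) (hS : IsPGroup p S) (hF : F.IsSaturated p)
    (hN : ∀ (X : Subgroup Ω) (E : FusionSystem S), E ≤ F → E.IsSaturated p → E.IsNormal X →
      CoprimeTrivial E p) :
    ∀ (V : Subgroup Ω), V ≠ ⊥ → F.IsFullyNormalized V → ∀ P, V ≤ P → P ≤ normalizerIn S V →
      ∀ α ∈ F.autGroup P, (∀ x : P, (x : Ω) ∈ V → ((α x : P) : Ω) ∈ V) →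
      (orderOf α).Coprime p → α = 1 := by
  intro V
  induction hn : Nat.card S - Nat.card (normalizerIn S V) using Nat.strong_induction_on
    generalizing V with
  | _ n ih =>
    intro hV hVn P hVP hP α hα hinv hc
    haveI := finite_normalizerIn (S := S) (P := V)
    rcases (inf_le_left : normalizerIn S V ≤ S).eq_or_lt with hT | hT
    · exact eq_one_of_coprimeTrivial_normSys (hN V _ (normSys_le hVn.1 hT)
        (isSaturated_normSys hS hF hVn.1 hT) (isNormal_normSys_self hVn.1 hT))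
        hVP (hP.trans inf_le_left) hα hinv hc
    set T := normalizerIn S V with hTdef
    have hVT : V ≤ T := le_normalizerIn hVn.1
    have hNs := isNormalizerSystem_normalizerSys F V hVn.1
    have hle : ∀ P f, IsMap (normalizerSys F V hVn.1) P f → IsMap F P f := fun P f h =>
      isMap_of_normalizerSys hVn.1 h
    set W := centerThompsonComplement.{u} p hp
    haveI : Finite T := finite_normalizerIn
    have hTne : T ≠ ⊥ := fun h => hV (le_bot_iff.1 (h ▸ hVT))
    have hWne : W.W T ≠ ⊥ := W.ne_bot T (hS.to_le hT.le) hTne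
    have hWT : W.W T ≤ T := W.le T
    have hnorm : ∀ a ∈ normalizerIn S T, a ∈ Subgroup.normalizer (W.W T : Set Ω) :=
      fun a ha => W.normalizer_le _ ha.2
    have hEh : LocallyPGroup (normalizerSys F V hVn.1) p (W.W T) := by
      intro X hX hWX β hβ hβinv hβc
      have hbig : Nat.card T < Nat.card (normalizerIn S (W.W T)) := by
        haveI : Finite ↥(normalizerIn S (W.W T)) := finite_normalizerIn
        have h1 : T < normalizerIn S (W.W T) := lt_of_lt_of_le (lt_normalizerIn hS hT)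
          (le_inf inf_le_left hnorm)
        exact lt_of_not_ge fun h => h1.ne (eq_of_le_of_card_le h1.le h)
      obtain ⟨V', hV', hV'n⟩ := exists_fullyNormalized_conj F (hWT.trans hT.le)
      obtain ⟨ψ, hψ, hψi, hψN⟩ := exists_map_normalizerIn_of_fullyNormalized hS hF hV'n hV'
      have hXN : X ≤ normalizerIn S (W.W T) := fun a ha => ⟨hT.le (hX ha),
        hnorm a ⟨hT.le (hX ha), Subgroup.le_normalizer (hX ha)⟩⟩
      have hψX := hψ.mono hXN
      set X' := img X ψ
      have hX' : X' ≤ normalizerIn S V' := fun y hy => by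
        obtain ⟨x, hx, rfl⟩ := hψX.mem_img.1 hy
        exact hψN x (hXN hx)
      have hV'X : V' ≤ X' := hψi ▸ img_mono hWX
      have hV'ne : V' ≠ ⊥ := fun h => hWne <| by
        refine (Subgroup.eq_bot_iff_forall _).2 fun x hx => hψX.eq_one (hWX hx) ?_
        have := (hψX.mono hWX).apply_mem_img hx
        rwa [hψi, h, Subgroup.mem_bot] at this
      have hβF : β ∈ F.autGroup X :=
        (autGroup_iff_isMap (hX.trans hT.le) fun x => (toFun_aut_apply β x.2).symm).2
          (hle _ _ (isMap_of_autGroup hX hβ))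
      have hβ' : MulAut.congr hψX.equivImg β = 1 := by
        haveI := finite_normalizerIn (S := S) (P := V')
        have hsize : Nat.card (normalizerIn S (W.W T)) ≤ Nat.card (normalizerIn S V') :=
          hV'n.2 _ (isConj_symm hV')
        have hle' : Nat.card (normalizerIn S V') ≤ Nat.card S := Subgroup.card_le_of_le inf_le_left
        refine ih _ (by omega) V' rfl hV'ne hV'n X' hV'X hX' _ (hψX.congr_mem_autGroup hβF)
          (fun y hy => ?_) ?_
        · obtain ⟨x, rfl⟩ := hψX.equivImg.surjective y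
          show ((hψX.equivImg (β (hψX.equivImg.symm (hψX.equivImg x))) : X') : Ω) ∈ V'
          rw [MulEquiv.symm_apply_apply, IsMap.coe_equivImg]
          rw [IsMap.coe_equivImg, ← hψi, hψX.apply_mem_img_iff_of_le hWX x.2] at hy
          rw [← hψi, hψX.apply_mem_img_iff_of_le hWX (β x).2]
          exact (hβinv x).1 hy
        · exact (MulEquiv.orderOf_eq (MulAut.congr hψX.equivImg) β).symm ▸ hβc
      exact (MulAut.congr hψX.equivImg).injective (hβ'.trans (map_one _).symm)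
    refine coprimeTrivial_of_functor W Ω T (normalizerSys F V hVn.1) T (hS.to_le hT.le)
      (isSaturated_normalizerSystem hS hF hVn hNs)
      (stronglyClosed_iff.2 ⟨le_rfl, fun R f _ hf x hx => hf.mem hx⟩) hEh P hP α ?_ hc
    have hm := isMap_of_autGroup (hP.trans inf_le_left) hα
    refine (autGroup_iff_isMap (F := normalizerSys F V hVn.1) hP
      fun x => (toFun_aut_apply α x.2).symm).2 ((isMap_normalizerSystem_iff hNs).2
      ⟨hP, fun x hx => ?_, _, by rwa [sup_eq_left.2 hVP], fun _ _ => rfl, ?_⟩)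
    · rw [toFun_aut_apply α hx]
      exact hP (α _).2
    · haveI := finite_of_le hVn.1
      exact hm.img_eq_of_forall hVP fun x hx => by
        rw [toFun_aut_apply α (hVP hx)]
        exact hinv ⟨x, hVP hx⟩ hx

/-- The axiomatic Glauberman–Thompson criterion. -/
theorem eq_inner_iff_of_replacement (hp : p ≠ 2) (hS : IsPGroup p S) (hF : F.IsSaturated p)
    (h𝒜 : ∀ A ∈ 𝒜, A ≤ S ∧ IsMulCommutative A) (hne : 𝒜.Nonempty)
    (hinv : ∀ U : Subgroup Ω, U ≤ S → (∃ A ∈ 𝒜, A ≤ U) → ∀ α ∈ F.autGroup U, ∀ x : U,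
      (x : Ω) ∈ memInf 𝒜 U → ((α x : U) : Ω) ∈ memInf 𝒜 U)
    (hrep : ∀ B : Subgroup Ω, B ≤ S → ⁅⁅B, B⁆, B⁆ = ⊥ → (∃ A ∈ 𝒜, ⁅B, B⁆ ≤ A ∧ ¬ B ≤ A) →
      ∃ A ∈ 𝒜, ⁅B, B⁆ ≤ A ∧ ¬ B ≤ A ∧ B ≤ Subgroup.normalizer (A : Set Ω)) :
    (∀ P : Subgroup Ω, F.Hom P = (innerFusionSystem S).Hom P) ↔
      ∀ N : FusionSystem (normalizerIn S (⨅ A ∈ 𝒜, A)),
        F.IsNormalizerSystem (⨅ A ∈ 𝒜, A) N → ∀ P : Subgroup Ω,
          N.Hom P = (innerFusionSystem (normalizerIn S (⨅ A ∈ 𝒜, A))).Hom P := by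
  obtain ⟨A₀, hA₀⟩ := hne
  have hIeq : memInf 𝒜 S = ⨅ A ∈ 𝒜, A := memInf_self fun A hA => (h𝒜 A hA).1
  rw [← hIeq]
  set I := memInf 𝒜 S with hIdef
  have hIS : I ≤ S := (memInf_le hA₀ (h𝒜 A₀ hA₀).1).trans (h𝒜 A₀ hA₀).1
  constructor
  · intro hinner N hN P
    refine hom_eq_of_le_le (le_iff_isMap.2 fun P f hf => ?_) (le_iff_isMap.2 fun P f hf => ?_) P
    · obtain ⟨hP, hfm, g, hg, hgx, hgI⟩ := (isMap_normalizerSystem_iff hN).1 hf
      obtain ⟨φ, hφ, hφg⟩ := hg
      rw [hinner] at hφ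
      obtain ⟨-, a, ha, hax⟩ := hφ
      have hconj : ∀ x ∈ P ⊔ I, g x = a * x * a⁻¹ := fun x hx => (hφg ⟨x, hx⟩).symm.trans (hax ⟨x, hx⟩)
      have haN : a ∈ normalizerIn S I := by
        refine ⟨ha, mem_normalizer_iff_map_conj_eq.2 ?_⟩
        refine Eq.trans ?_ hgI
        rw [img_congr fun x hx => hconj x (mem_sup_right hx), img]
        exact (Subgroup.closure_eq _).symm
      exact ((isSystemOf_inner _).2 P f).2 ⟨hP, hfm, a, haN,
        fun x hx => (hgx x hx).symm.trans (hconj x (mem_sup_left hx))⟩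
    · obtain ⟨hP, -, a, ha, hax⟩ := ((isSystemOf_inner _).2 P f).1 hf
      exact (isMap_conj N hP ha).congr fun x hx => (hax x hx).symm
  intro hN
  have hnI : normalizerIn S I = S := by
    haveI := finite_of_le hIS
    refine inf_eq_left.2 fun a ha => ?_
    haveI : Finite (I : Set Ω) := (finite_of_le hIS : Finite I)
    refine Subgroup.mem_normalizer_fintype fun y hy => ?_
    have hm := isMap_conj F le_rfl ha
    have hi : img S (fun x => a * x * a⁻¹) = S := hm.img_eq_of_forall le_rfl fun x hx =>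
      S.mul_mem (S.mul_mem ha hx) (S.inv_mem ha)
    have h1 := hinv S le_rfl ⟨A₀, hA₀, (h𝒜 A₀ hA₀).1⟩ _ (hm.toAut_mem hi) ⟨y, hIS hy⟩ hy
    rwa [IsMap.toAut_apply] at h1
  have hI : ∀ P ≤ S, I ≤ P → ∀ α ∈ F.autGroup P,
      (∀ x : P, (x : Ω) ∈ I → ((α x : P) : Ω) ∈ I) → (orderOf α).Coprime p → α = 1 := by
    intro P hP hIP α hα hi hc
    have hNs := isNormalizerSystem_normalizerSys F I hIS
    have hm := isMap_of_autGroup hP hα
    have h1 : IsMap (normalizerSys F I hIS) P (toFun (P.subtype.comp α.toMonoidHom)) := by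
      refine (isMap_normalizerSystem_iff hNs).2 ⟨hnI.symm ▸ hP, fun x hx => hnI.symm ▸ hm.mem hx,
        _, by rwa [sup_eq_left.2 hIP], fun _ _ => rfl, ?_⟩
      haveI := finite_of_le hIS
      exact hm.img_eq_of_forall hIP fun x hx => by
        rw [toFun_aut_apply α (hIP hx)]
        exact hi ⟨x, hIP hx⟩ hx
    obtain ⟨φ, hφ, hφx⟩ := h1
    rw [hN _ hNs] at hφ
    obtain ⟨-, a, ha, hax⟩ := hφ
    exact eq_one_of_conj hS hc (ha.1 : a ∈ S) fun x => by
      rw [← hax x, hφx x, toFun_aut_apply α x.2]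
  have hNQ := coprimeTrivial_gt_normal hp hS h𝒜 ⟨A₀, hA₀⟩ hinv hrep hI
  have hloc := coprimeTrivial_gt_local hp hS hF hNQ
  intro P
  refine eq_inner_of_coprime_trivial hS hF (fun R hRn α hα hc => ?_) P
  rcases eq_or_ne R ⊥ with rfl | hR
  · exact Subsingleton.elim _ _
  exact hloc R hR hRn R le_rfl (le_normalizerIn hRn.1) α hα (fun y _ => SetLike.coe_mem _) hc

end Replace

end CfsgLib.Fusion
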