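import Cfsg.Agent.Lib.PLocal.QdFree
import Cfsg.Agent.Lib.PLocal.ZJTheorem
import Cfsg.Agent.Lib.Coprime.Sylow

/-!
The group theoretic core of the axiomatic Glauberman–Thompson criterion.
-/

set_option autoImplicit false
set_option linter.style.haveILetI false
set_option linter.unusedVariables false
set_option linter.unusedSectionVars false

universe u

namespace CfsgLib.Fusion

open Subgroup
open scoped commutatorElement MatrixGroups

variable {p : ℕ} [Fact p.Prime]

theorem trace_eq_two_of_pow_eq_one {c : SL(2, ZMod p)} {k : ℕ} (h : c ^ p ^ k = 1) :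
    (c : Matrix (Fin 2) (Fin 2) (ZMod p)).trace = 2 := by
  have h1 : ((c : Matrix (Fin 2) (Fin 2) (ZMod p)) - 1) ^ p ^ k = 0 := by
    rw [sub_pow_char_pow_of_commute p k (Commute.one_right _), one_pow,
      ← Matrix.SpecialLinearGroup.coe_pow, h, Matrix.SpecialLinearGroup.coe_one, sub_self]
  have h2 := (Matrix.isNilpotent_trace_of_isNilpotent ⟨_, h1⟩).eq_zero
  rw [Matrix.trace_sub, sub_eq_zero] at h2
  rw [h2]
  simp

/-- A group with a metabelian normal series `1 ≤ Q ≤ N ≤ G` of types `p`, abelian, `p` has no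
section `SL₂(p)`. -/
theorem no_surjective_slTwo (hp : p ≠ 2) {G : Type u} [Group G] [Finite G] {Q N : Subgroup G}
    [N.Normal] (hQ : IsPGroup p Q) (hab : ⁅N, N⁆ ≤ Q) (hN : IsPGroup p (G ⧸ N))
    (K : Subgroup G) (f : K →* SL(2, ZMod p)) : ¬ Function.Surjective f := by
  intro hf
  have hp2 : (2 : ZMod p) ≠ 0 := by
    intro h
    have : (p : ℕ) ∣ 2 := (ZMod.natCast_eq_zero_iff 2 p).1 (by exact_mod_cast h)
    exact hp ((Nat.prime_dvd_prime_iff_eq Fact.out Nat.prime_two).1 this)
  let a : SL(2, ZMod p) := ⟨!![0, 1; -1, 0], by simp [Matrix.det_fin_two_of]⟩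
  let b : SL(2, ZMod p) := ⟨!![-2, 5; -1, 2], by simp [Matrix.det_fin_two_of]; ring⟩
  have ha4 : a ^ 4 = 1 := by
    refine Subtype.ext ?_
    rw [Matrix.SpecialLinearGroup.coe_pow, Matrix.SpecialLinearGroup.coe_one]
    simp [a, pow_succ, Matrix.one_fin_two]
  have hb4 : b ^ 4 = 1 := by
    refine Subtype.ext ?_
    rw [Matrix.SpecialLinearGroup.coe_pow, Matrix.SpecialLinearGroup.coe_one]
    simp [b, pow_succ, Matrix.one_fin_two]
    ring_nf
    simp
  have hmem : ∀ g : SL(2, ZMod p), g ^ 4 = 1 → ∃ k : K, (k : G) ∈ N ∧ f k = g := by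
    intro g hg
    obtain ⟨k, rfl⟩ := hf g
    obtain ⟨j, hj⟩ := hN (QuotientGroup.mk (k : G))
    rw [← QuotientGroup.mk_pow, QuotientGroup.eq_one_iff] at hj
    have hcop : Nat.Coprime (p ^ j) 4 := by
      refine Nat.Coprime.pow_left _ ((Nat.Prime.coprime_iff_not_dvd Fact.out).2 fun h => hp ?_)
      exact (Nat.prime_dvd_prime_iff_eq Fact.out Nat.prime_two).1
        ((Fact.out : p.Prime).dvd_of_dvd_pow (show p ∣ 2 ^ 2 from h))
    obtain ⟨m, -, hm⟩ := Nat.exists_mul_mod_eq_one_of_coprime hcop (by norm_num)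
    refine ⟨k ^ (p ^ j * m), ?_, ?_⟩
    · rw [Subgroup.coe_pow, pow_mul]
      exact N.pow_mem hj m
    · rw [map_pow, pow_eq_pow_mod _ hg, hm, pow_one]
  obtain ⟨ka, hka, hkae⟩ := hmem a ha4
  obtain ⟨kb, hkb, hkbe⟩ := hmem b hb4
  obtain ⟨k, hk⟩ := hQ ⟨_, hab (commutator_mem_commutator hka hkb)⟩
  have hk' : (⁅ka, kb⁆ : K) ^ p ^ k = 1 := Subtype.ext (by
    have h0 := congrArg Subtype.val hk
    rw [Subgroup.coe_pow] at h0 ⊢
    exact h0)
  have h1 := congrArg f hk'
  rw [map_pow, map_commutatorElement, hkae, hkbe, map_one] at h1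
  have h2 := trace_eq_two_of_pow_eq_one h1
  rw [commutatorElement_def, Matrix.SpecialLinearGroup.coe_mul, Matrix.SpecialLinearGroup.coe_mul,
    Matrix.SpecialLinearGroup.coe_mul, Matrix.SpecialLinearGroup.coe_inv,
    Matrix.SpecialLinearGroup.coe_inv] at h2
  simp [a, b, Matrix.adjugate_fin_two_of, Matrix.trace_fin_two_of] at h2
  have h32 : (2 : ZMod p) ^ 5 = 0 := by linear_combination h2
  exact hp2 (pow_eq_zero_iff (by norm_num) |>.1 h32)

variable {G : Type u} [Group G]

/-- The intersection of the members inside `T`. -/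
def memInf (𝒜 : Set (Subgroup G)) (T : Subgroup G) : Subgroup G :=
  ⨅ A ∈ {A : Subgroup G | A ∈ 𝒜 ∧ A ≤ T}, A

variable {𝒜 : Set (Subgroup G)} {S : Subgroup G}

theorem memInf_le {T A : Subgroup G} (hA : A ∈ 𝒜) (hAT : A ≤ T) : memInf 𝒜 T ≤ A :=
  iInf₂_le (f := fun A (_ : A ∈ {A : Subgroup G | A ∈ 𝒜 ∧ A ≤ T}) => A) A ⟨hA, hAT⟩

theorem memInf_anti {T U : Subgroup G} (h : T ≤ U) : memInf 𝒜 U ≤ memInf 𝒜 T :=
  le_iInf₂ fun A hA => memInf_le hA.1 (hA.2.trans h)

variable [Finite G]

/-- The replacement hypotheses. -/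
structure GTFamily (S : Sylow p G) (𝒜 : Set (Subgroup G)) : Prop where
  le : ∀ A ∈ 𝒜, A ≤ (S : Subgroup G) ∧ IsMulCommutative A
  nonempty : 𝒜.Nonempty
  inv : ∀ T : Subgroup G, T ≤ (S : Subgroup G) → (∃ A ∈ 𝒜, A ≤ T) →
    ∀ g ∈ normalizer (T : Set G), ∀ x ∈ memInf 𝒜 T, g * x * g⁻¹ ∈ memInf 𝒜 T
  rep : ∀ B : Subgroup G, B ≤ (S : Subgroup G) → ⁅⁅B, B⁆, B⁆ = ⊥ →
    (∃ A ∈ 𝒜, ⁅B, B⁆ ≤ A ∧ ¬ B ≤ A) →
    ∃ A ∈ 𝒜, ⁅B, B⁆ ≤ A ∧ ¬ B ≤ A ∧ B ≤ normalizer (A : Set G)

variable {S : Sylow p G}

theorem GTFamily.memInf_le_sylow (h : GTFamily S 𝒜) : memInf 𝒜 (S : Subgroup G) ≤ (S : Subgroup G) := by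
  obtain ⟨A, hA⟩ := h.nonempty
  exact (memInf_le hA (h.le A hA).1).trans (h.le A hA).1

theorem GTFamily.memInf_comm (h : GTFamily S 𝒜) {T : Subgroup G} (hT : ∃ A ∈ 𝒜, A ≤ T)
    {x y : G} (hx : x ∈ memInf 𝒜 T) (hy : y ∈ memInf 𝒜 T) : x * y = y * x := by
  obtain ⟨A, hA, hAT⟩ := hT
  exact congrArg Subtype.val
    ((h.le A hA).2.is_comm.comm ⟨x, memInf_le hA hAT hx⟩ ⟨y, memInf_le hA hAT hy⟩)

theorem GTFamily.le_normalizer (h : GTFamily S 𝒜) {T : Subgroup G} (hT : T ≤ (S : Subgroup G))
    (hTA : ∃ A ∈ 𝒜, A ≤ T) : normalizer (T : Set G) ≤ normalizer (memInf 𝒜 T : Set G) := by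
  intro g hg
  refine mem_normalizer_iff.2 fun x => ⟨h.inv T hT hTA g hg x, fun hx => ?_⟩
  simpa [mul_assoc] using h.inv T hT hTA g⁻¹ (inv_mem hg) _ hx

/-- With `p`-stable action on normal `p`-subgroups the intersection meets each of them normally. -/
theorem GTFamily.inf_normal (h : GTFamily S 𝒜)
    (hstab : ∀ (B : Subgroup G) [B.Normal], IsPGroup p B → Cfsg.IsPStableOn p B) :
    ∀ B : Subgroup G, B.Normal → IsPGroup p B → (memInf 𝒜 (S : Subgroup G) ⊓ B).Normal := by
  intro B
  induction hn : Nat.card B using Nat.strong_induction_on generalizing B with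
  | _ n ih =>
    subst hn
    intro hBn hBp
    set Z := memInf 𝒜 (S : Subgroup G) with hZ
    set X := Z ⊓ B with hX
    by_cases hB1 : B = ⊥
    · have : X = ⊥ := le_bot_iff.mp (inf_le_right.trans hB1.le)
      rw [this]; infer_instance
    have hBS : B ≤ (S : Subgroup G) := CfsgLib.Solvable.normal_pgroup_le_sylow hBp S
    obtain ⟨A₀, hA₀⟩ := h.nonempty
    have hSne : ∃ A ∈ 𝒜, A ≤ (S : Subgroup G) := ⟨A₀, hA₀, (h.le A₀ hA₀).1⟩
    have hSX : (S : Subgroup G) ≤ normalizer (X : Set G) := fun s hs => by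
      have h1 := h.le_normalizer le_rfl hSne (Subgroup.le_normalizer hs)
      refine mem_normalizer_iff.2 fun x => and_congr (mem_normalizer_iff.1 h1 x) ?_
      exact mem_normalizer_iff.1 (normalizer_eq_top B ▸ mem_top s) x
    set N := normalClosure (X : Set G)
    have hNB : N ≤ B := normalClosure_le_normal (inf_le_right : X ≤ B)
    by_cases hNlt : N = B
    swap
    · have hcard : Nat.card N < Nat.card B := lt_of_le_of_ne (card_le_of_le hNB)
        fun h' => hNlt (eq_of_le_of_card_ge hNB h'.ge)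
      have := ih _ hcard N rfl normalClosure_normal (hBp.to_le hNB)
      rwa [show Z ⊓ N = X from le_antisymm (inf_le_inf_left Z hNB)
        (le_inf inf_le_left le_normalClosure)] at this
    have hDn : (⁅B, B⁆ : Subgroup G).Normal := commutator_normal B B
    have hDB : ⁅B, B⁆ ≤ B := commutator_le_left B B
    have hDlt : Nat.card ↥⁅B, B⁆ < Nat.card B := by
      refine lt_of_le_of_ne (card_le_of_le hDB) fun h' => ?_
      have hBB : ⁅B, B⁆ = B := eq_of_le_of_card_ge hDB h'.ge
      have : Nontrivial B := (nontrivial_iff_ne_bot B).mpr hB1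
      have := hBp.isNilpotent
      refine (Group.IsSolvable.commutator_lt_top_of_nontrivial (G := B)).ne ?_
      apply Subgroup.map_injective B.subtype_injective
      rw [← MonoidHom.range_eq_map, range_subtype, _root_.commutator_def,
        map_commutator, ← MonoidHom.range_eq_map, range_subtype, hBB]
    set W := Z ⊓ ⁅B, B⁆
    have hWn : W.Normal := ih _ hDlt _ rfl hDn (hBp.to_le hDB)
    have hDW : ⁅B, B⁆ ≤ W := by
      rw [commutator_le]
      intro s hs t ht
      rw [← hNlt] at hs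
      have key : N ≤ (centralizer ((B.map (QuotientGroup.mk' W) : Subgroup (G ⧸ W)) : Set (G ⧸ W))).comap
          (QuotientGroup.mk' W) := by
        have : (B.map (QuotientGroup.mk' W)).Normal := hBn.map _ (QuotientGroup.mk'_surjective W)
        refine normalClosure_le_normal ?_
        intro x hx
        rw [SetLike.mem_coe, mem_comap, mem_centralizer_iff]
        rintro _ ⟨b, hb, rfl⟩
        rw [← map_mul, ← map_mul]
        refine QuotientGroup.eq.mpr ?_
        have hbX : b⁻¹ * x * b ∈ X := (mem_normalizer_iff''.mp (hSX (hBS hb)) x).mp hx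
        refine ⟨?_, ?_⟩
        · have : (b * x)⁻¹ * (x * b) = x⁻¹ * (b⁻¹ * x * b) := by group
          rw [this]
          exact Z.mul_mem (Z.inv_mem hx.1) hbX.1
        · have : (b * x)⁻¹ * (x * b) = ⁅x⁻¹, b⁻¹⁆ := by rw [commutatorElement_def]; group
          rw [this]
          exact commutator_mem_commutator (B.inv_mem hx.2) (B.inv_mem hb)
      have h' := mem_centralizer_iff.mp (key hs) _ ⟨t, ht, rfl⟩
      rw [← QuotientGroup.eq_one_iff]
      show QuotientGroup.mk' W ⁅s, t⁆ = 1
      rw [map_commutatorElement, commutatorElement_eq_one_iff_commute]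
      exact h'.symm
    -- the class is at most two
    have hclass : ⁅⁅B, B⁆, B⁆ = ⊥ := by
      rw [commutator_eq_bot_iff_le_centralizer]
      have hNW : N ≤ centralizer (W : Set G) := normalClosure_le_normal fun x hx =>
        mem_centralizer_iff.2 fun w hw => h.memInf_comm hSne hw.1 hx.1
      exact fun d hd => mem_centralizer_iff.2 fun b hb =>
        (mem_centralizer_iff.1 (hNW (hNlt.symm ▸ hb)) d (hDW hd)).symm
    -- the largest normal subgroup normalizing `X`
    set L := (normalizer (X : Set G)).normalCore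
    have hLn : L.Normal := normalCore_normal _
    by_contra hnot
    set R := (S : Subgroup G) ⊓ L
    have hLX : L ≤ normalizer (X : Set G) := normalCore_le _
    have hquadL : ∀ a, ⁅⁅B, zpowers a⁆, zpowers a⁆ = ⊥ → a ∈ L := by
      intro a hq
      set C := centralizer (B : Set G)
      have hmem := hstab B hBp a hq
      set f := QuotientGroup.mk' C
      have := Cfsg.pCore_normal p (G ⧸ C)
      have hPL : (Cfsg.pCore p (G ⧸ C)).comap f ≤ L := by
        refine (normal_le_normalCore (hN := Normal.comap inferInstance f)).mpr ?_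
        intro g hg
        obtain ⟨s, hs, hsg⟩ :=
          CfsgLib.Solvable.pCore_le_sylow (S.mapSurjective (QuotientGroup.mk'_surjective C)) hg
        have h1 : s⁻¹ * g ∈ C := QuotientGroup.eq.mp hsg
        have h2 : s⁻¹ * g ∈ normalizer (X : Set G) :=
          centralizer_le_normalizer _ (centralizer_le (inf_le_right : X ≤ B) h1)
        simpa using Subgroup.mul_mem _ (hSX hs) h2
      exact hPL hmem
    have hAR : ∀ A ∈ 𝒜, B ≤ normalizer (A : Set G) → A ≤ R := fun A hA hBA =>
      le_inf (h.le A hA).1 fun a ha =>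
        hquadL a (CfsgLib.PLocal.quad_zpowers_of_normalizes (h.le A hA).2 ha hBA)
    have hRne : ∀ {A}, A ∈ 𝒜 → A ≤ R → B ≤ memInf 𝒜 R := by
      intro A hA hAR'
      have hn := h.le_normalizer (inf_le_left : R ≤ (S : Subgroup G)) ⟨A, hA, hAR'⟩
      rw [← hNlt]
      refine (closure_le _).mpr ?_
      intro y hy
      obtain ⟨z, hz, hzy⟩ := Group.mem_conjugatesOfSet_iff.mp hy
      obtain ⟨g, rfl⟩ := _root_.isConj_iff.mp hzy
      obtain ⟨c, hc, n, hn', he⟩ := CfsgLib.PLocal.frattini_mul S L g⁻¹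
      obtain ⟨r, hr, l, hl, rfl⟩ : ∃ r ∈ normalizer (R : Set G), ∃ l ∈ L, g = r * l :=
        ⟨n⁻¹, inv_mem hn', c⁻¹, L.inv_mem hc, by rw [← inv_inv g, he]; group⟩
      have h1 : l * z * l⁻¹ ∈ X := (mem_normalizer_iff.mp (hLX hl) z).mp hz
      have h2 : l * z * l⁻¹ ∈ memInf 𝒜 R := memInf_anti inf_le_left h1.1
      have h3 := (mem_normalizer_iff.1 (hn hr) _).1 h2
      simpa [mul_assoc] using h3
    by_cases hall : ∀ A ∈ 𝒜, A ≤ R
    · refine hnot ?_
      have heq : memInf 𝒜 R = Z :=
        le_antisymm (le_iInf₂ fun A hA => memInf_le hA.1 (hall A hA.1)) (memInf_anti inf_le_left)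
      have hn := h.le_normalizer (inf_le_left : R ≤ (S : Subgroup G)) ⟨A₀, hA₀, hall A₀ hA₀⟩
      rw [heq] at hn
      refine ⟨fun x hx g => ?_⟩
      obtain ⟨c, hc, n, hn', rfl⟩ := CfsgLib.PLocal.frattini_mul S L g
      have h1 : n * x * n⁻¹ ∈ X :=
        ⟨(mem_normalizer_iff.1 (hn hn') x).1 hx.1, hBn.conj_mem x hx.2 n⟩
      have := (mem_normalizer_iff.1 (hLX hc) _).1 h1
      simpa [mul_assoc] using this
    push Not at hall
    obtain ⟨A, hA, hAn⟩ := hall
    have hnB : ¬ B ≤ A := fun hBA => hAn (hAR A hA fun b hb => Subgroup.le_normalizer (hBA hb))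
    obtain ⟨A', hA', -, hA'B, hA'n⟩ := h.rep B hBS hclass
      ⟨A, hA, (hDW.trans inf_le_left).trans (memInf_le hA (h.le A hA).1), hnB⟩
    have hA'R := hAR A' hA' hA'n
    exact hA'B ((hRne hA' hA'R).trans (memInf_le hA' hA'R))

/-- The group theoretic criterion. -/
theorem isPGroup_of_gtFamily (hp : p ≠ 2) :
    ∀ (n : ℕ) (G : Type u) [Group G] [Finite G] (S : Sylow p G) (𝒜 : Set (Subgroup G))
      (Q N : Subgroup G), Nat.card G = n → GTFamily S 𝒜 → Q.Normal → N.Normal → IsPGroup p Q →
      centralizer (Q : Set G) ≤ Q → Q ≤ N → (Q.relIndex N).Coprime p →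
      (S : Subgroup G) ⊔ N = ⊤ →
      (∀ X : Subgroup G, Q < X → X ≤ (S : Subgroup G) → (S : Subgroup G) ≤ normalizer (X : Set G) →
        IsPGroup p (normalizer (X : Set G))) →
      IsPGroup p (normalizer (memInf 𝒜 (S : Subgroup G) : Set G)) → IsPGroup p G := by
  intro n
  induction n using Nat.strong_induction_on with
  | _ n ih =>
    intro G _ _ S 𝒜 Q N hn hfam hQn hNn hQp hQc hQN hcop hSN hX hI
    have hQS : Q ≤ (S : Subgroup G) := CfsgLib.Solvable.normal_pgroup_le_sylow hQp S
    have hSNQ : (S : Subgroup G) ⊓ N ≤ Q := by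
      rintro x ⟨hxS, hxN⟩
      obtain ⟨k, hk⟩ := S.isPGroup' ⟨x, hxS⟩
      haveI : (Q.subgroupOf N).Normal := hQn.comap _
      have h1 : orderOf (QuotientGroup.mk (⟨x, hxN⟩ : N) : N ⧸ Q.subgroupOf N) ∣ p ^ k :=
        orderOf_dvd_of_pow_eq_one (by
          rw [← QuotientGroup.mk_pow, show (⟨x, hxN⟩ : N) ^ p ^ k = 1 from
            Subtype.ext (by simpa using congrArg Subtype.val hk), QuotientGroup.mk_one])
      have h2 : orderOf (QuotientGroup.mk (⟨x, hxN⟩ : N) : N ⧸ Q.subgroupOf N) ∣ Q.relIndex N :=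
        orderOf_dvd_natCard _
      have h3 := Nat.eq_one_of_dvd_coprimes (hcop.pow_right k) h2 h1
      rw [orderOf_eq_one_iff, QuotientGroup.eq_one_iff] at h3
      exact h3
    by_cases hNQ : N = Q
    · have : (S : Subgroup G) = ⊤ := top_le_iff.1 (hSN.ge.trans (sup_le le_rfl (hNQ.le.trans hQS)))
      exact (this ▸ S.isPGroup').of_equiv Subgroup.topEquiv
    -- minimality
    have hmin : ∀ M : Subgroup G, Q ≤ M → M ≤ N → (S : Subgroup G) ≤ normalizer (M : Set G) →
        M = Q ∨ M = N := by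
      intro M hQM hMN hSM
      by_contra hne
      push Not at hne
      set H := (S : Subgroup G) ⊔ M with hH
      have hHN : H ⊓ N ≤ M := by
        rintro x ⟨hx, hxN⟩
        have hx' : x ∈ (((S : Subgroup G) ⊔ M : Subgroup G) : Set G) := hx
        rw [coe_mul_of_left_le_normalizer_right _ _ hSM] at hx'
        obtain ⟨s, hs, m, hm, rfl⟩ := hx'
        have hsN : s ∈ N := by simpa using N.mul_mem hxN (N.inv_mem (hMN hm))
        exact M.mul_mem (hQM (hSNQ ⟨hs, hsN⟩)) hm
      have hH' : H ≠ ⊤ := fun he => hne.2 (le_antisymm hMN (by simpa [he] using hHN))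
      set S' : Sylow p H := S.subtype (le_sup_left : (S : Subgroup G) ≤ H)
      set 𝒜' : Set (Subgroup H) := {A | A.map H.subtype ∈ 𝒜}
      have hmapS' : (S' : Subgroup H).map H.subtype = (S : Subgroup G) := by
        rw [Sylow.coe_subtype, subgroupOf_map_subtype, inf_eq_left.2 le_sup_left]
      have hA' : ∀ A ∈ 𝒜, ∃ A' ∈ 𝒜', A'.map H.subtype = A := fun A hA =>
        ⟨A.subgroupOf H, by
          show (A.subgroupOf H).map H.subtype ∈ 𝒜
          rwa [subgroupOf_map_subtype, inf_eq_left.2 ((hfam.le A hA).1.trans le_sup_left)],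
          by rw [subgroupOf_map_subtype, inf_eq_left.2 ((hfam.le A hA).1.trans le_sup_left)]⟩
      have hmeminf : ∀ T : Subgroup H, ∀ x : H,
          x ∈ memInf 𝒜' T ↔ (x : G) ∈ memInf 𝒜 (T.map H.subtype) := by
        intro T x
        simp only [memInf, mem_iInf]
        constructor
        · intro hx A hA
          obtain ⟨A', hA', rfl⟩ := hA' A hA.1
          exact mem_map_of_mem _ (hx A' ⟨hA', (map_le_map_iff_of_injective H.subtype_injective).1 hA.2⟩)
        · intro hx A' hA'
          exact (mem_map_iff_mem H.subtype_injective).1 (hx _ ⟨hA'.1, map_mono hA'.2⟩)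
      have hnorm : ∀ (T : Subgroup H) (g : H), g ∈ normalizer (T : Set H) →
          (g : G) ∈ normalizer (T.map H.subtype : Set G) := fun T g hg =>
        le_normalizer_map H.subtype ⟨g, hg, rfl⟩
      have hfam' : GTFamily S' 𝒜' := by
        refine ⟨fun A hA => ?_, ?_, fun T hT hTA g hg x hx => ?_, fun B hB hBc hBA => ?_⟩
        · refine ⟨(map_le_map_iff_of_injective H.subtype_injective).1
            (hmapS'.symm ▸ (hfam.le _ hA).1), ⟨⟨fun a b => Subtype.ext (Subtype.ext ?_)⟩⟩⟩
          have h0 := congrArg Subtype.val ((hfam.le _ hA).2.is_comm.comm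
            ⟨_, mem_map_of_mem H.subtype a.2⟩ ⟨_, mem_map_of_mem H.subtype b.2⟩)
          simpa using h0
        · obtain ⟨A, hA⟩ := hfam.nonempty
          obtain ⟨A', hA', -⟩ := hA' A hA
          exact ⟨A', hA'⟩
        · obtain ⟨A, hA, hAT⟩ := hTA
          rw [hmeminf] at hx ⊢
          exact hfam.inv _ (hmapS' ▸ map_mono hT) ⟨_, hA, map_mono hAT⟩ _ (hnorm T g hg) _ hx
        · obtain ⟨A, hA, hBBA, hBA'⟩ := hBA
          obtain ⟨A₁, hA₁, h1, h2, h3⟩ := hfam.rep (B.map H.subtype) (hmapS' ▸ map_mono hB)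
            (by rw [← map_commutator, ← map_commutator, hBc, Subgroup.map_bot])
            ⟨_, hA, by rw [← map_commutator]; exact map_mono hBBA, fun hle =>
              hBA' ((map_le_map_iff_of_injective H.subtype_injective).1 hle)⟩
          obtain ⟨A₁', hA₁', rfl⟩ := hA' A₁ hA₁
          rw [← map_commutator] at h1
          refine ⟨A₁', hA₁', (map_le_map_iff_of_injective H.subtype_injective).1 h1,
            fun hle => h2 (map_mono hle), fun b hb => mem_normalizer_iff.2 fun y => ?_⟩
          have h4 := mem_normalizer_iff.1 (h3 (mem_map_of_mem H.subtype hb)) (y : G)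
          rwa [← Subgroup.coe_subtype, ← map_inv, ← map_mul, ← map_mul,
            mem_map_iff_mem H.subtype_injective, mem_map_iff_mem H.subtype_injective] at h4
      have hQH : Q ≤ H := hQM.trans le_sup_right
      have hp' := ih _ (hn ▸ lt_of_le_of_ne (card_le_card_group H) fun hc => hH'
          (eq_top_of_card_eq _ hc)) H S' 𝒜' (Q.subgroupOf H) (N.subgroupOf H) rfl hfam'
        (hQn.comap _) (hNn.comap _) hQp.comap_subtype ?_ (comap_mono hQN) ?_ ?_ ?_ ?_
      · have h1 : IsPGroup p M := hp'.to_le le_sup_right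
        obtain ⟨S₁, hS₁⟩ := h1.exists_le_sylow
        refine hne.1 (le_antisymm (fun x hx => ?_) hQM)
        obtain ⟨k, hk⟩ := h1 ⟨x, hx⟩
        have hxN := hMN hx
        haveI : (Q.subgroupOf N).Normal := hQn.comap _
        have h2 : orderOf (QuotientGroup.mk (⟨x, hxN⟩ : N) : N ⧸ Q.subgroupOf N) ∣ p ^ k :=
          orderOf_dvd_of_pow_eq_one (by
            rw [← QuotientGroup.mk_pow, show (⟨x, hxN⟩ : N) ^ p ^ k = 1 from
              Subtype.ext (by simpa using congrArg Subtype.val hk), QuotientGroup.mk_one])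
        have h3 := Nat.eq_one_of_dvd_coprimes (hcop.pow_right k) (orderOf_dvd_natCard _) h2
        rwa [orderOf_eq_one_iff, QuotientGroup.eq_one_iff, mem_subgroupOf] at h3
      · intro x hx
        rw [mem_subgroupOf]
        exact hQc (mem_centralizer_iff.2 fun q hq =>
          congrArg Subtype.val (mem_centralizer_iff.1 hx ⟨q, hQH hq⟩ hq))
      · refine Nat.Coprime.coprime_dvd_left ?_ hcop
        have e : (Q.subgroupOf H).relIndex (N.subgroupOf H) = Q.relIndex (H ⊓ N) := by
          rw [Subgroup.subgroupOf, relIndex_comap, subgroupOf_map_subtype, inf_comm]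
        rw [e]
        exact ⟨(H ⊓ N).relIndex N,
          (relIndex_mul_relIndex Q (H ⊓ N) N (le_inf hQH hQN) inf_le_right).symm⟩
      · refine top_le_iff.1 fun x _ => ?_
        have hx' : (x : G) ∈ (((S : Subgroup G) ⊔ M : Subgroup G) : Set G) := x.2
        rw [coe_mul_of_left_le_normalizer_right _ _ hSM] at hx'
        obtain ⟨s, hs, m, hm, hsm⟩ := hx'
        rw [show x = (⟨s, mem_sup_left hs⟩ : H) * ⟨m, mem_sup_right hm⟩ from Subtype.ext hsm.symm]
        exact mul_mem (mem_sup_left (by rw [Sylow.coe_subtype]; exact hs)) (mem_sup_right (hMN hm))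
      · intro X hQX hXS hSX
        set X' := X.map H.subtype
        have hX1 : Q < X' := by
          refine lt_of_le_of_ne (fun q hq => ⟨⟨q, hQH hq⟩, hQX.le hq, rfl⟩) fun he => hQX.not_ge ?_
          intro x hx
          rw [mem_subgroupOf, he]
          exact mem_map_of_mem _ hx
        have hX2 := hX X' hX1 (hmapS' ▸ map_mono hXS) (fun s hs => by
          rw [← hmapS'] at hs
          obtain ⟨s', hs', rfl⟩ := hs
          exact hnorm X s' (hSX hs'))
        exact (hX2.to_le (show (normalizer (X : Set H)).map H.subtype ≤ _ from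
          le_normalizer_map H.subtype)).of_equiv
            (equivMapOfInjective _ _ H.subtype_injective).symm
      · refine (hI.to_le (show (normalizer (memInf 𝒜' (S' : Subgroup H) : Set H)).map H.subtype ≤ _
          from ?_)).of_equiv (equivMapOfInjective _ _ H.subtype_injective).symm
        have e : (memInf 𝒜' (S' : Subgroup H)).map H.subtype = memInf 𝒜 (S : Subgroup G) := by
          refine le_antisymm ?_ fun x hx => ?_
          · rintro _ ⟨x, hx, rfl⟩
            exact hmapS' ▸ (hmeminf _ x).1 hx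
          · exact ⟨⟨x, mem_sup_left (hfam.memInf_le_sylow hx)⟩,
              (hmeminf _ _).2 (hmapS'.symm ▸ hx), rfl⟩
        rw [← e]
        exact le_normalizer_map H.subtype
    -- `N / Q` is abelian
    have hab : ⁅N, N⁆ ≤ Q := by
      let π := QuotientGroup.mk' Q
      set Nb := N.map π with hNb
      haveI : Nb.Normal := hNn.map π (QuotientGroup.mk'_surjective Q)
      set Sb := (S : Subgroup G).map π with hSb
      have hcard : Nat.card Nb = Q.relIndex N := by
        rw [hNb, ← relIndex_ker, QuotientGroup.ker_mk']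
      have hNb1 : Nb ≠ ⊥ := fun h0 => hNQ (le_antisymm (fun x hx => (QuotientGroup.eq_one_iff x).1
        (mem_bot.1 (h0 ▸ mem_map_of_mem π hx))) hQN)
      have hSnorm : Sb ≤ normalizer (Nb : Set (G ⧸ Q)) := (normalizer_eq_top Nb).ge.trans' le_top
      have hcopS : (Nat.card Sb).Coprime (Nat.card Nb) := by
        obtain ⟨k, hk⟩ := (S.isPGroup'.map π).exists_card_eq
        rw [hk, hcard]
        exact (hcop.pow_right k).symm
      obtain ⟨q, hq, hqd⟩ := Nat.exists_prime_and_dvd (n := Nat.card Nb)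
        (fun h1 => hNb1 (Subgroup.card_eq_one.1 h1))
      haveI := Fact.mk hq
      haveI : Group.IsNilpotent Sb := (S.isPGroup'.map π).isNilpotent
      obtain ⟨P, hP⟩ := CfsgLib.Coprime.exists_invariant_sylow hSnorm hcopS (Or.inl inferInstance) q
      set P' := (P : Subgroup Nb).map Nb.subtype with hP'
      have hlift : ∀ U : Subgroup (G ⧸ Q), U ≤ Nb → Sb ≤ normalizer (U : Set (G ⧸ Q)) → U ≠ ⊥ →
          U = Nb := by
        intro U hU hSU hUne
        have hcm : (U.comap π).map π = U :=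
          map_comap_eq_self_of_surjective (QuotientGroup.mk'_surjective Q) U
        rcases hmin (U.comap π)
          (fun x hx => by
            show π x ∈ U
            rw [show π x = 1 from (QuotientGroup.eq_one_iff x).2 hx]
            exact one_mem _)
          (fun x hx => by
            obtain ⟨y, hy, hye⟩ := hU hx
            have := N.mul_mem hy (hQN (QuotientGroup.eq.1 hye))
            simpa using this)
          (fun s hs => by
            rw [← comap_normalizer_eq_of_surjective U (QuotientGroup.mk'_surjective Q)]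
            exact hSU (mem_map_of_mem π hs)) with h0 | h0
        · exact absurd (by rw [← hcm, h0, QuotientGroup.map_mk'_self]) hUne
        · rw [← hcm, h0]
      have hP'1 : P' ≠ ⊥ := fun h0 =>
        P.ne_bot_of_dvd_card hqd ((map_eq_bot_iff_of_injective _ Nb.subtype_injective).1 h0)
      have hPN : P' = Nb := hlift P' (map_subtype_le _) hP hP'1
      have hq' : IsPGroup q Nb := hPN ▸ P.isPGroup'.map _
      haveI : Nontrivial Nb := (nontrivial_iff_ne_bot Nb).2 hNb1
      haveI := hq'.center_nontrivial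
      have hZne : (Subgroup.center Nb).map Nb.subtype ≠ ⊥ := fun h0 =>
        (nontrivial_iff_ne_bot _).1 inferInstance ((map_eq_bot_iff_of_injective _ Nb.subtype_injective).1 h0)
      have hZn : ((Subgroup.center Nb).map Nb.subtype).Normal := inferInstance
      have hZN := hlift _ (map_subtype_le _) (by rw [normalizer_eq_top]; exact le_top) hZne
      refine commutator_le.2 fun a ha b hb => (QuotientGroup.eq_one_iff _).1 ?_
      show π ⁅a, b⁆ = 1
      rw [map_commutatorElement, commutatorElement_eq_one_iff_mul_comm]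
      obtain ⟨⟨z, hz'⟩, hz, hze⟩ := hZN.ge (mem_map_of_mem π ha)
      have h1 := congrArg Subtype.val (mem_center_iff.1 hz ⟨π b, mem_map_of_mem π hb⟩)
      have h2 : z = π a := hze
      subst h2
      exact h1.symm
    have hGN : IsPGroup p (G ⧸ N) := by
      refine IsPGroup.of_surjective S.isPGroup' ((QuotientGroup.mk' N).comp (S : Subgroup G).subtype) ?_
      intro y
      obtain ⟨g, rfl⟩ := QuotientGroup.mk'_surjective N y
      have hg : g ∈ (((S : Subgroup G) ⊔ N : Subgroup G) : Set G) := by rw [hSN]; exact mem_top g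
      rw [mul_normal] at hg
      obtain ⟨s, hs, m, hm, rfl⟩ := hg
      refine ⟨⟨s, hs⟩, ?_⟩
      show QuotientGroup.mk' N s = QuotientGroup.mk' N (s * m)
      rw [map_mul, show QuotientGroup.mk' N m = 1 from (QuotientGroup.eq_one_iff m).2 hm, mul_one]
    have hstab : ∀ (B : Subgroup G) [B.Normal], IsPGroup p B → Cfsg.IsPStableOn p B := fun B _ hB =>
      CfsgLib.PLocal.isPStableOn_of_not_involves_qd hp
        (CfsgLib.PLocal.not_involves_qd_of_no_sl fun K f => no_surjective_slTwo hp hQp hab hGN K f) B hB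
    -- the intersection lies in `Q`
    set Z := memInf 𝒜 (S : Subgroup G)
    obtain ⟨A₀, hA₀⟩ := hfam.nonempty
    have hQA : (S : Subgroup G) ≤ normalizer (Z : Set G) :=
      Subgroup.le_normalizer.trans (hfam.le_normalizer le_rfl ⟨A₀, hA₀, (hfam.le A₀ hA₀).1⟩)
    haveI := Cfsg.pCore_normal p (G ⧸ centralizer (Q : Set G))
    set D := (Cfsg.pCore p (G ⧸ centralizer (Q : Set G))).comap
      (QuotientGroup.mk' (centralizer (Q : Set G))) with hD
    haveI : D.Normal := Normal.comap inferInstance _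
    have hDp : IsPGroup p D := by
      refine (CfsgLib.Solvable.pCore_isPGroup (G := G ⧸ centralizer (Q : Set G)) p).comap_of_ker_isPGroup _ ?_
      rw [QuotientGroup.ker_mk']
      exact hQp.to_le hQc
    by_cases hDQ : D ≤ Q
    swap
    · haveI : (Q ⊔ D).Normal := inferInstance
      have h1 := hX (Q ⊔ D) (left_lt_sup.2 hDQ)
        (sup_le hQS (CfsgLib.Solvable.normal_pgroup_le_sylow hDp S))
        ((normalizer_eq_top (Q ⊔ D)).ge.trans' le_top)
      rw [normalizer_eq_top] at h1
      exact h1.of_equiv topEquiv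
    have hZQ : Z ≤ Q := by
      intro a ha
      refine hDQ (hstab Q hQp a ?_)
      refine CfsgLib.PLocal.quad_zpowers_of_normalizes (A := Z) ?_ ha (hQS.trans hQA)
      exact ⟨⟨fun x y => Subtype.ext (hfam.memInf_comm ⟨A₀, hA₀, (hfam.le A₀ hA₀).1⟩ x.2 y.2)⟩⟩
    have hnormal := hfam.inf_normal hstab Q hQn hQp
    rw [inf_eq_left.2 hZQ] at hnormal
    rw [normalizer_eq_top_iff.2 hnormal] at hI
    exact hI.of_equiv topEquiv

end CfsgLib.Fusion
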