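import Cfsg.Agent.Lib.Fusion.GTReplaceGroup
import Cfsg.Agent.Lib.Fusion.ConstrainedPart

/-!
The constrained case of the axiomatic Glauberman–Thompson criterion: transport of the replacement
hypotheses to the model.
-/

set_option autoImplicit false
set_option linter.style.haveILetI false
set_option linter.unusedVariables false
set_option linter.unusedSectionVars false

universe u

namespace CfsgLib.Fusion

open Cfsg Cfsg.FusionSystem Subgroup
open scoped commutatorElement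

variable {Ω : Type u} [Group Ω] {S : Subgroup Ω} {F E : FusionSystem S} {P Q R U : Subgroup Ω}
  {p : ℕ}

theorem mem_memInf_map {H K : Type u} [Group H] [Group K] {f : H →* K} (hf : Function.Injective f)
    {𝒜 : Set (Subgroup H)} {T : Subgroup H} {x : H} :
    f x ∈ memInf (map f '' 𝒜) (T.map f) ↔ x ∈ memInf 𝒜 T := by
  simp only [memInf, mem_iInf]
  constructor
  · intro h A hA
    exact (mem_map_iff_mem hf).1 (h _ ⟨Set.mem_image_of_mem _ hA.1, map_mono hA.2⟩)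
  · rintro h _ ⟨⟨A, hA, rfl⟩, hAT⟩
    exact mem_map_of_mem f (h A ⟨hA, (map_le_map_iff_of_injective hf).1 hAT⟩)

theorem hasNormalPComplement_of_isPGroup {H : Type u} [Group H] [Finite H] [Fact p.Prime]
    (h : IsPGroup p H) : Cfsg.HasNormalPComplement p H := by
  obtain ⟨P₀⟩ := (inferInstance : Nonempty (Sylow p H))
  refine ⟨P₀, ⊥, inferInstance, ?_⟩
  rw [show (P₀ : Subgroup H) = ⊤ from (P₀.is_maximal' (h.to_subgroup ⊤) le_top).symm]
  exact Subgroup.isComplement'_bot_top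

/-- The maps of a system with a normal subgroup lie in its normalizer system. -/
theorem isMap_normalizerSys_of_isNormal (hQ : E.IsNormal Q) {f : Ω → Ω} (hf : IsMap E P f) :
    IsMap (normalizerSys E Q hQ.1) P f := by
  obtain ⟨g, hg, hgx, hgQ⟩ := (isNormal_iff.1 hQ).2 P f hf
  have hT := IsNormal.normalizerIn_eq hQ
  exact (isMap_normalizerSystem_iff (isNormalizerSystem_normalizerSys E Q hQ.1)).2
    ⟨hT.symm ▸ hf.le, fun x hx => hT.symm ▸ hf.mem hx, g, hg, hgx, hgQ⟩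

theorem isMap_of_normalizerSys (hQ : Q ≤ S) {f : Ω → Ω}
    (hf : IsMap (normalizerSys E Q hQ) P f) : IsMap E P f := by
  obtain ⟨-, -, g, hg, hgx, -⟩ :=
    (isMap_normalizerSystem_iff (isNormalizerSystem_normalizerSys E Q hQ)).1 hf
  exact (hg.mono le_sup_left).congr hgx

section Model

variable [Fact p.Prime] [Finite S] {T : Subgroup Ω} {EN : FusionSystem T} {G : Type u} [Group G]
  [Finite G] {ι : T →* G}

/-- In a model, the normalizer of a subgroup over which there is no automorphism of order prime to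
`p` is a `p`-group. -/
theorem isPGroup_normalizer_model (hS : IsPGroup p S) (hTS : T ≤ S) (hr : EN.IsRealizedBy ι)
    (hle : ∀ P f, IsMap EN P f → IsMap E P f) (hQT : Q ≤ T)
    (hQn : ((Q.subgroupOf T).map ι).Normal)
    (hQc : centralizer (((Q.subgroupOf T).map ι : Subgroup G) : Set G) ≤ (Q.subgroupOf T).map ι)
    (U₀ : Subgroup T)
    (hyp : ∀ P ≤ S, U₀.map T.subtype ≤ P → ∀ α ∈ E.autGroup P,
      (∀ x : P, (x : Ω) ∈ U₀.map T.subtype → ((α x : P) : Ω) ∈ U₀.map T.subtype) →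
      (orderOf α).Coprime p → α = 1) :
    IsPGroup p (normalizer (U₀.map ι : Set G)) := by
  refine isPGroup_of_coprime_trivial fun g hg => ?_
  have hgc : (orderOf (g : G)).Coprime p := by rwa [Subgroup.orderOf_coe]
  set Qι := (Q.subgroupOf T).map ι with hQι
  have hQp : IsPGroup p Qι := ((hS.to_le (hQT.trans hTS)).of_equiv
    (Subgroup.subgroupOfEquivOfLe hQT).symm).map ι
  have hfix : ∀ (y : Ω) (hy : y ∈ Q), (g : G) * ι ⟨y, hQT hy⟩ * (g : G)⁻¹ = ι ⟨y, hQT hy⟩ := by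
    intro y hy
    set U := U₀.map T.subtype with hU
    have hUT : U ≤ T := map_subtype_le _
    set V := Q ⊔ U with hV
    have hVT : V ≤ T := sup_le hQT hUT
    have hVS : V ≤ S := hVT.trans hTS
    have hU₀ : ∀ z : T, (z : Ω) ∈ U ↔ z ∈ U₀ := fun z =>
      mem_map_iff_mem T.subtype_injective
    have hmem : V ≤ preimage ι (ι.range.comap (MulAut.conj (g : G)).toMonoidHom) := by
      refine sup_le (fun z hz => ?_) fun z hz => ?_
      · refine mem_preimage.2 ⟨hQT hz, ?_⟩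
        obtain ⟨v, -, hv⟩ := hQn.conj_mem _
          (⟨⟨z, hQT hz⟩, hz, rfl⟩ : ι ⟨z, hQT hz⟩ ∈ Qι) (g : G)
        exact ⟨v, hv⟩
      · refine mem_preimage.2 ⟨hUT hz, ?_⟩
        obtain ⟨v, -, hv⟩ :=
          (mem_normalizer_iff.1 g.2 _).1 (mem_map_of_mem ι ((hU₀ ⟨z, hUT hz⟩).1 hz))
        exact ⟨v, hv⟩
    obtain ⟨f, hf, hfx⟩ := realized_exists_map hr hVT (g : G) fun z hz =>
      (mem_preimage.1 (hmem hz)).2
    have hfE : IsMap E V f := hle _ _ hf
    have hfQ : ∀ z ∈ Q, f z ∈ Q := fun z hz => by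
      obtain ⟨hz', he⟩ := hfx z (Subgroup.mem_sup_left hz)
      obtain ⟨v, hv, hvι⟩ := hQn.conj_mem _
        (⟨⟨z, hQT hz⟩, hz, rfl⟩ : ι ⟨z, hQT hz⟩ ∈ Qι) (g : G)
      have h2 : v = ⟨f z, hz'⟩ := hr.1 (hvι.trans he.symm)
      rw [h2] at hv
      exact hv
    have hfU : ∀ z ∈ U, f z ∈ U := fun z hz => by
      obtain ⟨hz', he⟩ := hfx z (Subgroup.mem_sup_right hz)
      obtain ⟨v, hv, hvι⟩ :=
        (mem_normalizer_iff.1 g.2 _).1 (mem_map_of_mem ι ((hU₀ ⟨z, hUT hz⟩).1 hz))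
      have h2 : v = ⟨f z, hz'⟩ := hr.1 (hvι.trans he.symm)
      rw [h2] at hv
      exact (hU₀ ⟨f z, hz'⟩).2 hv
    haveI := finite_of_le hVS
    haveI := finite_of_le (hQT.trans hTS)
    haveI := finite_of_le (hUT.trans hTS)
    have hiQ : img Q f = Q := hfE.img_eq_of_forall le_sup_left hfQ
    have hiU : img U f = U := hfE.img_eq_of_forall le_sup_right hfU
    have hi : img V f = V := by rw [hV, hfE.img_sup le_sup_left le_sup_right, hiQ, hiU]
    set β := hfE.toAut hi with hβ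
    have hval : ∀ (n : ℕ) (z : V), ι ⟨((β ^ n) z : V), hVT (SetLike.coe_mem _)⟩ =
        (g : G) ^ n * ι ⟨z, hVT z.2⟩ * ((g : G) ^ n)⁻¹ := by
      intro n
      induction n with
      | zero => intro z; simp
      | succ n ih =>
        intro z
        simp only [pow_succ, MulAut.mul_apply]
        rw [ih (β z)]
        obtain ⟨hz', he⟩ := hfx z z.2
        have e : (⟨((β z : V) : Ω), hVT (β z).2⟩ : T) = ⟨f z, hz'⟩ :=
          Subtype.ext (IsMap.toAut_apply hfE hi z)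
        rw [e, he]
        group
    have hβord : orderOf β ∣ orderOf (g : G) := by
      refine orderOf_dvd_of_pow_eq_one (MulEquiv.ext fun z => Subtype.ext ?_)
      have h := hval (orderOf (g : G)) z
      rw [pow_orderOf_eq_one, one_mul, inv_one, mul_one] at h
      exact (Subtype.mk.inj (hr.1 h) :)
    have hβ1 : β = 1 := hyp V hVS le_sup_right β (hfE.toAut_mem hi) (fun z hz => by
        rw [hβ, IsMap.toAut_apply]
        exact hfU _ hz)
      (hgc.coprime_dvd_left hβord)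
    have h := hval 1 ⟨y, Subgroup.mem_sup_left hy⟩
    simp only [pow_one, hβ1, MulAut.one_apply] at h
    exact h.symm
  have h1 : (g : G) ∈ Qι := hQc <| mem_centralizer_iff.2 fun z hz => by
    obtain ⟨⟨y, hyT⟩, hy, rfl⟩ := hz
    exact (mul_inv_eq_iff_eq_mul.1 (hfix y hy)).symm
  obtain ⟨k, hk⟩ := hQp ⟨g, h1⟩
  exact Subtype.ext (eq_one_of_pow_prime_pow hgc (by simpa using congrArg Subtype.val hk))

/-- The replacement hypotheses pass to a model. -/
theorem gtFamily_model (hTS : T = S) (hr : EN.IsRealizedBy ι)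
    (hle : ∀ P f, IsMap EN P f → IsMap E P f) (Ps : Sylow p G) (hPs : (Ps : Subgroup G) = ι.range)
    {𝒜 : Set (Subgroup Ω)} (h𝒜 : ∀ A ∈ 𝒜, A ≤ S ∧ IsMulCommutative A) (hne : 𝒜.Nonempty)
    (hinv : ∀ U : Subgroup Ω, U ≤ S → (∃ A ∈ 𝒜, A ≤ U) → ∀ α ∈ E.autGroup U, ∀ x : U,
      (x : Ω) ∈ memInf 𝒜 U → ((α x : U) : Ω) ∈ memInf 𝒜 U)
    (hrep : ∀ B : Subgroup Ω, B ≤ S → ⁅⁅B, B⁆, B⁆ = ⊥ → (∃ A ∈ 𝒜, ⁅B, B⁆ ≤ A ∧ ¬ B ≤ A) →
      ∃ A ∈ 𝒜, ⁅B, B⁆ ≤ A ∧ ¬ B ≤ A ∧ B ≤ Subgroup.normalizer (A : Set Ω)) :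
    GTFamily Ps (map ι '' {A₀ : Subgroup T | A₀.map T.subtype ∈ 𝒜}) := by
  set 𝒜₀ := {A₀ : Subgroup T | A₀.map T.subtype ∈ 𝒜} with h𝒜₀
  have him : map T.subtype '' 𝒜₀ = 𝒜 := by
    refine Set.Subset.antisymm (by rintro _ ⟨A₀, hA₀, rfl⟩; exact hA₀) fun A hA => ?_
    have e : (A.subgroupOf T).map T.subtype = A := by
      rw [subgroupOf_map_subtype, inf_eq_left.2 (hTS ▸ (h𝒜 A hA).1)]
    exact ⟨A.subgroupOf T, show _ ∈ 𝒜 from e.symm ▸ hA, e⟩
  have hι := hr.1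
  have hcm : ∀ U' : Subgroup G, U' ≤ (Ps : Subgroup G) → (U'.comap ι).map ι = U' := fun U' hU' => by
    rw [map_comap_eq, inf_eq_right.2 (hPs ▸ hU')]
  refine ⟨?_, ?_, ?_, ?_⟩
  · rintro _ ⟨A₀, hA₀, rfl⟩
    refine ⟨hPs ▸ map_le_range _ _, ⟨⟨?_⟩⟩⟩
    rintro ⟨_, a, ha, rfl⟩ ⟨_, b, hb, rfl⟩
    have h1 := congrArg Subtype.val ((h𝒜 _ hA₀).2.is_comm.comm
      ⟨_, mem_map_of_mem T.subtype ha⟩ ⟨_, mem_map_of_mem T.subtype hb⟩)
    refine Subtype.ext ?_
    show ι a * ι b = ι b * ι a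
    rw [← map_mul, ← map_mul, show a * b = b * a from Subtype.ext h1]
  · obtain ⟨A, hA⟩ := hne
    rw [← him] at hA
    obtain ⟨A₀, hA₀, -⟩ := hA
    exact ⟨_, Set.mem_image_of_mem _ hA₀⟩
  · intro U' hU' hUA g hg x hx
    obtain ⟨U₀, rfl⟩ : ∃ U₀ : Subgroup T, U₀.map ι = U' := ⟨_, hcm U' hU'⟩
    obtain ⟨_, ⟨A₀, hA₀, rfl⟩, hAU⟩ := hUA
    obtain ⟨x₀, -, rfl⟩ := memInf_le (Set.mem_image_of_mem (map ι) hA₀) hAU hx
    rw [mem_memInf_map hι] at hx
    set U := U₀.map T.subtype with hU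
    have hUT : U ≤ T := map_subtype_le _
    have hAU' : A₀ ≤ U₀ := (map_le_map_iff_of_injective hι).1 hAU
    have hconj : ∀ z ∈ U₀, ∃ v ∈ U₀, ι v = g * ι z * g⁻¹ := fun z hz =>
      (mem_normalizer_iff.1 hg _).1 (mem_map_of_mem ι hz)
    have hmemU : ∀ (z : Ω) (hz : z ∈ U), (⟨z, hUT hz⟩ : T) ∈ U₀ := fun z hz =>
      (mem_map_iff_mem (x := (⟨z, hUT hz⟩ : T)) T.subtype_injective).1 hz
    obtain ⟨f, hf, hfx⟩ := realized_exists_map hr hUT g fun z hz => by
      obtain ⟨v, -, hv⟩ := hconj _ (hmemU z hz)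
      exact ⟨v, hv⟩
    have hfU : ∀ z ∈ U, f z ∈ U := fun z hz => by
      obtain ⟨hz', he⟩ := hfx z hz
      obtain ⟨v, hv, hvι⟩ := hconj _ (hmemU z hz)
      rw [show v = ⟨f z, hz'⟩ from hι (hvι.trans he.symm)] at hv
      exact ⟨_, hv, rfl⟩
    have hfE := hle _ _ hf
    haveI := finite_of_le (hUT.trans hTS.le)
    have hi : img U f = U := hfE.img_eq_of_forall le_rfl hfU
    have hxU : (x₀ : Ω) ∈ U := mem_map_of_mem T.subtype (hAU' (memInf_le hA₀ hAU' hx))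
    have hxI : (x₀ : Ω) ∈ memInf 𝒜 U := him ▸ (mem_memInf_map T.subtype_injective).2 hx
    have h1 := hinv U (hUT.trans hTS.le) ⟨_, hA₀, map_mono hAU'⟩ _ (hfE.toAut_mem hi)
      ⟨_, hxU⟩ hxI
    rw [IsMap.toAut_apply] at h1
    obtain ⟨hz', he⟩ := hfx _ hxU
    rw [show ι x₀ = ι ⟨(x₀ : Ω), hUT hxU⟩ from rfl, ← he, mem_memInf_map hι,
      ← mem_memInf_map T.subtype_injective, him]
    exact h1
  · intro B' hB' hBc hBA
    obtain ⟨B₀, rfl⟩ : ∃ B₀ : Subgroup T, B₀.map ι = B' := ⟨_, hcm B' hB'⟩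
    obtain ⟨_, ⟨A₀, hA₀, rfl⟩, hA1, hA2⟩ := hBA
    rw [← map_commutator] at hA1 hBc
    rw [← map_commutator, Subgroup.map_eq_bot_iff_of_injective _ hι] at hBc
    obtain ⟨A, hA, h1, h2, h3⟩ := hrep (B₀.map T.subtype) (hTS ▸ map_subtype_le _)
      (by rw [← map_commutator, ← map_commutator, hBc, Subgroup.map_bot])
      ⟨_, hA₀, by rw [← map_commutator]
                  exact map_mono ((map_le_map_iff_of_injective hι).1 hA1),
        fun hle' => hA2 (map_mono ((map_le_map_iff_of_injective T.subtype_injective).1 hle'))⟩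
    rw [← him] at hA
    obtain ⟨A₁, hA₁, rfl⟩ := hA
    rw [← map_commutator] at h1 ⊢
    refine ⟨_, Set.mem_image_of_mem _ hA₁,
      map_mono ((map_le_map_iff_of_injective T.subtype_injective).1 h1),
      fun hle' => h2 (map_mono ((map_le_map_iff_of_injective hι).1 hle')), ?_⟩
    refine le_trans (map_mono fun b hb => ?_) (le_normalizer_map ι)
    refine mem_normalizer_iff.2 fun y => ?_
    have h4 := mem_normalizer_iff.1 (h3 (mem_map_of_mem T.subtype hb)) (T.subtype y)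
    rwa [← map_inv, ← map_mul, ← map_mul, mem_map_iff_mem T.subtype_injective,
      mem_map_iff_mem T.subtype_injective] at h4

end Model

section Constrained

variable [Fact p.Prime] [Finite S]

/-- The constrained case. -/
theorem coprimeTrivial_gt_centric (hp : p ≠ 2) (hS : IsPGroup p S) (hE : E.IsSaturated p)
    (hQn : E.IsNormal Q) (hQC : centralizerIn S Q ≤ Q) (hQne : Q ≠ S)
    {𝒜 : Set (Subgroup Ω)} (h𝒜 : ∀ A ∈ 𝒜, A ≤ S ∧ IsMulCommutative A) (hne : 𝒜.Nonempty)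
    (hinv : ∀ U : Subgroup Ω, U ≤ S → (∃ A ∈ 𝒜, A ≤ U) → ∀ α ∈ E.autGroup U, ∀ x : U,
      (x : Ω) ∈ memInf 𝒜 U → ((α x : U) : Ω) ∈ memInf 𝒜 U)
    (hrep : ∀ B : Subgroup Ω, B ≤ S → ⁅⁅B, B⁆, B⁆ = ⊥ → (∃ A ∈ 𝒜, ⁅B, B⁆ ≤ A ∧ ¬ B ≤ A) →
      ∃ A ∈ 𝒜, ⁅B, B⁆ ≤ A ∧ ¬ B ≤ A ∧ B ≤ Subgroup.normalizer (A : Set Ω))
    (hI : ∀ P ≤ S, memInf 𝒜 S ≤ P → ∀ α ∈ E.autGroup P,
      (∀ x : P, (x : Ω) ∈ memInf 𝒜 S → ((α x : P) : Ω) ∈ memInf 𝒜 S) →
      (orderOf α).Coprime p → α = 1)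
    (hX : ∀ (X : Subgroup Ω) (hXS : X ≤ S) (hn : normalizerIn S X = S), Q < X →
      CoprimeTrivial (normSys E X hXS hn) p) : CoprimeTrivial E p := by
  have hT : normalizerIn S Q = S := IsNormal.normalizerIn_eq hQn
  obtain ⟨G, hG, ι, hfin, hr, ⟨Ps, hPs⟩, hQι, hCι⟩ := Model.exists_model_normalizer E hS hE
    ((IsNormal.centric_iff hQn).2 hQC) (IsNormal.fullyNormalized hQn)
    (isNormalizerSystem_normalizerSys E Q hQn.1)
  have hQT : Q ≤ (normalizerIn S Q) := hT.symm ▸ hQn.1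
  have hle : ∀ P f, IsMap (normalizerSys E Q hQn.1) P f → IsMap E P f := fun P f h =>
    isMap_of_normalizerSys hQn.1 h
  set Qι := (Q.subgroupOf (normalizerIn S Q)).map ι with hQιdef
  set 𝒜ι := map ι '' {A₀ : Subgroup (normalizerIn S Q) | A₀.map (normalizerIn S Q).subtype ∈ 𝒜}
  have hfam : GTFamily Ps 𝒜ι := gtFamily_model hT hr hle Ps hPs h𝒜 hne hinv hrep
  have hcm : ∀ U' : Subgroup G, U' ≤ (Ps : Subgroup G) → (U'.comap ι).map ι = U' := fun U' hU' => by
    rw [map_comap_eq, inf_eq_right.2 (hPs ▸ hU')]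
  have hXG : ∀ X' : Subgroup G, Qι < X' → X' ≤ (Ps : Subgroup G) →
      (Ps : Subgroup G) ≤ normalizer (X' : Set G) → IsPGroup p (normalizer (X' : Set G)) := by
    intro X' hQX' hX'P hnX'
    obtain ⟨X₀, rfl⟩ : ∃ X₀ : Subgroup (normalizerIn S Q), X₀.map ι = X' := ⟨_, hcm X' hX'P⟩
    set X := X₀.map (normalizerIn S Q).subtype with hXdef
    have hXS : X ≤ S := (map_subtype_le _).trans inf_le_left
    have hQX : Q < X := by
      refine lt_of_le_of_ne (fun q hq => ⟨⟨q, hQT hq⟩, ?_, rfl⟩) fun h => hQX'.not_ge ?_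
      · exact (mem_map_iff_mem hr.1).1 (hQX'.le ⟨⟨q, hQT hq⟩, hq, rfl⟩)
      · exact map_mono fun z hz => show (z : Ω) ∈ Q from h.ge (mem_map_of_mem (normalizerIn S Q).subtype hz)
    have hn : normalizerIn S X = S := by
      refine inf_eq_left.2 fun a ha => ?_
      have haT : a ∈ (normalizerIn S Q) := hT.symm ▸ ha
      refine le_normalizer_map (normalizerIn S Q).subtype ⟨⟨a, haT⟩, ?_, rfl⟩
      refine mem_normalizer_iff.2 fun y => ?_
      have h4 := mem_normalizer_iff.1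
        (hnX' (hPs.symm ▸ ⟨⟨a, haT⟩, rfl⟩ : ι ⟨a, haT⟩ ∈ (Ps : Subgroup G))) (ι y)
      rwa [← map_inv, ← map_mul, ← map_mul, mem_map_iff_mem hr.1, mem_map_iff_mem hr.1] at h4
    exact isPGroup_normalizer_model hS inf_le_left hr hle hQT hQι hCι X₀
      fun P hP hXP α hα hi hc =>
        eq_one_of_coprimeTrivial_normSys (hX X hXS hn hQX) hXP hP hα hi hc
  -- the normal complement modulo `Qι`
  haveI : Qι.Normal := hQι
  have hQp : IsPGroup p Qι := ((hS.to_le hQn.1).of_equiv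
    (Subgroup.subgroupOfEquivOfLe hQT).symm).map ι
  have hQPs : Qι ≤ (Ps : Subgroup G) := hPs ▸ map_le_range _ _
  set π := QuotientGroup.mk' Qι with hπdef
  have hπ : Function.Surjective π := QuotientGroup.mk'_surjective Qι
  set Sb := Ps.mapSurjective hπ with hSb
  have hSbe : (Sb : Subgroup (G ⧸ Qι)) = (Ps : Subgroup G).map π := Sylow.coe_mapSurjective _ _
  set W := centerThompsonComplement.{u} p hp with hW
  set Z := W.W (Sb : Subgroup (G ⧸ Qι)) with hZ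
  have hker : ∀ x : G, π x = 1 ↔ x ∈ Qι := fun x => QuotientGroup.eq_one_iff x
  have hSbne : (Sb : Subgroup (G ⧸ Qι)) ≠ ⊥ := by
    intro h
    refine hQne (le_antisymm hQn.1 fun s hs => ?_)
    have hsT : s ∈ (normalizerIn S Q) := hT.symm ▸ hs
    have h1 : π (ι ⟨s, hsT⟩) ∈ (Sb : Subgroup (G ⧸ Qι)) :=
      hSbe.symm ▸ mem_map_of_mem π (hPs.symm ▸ ⟨_, rfl⟩ : ι ⟨s, hsT⟩ ∈ (Ps : Subgroup G))
    rw [h, mem_bot, hker] at h1
    exact (mem_map_iff_mem hr.1).1 h1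
  have hcomap : (Sb : Subgroup (G ⧸ Qι)).comap π = (Ps : Subgroup G) := by
    rw [hSbe, comap_map_eq, QuotientGroup.ker_mk', sup_eq_left.2 hQPs]
  have hZX : Qι < Z.comap π := by
    refine lt_of_le_of_ne (fun q hq => show π q ∈ Z by rw [(hker q).2 hq]; exact one_mem _) fun h =>
      W.ne_bot _ Sb.isPGroup' hSbne (eq_bot_iff.2 fun y hy => ?_)
    obtain ⟨x, rfl⟩ := hπ y
    exact mem_bot.2 ((hker x).2 (h ▸ hy))
  have hloc : Cfsg.HasNormalPComplement p (normalizer (Z : Set (G ⧸ Qι))) := by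
    refine hasNormalPComplement_of_isPGroup ?_
    rw [← map_comap_eq_self_of_surjective hπ (normalizer (Z : Set (G ⧸ Qι))),
      comap_normalizer_eq_of_surjective Z hπ]
    refine IsPGroup.map (hXG _ hZX (hcomap ▸ comap_mono (W.le _)) ?_) π
    rw [← hcomap, ← comap_normalizer_eq_of_surjective Z hπ]
    exact comap_mono (Subgroup.le_normalizer.trans (W.normalizer_le _))
  obtain ⟨P₁, K, hKn, hKP⟩ := W.criterion (G ⧸ Qι) Sb (Sb : Subgroup (G ⧸ Qι))
    (CfsgLib.Complement.isStronglyClosed_self _) hloc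
  haveI := hKn
  have hKc : (Nat.card K).Coprime p := by
    rw [← hKP.index_eq_card, Nat.coprime_comm, (Fact.out : p.Prime).coprime_iff_not_dvd]
    exact P₁.not_dvd_index
  set N := K.comap π with hN
  have hNc : (Qι.relIndex N).Coprime p := by
    have e : Qι.relIndex N = Nat.card K := by
      conv_rhs => rw [← map_comap_eq_self_of_surjective hπ K]
      rw [← relIndex_ker, QuotientGroup.ker_mk']
    rwa [e]
  have hSK : (Sb : Subgroup (G ⧸ Qι)) ⊔ K = ⊤ := by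
    refine (Subgroup.isComplement'_of_coprime ?_ ?_).sup_eq_top
    · rw [mul_comm, ← hKP.card_mul_card, Sb.card_eq_multiplicity, P₁.card_eq_multiplicity]
    · obtain ⟨t, ht⟩ := Sb.isPGroup'.exists_card_eq
      rw [ht]
      exact (hKc.pow_right t).symm
  have hSN : (Ps : Subgroup G) ⊔ N = ⊤ := by
    refine eq_top_iff.2 fun x _ => ?_
    have h1 : π x ∈ (((Sb : Subgroup (G ⧸ Qι)) ⊔ K : Subgroup _) : Set (G ⧸ Qι)) := by
      rw [hSK]; exact Subgroup.mem_top _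
    rw [mul_normal] at h1
    obtain ⟨_, hsb, k, hk, hsk⟩ := h1
    rw [SetLike.mem_coe, hSbe] at hsb
    obtain ⟨s, hs, rfl⟩ := hsb
    have h2 : s⁻¹ * x ∈ N := by
      show π (s⁻¹ * x) ∈ K
      rw [map_mul, map_inv, ← hsk, inv_mul_cancel_left]
      exact hk
    simpa using mul_mem (mem_sup_left hs : s ∈ (Ps : Subgroup G) ⊔ N) (mem_sup_right h2)
  -- the intersection
  have hIP : IsPGroup p (normalizer (memInf 𝒜ι (Ps : Subgroup G) : Set G)) := by
    have him : map (normalizerIn S Q).subtype '' {A₀ : Subgroup (normalizerIn S Q) | A₀.map (normalizerIn S Q).subtype ∈ 𝒜} = 𝒜 := by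
      refine Set.Subset.antisymm (by rintro _ ⟨A₀, hA₀, rfl⟩; exact hA₀) fun A hA => ?_
      have e : (A.subgroupOf (normalizerIn S Q)).map (normalizerIn S Q).subtype = A := by
        rw [subgroupOf_map_subtype, inf_eq_left.2 (hT.symm ▸ (h𝒜 A hA).1)]
      exact ⟨A.subgroupOf (normalizerIn S Q), show _ ∈ 𝒜 from e.symm ▸ hA, e⟩
    set I₀ := memInf {A₀ : Subgroup (normalizerIn S Q) | A₀.map (normalizerIn S Q).subtype ∈ 𝒜} (⊤ : Subgroup (normalizerIn S Q))
    have hPtop : (⊤ : Subgroup (normalizerIn S Q)).map ι = (Ps : Subgroup G) := by rw [hPs, MonoidHom.range_eq_map]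
    have hStop : (⊤ : Subgroup (normalizerIn S Q)).map (normalizerIn S Q).subtype = S := by
      rw [← MonoidHom.range_eq_map, range_subtype]; exact hT
    have e1 : I₀.map ι = memInf 𝒜ι (Ps : Subgroup G) := by
      refine le_antisymm ?_ fun y hy => ?_
      · rintro _ ⟨x, hx, rfl⟩
        exact hPtop ▸ (mem_memInf_map hr.1).2 hx
      · obtain ⟨x, rfl⟩ : y ∈ ι.range := hPs ▸ hfam.memInf_le_sylow hy
        exact mem_map_of_mem ι ((mem_memInf_map hr.1).1 (hPtop.symm ▸ hy))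
    have e2 : I₀.map (normalizerIn S Q).subtype = memInf 𝒜 S := by
      refine le_antisymm ?_ fun y hy => ?_
      · rintro _ ⟨x, hx, rfl⟩
        have h1 := (mem_memInf_map (normalizerIn S Q).subtype_injective).2 hx
        rwa [him, hStop] at h1
      · obtain ⟨A, hA⟩ := hne
        have hyT : y ∈ (normalizerIn S Q) := hT.symm ▸ (h𝒜 A hA).1 (memInf_le hA (h𝒜 A hA).1 hy)
        refine ⟨⟨y, hyT⟩, (mem_memInf_map (normalizerIn S Q).subtype_injective).1 ?_, rfl⟩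
        rw [him, hStop]
        exact hy
    rw [← e1]
    exact isPGroup_normalizer_model hS (inf_le_left : normalizerIn S Q ≤ S) hr hle hQT hQι hCι I₀
      (fun P hP hIP' α hα hi hc => hI P hP (e2 ▸ hIP') α hα (e2 ▸ hi) hc)
  have hGp : IsPGroup p G := isPGroup_of_gtFamily hp _ G Ps 𝒜ι Qι N rfl hfam hQι inferInstance hQp
    hCι (fun q hq => show π q ∈ K by rw [(hker q).2 hq]; exact one_mem _) hNc hSN hXG hIP
  have hsurj : ι.range = ⊤ := hPs ▸ (Ps.is_maximal' (hGp.to_subgroup ⊤) le_top).symm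
  intro R hR α hα hc
  obtain ⟨b, hb⟩ := realized_exists_elem hr
    (isMap_normalizerSys_of_isNormal hQn (isMap_of_autGroup hR hα))
  obtain ⟨a, rfl⟩ : b ∈ ι.range := hsurj ▸ Subgroup.mem_top b
  refine eq_one_of_conj hS hc (a.2.1 : (a : Ω) ∈ S) fun x => ?_
  have hm := isMap_of_autGroup hR hα
  have h1 := hb x x.2 (hT.symm ▸ hR x.2) (hT.symm ▸ hm.mem x.2)
  rw [← map_inv, ← map_mul, ← map_mul] at h1
  have h2 := congrArg Subtype.val (hr.1 h1)
  rw [← toFun_aut_apply α x.2]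
  exact h2

end Constrained

end CfsgLib.Fusion
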