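import Cfsg.Prelude.Def_LocalEven
import Cfsg.Agent.S2758
import Cfsg.Agent.Lib.Invol.Dihedral
import Cfsg.Agent.Lib.Complement.TwoTools
import Cfsg.Agent.Lib.KnownA.JankoOne.Cent
import Mathlib.FieldTheory.Finite.Basic
import Mathlib.LinearAlgebra.Matrix.Permutation

/-!
Goldschmidt groups other than the Suzuki groups and `PSL₂(3^(2n+1))` involve the symmetric
group of degree three: an element of order three is inverted by a 2-element.
-/

set_option autoImplicit false

namespace CfsgLib.Goldschmidt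

open Matrix

/-- An element of order three is inverted by an element of order dividing four. -/
def HasInverted (G : Type*) [Group G] : Prop :=
  ∃ t x : G, t ^ 4 = 1 ∧ x ^ 3 = 1 ∧ x ≠ 1 ∧ t * x * t⁻¹ = x⁻¹

theorem dihedral_three_equiv : Nonempty (DihedralGroup 3 ≃* Equiv.Perm (Fin 3)) := by
  set r : Equiv.Perm (Fin 3) := finRotate 3
  set s : Equiv.Perm (Fin 3) := Equiv.swap 0 1
  have hr : orderOf r = 3 := orderOf_eq_prime (by decide) (by decide)
  have hs : orderOf s = 2 := orderOf_eq_prime (by decide) (by decide)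
  have hn : s ∉ Subgroup.zpowers r := fun h => by
    have := Subgroup.orderOf_dvd_natCard _ h
    rw [hs, Nat.card_zpowers, hr] at this
    omega
  obtain ⟨e⟩ := CfsgLib.Invol.exists_mulEquiv_dihedral hr hs (by decide) hn
  have htop : Subgroup.closure ({r, s} : Set (Equiv.Perm (Fin 3))) = ⊤ := by
    refine Subgroup.eq_top_of_card_eq _ ?_
    rw [Nat.card_congr e.toEquiv, DihedralGroup.nat_card, Nat.card_perm, Nat.card_eq_fintype_card,
      Fintype.card_fin]
    rfl
  exact ⟨e.symm.trans ((MulEquiv.subgroupCongr htop).trans Subgroup.topEquiv)⟩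

theorem involves_symThree {G : Type*} [Group G] [Finite G] (h : HasInverted G) :
    Cfsg.Involves (Equiv.Perm (Fin 3)) G := by
  obtain ⟨t, x, ht, hx, hx1, hi⟩ := h
  haveI : Fact (Nat.Prime 3) := ⟨Nat.prime_three⟩
  have h2 : ∃ k : ℕ, orderOf t = 2 ^ k := by
    obtain ⟨k, -, hk⟩ := (Nat.dvd_prime_pow Nat.prime_two).1
      (orderOf_dvd_of_pow_eq_one (show t ^ 2 ^ 2 = 1 from ht))
    exact ⟨k, hk⟩
  have h3 : ∃ k : ℕ, orderOf x = 3 ^ k := by
    obtain ⟨k, -, hk⟩ := (Nat.dvd_prime_pow Nat.prime_three).1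
      (orderOf_dvd_of_pow_eq_one (show x ^ 3 ^ 1 = 1 from hx))
    exact ⟨k, hk⟩
  obtain ⟨e⟩ := dihedral_three_equiv
  obtain ⟨K, f, hf⟩ := CfsgLib.Complement.involves_iff_exists_hom.1
    (Cfsg.Agent.S2758.involves_of_inverted (p := 3) (by norm_num) h2 h3 hx1 hi)
  exact CfsgLib.Complement.involves_iff_exists_hom.2
    ⟨K, e.toMonoidHom.comp f, e.surjective.comp hf⟩

theorem HasInverted.of_equiv {G H : Type*} [Group G] [Group H] (e : G ≃* H) (h : HasInverted H) :
    HasInverted G := by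
  obtain ⟨t, x, ht, hx, hx1, hi⟩ := h
  exact ⟨e.symm t, e.symm x, by rw [← map_pow, ht, map_one], by rw [← map_pow, hx, map_one],
    fun h1 => hx1 (by simpa using congrArg e h1),
    by rw [← map_inv, ← map_mul, ← map_mul, hi, map_inv]⟩

theorem HasInverted.quot_center {G : Type*} [Group G] (h : HasInverted G) :
    HasInverted (G ⧸ Subgroup.center G) := by
  obtain ⟨t, x, ht, hx, hx1, hi⟩ := h
  set f := QuotientGroup.mk' (Subgroup.center G)
  refine ⟨f t, f x, by rw [← map_pow, ht, map_one], by rw [← map_pow, hx, map_one], fun h1 => ?_,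
    by rw [← map_inv, ← map_mul, ← map_mul, hi, map_inv]⟩
  have hc : x ∈ Subgroup.center G := (QuotientGroup.eq_one_iff x).1 h1
  rw [Subgroup.mem_center_iff.1 hc t, mul_inv_cancel_right] at hi
  have h2 : x * x = 1 := by
    nth_rewrite 1 [hi]
    exact inv_mul_cancel x
  exact hx1 (by rw [← hx, pow_succ, pow_two, h2, one_mul])

/-! ### The matrix families -/

section SL

variable {F : Type*} [Field F]

theorem hasInverted_sl_two_of {a c : F} (h : -(a * a) - (c - a) * c = 1) :
    HasInverted (Matrix.SpecialLinearGroup (Fin 2) F) := by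
  let x : Matrix.SpecialLinearGroup (Fin 2) F :=
    ⟨!![0, -1; 1, -1], by rw [det_fin_two_of]; ring⟩
  let t : Matrix.SpecialLinearGroup (Fin 2) F :=
    ⟨!![a, c - a; c, -a], by rw [det_fin_two_of]; linear_combination h⟩
  refine ⟨t, x, ?_, ?_, ?_, ?_⟩
  · have h2 : (t : Matrix (Fin 2) (Fin 2) F) * t = -1 := by
      ext i j
      fin_cases i <;> fin_cases j <;> simp [t, mul_apply, Fin.sum_univ_two] <;>
        first | linear_combination h | linear_combination -h | ring
    apply Subtype.ext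
    simp only [pow_succ, pow_zero, one_mul, Matrix.SpecialLinearGroup.coe_mul,
      Matrix.SpecialLinearGroup.coe_one]
    rw [mul_assoc, h2]
    simp
  · apply Subtype.ext
    simp only [pow_succ, pow_zero, one_mul, Matrix.SpecialLinearGroup.coe_mul,
      Matrix.SpecialLinearGroup.coe_one]
    ext i j
    fin_cases i <;> fin_cases j <;> simp [x, mul_apply, Fin.sum_univ_two]
  · intro h1
    have := congrArg (fun g : Matrix.SpecialLinearGroup (Fin 2) F =>
      (g : Matrix (Fin 2) (Fin 2) F) 1 0) h1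
    simp [x] at this
  · rw [mul_inv_eq_iff_eq_mul]
    apply Subtype.ext
    rw [Matrix.SpecialLinearGroup.coe_mul, Matrix.SpecialLinearGroup.coe_mul,
      Matrix.SpecialLinearGroup.coe_inv]
    change !![a, c - a; c, -a] * !![0, -1; 1, -1] =
      adjugate !![0, -1; 1, -1] * !![a, c - a; c, -a]
    rw [adjugate_fin_two_of]
    ext i j
    fin_cases i <;> fin_cases j <;> simp [mul_apply, Fin.sum_univ_two] <;> ring

theorem hasInverted_sl_two_even [CharP F 2] :
    HasInverted (Matrix.SpecialLinearGroup (Fin 2) F) :=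
  hasInverted_sl_two_of (a := 1) (c := 1) (by
    have := CharTwo.two_eq_zero (R := F)
    linear_combination -this)

theorem hasInverted_sl_two_odd [Fintype F] (h2 : (2 : F) ≠ 0) (h3 : (3 : F) ≠ 0) :
    HasInverted (Matrix.SpecialLinearGroup (Fin 2) F) := by
  classical
  have hodd : Fintype.card F % 2 = 1 := by
    refine FiniteField.odd_card_of_char_ne_two fun h => h2 ?_
    haveI : CharP F 2 := h ▸ ringChar.charP F
    exact CharTwo.two_eq_zero
  have h34 : (3 / 4 : F) ≠ 0 := by
    refine div_ne_zero h3 ?_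
    rw [show (4 : F) = 2 * 2 by norm_num]
    exact mul_ne_zero h2 h2
  obtain ⟨u, v, huv⟩ := FiniteField.exists_root_sum_quadratic
    (f := (Polynomial.X ^ 2 : Polynomial F))
    (g := Polynomial.C (3 / 4 : F) * Polynomial.X ^ 2 + Polynomial.C 1)
    (Polynomial.degree_X_pow 2)
    (by
      rw [Polynomial.degree_add_C (by
        rw [Polynomial.degree_C_mul_X_pow 2 h34]; exact Nat.cast_pos.2 two_pos),
        Polynomial.degree_C_mul_X_pow 2 h34]
      rfl)
    hodd
  simp at huv
  obtain ⟨w, rfl⟩ : ∃ w, v = 2 * w := ⟨v / 2, by field_simp⟩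
  have h4 : (4 : F) ≠ 0 := by
    rw [show (4 : F) = 2 * 2 by norm_num]
    exact mul_ne_zero h2 h2
  have e : 3 / 4 * (2 * w) ^ 2 = 3 * w ^ 2 := by
    field_simp
    ring
  rw [e] at huv
  refine hasInverted_sl_two_of (a := u + w) (c := 2 * w) ?_
  linear_combination -huv

/-- In characteristic two the permutation matrices lie in the unitary group. -/
theorem hasInverted_su_three [CharP F 2] (q : ℕ) : HasInverted (Cfsg.SU 3 F q) := by
  classical
  have hdet : ∀ σ : Equiv.Perm (Fin 3), (σ.permMatrix F).det = 1 := fun σ => by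
    rw [det_permutation]
    rcases Int.units_eq_one_or (Equiv.Perm.sign σ) with h | h <;> rw [h] <;>
      simp [CharTwo.neg_eq]
  let m : Equiv.Perm (Fin 3) →* Cfsg.SU 3 F q :=
    { toFun := fun σ => ⟨⟨σ⁻¹.permMatrix F, hdet _⟩, fun u v => by
        show Cfsg.hermForm 3 F q (σ⁻¹.permMatrix F *ᵥ u) (σ⁻¹.permMatrix F *ᵥ v) = _
        simp only [Cfsg.hermForm, permMatrix_mulVec]
        exact Equiv.sum_comp σ⁻¹ (fun i => u i * v i ^ q)⟩
      map_one' := by
        apply Subtype.ext; apply Subtype.ext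
        simp
      map_mul' := fun σ τ => by
        apply Subtype.ext; apply Subtype.ext
        show _ = σ⁻¹.permMatrix F * τ⁻¹.permMatrix F
        simp [permMatrix_mul] }
  refine ⟨m (Equiv.swap 0 1), m (finRotate 3), ?_, ?_, fun h1 => ?_, ?_⟩
  · rw [← map_pow, show (Equiv.swap (0 : Fin 3) 1) ^ 4 = 1 by decide, map_one]
  · rw [← map_pow, show (finRotate 3) ^ 3 = 1 by decide, map_one]
  · have := congrArg (fun g : Cfsg.SU 3 F q => (g : Matrix.SpecialLinearGroup (Fin 3) F).1 0 2) h1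
    simp [m, PEquiv.toMatrix, Equiv.Perm.inv_def] at this
    exact this (by decide)
  · rw [← map_inv, ← map_mul, ← map_mul,
      show Equiv.swap (0 : Fin 3) 1 * finRotate 3 * (Equiv.swap 0 1)⁻¹ = (finRotate 3)⁻¹ by decide,
      map_inv]

end SL

/-! ### The first Janko group -/

section Janko

open CfsgLib.KnownA.JankoOne CfsgLib.Recog.JankoOne

set_option maxRecDepth 100000 in
theorem check_inverted : ∃ t x : Fin 60,
    cMul (0, t) (0, t) = (0, 0) ∧ cMul (cMul (0, x) (0, x)) (0, x) = (0, 0) ∧ x ≠ 0 ∧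
      cMul (0, t) (0, x) = cMul (cMul (0, x) (0, x)) (0, t) := by decide +kernel

theorem hasInverted_j1 : HasInverted Cfsg.Spor.J1 := by
  obtain ⟨t, x, ht, hx, hx0, hi⟩ := check_inverted
  set T0 := cEl ((0 : Fin 2), t) with hT
  set X0 := cEl ((0 : Fin 2), x) with hX
  have et : T0 * T0 = 1 := by rw [hT, ← cEl_mul, ht, cEl_one]
  have ex : X0 * X0 * X0 = 1 := by rw [hX, ← cEl_mul, ← cEl_mul, hx, cEl_one]
  have ei : T0 * X0 = X0 * X0 * T0 := by rw [hX, hT, ← cEl_mul, ← cEl_mul, ← cEl_mul, hi]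
  refine ⟨T0, X0, ?_, by simpa [pow_succ] using ex, fun h => hx0 (Prod.ext_iff.1 (cEl_eq_one h)).2,
    ?_⟩
  · simp [pow_succ, et]
  · rw [ei, mul_inv_cancel_right]
    exact eq_inv_of_mul_eq_one_left ex

end Janko

/-! ### The criterion -/

/-- The families of Goldschmidt groups outside Ree type that involve `S₃`. -/
theorem involves_symThree_of_families {G : Type*} [Group G] [Finite G]
    (h : (∃ (F : Type) (_ : Field F) (_ : Fintype F) (n : ℕ), 3 ≤ n ∧ Fintype.card F = 2 ^ n ∧
        Nonempty (G ≃* Matrix.ProjectiveSpecialLinearGroup (Fin 2) F)) ∨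
      (∃ (F : Type) (_ : Field F) (_ : Fintype F) (n : ℕ), 2 ≤ n ∧ Fintype.card F = 4 ^ n ∧
        Nonempty (G ≃* Cfsg.PSU 3 F (2 ^ n))) ∨
      (∃ (F : Type) (_ : Field F) (_ : Fintype F) (q : ℕ), Fintype.card F = q ∧ 5 ≤ q ∧
        (q % 8 = 3 ∨ q % 8 = 5) ∧ (∀ n : ℕ, q ≠ 3 ^ (2 * n + 1)) ∧
        Nonempty (G ≃* Matrix.ProjectiveSpecialLinearGroup (Fin 2) F)) ∨
      Cfsg.Spor.IsoJ1 G) :
    Cfsg.Involves (Equiv.Perm (Fin 3)) G := by
  have char2 : ∀ (F : Type) [Field F] [Fintype F] (k : ℕ), Fintype.card F = 2 ^ k → CharP F 2 := by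
    intro F _ _ k hk
    haveI : Fact (Nat.Prime 2) := ⟨Nat.prime_two⟩
    exact charP_of_card_eq_prime_pow hk
  refine involves_symThree ?_
  rcases h with ⟨F, hF, hFt, n, -, hn, ⟨e⟩⟩ | ⟨F, hF, hFt, n, -, hn, ⟨e⟩⟩ |
    ⟨F, hF, hFt, q, hq, -, hq8, hq3, ⟨e⟩⟩ | hJ
  · haveI := char2 F n hn
    exact hasInverted_sl_two_even.quot_center.of_equiv e
  · haveI := char2 F (2 * n) (by rw [hn, pow_mul]; norm_num)
    exact (hasInverted_su_three (2 ^ n)).quot_center.of_equiv e
  · haveI : Fact (ringChar F).Prime := ⟨CharP.char_is_prime F (ringChar F)⟩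
    obtain ⟨m, -, hm⟩ := FiniteField.card F (ringChar F)
    rw [hq] at hm
    have hp2 : ringChar F ≠ 2 := fun hp => by
      rw [hp] at hm
      have : 2 ∣ q := hm ▸ dvd_pow_self 2 m.ne_zero
      omega
    have hp3 : ringChar F ≠ 3 := fun hp => by
      rw [hp] at hm
      obtain ⟨j, hj | hj⟩ := Nat.even_or_odd' (m : ℕ)
      · have : q % 8 = 1 := by rw [hm, hj, pow_mul, Nat.pow_mod]; norm_num
        omega
      · exact hq3 j (hj ▸ hm)
    refine (hasInverted_sl_two_odd (Ring.two_ne_zero hp2) fun h3 => hp3 ?_).quot_center.of_equiv e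
    have h3' : ((3 : ℕ) : F) = 0 := by exact_mod_cast h3
    exact (Nat.prime_dvd_prime_iff_eq Fact.out Nat.prime_three).1
      (ringChar.dvd h3')
  · obtain ⟨e⟩ := hJ
    exact hasInverted_j1.of_equiv e

end CfsgLib.Goldschmidt
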