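import Cfsg.Agent.Lib.Fusion.ModelUnique
import Cfsg.Agent.Lib.Fusion.Centric
import Cfsg.Agent.Lib.Fusion.ComplementCriterion
import Cfsg.Prelude.Def_FusionReduction

/-!
A model of a saturated subsystem with a normal subgroup centric in the big system embeds in a model
of the big system; sections of models are inherited by subsystems.
-/

set_option autoImplicit false
set_option linter.style.haveILetI false
set_option linter.unusedVariables false
set_option linter.unusedSectionVars false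

universe u v

namespace CfsgLib.Fusion

open Cfsg Cfsg.FusionSystem Subgroup
open scoped Pointwise

theorem involves_of_hom {H : Type*} [Group H] {L : Type*} [Group L] {G : Type*} [Group G]
    (j : L →* G) (hj : Function.Injective j) (h : Cfsg.Involves H L) : Cfsg.Involves H G := by
  obtain ⟨K, R, hR, ⟨e⟩⟩ := h
  have hn : ((R.map j).subgroupOf (K.map j)).Normal := by
    constructor
    rintro ⟨_, a, ha, rfl⟩ ⟨b, hb, hba⟩ ⟨_, c, hc, rfl⟩
    have hab : b = a := hj hba
    subst hab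
    exact ⟨c * b * c⁻¹, hR.conj_mem ⟨b, ha⟩ hb ⟨c, hc⟩, by simp⟩
  let f : K ≃* K.map j := Subgroup.equivMapOfInjective K j hj
  haveI := hR
  refine ⟨K.map j, R.map j, hn, ⟨(QuotientGroup.congr _ _ f.symm ?_).trans e⟩⟩
  ext x
  constructor
  · rintro ⟨y, ⟨b, hb, hby⟩, rfl⟩
    have h1 : j (f.symm y : K) = y := congrArg Subtype.val (f.apply_symm_apply y)
    show ((f.symm y : K) : L) ∈ R
    rw [← hj (hby.trans h1.symm)]
    exact hb
  · intro hx
    exact ⟨f x, ⟨x, hx, rfl⟩, f.symm_apply_apply x⟩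

variable {Ω : Type u} [Group Ω] {S : Subgroup Ω} [Finite S] {F : FusionSystem S} {T : Subgroup Ω}
  {E : FusionSystem T} {R : Subgroup Ω} {p : ℕ} [Fact p.Prime]

/-- In a model, the centralizer of a normal centric subgroup is contained in it. -/
theorem centralizer_le_of_model {G : Type v} [Group G] [Finite G] {ι : S →* G} (hS : IsPGroup p S)
    (hF : F.IsSaturated p) (hm : F.IsModel p G ι) (hR : F.IsNormal R) (hc : F.IsCentric R) :
    ((R.subgroupOf S).map ι).Normal ∧
      Subgroup.centralizer (((R.subgroupOf S).map ι : Subgroup G) : Set G) ≤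
        (R.subgroupOf S).map ι := by
  obtain ⟨-, hr, ⟨Ps, hPs⟩, hpc⟩ := hm
  have hMn := normal_of_model hr ⟨Ps, hPs⟩ hpc hR
  refine ⟨hMn, fun x hx => ?_⟩
  have hO : Cfsg.pCore p G ≤ ι.range := hPs ▸ pCore_le_sylow Ps
  have hOn : (Cfsg.pCore p G).Normal := Subgroup.sSup_normal _ fun _ hN => hN.1
  set U := preimage ι (Cfsg.pCore p G) with hU
  have hMO : (R.subgroupOf S).map ι ≤ Cfsg.pCore p G :=
    le_sSup ⟨hMn, ((hS.to_le hR.1).of_equiv (Subgroup.subgroupOfEquivOfLe hR.1).symm).map ι⟩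
  have hRU : R ≤ U := fun r hr' => mem_preimage.2 ⟨hR.1 hr', hMO ⟨⟨r, hR.1 hr'⟩, hr', rfl⟩⟩
  obtain ⟨f, hf, hfx⟩ := realized_exists_map hr (preimage_le (ι := ι) (Cfsg.pCore p G)) x
    fun y hy => hO (hOn.conj_mem _ (mem_preimage.1 hy).2 x)
  have hid : ∀ r ∈ R, id r = f r := fun r hr' => by
    obtain ⟨hS', he⟩ := hfx r (hRU hr')
    have h1 : ι ⟨r, hR.1 hr'⟩ * x = x * ι ⟨r, hR.1 hr'⟩ := hx _ ⟨⟨r, hR.1 hr'⟩, hr', rfl⟩
    exact congrArg Subtype.val (hr.1 (a₁ := ⟨r, hR.1 hr'⟩) (a₂ := ⟨f r, hS'⟩)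
      (by rw [he, ← h1, mul_inv_cancel_right]))
  obtain ⟨z, hz, hzc, hzy⟩ := exists_conj_of_agree hS hF hc hRU (isMap_id F (preimage_le _)) hf hid
  have h2 : (ι ⟨z, hR.1 hz⟩)⁻¹ * x ∈ Cfsg.pCore p G := hpc fun m hm => by
    obtain ⟨s, rfl⟩ := hO hm
    have hsU : (s : Ω) ∈ U := mem_preimage.2 ⟨s.2, hm⟩
    obtain ⟨hS', he⟩ := hfx s hsU
    have e : (⟨f s, hS'⟩ : S) = ⟨z, hR.1 hz⟩ * s * ⟨z, hR.1 hz⟩⁻¹ :=
      Subtype.ext (hzy s hsU)
    rw [e, map_mul, map_mul, map_inv] at he
    calc ι s * ((ι ⟨z, hR.1 hz⟩)⁻¹ * x)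
        = (ι ⟨z, hR.1 hz⟩)⁻¹ * (ι ⟨z, hR.1 hz⟩ * ι s * (ι ⟨z, hR.1 hz⟩)⁻¹) * x := by group
      _ = (ι ⟨z, hR.1 hz⟩)⁻¹ * (x * ι s * x⁻¹) * x := by rw [he]
      _ = (ι ⟨z, hR.1 hz⟩)⁻¹ * x * ι s := by group
  obtain ⟨b, hb⟩ := hO h2
  have hxa : x = ι (⟨z, hR.1 hz⟩ * b) := by rw [map_mul, hb, mul_inv_cancel_left]
  rw [hxa] at hx ⊢
  refine ⟨_, hc.2 R (isConj_refl hR.1) ⟨SetLike.coe_mem _, fun r hr' => ?_⟩, rfl⟩
  have h3 := hx (ι ⟨r, hR.1 hr'⟩) ⟨⟨r, hR.1 hr'⟩, hr', rfl⟩
  rw [← map_mul, ← map_mul] at h3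
  exact congrArg Subtype.val (hr.1 h3)

/-- A model of a saturated subsystem centralizing `Q` embeds in a local model, when the join of its
normal subgroup with `Q` is centric. -/
theorem exists_embedding_model_centralizing (hS : IsPGroup p S) (hF : F.IsSaturated p) (hTS : T ≤ S)
    (hE : E.IsSaturated p) {Q : Subgroup Ω} (hQC : ∀ t ∈ T, ∀ q ∈ Q, q * t = t * q)
    (hext : ∀ P f, IsMap E P f →
      ∃ g, IsMap F (P ⊔ Q) g ∧ (∀ x ∈ P, g x = f x) ∧ ∀ x ∈ Q, g x = x)
    (hRn : E.IsNormal R) (hRF : F.IsCentric (R ⊔ Q)) (hCR : centralizerIn S (R ⊔ Q) ≤ R)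
    {L : Type v} [Group L] [Finite L] {ι : T →* L}
    (hr : E.IsRealizedBy ι) (hM : ((R.subgroupOf T).map ι).Normal)
    (hc : Subgroup.centralizer (((R.subgroupOf T).map ι : Subgroup L) : Set L) ≤
      (R.subgroupOf T).map ι) :
    ∃ R' : Subgroup Ω, F.IsFullyNormalized R' ∧ F.IsCentric R' ∧
      Nat.card R' = Nat.card (R ⊔ Q : Subgroup Ω) ∧
      ∀ (G : Type u) [Group G] [Finite G] (κ : normalizerIn S R' →* G)
        (N : FusionSystem (normalizerIn S R')), F.IsNormalizerSystem R' N → N.IsRealizedBy κ →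
        ((R'.subgroupOf (normalizerIn S R')).map κ).Normal →
        Subgroup.centralizer (((R'.subgroupOf (normalizerIn S R')).map κ : Subgroup G) : Set G) ≤
          (R'.subgroupOf (normalizerIn S R')).map κ →
        ∃ j : L →* G, Function.Injective j := by
  haveI : Finite T := finite_of_le hTS
  have hRT : R ≤ T := hRn.1
  have hQS : Q ≤ S := le_sup_right.trans hRF.1
  have hCQ : ∀ t ∈ T, t ∈ Subgroup.centralizer (Q : Set Ω) := fun t ht q hq => hQC t ht q hq
  have hRE : E.IsCentric R := (IsNormal.centric_iff hRn).2 fun y hy => by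
    refine hCR ⟨hTS hy.1, fun w hw => ?_⟩
    have hle : R ⊔ Q ≤ Subgroup.centralizer {y} := by
      refine sup_le (fun r hr' => ?_) fun q hq => ?_
      · exact Subgroup.mem_centralizer_singleton_iff.2 (hy.2 r hr')
      · exact Subgroup.mem_centralizer_singleton_iff.2 (hCQ y hy.1 q hq)
    exact Subgroup.mem_centralizer_singleton_iff.1 (hle hw)
  obtain ⟨R', hR', hR'n⟩ := exists_fullyNormalized_conj F hRF.1
  obtain ⟨ψ, hψ, hψi, hψN⟩ := exists_map_normalizerIn_of_fullyNormalized hS hF hR'n hR'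
  refine ⟨R', hR'n, centric_of_isConj hRF hR', isConj_card hR', fun G _ _ κ N hN hκ hM' hc' => ?_⟩
  set V := T ⊔ Q with hVdef
  have hTV : T ≤ V := le_sup_left
  have hQV : Q ≤ V := le_sup_right
  have hVN : V ≤ normalizerIn S (R ⊔ Q) := by
    refine sup_le (fun t ht => ⟨hTS ht, mem_normalizer_sup ⟨?_, ?_⟩⟩)
      (le_sup_right.trans (le_normalizerIn hRF.1))
    · exact ((IsNormal.normalizerIn_eq hRn).ge ht).2
    · exact Subgroup.centralizer_le_normalizer _ (hCQ t ht)
  haveI : Finite V := finite_of_le (hVN.trans inf_le_left)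
  have hψV := hψ.mono hVN
  let ψV : V →* normalizerIn S R' := hψV.toHom.codRestrict _ fun t => hψN t (hVN t.2)
  let κV : V →* G := κ.comp ψV
  let κ' : T →* G := κV.comp (Subgroup.inclusion hTV)
  have hψVinj : Function.Injective ψV := fun a b h =>
    Subtype.ext (hψV.inj a.2 b.2 (congrArg Subtype.val h))
  have hκVinj : Function.Injective κV := hκ.1.comp hψVinj
  have hκinj : Function.Injective κ' := hκVinj.comp (Subgroup.inclusion_injective hTV)
  have hRV : R ⊔ Q ≤ V := sup_le_sup_right hRT Q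
  let L1 : Subgroup G :=
    { carrier := {g | (∃ α ∈ E.autGroup R, ∀ x : R,
          g * κ' ⟨x, hRT x.2⟩ * g⁻¹ = κ' ⟨(α x : R), hRT (α x).2⟩) ∧
        ∀ q : Q, g * κV ⟨q, hQV q.2⟩ * g⁻¹ = κV ⟨q, hQV q.2⟩}
      one_mem' := ⟨⟨1, Subgroup.one_mem _, fun x => by simp⟩, fun q => by simp⟩
      mul_mem' := by
        rintro g g' ⟨⟨α, hα, h⟩, hq⟩ ⟨⟨α', hα', h'⟩, hq'⟩
        refine ⟨⟨α * α', Subgroup.mul_mem _ hα hα', fun x => ?_⟩, fun q => ?_⟩
        · rw [show ((α * α') x : R) = α (α' x) from rfl, ← h (α' x), ← h' x]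
          group
        · conv_rhs => rw [← hq q, ← hq' q]
          group
      inv_mem' := by
        rintro g ⟨⟨α, hα, h⟩, hq⟩
        refine ⟨⟨α⁻¹, Subgroup.inv_mem _ hα, fun x => ?_⟩, fun q => ?_⟩
        · have h1 := h (α⁻¹ x)
          simp only [MulAut.apply_inv_self] at h1
          rw [← h1]
          group
        · conv_lhs => rw [← hq q]
          group }
  have hrange : ∀ t : T, κ' t ∈ L1 := by
    intro t
    refine ⟨?_, fun q => ?_⟩
    · have hcm := isMap_conj E hRT t.2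
      have hi : img R (fun y => (t : Ω) * y * (t : Ω)⁻¹) = R :=
        StronglyClosed.img_eq (IsNormal.stronglyClosed hRn) hcm le_rfl
      refine ⟨hcm.toAut hi, hcm.toAut_mem hi, fun x => ?_⟩
      rw [← map_inv, ← map_mul, ← map_mul]
      exact congrArg κ' (Subtype.ext (hcm.toAut_apply hi x).symm)
    · show κV _ * _ * (κV _)⁻¹ = _
      rw [← map_inv, ← map_mul, ← map_mul]
      refine congrArg κV (Subtype.ext ?_)
      show (t : Ω) * q * (t : Ω)⁻¹ = q
      rw [← hQC t t.2 q q.2, mul_inv_cancel_right]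
  let ι1 : T →* L1 := κ'.codRestrict L1 hrange
  have hι1 : ∀ t, (ι1 t : G) = κ' t := fun t => rfl
  have hr1 : E.IsRealizedBy ι1 := by
    refine ⟨fun a b h => hκinj (congrArg Subtype.val h), fun P hP φ hφ => ⟨fun hφE => ?_, ?_⟩⟩
    · obtain ⟨g, hg, hgx, hgR⟩ := (isNormal_iff.1 hRn).2 P _ (isMap_of_hom hφE)
      obtain ⟨g2, hg2, hg2x, hg2Q⟩ := hext _ _ hg
      set U := P ⊔ R ⊔ Q
      have hU : U ≤ V := sup_le_sup_right (sup_le hP hRT) Q
      have hg2V : ∀ x ∈ U, g2 x ∈ V := fun x hx => by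
        refine hg2.img_sup_le (T := V) le_sup_left le_sup_right ?_ ?_ (hg2.apply_mem_img hx)
        · intro y hy
          obtain ⟨a, ha, rfl⟩ := (hg2.mono le_sup_left).mem_img.1 hy
          rw [hg2x a ha]
          exact hTV (hg.mem ha)
        · intro y hy
          obtain ⟨a, ha, rfl⟩ := (hg2.mono le_sup_right).mem_img.1 hy
          rw [hg2Q a ha]
          exact hQV ha
      -- transport to `R'`
      have hψU := hψV.mono hU
      obtain ⟨k, hk, hkx, hky, hki⟩ := hψU.exists_inv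
      set U' := img U ψ
      have hU' : U' ≤ normalizerIn S R' := fun y hy => by
        obtain ⟨x, hx, rfl⟩ := hψU.mem_img.1 hy
        exact hψN x (hVN (hU hx))
      have hcomp : IsMap F U' (fun y => ψ (g2 (k y))) :=
        (hk.comp hg2 fun y hy => (hky y hy).1).comp hψ fun y hy => hVN (hg2V _ (hky y hy).1)
      have hRQU : R ⊔ Q ≤ U := sup_le (le_sup_right.trans le_sup_left) le_sup_right
      have hR'U : R' ≤ U' := hψi ▸ img_mono hRQU
      have hiR : img R' (fun y => ψ (g2 (k y))) = R' := by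
        haveI := finite_of_le hR'n.1
        refine hcomp.img_eq_of_forall hR'U fun y hy => ?_
        rw [← hψi] at hy ⊢
        obtain ⟨r, hr', rfl⟩ := (hψ.mono (le_normalizerIn hRF.1)).mem_img.1 hy
        rw [hkx r (hRQU hr')]
        refine (hψ.mono (le_normalizerIn hRF.1)).apply_mem_img ?_
        have h5 : img (R ⊔ Q) g2 = R ⊔ Q := by
          rw [hg2.img_sup (le_sup_right.trans le_sup_left) le_sup_right,
            img_congr fun x hx => hg2x x (Subgroup.mem_sup_right hx), hgR,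
            img_congr (g := id) hg2Q]
          simp [img]
        rw [← h5]
        exact (hg2.mono hRQU).apply_mem_img hr'
      have hNmap : IsMap N U' (fun y => ψ (g2 (k y))) :=
        (isMap_normalizerSystem_iff hN).2 ⟨hU', fun y hy => hψN _ (hVN (hg2V _ (hky y hy).1)), _,
          by rwa [sup_eq_left.2 hR'U], fun _ _ => rfl, hiR⟩
      obtain ⟨g0, hg0⟩ := realized_exists_elem hκ hNmap
      have hval : ∀ (x : Ω) (hx : x ∈ U),
          κV ⟨g2 x, hg2V x hx⟩ = g0 * κV ⟨x, hU hx⟩ * g0⁻¹ := by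
        intro x hx
        have h1 := hg0 (ψ x) (hψU.apply_mem_img hx) (hψN x (hVN (hU hx)))
        simp only [hkx x hx] at h1
        exact h1 (hψN _ (hVN (hg2V x hx)))
      have hvalT : ∀ (x : Ω) (hx : x ∈ P ⊔ R),
          κ' ⟨g x, hg.mem hx⟩ = g0 * κ' ⟨x, sup_le hP hRT hx⟩ * g0⁻¹ := fun x hx => by
        refine Eq.trans ?_ (hval x (Subgroup.mem_sup_left hx))
        exact congrArg κV (Subtype.ext (hg2x x hx).symm)
      have hmem : g0 ∈ L1 := by
        refine ⟨⟨(hg.mono le_sup_right).toAut hgR, (hg.mono le_sup_right).toAut_mem hgR,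
          fun x => ?_⟩, fun q => ?_⟩
        · rw [← hvalT x (Subgroup.mem_sup_right x.2)]
          exact congrArg κ' (Subtype.ext ((hg.mono le_sup_right).toAut_apply hgR x).symm)
        · rw [← hval q (Subgroup.mem_sup_right q.2)]
          exact congrArg κV (Subtype.ext (hg2Q q q.2))
      refine ⟨⟨g0, hmem⟩, fun x => Subtype.ext ?_⟩
      show κ' _ = g0 * κ' _ * g0⁻¹
      rw [← hvalT x (Subgroup.mem_sup_left x.2)]
      refine congrArg κ' (Subtype.ext ?_)
      show φ x = g x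
      rw [hgx x x.2, toFun_apply]
    · rintro ⟨⟨g, ⟨α, hα, hgα⟩, hgQ⟩, hgφ⟩
      have hgφ' : ∀ x : P, κ' ⟨φ x, hφ x⟩ = g * κ' ⟨x, hP x.2⟩ * g⁻¹ := fun x =>
        congrArg Subtype.val (hgφ x)
      set U := preimage κ' (κ'.range.comap (MulAut.conj g).toMonoidHom) with hUdef
      have hUT : U ≤ T := preimage_le _
      have hPU : P ≤ U := fun x hx => mem_preimage.2 ⟨hP hx, ⟨_, hgφ' ⟨x, hx⟩⟩⟩
      have hRU : R ≤ U := fun x hx => mem_preimage.2 ⟨hRT hx, ⟨_, (hgα ⟨x, hx⟩).symm⟩⟩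
      have hU1 : U ⊔ Q ≤ preimage κV (κV.range.comap (MulAut.conj g).toMonoidHom) := by
        refine sup_le (fun x hx => ?_) fun q hq =>
          mem_preimage.2 ⟨hQV hq, ⟨_, (hgQ ⟨q, hq⟩).symm⟩⟩
        obtain ⟨hxT, s, hs⟩ := mem_preimage.1 hx
        exact mem_preimage.2 ⟨hTV hxT, ⟨_, hs⟩⟩
      have hU1V : U ⊔ Q ≤ V := hU1.trans (preimage_le _)
      -- the map of `F`
      obtain ⟨k, hk, hkx, hky, hki⟩ := hψV.exists_inv
      set U' := img (U ⊔ Q) ψ
      have hψU := hψV.mono hU1V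
      have hU' : U' ≤ normalizerIn S R' := fun y hy => by
        obtain ⟨x, hx, rfl⟩ := hψU.mem_img.1 hy
        exact hψN x (hVN (hU1V hx))
      obtain ⟨f', hf', hf'x⟩ := realized_exists_map hκ hU' g fun y hy => by
        obtain ⟨x, hx, rfl⟩ := hψU.mem_img.1 hy
        obtain ⟨hxV, s, hs⟩ := mem_preimage.1 (hU1 hx)
        exact ⟨ψV s, hs⟩
      have hf'V : ∀ (x : Ω) (hx : x ∈ U ⊔ Q),
          ∃ s : V, f' (ψ x) = ψ s ∧ κV s = g * κV ⟨x, hU1V hx⟩ * g⁻¹ := by
        intro x hx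
        obtain ⟨hxV, s, hs⟩ := mem_preimage.1 (hU1 hx)
        obtain ⟨hfx, he⟩ := hf'x (ψ x) (hψU.apply_mem_img hx)
        exact ⟨s, congrArg Subtype.val (hκ.1 (a₂ := ψV s) (he.trans hs.symm)), hs⟩
      obtain ⟨-, -, f2, hf2, hf2x, -⟩ := (isMap_normalizerSystem_iff hN).1 hf'
      have hf'F : IsMap F U' f' := (hf2.mono le_sup_left).congr hf2x
      set f := fun x => k (f' (ψ x)) with hfdef
      have hfmem : ∀ x ∈ U ⊔ Q, f' (ψ x) ∈ img V ψ := fun x hx => by
        obtain ⟨s, hs, -⟩ := hf'V x hx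
        rw [hs]
        exact hψV.apply_mem_img s.2
      have hfF : IsMap F (U ⊔ Q) f :=
        (hψU.comp hf'F fun x hx => hψU.apply_mem_img hx).comp hk hfmem
      have hfv : ∀ (x : Ω) (hx : x ∈ U ⊔ Q), ∃ hfx : f x ∈ V,
          κV ⟨f x, hfx⟩ = g * κV ⟨x, hU1V hx⟩ * g⁻¹ := by
        intro x hx
        obtain ⟨s, hs, hs'⟩ := hf'V x hx
        have e : f x = s := by rw [hfdef]; show k (f' (ψ x)) = s; rw [hs, hkx s s.2]
        exact ⟨e ▸ s.2, (congrArg κV (Subtype.ext e)).trans hs'⟩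
      have hfT : ∀ (x : Ω) (hx : x ∈ U), ∃ hfx : f x ∈ T,
          κ' ⟨f x, hfx⟩ = g * κ' ⟨x, hUT hx⟩ * g⁻¹ := by
        intro x hx
        obtain ⟨hxT, s, hs⟩ := mem_preimage.1 hx
        obtain ⟨hfx, he⟩ := hfv x (Subgroup.mem_sup_left hx)
        have e : f x = s := congrArg Subtype.val
          (hκVinj (he.trans (Eq.symm hs : g * κ' ⟨x, hxT⟩ * g⁻¹ = κ' s)))
        exact ⟨e ▸ s.2, (congrArg κ' (Subtype.ext e)).trans hs⟩
      have hfR : ∀ x : R, f x = ((α x : R) : Ω) := fun x => by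
        obtain ⟨hfx, he⟩ := hfT x (hRU x.2)
        rw [hgα x] at he
        exact congrArg Subtype.val (hκinj he)
      have hfQ : ∀ q ∈ Q, f q = q := fun q hq => by
        obtain ⟨hfx, he⟩ := hfv q (Subgroup.mem_sup_right hq)
        rw [hgQ ⟨q, hq⟩] at he
        exact congrArg Subtype.val (hκVinj he)
      have hαm := isMap_of_autGroup hRT hα
      obtain ⟨g', hg', hg'x⟩ := receptive_extend (R := U)
        (receptive_of_fullyNormalized (hS.to_le hTS) hE (IsNormal.fullyNormalized hRn))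
        hαm (img_toFun_aut α) hRU fun a ha => by
          obtain ⟨hfa, -⟩ := hfT a ha
          have haN := ((IsNormal.normalizerIn_eq hRn).ge (hUT ha)).2
          refine ⟨hUT ha, haN, f a, hfa, fun x hx => ?_⟩
          rw [toFun_aut_apply α ((haN x).1 hx), toFun_aut_apply α hx, ← hfR ⟨_, (haN x).1 hx⟩,
            ← hfR ⟨x, hx⟩]
          exact hfF.map_conj (Subgroup.mem_sup_left ha) (Subgroup.mem_sup_left (hRU hx))
      obtain ⟨g3, hg3, hg3x, hg3Q⟩ := hext _ _ hg'
      have hagree : ∀ x ∈ R ⊔ Q, g3 x = f x := by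
        have hle : R ⊔ Q ≤ (hg3.toHom.eqLocus hfF.toHom).map (U ⊔ Q).subtype := by
          refine sup_le (fun x hx => ?_) fun q hq => ?_
          · refine ⟨⟨x, Subgroup.mem_sup_left (hRU hx)⟩, ?_, rfl⟩
            show g3 x = f x
            rw [hg3x x (hRU hx), hg'x x hx, toFun_aut_apply α hx, ← hfR ⟨x, hx⟩]
          · refine ⟨⟨q, Subgroup.mem_sup_right hq⟩, ?_, rfl⟩
            show g3 q = f q
            rw [hg3Q q hq, hfQ q hq]
        intro x hx
        obtain ⟨v, hv, rfl⟩ := hle hx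
        exact hv
      obtain ⟨z, hz, hzc, hzy⟩ := exists_conj_of_agree hS hF hRF (sup_le_sup_right hRU Q) hg3 hfF
        hagree
      have hzR : z ∈ R := hCR ⟨hRF.1 hz, hzc⟩
      have hzU : ∀ y ∈ U, z * y * z⁻¹ ∈ U := fun y hy =>
        U.mul_mem (U.mul_mem (hRU hzR) hy) (U.inv_mem (hRU hzR))
      have hfE : IsMap E U f := ((isMap_conj E hUT (hRT hzR)).comp hg' hzU).congr fun y hy => by
        show g' (z * y * z⁻¹) = f y
        rw [← hg3x _ (hzU y hy), hzy y (Subgroup.mem_sup_left hy)]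
      refine (hfE.mono hPU).mem_hom fun x => ?_
      obtain ⟨hfx, he⟩ := hfT x (hPU x.2)
      rw [← hgφ' x] at he
      exact (congrArg Subtype.val (hκinj he)).symm
  set M1 : Subgroup L1 := (R.subgroupOf T).map ι1 with hM1
  have hM1n : M1.Normal := by
    constructor
    rintro _ ⟨r, hr', rfl⟩ g
    obtain ⟨⟨α, -, hα⟩, -⟩ := g.2
    exact ⟨⟨(α ⟨r, hr'⟩ : R), hRT (α ⟨r, hr'⟩).2⟩, (α ⟨r, hr'⟩).2,
      Subtype.ext (hα ⟨r, hr'⟩).symm⟩
  have hc1 : Subgroup.centralizer (M1 : Set L1) ≤ M1 := fun x hx => by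
    have hcom : R ⊔ Q ≤ preimage κV (Subgroup.centralizer {(x : G)}) := by
      refine sup_le (fun r hr' => mem_preimage.2 ⟨hTV (hRT hr'), ?_⟩) fun q hq =>
        mem_preimage.2 ⟨hQV hq, ?_⟩
      · exact Subgroup.mem_centralizer_singleton_iff.2
          (congrArg Subtype.val (hx (ι1 ⟨r, hRT hr'⟩) ⟨_, hr', rfl⟩))
      · exact Subgroup.mem_centralizer_singleton_iff.2
          (mul_inv_eq_iff_eq_mul.1 (x.2.2 ⟨q, hq⟩)).symm
    have h1 : (x : G) ∈ (R'.subgroupOf (normalizerIn S R')).map κ := hc' fun m hm => by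
      obtain ⟨y, hy, rfl⟩ := hm
      obtain ⟨r, hr', hry⟩ := (hψ.mono (le_normalizerIn hRF.1)).mem_img.1 (hψi.ge hy)
      have e : ψV ⟨r, hRV hr'⟩ = y := Subtype.ext hry
      rw [← e]
      exact Subgroup.mem_centralizer_singleton_iff.1 (mem_preimage.1 (hcom hr')).2
    obtain ⟨y, hy, hyx⟩ := h1
    obtain ⟨r, hr', hry⟩ := (hψ.mono (le_normalizerIn hRF.1)).mem_img.1 (hψi.ge hy)
    have hxr : κV ⟨r, hRV hr'⟩ = (x : G) :=
      (congrArg κ (Subtype.ext hry : ψV ⟨r, hRV hr'⟩ = y)).trans hyx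
    have hrR : r ∈ R := by
      refine hCR ⟨hRF.1 hr', fun w hw => ?_⟩
      obtain ⟨hwV, hwc⟩ := mem_preimage.1 (hcom hw)
      have h2 := Subgroup.mem_centralizer_singleton_iff.1 hwc
      rw [← hxr, ← map_mul, ← map_mul] at h2
      exact congrArg Subtype.val (hκVinj h2)
    exact ⟨⟨r, hRT hrR⟩, hrR, Subtype.ext hxr⟩
  obtain ⟨θ₁, -, Φ₁, -⟩ := Model.exists_iso_grp E hRT (hS.to_le hTS) hE hRE hRn hr hM hc
  obtain ⟨θ₂, -, Φ₂, -⟩ := Model.exists_iso_grp E hRT (hS.to_le hTS) hE hRE hRn hr1 hM1n hc1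
  exact ⟨L1.subtype.comp (Φ₁.trans Φ₂.symm).toMonoidHom,
    L1.subtype_injective.comp (Φ₁.trans Φ₂.symm).injective⟩

/-- Sections of models pass to saturated subsystems with a normal centric subgroup. -/
theorem exists_embedding_model (hS : IsPGroup p S) (hF : F.IsSaturated p) (hTS : T ≤ S)
    (hE : E.IsSaturated p) (hle : ∀ P f, IsMap E P f → IsMap F P f) (hRn : E.IsNormal R)
    (hRF : F.IsCentric R) {L : Type v} [Group L] [Finite L] {ι : T →* L}
    (hr : E.IsRealizedBy ι) (hM : ((R.subgroupOf T).map ι).Normal)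
    (hc : Subgroup.centralizer (((R.subgroupOf T).map ι : Subgroup L) : Set L) ≤
      (R.subgroupOf T).map ι) :
    ∃ R' : Subgroup Ω, F.IsFullyNormalized R' ∧ F.IsCentric R' ∧ Nat.card R' = Nat.card R ∧
      ∀ (G : Type u) [Group G] [Finite G] (κ : normalizerIn S R' →* G)
        (N : FusionSystem (normalizerIn S R')), F.IsNormalizerSystem R' N → N.IsRealizedBy κ →
        ((R'.subgroupOf (normalizerIn S R')).map κ).Normal →
        Subgroup.centralizer (((R'.subgroupOf (normalizerIn S R')).map κ : Subgroup G) : Set G) ≤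
          (R'.subgroupOf (normalizerIn S R')).map κ →
        ∃ j : L →* G, Function.Injective j := by
  obtain ⟨R', h1, h2, h3, h4⟩ := exists_embedding_model_centralizing (Q := ⊥) hS hF hTS hE
    (fun t _ q hq => by rw [Subgroup.mem_bot.1 hq, one_mul, mul_one])
    (fun P f hf => ⟨f, by rw [sup_bot_eq]; exact hle P f hf, fun _ _ => rfl, fun x hx => by
      rw [Subgroup.mem_bot.1 hx]; exact (hle P f hf).map_one⟩)
    hRn (by rw [sup_bot_eq]; exact hRF)
    (by rw [sup_bot_eq]; exact hRF.2 R (isConj_refl hRF.1)) hr hM hc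
  exact ⟨R', h1, h2, by rwa [sup_bot_eq] at h3, h4⟩

universe w

theorem isModel_of_normal_centric {G : Type v} [Group G] [Finite G] {ι : S →* G} {Q : Subgroup Ω}
    (hS : IsPGroup p S) (hr : F.IsRealizedBy ι) (hT : ∃ T : Sylow p G, (T : Subgroup G) = ι.range)
    (hQ : Q ≤ S) (hM : ((Q.subgroupOf S).map ι).Normal)
    (hc : Subgroup.centralizer (((Q.subgroupOf S).map ι : Subgroup G) : Set G) ≤
      (Q.subgroupOf S).map ι) : F.IsModel p G ι := by
  have hMO : (Q.subgroupOf S).map ι ≤ Cfsg.pCore p G :=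
    le_sSup ⟨hM, ((hS.to_le hQ).of_equiv (Subgroup.subgroupOfEquivOfLe hQ).symm).map ι⟩
  exact ⟨‹Finite G›, hr, hT, (Subgroup.centralizer_le hMO).trans (hc.trans hMO)⟩

/-- A model of a saturated subsystem with a normal centric subgroup has no forbidden section. -/
theorem not_involves_of_subsystem {H : Type w} [Group H] (hS : IsPGroup p S)
    (hF : F.IsSaturated p) (hfree : F.IsSectionFree p H) (hTS : T ≤ S) (hE : E.IsSaturated p)
    (hle : ∀ P f, IsMap E P f → IsMap F P f) (hRn : E.IsNormal R) (hRF : F.IsCentric R)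
    {L : Type v} [Group L] {ι : T →* L} (hm : E.IsModel p L ι) : ¬ Cfsg.Involves H L := by
  haveI := hm.1
  haveI : Finite T := finite_of_le hTS
  have hRE : E.IsCentric R := (IsNormal.centric_iff hRn).2 fun y hy =>
    hRF.2 R (isConj_refl hRF.1) ⟨hTS hy.1, hy.2⟩
  obtain ⟨hM, hc⟩ := centralizer_le_of_model (hS.to_le hTS) hE hm hRn hRE
  obtain ⟨R', hR'n, hR'c, -, hj⟩ := exists_embedding_model hS hF hTS hE hle hRn hRF hm.2.1 hM hc
  have hN := isNormalizerSystem_normalizerSys F R' hR'n.1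
  haveI : Finite ↥(normalizerIn S R') := finite_normalizerIn
  obtain ⟨G, hG, κ, hfin, hr, hT, hM', hc'⟩ :=
    Model.exists_model_normalizer F hS hF hR'c hR'n hN
  haveI := hfin
  obtain ⟨j, hji⟩ := hj G κ _ hN hr hM' hc'
  intro h
  exact hfree R' hR'n hR'c _ hN G κ (isModel_of_normal_centric (hS.to_le inf_le_left) hr hT
    (le_normalizerIn hR'n.1) hM' hc') (involves_of_hom j hji h)

theorem isNormal_normalizerSystem_self {Q : Subgroup Ω} {N : FusionSystem (normalizerIn S Q)}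
    (hQ : Q ≤ S) (hN : F.IsNormalizerSystem Q N) : N.IsNormal Q := by
  refine isNormal_iff.2 ⟨le_normalizerIn hQ, fun P f hf => ?_⟩
  obtain ⟨h1, h2, g, hg, hgx, hgQ⟩ := (isMap_normalizerSystem_iff hN).1 hf
  refine ⟨g, (isMap_normalizerSystem_iff hN).2 ⟨sup_le h1 (le_normalizerIn hQ), fun x hx => ?_, g,
    by rwa [sup_assoc, sup_idem], fun _ _ => rfl, hgQ⟩, hgx, hgQ⟩
  have hle : P ⊔ Q ≤ S := sup_le (h1.trans inf_le_left) hQ
  haveI := finite_of_le hQ
  refine ⟨hg.mem hx, ?_⟩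
  have hn : P ⊔ Q ≤ Subgroup.normalizer (Q : Set Ω) :=
    sup_le (h1.trans inf_le_right) Subgroup.le_normalizer
  have h3 := hg.apply_mem_normalizerIn le_sup_right hx (hn hx)
  rw [hgQ] at h3
  exact h3.2

/-- Normalizer systems inherit the absence of a section. -/
theorem isSectionFree_normalizer {H : Type w} [Group H] (hS : IsPGroup p S) (hF : F.IsSaturated p)
    {Q : Subgroup Ω} (hQ : F.IsFullyNormalized Q) {N : FusionSystem (normalizerIn S Q)}
    (hN : F.IsNormalizerSystem Q N) (hfree : F.IsSectionFree p H) : N.IsSectionFree p H := by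
  haveI : Finite ↥(normalizerIn S Q) := finite_normalizerIn
  have hTS : normalizerIn S Q ≤ S := inf_le_left
  have hTp := hS.to_le hTS
  have hNs : N.IsSaturated p := isSaturated_normalizerSystem hS hF hQ hN
  have hQN : N.IsNormal Q := isNormal_normalizerSystem_self hQ.1 hN
  have hNle : ∀ P f, IsMap N P f → IsMap F P f := fun P f h => by
    obtain ⟨-, -, g, hg, hgx, -⟩ := (isMap_normalizerSystem_iff hN).1 h
    exact (hg.mono le_sup_left).congr hgx
  suffices hmain : ∀ (n : ℕ) (R : Subgroup Ω),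
      Nat.card (normalizerIn S Q) - Nat.card R = n →
      N.IsFullyNormalized R → N.IsCentric R →
      ∀ M : FusionSystem (normalizerIn (normalizerIn S Q) R), N.IsNormalizerSystem R M →
      ∀ (L : Type u) [Group L] (ι : ↥(normalizerIn (normalizerIn S Q) R) →* L),
        M.IsModel p L ι → ¬ Cfsg.Involves H L from
    fun R hR hc M hM L _ ι hm => hmain _ R rfl hR hc M hM L ι hm
  intro n
  induction n using Nat.strong_induction_on with
  | _ n ih =>
    intro R hn hR hRc M hM L _ ι hm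
    haveI : Finite ↥(normalizerIn (normalizerIn S Q) R) := finite_normalizerIn
    have hTR : normalizerIn (normalizerIn S Q) R ≤ normalizerIn S Q := inf_le_left
    have hMs : M.IsSaturated p := isSaturated_normalizerSystem hTp hNs hR hM
    have hMle : ∀ P f, IsMap M P f → IsMap N P f := fun P f h => by
      obtain ⟨-, -, g, hg, hgx, -⟩ := (isMap_normalizerSystem_iff hM).1 h
      exact (hg.mono le_sup_left).congr hgx
    have hRM : M.IsNormal R := isNormal_normalizerSystem_self hR.1 hM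
    by_cases hQR : Q ≤ R
    · -- `R` is centric in the whole system
      have hRF : F.IsCentric R := by
        refine ⟨hR.1.trans hTS, fun R₁ hR₁ c hc => ?_⟩
        obtain ⟨ψ, hψ, rfl⟩ := isConj_iff.1 hR₁
        have hQ₁ : F.IsConj Q (img Q ψ) := (hψ.mono hQR).isConj
        obtain ⟨χ, hχ, hχi, hχN⟩ :=
          exists_map_normalizerIn_of_fullyNormalized hS hF hQ (isConj_symm hQ₁)
        have hR₁N : img R ψ ≤ normalizerIn S (img Q ψ) := fun y hy => by
          obtain ⟨r, hr, rfl⟩ := hψ.mem_img.1 hy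
          exact hψ.apply_mem_normalizerIn hQR hr (hR.1 hr).2
        have hcN : c ∈ normalizerIn S (img Q ψ) := centralizerIn_le_normalizerIn
          ⟨hc.1, fun y hy => hc.2 y (img_mono hQR hy)⟩
        have hcomp : IsMap F R (fun r => χ (ψ r)) :=
          hψ.comp hχ fun r hr => hR₁N (hψ.apply_mem_img hr)
        have hcompN : IsMap N R (fun r => χ (ψ r)) := by
          refine (isMap_normalizerSystem_iff hN).2 ⟨hR.1, fun r hr =>
            hχN _ (hR₁N (hψ.apply_mem_img hr)), _, by rwa [sup_eq_left.2 hQR], fun _ _ => rfl, ?_⟩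
          rw [img_comp_eq (hψ.mono hQR) hχ fun r hr => hR₁N (hψ.apply_mem_img (hQR hr)), hχi]
        have h1 : χ c ∈ img R (fun r => χ (ψ r)) := by
          refine hRc.2 _ hcompN.isConj ⟨hχN c hcN, fun y hy => ?_⟩
          obtain ⟨r, hr, rfl⟩ := hcompN.mem_img.1 hy
          have hr' := hR₁N (hψ.apply_mem_img hr)
          show χ (ψ r) * χ c = χ c * χ (ψ r)
          rw [← hχ.map_mul hr' hcN, ← hχ.map_mul hcN hr']
          exact congrArg χ (hc.2 _ (hψ.apply_mem_img hr))
        obtain ⟨r, hr, hrc⟩ := hcompN.mem_img.1 h1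
        rw [← hχ.inj (hR₁N (hψ.apply_mem_img hr)) hcN hrc]
        exact hψ.apply_mem_img hr
      exact not_involves_of_subsystem hS hF hfree (hTR.trans hTS) hMs
        (fun P f h => hNle _ _ (hMle _ _ h)) hRM hRF hm
    · -- enlarge `R` inside `R ⊔ Q`
      set X := R ⊔ (Q ⊓ normalizerIn (normalizerIn S Q) R) with hX
      have hXT : X ≤ normalizerIn (normalizerIn S Q) R :=
        sup_le (le_normalizerIn hR.1) inf_le_right
      have hXM : M.IsNormal X := by
        refine isNormal_iff.2 ⟨hXT, fun P f hf => ?_⟩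
        obtain ⟨h1, h2, g, hg, hgx, hgR⟩ := (isMap_normalizerSystem_iff hM).1 hf
        obtain ⟨k, hk, hkx, hkQ⟩ := (isNormal_iff.1 hQN).2 _ g hg
        have hU : P ⊔ X ≤ P ⊔ R ⊔ Q := sup_le (le_sup_left.trans le_sup_left)
          (sup_le (le_sup_right.trans le_sup_left) (inf_le_left.trans le_sup_right))
        have hkU := hk.mono hU
        have hRU : R ≤ P ⊔ X := le_sup_left.trans le_sup_right
        have hkR : img R k = R :=
          (img_congr fun x hx => hkx x (Subgroup.mem_sup_right hx)).trans hgR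
        have hn' : P ⊔ X ≤ Subgroup.normalizer (R : Set Ω) :=
          sup_le (h1.trans inf_le_right) (hXT.trans inf_le_right)
        have hmem : ∀ x ∈ P ⊔ X, k x ∈ normalizerIn (normalizerIn S Q) R := fun x hx => by
          have h3 := hkU.apply_mem_normalizerIn hRU hx (hn' hx)
          rwa [hkR] at h3
        have hkX : img X k = X := by
          haveI := finite_of_le hXT
          refine hkU.img_eq_of_forall le_sup_right fun x hx => ?_
          have hXle : img X k ≤ X := by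
            refine hkU.img_sup_le hRU (le_sup_right.trans le_sup_right) (hkR.le.trans le_sup_left) ?_
            intro y hy
            obtain ⟨q, hq, rfl⟩ := (hkU.mono (le_sup_right.trans le_sup_right)).mem_img.1 hy
            refine Subgroup.mem_sup_right ⟨?_, hmem q (Subgroup.mem_sup_right (Subgroup.mem_sup_right hq))⟩
            rw [← hkQ]
            exact (hk.mono le_sup_right).apply_mem_img hq.1
          exact hXle ((hkU.mono le_sup_right).apply_mem_img hx)
        refine ⟨k, (isMap_normalizerSystem_iff hM).2 ⟨sup_le h1 hXT, hmem, k, ?_,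
          fun _ _ => rfl, hkR⟩, fun x hx => (hkx x (Subgroup.mem_sup_left hx)).trans (hgx x hx), hkX⟩
        rwa [sup_eq_left.2 hRU]
      have hRX : R ≤ X := le_sup_left
      have hlt : Nat.card R < Nat.card X := by
        haveI := finite_of_le hXT
        refine lt_of_not_ge fun h => ?_
        have hRe : R = X := eq_of_le_of_card_le hRX h
        have hRQ : R ⊔ Q ≤ normalizerIn S Q := sup_le hR.1 (le_normalizerIn hQ.1)
        haveI := finite_of_le hRQ
        have hltN := lt_normalizerIn (hTp.to_le hRQ)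
          (lt_of_le_of_ne le_sup_left fun h' : R = R ⊔ Q => hQR (h' ▸ le_sup_right))
        obtain ⟨a, haN, haR⟩ := SetLike.exists_of_lt hltN
        have haQ : a ∈ ((R : Set Ω) * (Q : Set Ω)) := by
          rw [← Subgroup.coe_mul_of_left_le_normalizer_right R Q (hR.1.trans inf_le_right)]
          exact haN.1
        obtain ⟨r, hr, q, hq, rfl⟩ := Set.mem_mul.1 haQ
        refine haR (R.mul_mem hr ?_)
        rw [hRe]
        refine Subgroup.mem_sup_right ⟨hq, le_normalizerIn hQ.1 hq, ?_⟩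
        have := Subgroup.mul_mem _ (Subgroup.inv_mem _ (Subgroup.le_normalizer hr)) haN.2
        rwa [inv_mul_cancel_left] at this
      have hXc : N.IsCentric X := centric_of_le hRc hRX (hXT.trans hTR)
      haveI := hm.1
      have hXcM : M.IsCentric X := (IsNormal.centric_iff hXM).2 fun y hy =>
        hXc.2 X (isConj_refl hXc.1) ⟨hTR hy.1, hy.2⟩
      obtain ⟨hM0, hc0⟩ := centralizer_le_of_model (hTp.to_le hTR) hMs hm hXM hXcM
      obtain ⟨X', hX'n, hX'c, hX'card, hj⟩ :=
        exists_embedding_model hTp hNs hTR hMs hMle hXM hXc hm.2.1 hM0 hc0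
      have hN' := isNormalizerSystem_normalizerSys N X' hX'n.1
      obtain ⟨G, hG, κ, hfin, hr, hPs, hM', hc'⟩ :=
        Model.exists_model_normalizer N hTp hNs hX'c hX'n hN'
      haveI := hfin
      obtain ⟨j, hji⟩ := hj G κ _ hN' hr hM' hc'
      intro h
      haveI : Finite ↥(normalizerIn (normalizerIn S Q) X') := finite_normalizerIn
      refine ih _ ?_ X' rfl hX'n hX'c _ hN' G κ (isModel_of_normal_centric (hTp.to_le inf_le_left)
        hr hPs (le_normalizerIn hX'n.1) hM' hc') (involves_of_hom j hji h)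
      have h2 : Nat.card X' ≤ Nat.card (normalizerIn S Q) := Subgroup.card_le_of_le hX'n.1
      omega

/-- `Q` is radical when the image of `Q` is the largest normal `p`-subgroup of the model. -/
theorem isRadical_of_pCore_le (hS : IsPGroup p S) {Q : Subgroup Ω} (hQ : Q ≤ S)
    {N : FusionSystem (normalizerIn S Q)} (hN : F.IsNormalizerSystem Q N)
    {L : Type v} [Group L] [Finite L] {ι : normalizerIn S Q →* L} (hr : N.IsRealizedBy ι)
    (hMn : ((Q.subgroupOf (normalizerIn S Q)).map ι).Normal)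
    (hMc : Subgroup.centralizer (((Q.subgroupOf (normalizerIn S Q)).map ι : Subgroup L) : Set L) ≤
      (Q.subgroupOf (normalizerIn S Q)).map ι)
    (hOM : Cfsg.pCore p L ≤ (Q.subgroupOf (normalizerIn S Q)).map ι) : F.IsRadical p Q := by
  have hQT : Q ≤ normalizerIn S Q := le_normalizerIn hQ
  haveI := finite_of_le hQ
  refine ⟨hQ, le_antisymm ?_ fun a ha => ?_⟩
  swap
  · refine ⟨⟨a, inn_le_autGroup hQ ha⟩, ?_, rfl⟩
    refine (le_sSup (α := Subgroup (F.autGroup Q)) ⟨inferInstance, ?_⟩ :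
      (Inn Q).subgroupOf (F.autGroup Q) ≤ pCore p (F.autGroup Q)) ha
    exact ((hS.to_le hQ).of_surjective _ MulAut.conj.rangeRestrict_surjective).of_equiv
      (Subgroup.subgroupOfEquivOfLe (inn_le_autGroup hQ)).symm
  set M : Subgroup L := (Q.subgroupOf (normalizerIn S Q)).map ι with hMdef
  have hMp : IsPGroup p M :=
    ((hS.to_le hQ).of_equiv (Subgroup.subgroupOfEquivOfLe hQT).symm).map ι
  haveI := hMn
  let e : Q ≃* M :=
    (Subgroup.subgroupOfEquivOfLe hQT).symm.trans (Subgroup.equivMapOfInjective _ ι hr.1)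
  have he : ∀ x : Q, (e x : L) = ι ⟨x, hQT x.2⟩ := fun x => rfl
  let pr : L →* MulAut Q :=
    (MulAut.congr e.symm).toMonoidHom.comp (MulAut.conjNormal : L →* MulAut M)
  have hpr : ∀ (g : L) (x : Q),
      ι ⟨(pr g x : Q), hQT (pr g x).2⟩ = g * ι ⟨x, hQT x.2⟩ * g⁻¹ := fun g x => by
    rw [← he, ← he]
    show ((e (e.symm (MulAut.conjNormal g (e x))) : M) : L) = _
    rw [MulEquiv.apply_symm_apply, MulAut.conjNormal_apply]
  have hprmem : ∀ g, pr g ∈ F.autGroup Q := fun g => by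
    obtain ⟨f, hf, hfx⟩ := realized_exists_map hr hQT g fun x hx =>
      ⟨⟨(pr g ⟨x, hx⟩ : Q), hQT (pr g ⟨x, hx⟩).2⟩, hpr g ⟨x, hx⟩⟩
    obtain ⟨-, -, f', hf', hf'x, -⟩ := (isMap_normalizerSystem_iff hN).1 hf
    refine (autGroup_iff_isMap hQ fun x => ?_).2 ((hf'.mono le_sup_left).congr hf'x)
    obtain ⟨hS', he'⟩ := hfx x x.2
    exact congrArg Subtype.val
      (hr.1 (a₁ := ⟨_, hQT (pr g x).2⟩) (a₂ := ⟨_, hS'⟩) ((hpr g x).trans he'.symm))
  set K := (Cfsg.pCore p (F.autGroup Q)).map (F.autGroup Q).subtype with hK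
  have hKp : IsPGroup p K := (CfsgLib.Solvable.pCore_isPGroup p).map _
  have hL0n : (K.comap pr).Normal := by
    constructor
    intro n hn g
    obtain ⟨a, ha, hae⟩ := hn
    haveI := CfsgLib.Solvable.pCore_normal p (F.autGroup Q)
    obtain ⟨b, hb⟩ : ∃ b : F.autGroup Q, (b : MulAut Q) = pr g := ⟨⟨pr g, hprmem g⟩, rfl⟩
    refine ⟨b * a * b⁻¹, Subgroup.Normal.conj_mem inferInstance _ ha b, ?_⟩
    have hae' : (a : MulAut Q) = pr n := hae
    rw [Subgroup.coe_subtype, Subgroup.coe_mul, Subgroup.coe_mul, Subgroup.coe_inv, hb, hae',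
      map_mul pr, map_mul pr, map_inv pr]
  have hker : IsPGroup p pr.ker := hMp.to_le fun g hg => hMc <| by
    rintro _ ⟨s, hs, rfl⟩
    have h2 := hpr g ⟨s, hs⟩
    rw [(hg : pr g = 1)] at h2
    replace h2 : ι s = g * ι s * g⁻¹ := h2
    calc ι s * g = g * ι s * g⁻¹ * g := by rw [← h2]
      _ = g * ι s := by group
  have hL0 : K.comap pr ≤ M :=
    (le_sSup ⟨hL0n, hKp.comap_of_ker_isPGroup pr hker⟩ : K.comap pr ≤ Cfsg.pCore p L).trans hOM
  intro a ha
  obtain ⟨a', -, rfl⟩ := id ha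
  have hαN : IsMap N Q (toFun (Q.subtype.comp (a' : MulAut Q).toMonoidHom)) := by
    refine (isMap_normalizerSystem_iff hN).2 ⟨hQT, fun x hx => ?_, _, ?_,
      fun _ _ => rfl, img_toFun_aut _⟩
    · rw [toFun_aut_apply _ hx]
      exact hQT (SetLike.coe_mem _)
    · rw [sup_idem]
      exact isMap_of_autGroup hQ a'.2
  obtain ⟨g, hg0⟩ := realized_exists_elem hr hαN
  have hg : pr g = (a' : MulAut Q) := MulEquiv.ext fun x => Subtype.ext <| by
    have h1 := hg0 x x.2 (hQT x.2) (by rw [toFun_aut_apply _ x.2]; exact hQT (SetLike.coe_mem _))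
    rw [← hpr g x] at h1
    have h2 := congrArg Subtype.val (hr.1 h1)
    simp only [toFun_aut_apply _ x.2] at h2
    exact h2.symm
  obtain ⟨s, hs, rfl⟩ := hL0 (show pr g ∈ K from hg ▸ ha)
  refine ⟨⟨s, hs⟩, MulEquiv.ext fun x => Subtype.ext ?_⟩
  rw [Subgroup.coe_subtype, ← hg]
  have h1 := hpr (ι s) x
  rw [← map_inv, ← map_mul, ← map_mul] at h1
  exact (congrArg Subtype.val (hr.1 h1)).symm

/-- It is enough to look at the models of the radical centric subgroups. -/
theorem isSectionFree_of_radical {H : Type w} [Group H] (hS : IsPGroup p S) (hF : F.IsSaturated p)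
    (h : ∀ Q : Subgroup Ω, F.IsFullyNormalized Q → F.IsCentric Q → F.IsRadical p Q →
      ∀ N : FusionSystem (normalizerIn S Q), F.IsNormalizerSystem Q N →
      ∀ (L : Type u) [Group L] (ι : ↥(normalizerIn S Q) →* L), N.IsModel p L ι →
        ¬ Cfsg.Involves H L) : F.IsSectionFree p H := by
  suffices hmain : ∀ (n : ℕ) (Q : Subgroup Ω), Nat.card S - Nat.card Q = n →
      F.IsFullyNormalized Q → F.IsCentric Q →
      ∀ N : FusionSystem (normalizerIn S Q), F.IsNormalizerSystem Q N →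
      ∀ (L : Type u) [Group L] (ι : ↥(normalizerIn S Q) →* L), N.IsModel p L ι →
        ¬ Cfsg.Involves H L from
    fun Q hQ hc N hN L _ ι hm => hmain _ Q rfl hQ hc N hN L ι hm
  intro n
  induction n using Nat.strong_induction_on with
  | _ n ih =>
    intro Q hn hQ hQc N hN L _ ι hm
    haveI := hm.1
    haveI : Finite ↥(normalizerIn S Q) := finite_normalizerIn
    have hTS : normalizerIn S Q ≤ S := inf_le_left
    have hTp := hS.to_le hTS
    have hNs : N.IsSaturated p := isSaturated_normalizerSystem hS hF hQ hN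
    have hQN : N.IsNormal Q := isNormal_normalizerSystem_self hQ.1 hN
    have hNle : ∀ P f, IsMap N P f → IsMap F P f := fun P f hf => by
      obtain ⟨-, -, g, hg, hgx, -⟩ := (isMap_normalizerSystem_iff hN).1 hf
      exact (hg.mono le_sup_left).congr hgx
    have hQT : Q ≤ normalizerIn S Q := le_normalizerIn hQ.1
    have hQNc : N.IsCentric Q := (IsNormal.centric_iff hQN).2 fun y hy =>
      hQc.2 Q (isConj_refl hQ.1) ⟨hTS hy.1, hy.2⟩
    obtain ⟨hMn, hMc⟩ := centralizer_le_of_model hTp hNs hm hQN hQNc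
    obtain ⟨-, hr, ⟨Ps, hPs⟩, hpc⟩ := hm
    have hO : Cfsg.pCore p L ≤ ι.range := hPs ▸ pCore_le_sylow Ps
    have hOn : (Cfsg.pCore p L).Normal := Subgroup.sSup_normal _ fun _ hN => hN.1
    set M : Subgroup L := (Q.subgroupOf (normalizerIn S Q)).map ι with hMdef
    have hMp : IsPGroup p M :=
      ((hS.to_le hQ.1).of_equiv (Subgroup.subgroupOfEquivOfLe hQT).symm).map ι
    have hMO : M ≤ Cfsg.pCore p L := le_sSup ⟨hMn, hMp⟩
    set U := preimage ι (Cfsg.pCore p L) with hUdef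
    have hQU : Q ≤ U := fun q hq => mem_preimage.2 ⟨hQT hq, hMO ⟨⟨q, hQT hq⟩, hq, rfl⟩⟩
    rcases hQU.eq_or_lt with hEq | hlt
    · -- `Q` is radical
      exact h Q hQ hQc (isRadical_of_pCore_le hS hQ.1 hN hr hMn hMc fun y hy => by
        obtain ⟨s, rfl⟩ := hO hy
        exact ⟨s, hEq.ge (mem_preimage.2 ⟨s.2, hy⟩), rfl⟩) N hN L ι ⟨‹_›, hr, ⟨Ps, hPs⟩, hpc⟩
    · have hUn : N.IsNormal U := preimage_isNormal hr hOn hO
      haveI := finite_of_le (preimage_le (ι := ι) (Cfsg.pCore p L))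
      have hUc : F.IsCentric U := centric_of_le hQc hQU ((preimage_le _).trans hTS)
      have hUNc : N.IsCentric U := (IsNormal.centric_iff hUn).2 fun y hy =>
        hUc.2 U (isConj_refl hUc.1) ⟨hTS hy.1, hy.2⟩
      obtain ⟨hM0, hc0⟩ :=
        centralizer_le_of_model hTp hNs ⟨‹_›, hr, ⟨Ps, hPs⟩, hpc⟩ hUn hUNc
      obtain ⟨U', hU'n, hU'c, hU'card, hj⟩ :=
        exists_embedding_model hS hF hTS hNs hNle hUn hUc hr hM0 hc0
      have hN' := isNormalizerSystem_normalizerSys F U' hU'n.1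
      obtain ⟨G, hG, κ, hfin, hr', hPs', hM', hc'⟩ :=
        Model.exists_model_normalizer F hS hF hU'c hU'n hN'
      haveI := hfin
      haveI : Finite ↥(normalizerIn S U') := finite_normalizerIn
      obtain ⟨j, hji⟩ := hj G κ _ hN' hr' hM' hc'
      intro hinv
      refine ih _ ?_ U' rfl hU'n hU'c _ hN' G κ (isModel_of_normal_centric (hS.to_le inf_le_left)
        hr' hPs' (le_normalizerIn hU'n.1) hM' hc') (involves_of_hom j hji hinv)
      have h1 : Nat.card Q < Nat.card U :=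
        lt_of_not_ge fun h => hlt.ne (eq_of_le_of_card_le hlt.le h)
      have h2 : Nat.card U' ≤ Nat.card S := Subgroup.card_le_of_le hU'n.1
      omega

/-- In the centralizer system of a normal subgroup `Q`, centric subgroups give centric subgroups
by joining with `Q`. -/
theorem isCentric_sup_of_centralizer (hS : IsPGroup p S) (hF : F.IsSaturated p) {Q : Subgroup Ω}
    (hQn : F.IsNormal Q) {C : FusionSystem (centralizerIn S Q)} (hC : F.IsCentralizerSystem Q C)
    {X : Subgroup Ω} (hX : C.IsCentric X) : F.IsCentric (X ⊔ Q) := by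
  have hXC : X ≤ centralizerIn S Q := hX.1
  refine ⟨sup_le (hXC.trans inf_le_left) hQn.1, fun R₁ hR₁ c hc => ?_⟩
  obtain ⟨ψ, hψ, rfl⟩ := isConj_iff.1 hR₁
  have hψQ : img Q ψ = Q := by
    haveI := finite_of_le hQn.1
    exact StronglyClosed.img_eq (IsNormal.stronglyClosed hQn) hψ le_sup_right
  obtain ⟨g, hg, hgx⟩ := receptive_extend_centralizer
    (receptive_of_fullyNormalized hS hF (IsNormal.fullyNormalized hQn)) (hψ.mono le_sup_right) hψQ
  set Y := Q ⊔ centralizerIn S Q
  have hgY : img Y g = Y := by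
    haveI := finite_of_le hg.le
    refine eq_of_le_of_card_le (hg.img_sup_le le_sup_left le_sup_right
      (((img_congr hgx).trans hψQ).le.trans le_sup_left) fun y hy => ?_) hg.card_img.ge
    obtain ⟨a, ha, rfl⟩ := (hg.mono le_sup_right).mem_img.1 hy
    have h1 := hg.apply_mem_centralizerIn le_sup_left (Subgroup.mem_sup_right ha) ha.2
    rw [img_congr hgx, hψQ] at h1
    exact Subgroup.mem_sup_right h1
  obtain ⟨k, hk, hkx, hky, -⟩ := hg.exists_inv
  rw [hgY] at hk hky
  have hkc : ∀ y ∈ centralizerIn S Q, k y ∈ centralizerIn S Q := fun y hy => by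
    refine ⟨hk.mem (Subgroup.mem_sup_right hy), fun q hq => ?_⟩
    have hgq : g q ∈ Q := by
      rw [hgx q hq]
      exact hψQ.le ((hψ.mono le_sup_right).apply_mem_img hq)
    have h2 := congrArg k (hy.2 (g q) hgq)
    rw [hk.map_mul (Subgroup.mem_sup_left hgq) (Subgroup.mem_sup_right hy),
      hk.map_mul (Subgroup.mem_sup_right hy) (Subgroup.mem_sup_left hgq),
      hkx q (Subgroup.mem_sup_left hq)] at h2
    exact h2
  have hψC : ∀ x ∈ X, ψ x ∈ centralizerIn S Q := fun x hx => by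
    have h1 := hψ.apply_mem_centralizerIn le_sup_right (Subgroup.mem_sup_left hx) (hXC hx).2
    rwa [hψQ] at h1
  have hψY : ∀ x ∈ X ⊔ Q, ψ x ∈ Y := fun x hx => by
    refine hψ.img_sup_le le_sup_left le_sup_right ?_ (hψQ.le.trans le_sup_left)
      (hψ.apply_mem_img hx)
    intro y hy
    obtain ⟨a, ha, rfl⟩ := (hψ.mono le_sup_left).mem_img.1 hy
    exact Subgroup.mem_sup_right (hψC a ha)
  have hδ : IsMap F (X ⊔ Q) (fun x => k (ψ x)) := hψ.comp hk hψY
  have hδC : IsMap C X (fun x => k (ψ x)) :=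
    (isMap_centralizerSystem_iff hC).2 ⟨hXC, fun x hx => hkc _ (hψC x hx), _, hδ,
      fun _ _ => rfl, fun q hq => by
        show k (ψ q) = q
        rw [← hgx q hq, hkx q (Subgroup.mem_sup_left hq)]⟩
  have hcC : c ∈ centralizerIn S Q :=
    ⟨hc.1, fun q hq => hc.2 q (img_mono le_sup_right (hψQ.ge hq))⟩
  have h3 : k c ∈ img X (fun x => k (ψ x)) := by
    refine hX.2 _ hδC.isConj ⟨hkc c hcC, fun y hy => ?_⟩
    obtain ⟨a, ha, rfl⟩ := hδC.mem_img.1 hy
    show k (ψ a) * k c = k c * k (ψ a)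
    rw [← hk.map_mul (Subgroup.mem_sup_right (hψC a ha)) (Subgroup.mem_sup_right hcC),
      ← hk.map_mul (Subgroup.mem_sup_right hcC) (Subgroup.mem_sup_right (hψC a ha))]
    exact congrArg k (hc.2 _ (hψ.apply_mem_img (Subgroup.mem_sup_left ha)))
  obtain ⟨a, ha, hac⟩ := hδC.mem_img.1 h3
  rw [← hk.inj (Subgroup.mem_sup_right (hψC a ha)) (Subgroup.mem_sup_right hcC) hac]
  exact hψ.apply_mem_img (Subgroup.mem_sup_left ha)

/-- Centralizer systems of normal subgroups inherit the absence of a section. -/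
theorem isSectionFree_centralizer {H : Type w} [Group H] (hS : IsPGroup p S) (hF : F.IsSaturated p)
    {Q : Subgroup Ω} (hQn : F.IsNormal Q) {C : FusionSystem (centralizerIn S Q)}
    (hC : F.IsCentralizerSystem Q C) (hfree : F.IsSectionFree p H) : C.IsSectionFree p H := by
  intro R hR hRc M hM L _ ι hm
  haveI := hm.1
  haveI : Finite ↥(centralizerIn S Q) := finite_centralizerIn
  haveI : Finite ↥(normalizerIn (centralizerIn S Q) R) := finite_normalizerIn
  have hCS : centralizerIn S Q ≤ S := inf_le_left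
  have hCp := hS.to_le hCS
  have hCs : C.IsSaturated p := isSaturated_centralizerSystem hS hF
    (fullyCentralized_of_fullyNormalized hS hF (IsNormal.fullyNormalized hQn)) hC
  have hTC : normalizerIn (centralizerIn S Q) R ≤ centralizerIn S Q := inf_le_left
  have hMs : M.IsSaturated p := isSaturated_normalizerSystem hCp hCs hR hM
  have hRM : M.IsNormal R := isNormal_normalizerSystem_self hR.1 hM
  have hRMc : M.IsCentric R := (IsNormal.centric_iff hRM).2 fun y hy =>
    hRc.2 R (isConj_refl hR.1) ⟨hTC hy.1, hy.2⟩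
  obtain ⟨hM0, hc0⟩ := centralizer_le_of_model (hCp.to_le hTC) hMs hm hRM hRMc
  have hR1 := isCentric_sup_of_centralizer hS hF hQn hC hRc
  obtain ⟨R', hR'n, hR'c, -, hj⟩ := exists_embedding_model_centralizing hS hF (hTC.trans hCS) hMs
    (fun t ht q hq => (hTC ht).2 q hq)
    (fun P f hf => by
      obtain ⟨h1, h2, g, hg, hgx, -⟩ := (isMap_normalizerSystem_iff hM).1 hf
      obtain ⟨-, -, g2, hg2, hg2x, hg2Q⟩ := (isMap_centralizerSystem_iff hC).1 hg
      exact ⟨g2, hg2.mono (sup_le_sup_right le_sup_left Q),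
        fun x hx => (hg2x x (Subgroup.mem_sup_left hx)).trans (hgx x hx), hg2Q⟩)
    hRM hR1
    (fun y hy => hRc.2 R (isConj_refl hR.1)
      ⟨⟨hy.1, fun q hq => hy.2 q (Subgroup.mem_sup_right hq)⟩,
        fun r hr => hy.2 r (Subgroup.mem_sup_left hr)⟩)
    hm.2.1 hM0 hc0
  have hN := isNormalizerSystem_normalizerSys F R' hR'n.1
  haveI : Finite ↥(normalizerIn S R') := finite_normalizerIn
  obtain ⟨G, hG, κ, hfin, hr, hT, hM', hc'⟩ :=
    Model.exists_model_normalizer F hS hF hR'c hR'n hN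
  haveI := hfin
  obtain ⟨j, hji⟩ := hj G κ _ hN hr hM' hc'
  intro h
  exact hfree R' hR'n hR'c _ hN G κ (isModel_of_normal_centric (hS.to_le inf_le_left) hr hT
    (le_normalizerIn hR'n.1) hM' hc') (involves_of_hom j hji h)

end CfsgLib.Fusion
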