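import Cfsg.Agent.Lib.Fusion.GroupFusion
import Cfsg.Agent.Lib.Fusion.FactorSectionFree
import Cfsg.Agent.Lib.Fusion.ModelSection

/-!
The model of the normalizer system of a centric subgroup in the fusion system of a group, and the
passage of forbidden sections from the group to its fusion system.
-/

set_option autoImplicit false
set_option linter.style.haveILetI false
set_option linter.unusedVariables false
set_option linter.unusedSectionVars false

universe u w

namespace CfsgLib.Fusion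

open Cfsg Cfsg.FusionSystem Subgroup

variable {G : Type u} [Group G] [Finite G] {p : ℕ} [Fact p.Prime] (P : Sylow p G) {Q : Subgroup G}

/-- A `p`-element whose image is trivial modulo a `p'`-subgroup is trivial. -/
theorem eq_one_of_isPGroup_of_coprime {A : Subgroup G} (hA : IsPGroup p A) {x : G} (hx : x ∈ A)
    (h : (orderOf x).Coprime p) : x = 1 := by
  obtain ⟨k, hk⟩ := hA ⟨x, hx⟩
  exact orderOf_eq_one_iff.1 (Nat.eq_one_of_dvd_coprimes (h.pow_right k) dvd_rfl
    (orderOf_dvd_of_pow_eq_one (congrArg Subtype.val hk)))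

/-- For a fully normalized centric `Q`, a quotient of `N_G(Q)` by a normal `p'`-subgroup is a model
of the normalizer system. -/
theorem exists_group_model (hQn : (groupFusionSystem (P : Subgroup G)).IsFullyNormalized Q)
    (hQc : (groupFusionSystem (P : Subgroup G)).IsCentric Q)
    {N : FusionSystem (normalizerIn (P : Subgroup G) Q)}
    (hN : (groupFusionSystem (P : Subgroup G)).IsNormalizerSystem Q N) :
    ∃ (K : Subgroup ↥(Subgroup.normalizer (Q : Set G))) (_ : K.Normal)
      (κ : ↥(normalizerIn (P : Subgroup G) Q) →* ↥(Subgroup.normalizer (Q : Set G)) ⧸ K),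
      (∀ x ∈ K, (orderOf x).Coprime p) ∧ N.IsRealizedBy κ ∧
      ((Q.subgroupOf (normalizerIn (P : Subgroup G) Q)).map κ).Normal ∧
      Subgroup.centralizer (((Q.subgroupOf (normalizerIn (P : Subgroup G) Q)).map κ :
          Subgroup (↥(Subgroup.normalizer (Q : Set G)) ⧸ K)) :
          Set (↥(Subgroup.normalizer (Q : Set G)) ⧸ K)) ≤
        (Q.subgroupOf (normalizerIn (P : Subgroup G) Q)).map κ ∧
      N.IsModel p (↥(Subgroup.normalizer (Q : Set G)) ⧸ K) κ := by
  set F := groupFusionSystem (P : Subgroup G) with hFdef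
  set N' := Subgroup.normalizer (Q : Set G) with hN'
  revert N hN
  set T := normalizerIn (P : Subgroup G) Q with hTdef
  intro N hN
  have hQS : Q ≤ P := hQn.1
  have hTN : T ≤ N' := inf_le_right
  have hQT : Q ≤ T := le_normalizerIn hQS
  have hTp : IsPGroup p T := P.isPGroup'.to_le inf_le_left
  have hQN : Q ≤ N' := Subgroup.le_normalizer
  obtain ⟨W, hW⟩ := (group_fullyNormalized_iff P hQS).1 hQn
  have hidx : ¬ p ∣ T.relIndex N' := by
    rw [Subgroup.relIndex, ← hW]
    exact W.not_dvd_index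
  -- the normal `p'`-subgroup
  haveI : (Q.subgroupOf N').Normal := Subgroup.normal_subgroupOf_of_le_normalizer le_rfl
  obtain ⟨K, hKn, hKc, hKp, hKdec⟩ := exists_coprime_kernel (p := p) (A := Q.subgroupOf N') inferInstance
    ((hTp.to_le hQT).of_equiv (Subgroup.subgroupOfEquivOfLe hQN).symm) (by
      intro X hX hXc x hx
      obtain ⟨k, hk, hkX⟩ := exists_conj_le_of_sylow hTp hTN hidx (hX.map N'.subtype)
        (Subgroup.map_subtype_le _)
      have hy : k * (x : G) * k⁻¹ ∈ T := hkX ⟨x, ⟨x, hx, rfl⟩, rfl⟩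
      have hyQ : k * (x : G) * k⁻¹ ∈ Q := by
        refine hQc.2 Q (isConj_refl hQS) ⟨hy.1, fun q hq => ?_⟩
        have hq' : k⁻¹ * q * k ∈ Q := (Subgroup.mem_normalizer_iff''.1 hk q).1 hq
        have h1 : (⟨k⁻¹ * q * k, hQN hq'⟩ : N') * x = x * ⟨k⁻¹ * q * k, hQN hq'⟩ :=
          hXc hx ⟨k⁻¹ * q * k, hQN hq'⟩ hq'
        have h2 : k⁻¹ * q * k * (x : G) = (x : G) * (k⁻¹ * q * k) := congrArg Subtype.val h1
        calc q * (k * (x : G) * k⁻¹) = k * (k⁻¹ * q * k * (x : G)) * k⁻¹ := by group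
          _ = k * ((x : G) * (k⁻¹ * q * k)) * k⁻¹ := by rw [h2]
          _ = k * (x : G) * k⁻¹ * q := by group
      exact (Subgroup.mem_normalizer_iff.1 hk (x : G)).2 hyQ)
  haveI := hKn
  set π := QuotientGroup.mk' K with hπ
  set κ := π.comp (Subgroup.inclusion hTN) with hκ
  have hκapp : ∀ (x : G) (hx : x ∈ T), κ ⟨x, hx⟩ = π ⟨x, hTN hx⟩ := fun x hx => rfl
  have hpi : ∀ x : N', π x = 1 → ∀ A : Subgroup G, IsPGroup p A → (x : G) ∈ A → (x : G) = 1 := by
    intro x hx A hA hxA
    refine eq_one_of_isPGroup_of_coprime hA hxA ?_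
    rw [Subgroup.orderOf_coe]
    exact hKp x ((QuotientGroup.eq_one_iff x).1 hx)
  have hinj : Function.Injective κ := (injective_iff_map_eq_one κ).2 fun x hx =>
    Subtype.ext (hpi _ hx T hTp x.2)
  have hQimg : (Q.subgroupOf T).map κ = (Q.subgroupOf N').map π := by
    ext y
    constructor
    · rintro ⟨x, hx, rfl⟩
      exact ⟨Subgroup.inclusion hTN x, hx, rfl⟩
    · rintro ⟨x, hx, rfl⟩
      exact ⟨⟨x, hQT hx⟩, hx, rfl⟩
  have hM : ((Q.subgroupOf T).map κ).Normal := by
    rw [hQimg]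
    exact Subgroup.Normal.map inferInstance π (QuotientGroup.mk'_surjective K)
  have hc : Subgroup.centralizer (((Q.subgroupOf T).map κ : Subgroup (N' ⧸ K)) : Set (N' ⧸ K)) ≤
      (Q.subgroupOf T).map κ := by
    rw [hQimg]
    intro y hy
    obtain ⟨g, rfl⟩ := QuotientGroup.mk'_surjective K y
    have hgc : g ∈ Subgroup.centralizer ((Q.subgroupOf N' : Subgroup N') : Set N') := by
      intro q hq
      have h1 : π q * π g = π g * π q := hy (π q) ⟨q, hq, rfl⟩
      have h2 : π (g * q * g⁻¹ * q⁻¹) = 1 := by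
        rw [map_mul, map_mul, map_mul, map_inv, map_inv, ← h1]
        group
      have hmem : ((g * q * g⁻¹ * q⁻¹ : N') : G) ∈ Q :=
        Q.mul_mem ((Subgroup.mem_normalizer_iff.1 g.2 _).1 hq) (Q.inv_mem hq)
      have h3 : g * q * g⁻¹ * q⁻¹ = 1 := Subtype.ext (hpi _ h2 Q (hTp.to_le hQT) hmem)
      have h4 : g * q * g⁻¹ = q := mul_inv_eq_one.1 h3
      exact (mul_inv_eq_iff_eq_mul.1 h4).symm
    obtain ⟨a, ha, k, hk, rfl⟩ := hKdec g hgc
    refine ⟨a, ha, ?_⟩
    rw [map_mul, show π k = 1 from (QuotientGroup.eq_one_iff k).2 hk, one_mul]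
  have hreal : N.IsRealizedBy κ := by
    refine ⟨hinj, fun U hU φ hφ => ?_⟩
    rw [hN U]
    constructor
    · rintro ⟨-, -, -, ψ, ⟨-, -, g, hg⟩, hψx, hψQ⟩
      have hgN : g ∈ N' := by
        rw [hN', Subgroup.mem_normalizer_iff_map_conj_eq]
        conv_rhs => rw [← hψQ]
        ext y
        constructor
        · rintro ⟨q, hq, rfl⟩
          exact ⟨⟨q, Subgroup.mem_sup_right hq⟩, hq, hg _⟩
        · rintro ⟨q, hq, rfl⟩
          exact ⟨q, hq, (hg q).symm⟩
      refine ⟨π ⟨g, hgN⟩, fun x => ?_⟩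
      rw [hκapp, hκapp, ← map_inv, ← map_mul, ← map_mul]
      exact congrArg π (Subtype.ext ((hψx x).symm.trans (hg _)))
    · rintro ⟨y, hy⟩
      obtain ⟨g, rfl⟩ := QuotientGroup.mk'_surjective K y
      -- move the image into `T` inside `T K`
      set KG := K.map N'.subtype with hKG
      have hTK : ∀ t ∈ T, ∀ k ∈ KG, t * k * t⁻¹ ∈ KG := by
        rintro t ht _ ⟨k, hk, rfl⟩
        exact ⟨⟨t, hTN ht⟩ * k * ⟨t, hTN ht⟩⁻¹, hKn.conj_mem k hk _, rfl⟩
      have hTKn : T ≤ Subgroup.normalizer (KG : Set G) := fun t ht => by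
        haveI : Finite (KG : Set G) := Subtype.finite
        exact Subgroup.mem_normalizer_fintype fun k hk => hTK t ht k hk
      have hB : ∀ x ∈ U ⊔ Q, (g : G) * x * (g : G)⁻¹ ∈ T ⊔ KG := by
        have hle : U ⊔ Q ≤ (T ⊔ KG).comap (MulAut.conj (g : G)).toMonoidHom := by
          refine sup_le (fun x hx => ?_) (fun x hx => ?_)
          · show (g : G) * x * (g : G)⁻¹ ∈ T ⊔ KG
            have h1 := hy ⟨x, hx⟩
            rw [hκapp, hκapp, ← map_inv, ← map_mul, ← map_mul, hπ, QuotientGroup.mk'_eq_mk'] at h1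
            obtain ⟨z, hz, hzx⟩ := h1
            have e : (φ ⟨x, hx⟩ : G) * (z : G) = (g : G) * x * (g : G)⁻¹ :=
              congrArg Subtype.val hzx
            rw [← e]
            exact Subgroup.mul_mem_sup (hφ ⟨x, hx⟩) ⟨z, hz, rfl⟩
          · exact Subgroup.mem_sup_left (hQT ((Subgroup.mem_normalizer_iff.1 g.2 x).1 hx))
        exact fun x hx => hle hx
      have hKle : KG ≤ N' := Subgroup.map_subtype_le _
      have hUp : IsPGroup p (conjSub (g : G) (U ⊔ Q)) :=
        (hTp.to_le (sup_le hU hQT)).map _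
      have hidx' : ¬ p ∣ T.relIndex (T ⊔ KG) := fun h => hidx (h.trans
        (Dvd.intro _ (Subgroup.relIndex_mul_relIndex T (T ⊔ KG) N' le_sup_left (sup_le hTN hKle))))
      obtain ⟨o, ho, hoB⟩ := exists_conj_le_of_sylow hTp (le_sup_left : T ≤ T ⊔ KG) hidx' hUp (by
        rintro _ ⟨x, hx, rfl⟩
        exact hB x hx)
      have ho' : o ∈ ((T ⊔ KG : Subgroup G) : Set G) := ho
      rw [Subgroup.coe_mul_of_left_le_normalizer_right T KG hTKn] at ho'
      obtain ⟨t, ht, k, hk, hok⟩ := ho'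
      have hok' : t * k = o := hok
      subst hok'
      obtain ⟨k', hk', rfl⟩ := hk
      set g' : N' := k' * g with hg'
      have hg'T : ∀ x ∈ U ⊔ Q, (g' : G) * x * (g' : G)⁻¹ ∈ T := by
        intro x hx
        have h1 : t * (k' : G) * ((g : G) * x * (g : G)⁻¹) * (t * (k' : G))⁻¹ ∈ T :=
          hoB ⟨_, ⟨x, hx, rfl⟩, rfl⟩
        have h2 := T.mul_mem (T.mul_mem (T.inv_mem ht) h1) ht
        have e : t⁻¹ * (t * (k' : G) * ((g : G) * x * (g : G)⁻¹) * (t * (k' : G))⁻¹) * t =
            (g' : G) * x * (g' : G)⁻¹ := by rw [hg', Subgroup.coe_mul]; group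
        rwa [e] at h2
      have hgπ : π g' = π g := by
        rw [hg', map_mul, show π k' = 1 from (QuotientGroup.eq_one_iff k').2 hk', one_mul]
      have hφe : ∀ x : U, φ x = (g' : G) * x * (g' : G)⁻¹ := by
        intro x
        have hx' := hg'T x (Subgroup.mem_sup_left x.2)
        have h1 : κ ⟨φ x, hφ x⟩ = κ ⟨_, hx'⟩ := by
          rw [hy x, hκapp, hκapp, ← hgπ, ← map_inv, ← map_mul, ← map_mul]
          rfl
        exact congrArg Subtype.val (hinj h1)
      refine ⟨⟨hU.trans inf_le_left, fun x => (hφ x).1, (g' : G), hφe⟩, hU, hφ,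
        conjHom (U ⊔ Q) (g' : G),
        ⟨sup_le (hU.trans inf_le_left) hQS, fun x => (hg'T x x.2).1, (g' : G), fun x => rfl⟩,
        fun x => (hφe x).symm, ?_⟩
      ext y
      constructor
      · rintro ⟨x, hx, rfl⟩
        exact (Subgroup.mem_normalizer_iff.1 g'.2 _).1 hx
      · intro hy
        refine ⟨⟨(g' : G)⁻¹ * y * (g' : G), Subgroup.mem_sup_right
          ((Subgroup.mem_normalizer_iff''.1 g'.2 y).1 hy)⟩,
          (Subgroup.mem_normalizer_iff''.1 g'.2 y).1 hy, ?_⟩
        show (g' : G) * ((g' : G)⁻¹ * y * (g' : G)) * (g' : G)⁻¹ = y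
        group
  refine ⟨K, hKn, κ, hKp, hreal, hM, hc, isModel_of_normal_centric hTp hreal ?_ hQT hM hc⟩
  refine ⟨W.mapSurjective (QuotientGroup.mk'_surjective K), ?_⟩
  show (W : Subgroup N').map π = κ.range
  rw [hW, MonoidHom.range_eq_map]
  ext y
  constructor
  · rintro ⟨x, hx, rfl⟩
    exact ⟨⟨x, hx⟩, trivial, rfl⟩
  · rintro ⟨x, -, rfl⟩
    exact ⟨Subgroup.inclusion hTN x, x.2, rfl⟩

/-- The fusion system of a group without a section has no such section in its local models. -/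
theorem group_isSectionFree {H : Type w} [Group H] (hfree : ¬ Cfsg.Involves H G) :
    (groupFusionSystem (P : Subgroup G)).IsSectionFree p H := by
  intro Q hQn hQc N hN L _ ι hm
  haveI := hm.1
  set F := groupFusionSystem (P : Subgroup G) with hFdef
  have hS : IsPGroup p (P : Subgroup G) := P.isPGroup'
  have hF : F.IsSaturated p := group_isSaturated P
  have hT : normalizerIn (P : Subgroup G) Q ≤ P := inf_le_left
  have hNs : N.IsSaturated p := isSaturated_normalizerSystem hS hF hQn hN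
  have hle : ∀ U f, IsMap N U f → IsMap F U f := by
    rintro U f ⟨φ, hφ, hφf⟩
    rw [hN U] at hφ
    exact ⟨φ, hφ.1, hφf⟩
  have hQN : N.IsNormal Q := isNormal_normalizerSystem_self hQn.1 hN
  have hQNc : N.IsCentric Q := (IsNormal.centric_iff hQN).2 fun y hy =>
    hQc.2 Q (isConj_refl hQc.1) ⟨hT hy.1, hy.2⟩
  obtain ⟨hM, hc⟩ := centralizer_le_of_model (hS.to_le hT) hNs hm hQN hQNc
  obtain ⟨R, hRn, hRc, -, hj⟩ := exists_embedding_model hS hF hT hNs hle hQN hQc hm.2.1 hM hc
  have hN2 := isNormalizerSystem_normalizerSys F R hRn.1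
  obtain ⟨K, hK, κ, -, hr, hM', hc', -⟩ := exists_group_model P hRn hRc hN2
  obtain ⟨j, hji⟩ := hj _ κ _ hN2 hr hM' hc'
  intro h
  exact hfree (involves_of_hom (Subgroup.normalizer (R : Set G)).subtype
    (Subgroup.subtype_injective _)
    (involves_of_surjective (QuotientGroup.mk' K) (QuotientGroup.mk'_surjective K)
      (involves_of_hom j hji h)))

end CfsgLib.Fusion
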