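import Cfsg.Agent.Lib.Fusion.FactorHyperfocal
import Cfsg.Agent.Lib.Fusion.OmegaChain

/-!
The action of the hyperfocal subgroup on a strongly closed subgroup.
-/

set_option autoImplicit false
set_option linter.unusedVariables false
set_option linter.unusedSectionVars false
set_option linter.style.haveILetI false

namespace CfsgLib.Fusion

open Cfsg Cfsg.FusionSystem Subgroup

variable {Ω : Type*} [Group Ω] {S T P : Subgroup Ω} {F : FusionSystem S} {p : ℕ}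
  [Fact p.Prime] [Finite S] (hS : IsPGroup p S) (hF : F.IsSaturated p) (hT : F.StronglyClosed T)

include hS hF hT

/-- An automorphism of order prime to `p` lifts modulo `T` to one of `P T`. -/
theorem exists_coprime_aut_mod (hP : P ≤ S) {α : MulAut P} (hα : α ∈ F.autGroup P)
    (hc : (orderOf α).Coprime p) :
    ∃ β ∈ F.autGroup (P ⊔ T), (orderOf β).Coprime p ∧ ∀ z : P,
      ((β ⟨z, mem_sup_left z.2⟩ : ↥(P ⊔ T)) : Ω)⁻¹ * ((α z : P) : Ω) ∈ T := by
  have hm := isMap_of_autGroup hP hα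
  obtain ⟨g, hg, hgx⟩ := exists_map_mod hS hF hT hm
  haveI := finite_of_le hg.le
  haveI := finite_of_le hP
  have hgi : img (P ⊔ T) g = P ⊔ T := by
    refine eq_of_le_of_card_le (hg.img_sup_le le_sup_left le_sup_right ?_ ?_) hg.card_img.ge
    · intro y hy
      obtain ⟨z, hz, rfl⟩ := (hg.mono le_sup_left).mem_img.1 hy
      have h1 := mul_mem_sup (α ⟨z, hz⟩).2 (T.inv_mem (hgx z hz))
      rw [toFun_aut_apply α hz] at h1
      simpa using h1
    · exact (StronglyClosed.img_eq hT hg le_sup_right).le.trans le_sup_right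
  set β := hg.toAut hgi with hβdef
  have hβ : β ∈ F.autGroup (P ⊔ T) := hg.toAut_mem hgi
  have hpow : ∀ (n : ℕ) (z : P), (((β ^ n) ⟨z, mem_sup_left z.2⟩ : ↥(P ⊔ T)) : Ω)⁻¹ *
      (((α ^ n) z : P) : Ω) ∈ T := by
    intro n
    induction n with
    | zero => intro z; simp
    | succ n ih =>
      intro z
      have h1 := hgx (((α ^ n) z : P) : Ω) ((α ^ n) z).2
      rw [toFun_aut_apply α ((α ^ n) z).2] at h1
      have h2 : ((β (((β ^ n) ⟨z, mem_sup_left z.2⟩)⁻¹ * ⟨_, mem_sup_left ((α ^ n) z).2⟩) :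
          ↥(P ⊔ T)) : Ω) ∈ T := by
        have := StronglyClosed.apply_mem hT (isMap_of_autGroup hg.le hβ)
          (((β ^ n) ⟨z, mem_sup_left z.2⟩)⁻¹ * ⟨_, mem_sup_left ((α ^ n) z).2⟩ : ↥(P ⊔ T)).2
          (ih z)
        rwa [toFun_aut_apply] at this
      rw [map_mul, map_inv, Subgroup.coe_mul, Subgroup.coe_inv] at h2
      have h3 := T.mul_mem h2 h1
      rw [pow_succ', MulAut.mul_apply, pow_succ', MulAut.mul_apply]
      rw [show ((β ⟨_, mem_sup_left ((α ^ n) z).2⟩ : ↥(P ⊔ T)) : Ω) = g ((α ^ n) z : P) from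
        hg.toAut_apply hgi _] at h3
      simpa [mul_assoc] using h3
  obtain ⟨e, he1, hec⟩ := exists_pow_coprime (p := p) (isOfFinOrder_of_finite β) hc
  refine ⟨β ^ e, pow_mem hβ e, hec, fun z => ?_⟩
  have h := hpow e z
  rwa [show α ^ e = α by rw [← pow_mod_orderOf, he1, pow_mod_orderOf, pow_one]] at h

/-- The elements of the hyperfocal subgroup act on `T` inside `O^p(Aut_F(T)) Inn(T)`. -/
theorem exists_aut_of_mem_hyperfocal {x : Ω} (hx : x ∈ F.hyperfocalSubgroup p) :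
    ∃ α ∈ ((pResidual p ↥(F.autGroup T)).map (F.autGroup T).subtype ⊔ Inn ↥T :
      Subgroup (MulAut ↥T)), ∀ t : ↥T, ((α t : ↥T) : Ω) = x * (t : Ω) * x⁻¹ := by
  haveI := finite_of_le hT.1
  set A := ((pResidual p ↥(F.autGroup T)).map (F.autGroup T).subtype ⊔ Inn ↥T :
    Subgroup (MulAut ↥T)) with hA
  let N : Subgroup Ω :=
    { carrier := {x | ∃ α ∈ A, ∀ t : ↥T, ((α t : ↥T) : Ω) = x * (t : Ω) * x⁻¹}
      one_mem' := ⟨1, A.one_mem, fun t => by simp⟩
      mul_mem' := by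
        rintro a b ⟨α, hα, ha⟩ ⟨β, hβ, hb⟩
        refine ⟨α * β, A.mul_mem hα hβ, fun t => ?_⟩
        rw [MulAut.mul_apply, ha, hb]
        group
      inv_mem' := by
        rintro a ⟨α, hα, ha⟩
        refine ⟨α⁻¹, A.inv_mem hα, fun t => ?_⟩
        have h := ha (α⁻¹ t)
        rw [MulAut.apply_inv_self] at h
        rw [h]
        group }
  suffices h : F.hyperfocalSubgroup p ≤ N from h hx
  refine hyperfocal_le_of N fun P hP α hα hc z => ?_
  obtain ⟨β, hβ, hβc, hβx⟩ := exists_coprime_aut_mod hS hF hT hP hα hc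
  have hPT : P ⊔ T ≤ S := sup_le hP hT.1
  obtain ⟨γ, hγ, hγx, hγo⟩ := exists_restrictAut hPT le_sup_right hβ (fun y hy => by
    have := StronglyClosed.apply_mem hT (isMap_of_autGroup hPT hβ) y.2 hy
    rwa [toFun_aut_apply _ y.2] at this)
  have hγR : γ ∈ (pResidual p ↥(F.autGroup T)).map (F.autGroup T).subtype :=
    ⟨⟨γ, hγ⟩, Subgroup.subset_closure (by
      show (orderOf (⟨γ, hγ⟩ : F.autGroup T)).Coprime p
      rw [Subgroup.orderOf_mk]
      exact hβc.coprime_dvd_left hγo), rfl⟩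
  have hzn := StronglyClosed.le_normalizer hT (hP z.2)
  set cz := T.normalizerMonoidHom ⟨z, hzn⟩ with hcz
  have hczF : cz ∈ F.autGroup T := autInducedBy_le_autGroup hT.1
    (mem_autInducedBy_iff.2 ⟨z, hP z.2, fun t => rfl⟩)
  have hconjR : cz⁻¹ * γ * cz ∈ (pResidual p ↥(F.autGroup T)).map (F.autGroup T).subtype := by
    refine ⟨⟨cz⁻¹ * γ * cz, mul_mem (mul_mem (inv_mem hczF) hγ) hczF⟩,
      Subgroup.subset_closure ?_, rfl⟩
    show (orderOf (⟨_, _⟩ : F.autGroup T)).Coprime p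
    rw [Subgroup.orderOf_mk]
    have h1 : cz⁻¹ * γ * cz = MulAut.conj cz⁻¹ γ := by simp
    rw [h1, MulEquiv.orderOf_eq]
    exact hβc.coprime_dvd_left hγo
  set t₀ : Ω := ((β ⟨z, mem_sup_left z.2⟩ : ↥(P ⊔ T)) : Ω)⁻¹ * ((α z : P) : Ω) with ht₀
  have ht₀T : t₀ ∈ T := hβx z
  refine ⟨cz⁻¹ * γ * cz * γ⁻¹ * MulAut.conj (⟨t₀, ht₀T⟩ : T),
    A.mul_mem (Subgroup.mem_sup_left (mul_mem hconjR (inv_mem hγR)))
      (Subgroup.mem_sup_right ⟨_, rfl⟩), fun t => ?_⟩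
  set u := γ⁻¹ (MulAut.conj (⟨t₀, ht₀T⟩ : T) t) with hu
  have h2 : ((γ (cz u) : T) : Ω) = ((β ⟨z, mem_sup_left z.2⟩ : ↥(P ⊔ T)) : Ω) * (γ u : T) *
      ((β ⟨z, mem_sup_left z.2⟩ : ↥(P ⊔ T)) : Ω)⁻¹ := by
    rw [hγx, hγx, ← Subgroup.coe_inv, ← Subgroup.coe_mul, ← Subgroup.coe_mul, ← map_inv,
      ← map_mul, ← map_mul]
    rfl
  rw [MulAut.mul_apply, MulAut.mul_apply, MulAut.mul_apply, MulAut.mul_apply, ← hu]
  have h3 : ((cz⁻¹ (γ (cz u)) : T) : Ω) = (z : Ω)⁻¹ * ((γ (cz u) : T) : Ω) * (z : Ω) := by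
    have h4 : cz (cz⁻¹ (γ (cz u))) = γ (cz u) := MulAut.apply_inv_self T cz _
    have h5 : (z : Ω) * ((cz⁻¹ (γ (cz u)) : T) : Ω) * (z : Ω)⁻¹ = ((γ (cz u) : T) : Ω) :=
      congrArg Subtype.val h4
    rw [← h5]
    group
  rw [h3, h2, hu, MulAut.apply_inv_self, MulAut.conj_apply, Subgroup.coe_mul, Subgroup.coe_mul,
    Subgroup.coe_inv]
  simp only [ht₀]
  group

end CfsgLib.Fusion
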