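/-
Every fusion system on a finite group `S` is the fusion system of a group that is free-by-finite and
all of whose finite subgroups are conjugate into `S`. The group is built inside
`FreeGroup E ⋊ Perm S`, `E` the edges of the covering graph of the graph of groups with one vertex
group `S` and one loop for each map of the system; each map is conjugation by a permutation of `S`.
-/
import Cfsg.Agent.Lib.Fusion.FreeTreeFixedPoint
import Cfsg.Prelude.Def_FusionSystem
import Mathlib.GroupTheory.FreeGroup.NielsenSchreier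
import Mathlib.Algebra.Group.Action.Sigma
import Mathlib.GroupTheory.GroupAction.Quotient
import Mathlib.GroupTheory.Index

set_option autoImplicit false
set_option linter.unusedSectionVars false

namespace CfsgLib.Fusion.InfiniteRealization

open Cfsg CfsgLib.Fusion.FreeTree
open FreeGroup hiding map_mul map_one map_inv

universe u

/-- Two embeddings of a group into a finite group are intertwined by a permutation of the latter. -/
theorem exists_perm_intertwine {A P : Type*} [Group A] [Finite A] [Group P] (a b : P →* A)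
    (ha : Function.Injective a) (hb : Function.Injective b) :
    ∃ k : Equiv.Perm A, ∀ x : P, k * MulAction.toPermHom A A (a x) =
      MulAction.toPermHom A A (b x) * k := by
  have : Finite P := Finite.of_injective a ha
  have mk : ∀ (c : P →* A), Function.Injective c →
      Function.Bijective (fun t : (A ⧸ c.range) × P => c t.2 * t.1.out⁻¹) := by
    intro c hc
    refine (Nat.bijective_iff_injective_and_card _).mpr ⟨?_, ?_⟩
    · rintro ⟨q, x⟩ ⟨q', x'⟩ h
      dsimp only at h
      have h1 : q.out⁻¹ * q'.out ∈ c.range := by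
        refine ⟨x⁻¹ * x', ?_⟩
        calc c (x⁻¹ * x') = (c x)⁻¹ * ((c x' * q'.out⁻¹) * q'.out) := by simp [map_mul, mul_assoc]
          _ = q.out⁻¹ * q'.out := by rw [← h]; simp [mul_assoc]
      have h2 : q = q' := by
        rw [← q.out_eq', ← q'.out_eq']
        exact QuotientGroup.eq.mpr h1
      subst h2
      exact Prod.ext rfl (hc (mul_right_cancel h))
    · rw [Nat.card_prod, Nat.card_congr (MonoidHom.ofInjective hc).toEquiv]
      exact c.range.index_mul_card
  have hcard : Nat.card (A ⧸ a.range) = Nat.card (A ⧸ b.range) := by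
    have h1 := Nat.card_congr (Equiv.ofBijective _ (mk a ha))
    have h2 := Nat.card_congr (Equiv.ofBijective _ (mk b hb))
    rw [Nat.card_prod] at h1 h2
    exact Nat.eq_of_mul_eq_mul_right Nat.card_pos (h1.trans h2.symm)
  obtain ⟨σ⟩ := (Finite.card_eq (α := A ⧸ a.range) (β := A ⧸ b.range)).mp hcard
  refine ⟨(Equiv.ofBijective _ (mk a ha)).symm.trans
    ((σ.prodCongr (Equiv.refl P)).trans (Equiv.ofBijective _ (mk b hb))), fun x => ?_⟩
  refine Equiv.ext fun s => ?_
  obtain ⟨⟨q, y⟩, rfl⟩ := (mk a ha).2 s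
  have h1 : a x * (a y * q.out⁻¹) = a (x * y) * q.out⁻¹ := by rw [map_mul, mul_assoc]
  simp only [Equiv.Perm.mul_apply, MulAction.toPermHom_apply, MulAction.toPerm_apply,
    smul_eq_mul, h1]
  have e : ∀ t : (A ⧸ a.range) × P,
      (Equiv.ofBijective _ (mk a ha)).symm (a t.2 * t.1.out⁻¹) = t := fun t =>
    Equiv.ofBijective_symm_apply_apply _ (mk a ha) t
  simp only [Equiv.trans_apply, e ⟨q, x * y⟩, e ⟨q, y⟩]
  simp [map_mul, mul_assoc]

noncomputable section

open scoped Classical

variable {Ω : Type u} [Group Ω] {S : Subgroup Ω} [Finite S] (F : Cfsg.FusionSystem S)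

/-- The maps of the system. -/
def Idx : Type u := Σ P : Subgroup Ω, {φ : P →* Ω // φ ∈ F.Hom P}

variable {F}

/-- Source of a map, read in `S`. -/
def inS (i : Idx F) : i.1 →* S := Subgroup.inclusion (F.le_of_mem i.2.2).1

/-- A map, read in `S`. -/
def toS (i : Idx F) : i.1 →* S := i.2.1.codRestrict S (F.le_of_mem i.2.2).2

theorem toS_injective (i : Idx F) : Function.Injective (toS i) := fun _ _ h =>
  F.injective_of_mem i.2.2 (congrArg Subtype.val h)

variable (S) in
/-- The regular representation of `S`. -/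
def lam : S →* Equiv.Perm S := MulAction.toPermHom S S

theorem lam_injective : Function.Injective (lam S) := MulAction.toPerm_injective

/-- A permutation inducing the map `i`. -/
def perm (i : Idx F) : Equiv.Perm S :=
  Classical.choose
    (exists_perm_intertwine (inS i) (toS i) (Subgroup.inclusion_injective _) (toS_injective i))

theorem perm_spec (i : Idx F) (x : i.1) :
    perm i * lam S (inS i x) = lam S (toS i x) * perm i :=
  Classical.choose_spec
    (exists_perm_intertwine (inS i) (toS i) (Subgroup.inclusion_injective _) (toS_injective i)) x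

/-- The stabilizer of the base edge of type `i`. -/
def edgeGroup (i : Idx F) : Subgroup (Equiv.Perm S) := ((lam S).comp (toS i)).range

variable (F) in
/-- Edges. -/
abbrev Edge : Type u := Σ i : Idx F, Equiv.Perm S ⧸ edgeGroup i

variable (S) in
/-- Vertices. -/
abbrev Vtx : Type u := Equiv.Perm S ⧸ (lam S).range

theorem edgeGroup_le (i : Idx F) : edgeGroup i ≤ (lam S).range := by
  rintro _ ⟨x, rfl⟩
  exact ⟨toS i x, rfl⟩

/-- The tail of an edge. -/
def src (e : Edge F) : Vtx S := Subgroup.quotientMapOfLE (edgeGroup_le e.1) e.2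

/-- The head of an edge. -/
def tgt (e : Edge F) : Vtx S :=
  Quotient.liftOn' e.2 (fun c => ((c * perm e.1 : Equiv.Perm S) : Vtx S)) (by
    intro c d h
    rw [QuotientGroup.leftRel_apply] at h
    obtain ⟨x, hx⟩ := h
    refine QuotientGroup.eq.mpr ⟨inS e.1 x, ?_⟩
    have h1 : lam S (inS e.1 x) = (perm e.1)⁻¹ * (c⁻¹ * d) * perm e.1 := by
      rw [← hx, mul_assoc, MonoidHom.comp_apply, ← perm_spec, inv_mul_cancel_left]
    rw [h1]
    simp [mul_assoc])

theorem src_mk (i : Idx F) (c : Equiv.Perm S) :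
    src (⟨i, (c : Equiv.Perm S ⧸ edgeGroup i)⟩ : Edge F) = (c : Vtx S) := rfl

theorem tgt_mk (i : Idx F) (c : Equiv.Perm S) :
    tgt (⟨i, (c : Equiv.Perm S ⧸ edgeGroup i)⟩ : Edge F) = ((c * perm i : Equiv.Perm S) : Vtx S) :=
  rfl

theorem edge_cases (e : Edge F) : ∃ (i : Idx F) (c : Equiv.Perm S),
    e = ⟨i, (c : Equiv.Perm S ⧸ edgeGroup i)⟩ := by
  obtain ⟨i, q⟩ := e
  obtain ⟨c, rfl⟩ := QuotientGroup.mk_surjective q
  exact ⟨i, c, rfl⟩

theorem src_smul (k : Equiv.Perm S) (e : Edge F) : src (k • e) = k • src e := by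
  obtain ⟨i, c, rfl⟩ := edge_cases e
  rfl

theorem tgt_smul (k : Equiv.Perm S) (e : Edge F) : tgt (k • e) = k • tgt e := by
  obtain ⟨i, c, rfl⟩ := edge_cases e
  show ((k * c * perm i : Equiv.Perm S) : Vtx S) = ((k * (c * perm i) : Equiv.Perm S) : Vtx S)
  rw [mul_assoc]

/-- Start of a letter. -/
def lsrc (l : Edge F × Bool) : Vtx S := if l.2 then src l.1 else tgt l.1

/-- End of a letter. -/
def ltgt (l : Edge F × Bool) : Vtx S := if l.2 then tgt l.1 else src l.1

/-- Words which are paths. -/
def IsPath : Vtx S → List (Edge F × Bool) → Vtx S → Prop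
  | a, [], b => a = b
  | a, l :: L, b => lsrc l = a ∧ IsPath (ltgt l) L b

theorem isPath_append {L M : List (Edge F × Bool)} {a b : Vtx S} :
    IsPath a (L ++ M) b ↔ ∃ c, IsPath a L c ∧ IsPath c M b := by
  induction L generalizing a with
  | nil => simp [IsPath]
  | cons l L ih => simp [IsPath, ih, and_assoc]

theorem lsrc_not (l : Edge F × Bool) : lsrc (l.1, !l.2) = ltgt l := by
  obtain ⟨e, b⟩ := l; cases b <;> rfl

theorem ltgt_not (l : Edge F × Bool) : ltgt (l.1, !l.2) = lsrc l := by
  obtain ⟨e, b⟩ := l; cases b <;> rfl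

theorem isPath_step {L M : List (Edge F × Bool)} (h : Red.Step L M) {a b : Vtx S}
    (hp : IsPath a L b) : IsPath a M b := by
  cases h with
  | @not L₁ L₂ x c =>
    obtain ⟨m, h1, h2⟩ := isPath_append.mp hp
    obtain ⟨h3, -, h5⟩ := h2
    rw [ltgt_not (x, c), h3] at h5
    exact isPath_append.mpr ⟨m, h1, h5⟩

theorem isPath_red {L M : List (Edge F × Bool)} (h : Red L M) {a b : Vtx S}
    (hp : IsPath a L b) : IsPath a M b := by
  induction h with
  | refl => exact hp
  | tail _ hs ih => exact isPath_step hs ih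

theorem isPath_invRev {L : List (Edge F × Bool)} {a b : Vtx S} (hp : IsPath a L b) :
    IsPath b (invRev L) a := by
  induction L generalizing a with
  | nil => exact (Eq.symm hp)
  | cons l L ih =>
    rw [invRev_cons, isPath_append]
    exact ⟨ltgt l, ih hp.2, lsrc_not l, (ltgt_not l).trans hp.1⟩

theorem isPath_smul (k : Equiv.Perm S) {L : List (Edge F × Bool)} {a b : Vtx S}
    (hp : IsPath a L b) : IsPath (k • a) (L.map fun l => (k • l.1, l.2)) (k • b) := by
  induction L generalizing a with
  | nil => exact congrArg (k • ·) hp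
  | cons l L ih =>
    have e1 : lsrc (k • l.1, l.2) = k • lsrc l := by
      obtain ⟨e, c⟩ := l; cases c <;> simp [lsrc, src_smul, tgt_smul]
    have e2 : ltgt (k • l.1, l.2) = k • ltgt l := by
      obtain ⟨e, c⟩ := l; cases c <;> simp [ltgt, src_smul, tgt_smul]
    exact ⟨by rw [e1, hp.1], by rw [e2]; exact ih hp.2⟩

theorem isPath_prefix {L M : List (Edge F × Bool)} (h : L <+: M) {a b : Vtx S}
    (hp : IsPath a M b) : ∃ c, IsPath a L c := by
  obtain ⟨t, rfl⟩ := h
  obtain ⟨c, hc, -⟩ := isPath_append.mp hp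
  exact ⟨c, hc⟩

variable (F) in
/-- The ambient semidirect product. -/
abbrev Amb : Type u := FreeGroup (Edge F) ⋊[freeAct (Edge F) (Equiv.Perm S)] Equiv.Perm S

variable (F) in
/-- `S` inside the ambient group. -/
def incS : S →* Amb F := SemidirectProduct.inr.comp (lam S)

/-- The stable letters. -/
def letter (i : Idx F) : Amb F :=
  ⟨FreeGroup.of ⟨i, ((1 : Equiv.Perm S) : Equiv.Perm S ⧸ edgeGroup i)⟩, perm i⟩

variable (F) in
/-- The realizing group. -/
def realGroup : Subgroup (Amb F) :=
  Subgroup.closure (Set.range (incS F) ∪ Set.range (letter (F := F)))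

theorem incS_mem (s : S) : incS F s ∈ realGroup F :=
  Subgroup.subset_closure (Or.inl ⟨s, rfl⟩)

theorem letter_mem (i : Idx F) : letter i ∈ realGroup F :=
  Subgroup.subset_closure (Or.inr ⟨i, rfl⟩)

theorem isPath_left {g : Amb F} (hg : g ∈ realGroup F) :
    IsPath ((1 : Equiv.Perm S) : Vtx S) g.left.toWord (g.right : Vtx S) := by
  induction hg using Subgroup.closure_induction with
  | mem x hx =>
    rcases hx with ⟨s, rfl⟩ | ⟨i, rfl⟩
    · simp only [incS, MonoidHom.comp_apply, SemidirectProduct.left_inr, toWord_one,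
        SemidirectProduct.right_inr, IsPath]
      exact QuotientGroup.eq.mpr ⟨s, by simp⟩
    · simp only [letter, toWord_of, IsPath]
      refine ⟨rfl, ?_⟩
      show ((1 * perm i : Equiv.Perm S) : Vtx S) = _
      rw [one_mul]
  | one => simp [IsPath]
  | mul x y _ _ hx hy =>
    rw [SemidirectProduct.mul_left, SemidirectProduct.mul_right, toWord_mul]
    refine isPath_red reduce.red (isPath_append.mpr ⟨_, hx, ?_⟩)
    rw [toWord_freeAct]
    have h := isPath_smul x.right hy
    rw [MulAction.Quotient.smul_coe, MulAction.Quotient.smul_coe, smul_eq_mul, smul_eq_mul,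
      mul_one] at h
    exact h
  | inv x _ hx =>
    rw [SemidirectProduct.inv_left, SemidirectProduct.inv_right, toWord_freeAct, toWord_inv]
    have h := isPath_smul x.right⁻¹ (isPath_invRev hx)
    rw [MulAction.Quotient.smul_coe, MulAction.Quotient.smul_coe, smul_eq_mul, smul_eq_mul,
      inv_mul_cancel, mul_one] at h
    exact h

theorem letter_conj (i : Idx F) (x : i.1) :
    letter i * incS F (inS i x) * (letter i)⁻¹ = incS F (toS i x) := by
  rw [mul_inv_eq_iff_eq_mul]
  have hfix : (lam S (toS i x)) •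
      (⟨i, ((1 : Equiv.Perm S) : Equiv.Perm S ⧸ edgeGroup i)⟩ : Edge F) =
        ⟨i, ((1 : Equiv.Perm S) : Equiv.Perm S ⧸ edgeGroup i)⟩ := by
    rw [Sigma.smul_mk, MulAction.Quotient.smul_coe, smul_eq_mul, mul_one]
    congr 1
    refine QuotientGroup.eq.mpr ?_
    rw [mul_one]
    exact (edgeGroup i).inv_mem ⟨x, rfl⟩
  apply SemidirectProduct.ext
  · simp only [SemidirectProduct.mul_left, incS, MonoidHom.comp_apply, SemidirectProduct.left_inr,
      SemidirectProduct.right_inr, one_mul, map_one, mul_one, letter]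
    show _ = FreeGroup.freeGroupCongr (MulAction.toPerm (lam S (toS i x))) (FreeGroup.of _)
    simp [FreeGroup.freeGroupCongr, hfix]
  · simp only [SemidirectProduct.mul_right, incS, MonoidHom.comp_apply,
      SemidirectProduct.right_inr, letter]
    exact perm_spec i x

/-- Composites along a path fixed by `R` are maps of the system. -/
def Good (R : Subgroup Ω) (hR : R ≤ S) (c : Equiv.Perm S) : Prop :=
  ∃ (α : R →* Ω) (hα : α ∈ F.Hom R), ∀ y : R,
    c⁻¹ * lam S ⟨y, hR y.2⟩ * c = lam S ⟨α y, (F.le_of_mem hα).2 y⟩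

theorem good_mul {R : Subgroup Ω} {hR : R ≤ S} {c : Equiv.Perm S} (h : Good (F := F) R hR c)
    {Q : Subgroup Ω} {ψ : Q →* Ω} (hψ : ψ ∈ F.Hom Q) (k : Equiv.Perm S)
    (hmem : ∀ y : R, ∃ z : Q, c⁻¹ * lam S ⟨y, hR y.2⟩ * c = lam S ⟨z, (F.le_of_mem hψ).1 z.2⟩)
    (hk : ∀ z : Q, k⁻¹ * lam S ⟨z, (F.le_of_mem hψ).1 z.2⟩ * k =
      lam S ⟨ψ z, (F.le_of_mem hψ).2 z⟩) : Good (F := F) R hR (c * k) := by
  obtain ⟨α, hα, hαe⟩ := h
  have hin : ∀ y : R, α y ∈ Q := by
    intro y
    obtain ⟨z, hz⟩ := hmem y
    have h1 := lam_injective ((hαe y).symm.trans hz)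
    rw [Subtype.ext_iff] at h1
    rw [show α y = (z : Ω) from h1]
    exact z.2
  refine ⟨ψ.comp (α.codRestrict Q hin), F.comp_mem hα hψ hin, fun y => ?_⟩
  calc (c * k)⁻¹ * lam S ⟨y, hR y.2⟩ * (c * k) = k⁻¹ * (c⁻¹ * lam S ⟨y, hR y.2⟩ * c) * k := by
        rw [mul_inv_rev]; simp only [mul_assoc]
    _ = k⁻¹ * lam S ⟨α y, (F.le_of_mem hψ).1 (hin y)⟩ * k := by rw [hαe y]
    _ = lam S ⟨ψ ⟨α y, hin y⟩, (F.le_of_mem hψ).2 _⟩ := hk ⟨α y, hin y⟩
    _ = _ := rfl

/-- The vertex criterion does not depend on the representative. -/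
theorem good_congr {R : Subgroup Ω} {hR : R ≤ S} {c d : Equiv.Perm S}
    (h : Good (F := F) R hR c) (he : (c : Vtx S) = (d : Vtx S)) : Good (F := F) R hR d := by
  obtain ⟨s, hs⟩ := QuotientGroup.eq.mp he
  have hd : d = c * lam S s := by rw [hs, mul_inv_cancel_left]
  subst hd
  obtain ⟨α, hα, hαe⟩ := h
  have hψ : conjHom S (s : Ω)⁻¹ ∈ F.Hom S := F.conj_mem le_rfl (S.inv_mem s.2)
  refine good_mul ⟨α, hα, hαe⟩ hψ _ (fun y => ⟨⟨α y, (F.le_of_mem hα).2 y⟩, hαe y⟩) (fun z => ?_)
  rw [← map_inv, ← map_mul, ← map_mul]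
  congr 1
  apply Subtype.ext
  show (s : Ω)⁻¹ * (z : Ω) * (s : Ω) = (s : Ω)⁻¹ * (z : Ω) * ((s : Ω)⁻¹)⁻¹
  rw [inv_inv]

theorem good_path {R : Subgroup Ω} {hR : R ≤ S} :
    ∀ (L : List (Edge F × Bool)) (c d : Equiv.Perm S),
      (∀ y : R, L.map (fun l => (lam S ⟨y, hR y.2⟩ • l.1, l.2)) = L) →
      IsPath (c : Vtx S) L (d : Vtx S) → Good (F := F) R hR c → Good (F := F) R hR d := by
  intro L
  induction L with
  | nil => intro c d _ hp hg; exact good_congr hg hp
  | cons l L ih =>
    intro c d hfix hp hg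
    obtain ⟨e, b⟩ := l
    obtain ⟨i, q, rfl⟩ := edge_cases e
    have hfix1 : ∀ y : R, q⁻¹ * lam S ⟨y, hR y.2⟩ * q ∈ edgeGroup i := by
      intro y
      have h := hfix y
      rw [List.map_cons, List.cons.injEq] at h
      have h' := congrArg Prod.fst h.1
      simp only [Sigma.smul_mk, Sigma.mk.injEq, heq_eq_eq, true_and,
        MulAction.Quotient.smul_coe, smul_eq_mul] at h'
      have h'' := QuotientGroup.eq.mp h'.symm
      rwa [← mul_assoc] at h''
    have hfix2 : ∀ y : R, L.map (fun l => (lam S ⟨y, hR y.2⟩ • l.1, l.2)) = L := fun y => by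
      have h := hfix y
      rw [List.map_cons, List.cons.injEq] at h
      exact h.2
    obtain ⟨hp1, hp2⟩ := hp
    cases b with
    | true =>
      have hq : Good (F := F) R hR q := good_congr hg hp1.symm
      obtain ⟨ψ, hψ, hψe⟩ := F.inv_mem i.2.2
      refine ih (q * perm i) d hfix2 hp2 (good_mul hq hψ _ (fun y => ?_) (fun z => ?_))
      · obtain ⟨x, hx⟩ := hfix1 y
        exact ⟨⟨i.2.1 x, x, rfl⟩, hx.symm⟩
      · obtain ⟨_, x, rfl⟩ := z
        have h1 := perm_spec i x
        have h2 : lam S ⟨i.2.1 x, (F.le_of_mem hψ).1 ⟨x, rfl⟩⟩ = lam S (toS i x) := rfl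
        rw [h2, mul_assoc, ← h1, inv_mul_cancel_left]
        exact congrArg (lam S) (Subtype.ext (hψe x).symm)
    | false =>
      have hq : Good (F := F) R hR (q * perm i) := good_congr hg hp1.symm
      have h := good_mul hq i.2.2 (perm i)⁻¹ (fun y => ?_) (fun z => ?_)
      · rw [mul_inv_cancel_right] at h
        exact ih q d hfix2 hp2 h
      · obtain ⟨x, hx⟩ := hfix1 y
        refine ⟨x, ?_⟩
        rw [mul_inv_rev]
        calc (perm i)⁻¹ * q⁻¹ * lam S ⟨y, hR y.2⟩ * (q * perm i)
            = (perm i)⁻¹ * (q⁻¹ * lam S ⟨y, hR y.2⟩ * q) * perm i := by simp only [mul_assoc]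
          _ = (perm i)⁻¹ * (lam S (toS i x)) * perm i := by rw [← hx]; rfl
          _ = lam S (inS i x) := by rw [mul_assoc, ← perm_spec, inv_mul_cancel_left]
          _ = _ := rfl
      · rw [inv_inv]
        calc perm i * lam S ⟨z, (F.le_of_mem i.2.2).1 z.2⟩ * (perm i)⁻¹
            = perm i * lam S (inS i z) * (perm i)⁻¹ := rfl
          _ = lam S (toS i z) := by rw [perm_spec, mul_inv_cancel_right]
          _ = _ := rfl

variable (F) in
/-- `S` inside the realizing group. -/
def emb : S →* realGroup F := (incS F).codRestrict _ incS_mem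

theorem emb_injective : Function.Injective (emb F) := fun s t h =>
  lam_injective (SemidirectProduct.inr_injective (congrArg Subtype.val h))

/-- **The realization**: the conjugations of the group between subgroups of `S` are the maps of `F`. -/
theorem isRealizedBy : F.IsRealizedBy (emb F) := by
  refine ⟨emb_injective, fun P hP φ hφ => ⟨fun h => ?_, fun hg => ?_⟩⟩
  · refine ⟨⟨letter ⟨P, φ, h⟩, letter_mem _⟩, fun x => Subtype.ext ?_⟩
    exact (letter_conj (⟨P, φ, h⟩ : Idx F) x).symm
  obtain ⟨⟨g, hg⟩, hconj⟩ := hg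
  have hx : ∀ x : P, incS F ⟨φ x, hφ x⟩ * g = g * incS F ⟨x, hP x.2⟩ := by
    intro x
    have h := congrArg Subtype.val (hconj x)
    simp only [Subgroup.coe_mul, Subgroup.coe_inv] at h
    exact eq_mul_inv_iff_mul_eq.mp h
  have hright : ∀ x : P, g.right⁻¹ * lam S ⟨φ x, hφ x⟩ * g.right = lam S ⟨x, hP x.2⟩ := by
    intro x
    have h := congrArg SemidirectProduct.right (hx x)
    simp only [SemidirectProduct.mul_right, incS, MonoidHom.comp_apply,
      SemidirectProduct.right_inr] at h
    rw [mul_assoc, h, inv_mul_cancel_left]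
  have hleft : ∀ x : P, g.left.toWord.map (fun l => (lam S ⟨φ x, hφ x⟩ • l.1, l.2)) =
      g.left.toWord := by
    intro x
    have h := congrArg SemidirectProduct.left (hx x)
    simp only [SemidirectProduct.mul_left, incS, MonoidHom.comp_apply, SemidirectProduct.left_inr,
      SemidirectProduct.right_inr, one_mul, map_one, mul_one] at h
    rw [← toWord_freeAct, h]
  have hR : φ.range ≤ S := by rintro _ ⟨x, rfl⟩; exact hφ x
  have hgood1 : Good (F := F) φ.range hR 1 := by
    refine ⟨conjHom φ.range 1, F.conj_mem hR S.one_mem, fun y => ?_⟩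
    rw [inv_one, one_mul, mul_one]
    exact congrArg (lam S) (Subtype.ext (by simp [conjHom]))
  obtain ⟨α, hα, hαe⟩ := good_path (R := φ.range) (hR := hR) g.left.toWord 1 g.right
    (by rintro ⟨_, x, rfl⟩; exact hleft x) (isPath_left hg) hgood1
  have hαφ : ∀ x : P, α ⟨φ x, x, rfl⟩ = (x : Ω) := fun x =>
    congrArg Subtype.val (lam_injective ((hαe ⟨φ x, x, rfl⟩).symm.trans (hright x)))
  obtain ⟨ψ, hψ, hψe⟩ := F.inv_mem hα
  have hrange : α.range = P := by
    ext z
    constructor
    · rintro ⟨⟨_, x, rfl⟩, rfl⟩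
      rw [hαφ x]
      exact x.2
    · intro hz
      exact ⟨⟨φ ⟨z, hz⟩, _, rfl⟩, hαφ ⟨z, hz⟩⟩
  have hP' : ∀ x : P, (x : Ω) ∈ α.range := fun x => hrange.symm ▸ x.2
  have hid : conjHom P 1 ∈ F.Hom P := F.conj_mem hP S.one_mem
  have hcod : ∀ x : P, conjHom P 1 x ∈ α.range := fun x => by simpa [conjHom] using hP' x
  have hφeq : φ = ψ.comp ((conjHom P 1).codRestrict α.range hcod) := by
    ext x
    have h1 : ((conjHom P 1).codRestrict α.range hcod) x = ⟨α ⟨φ x, x, rfl⟩, _, rfl⟩ :=
      Subtype.ext (by simp [conjHom, hαφ])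
    rw [MonoidHom.comp_apply, h1, hψe]
  rw [hφeq]
  exact F.comp_mem hid hψ hcod

/-- Every vertex of a path word is reached by an element of the group. -/
theorem exists_reaching : ∀ (L : List (Edge F × Bool)) (v : Vtx S),
    IsPath ((1 : Equiv.Perm S) : Vtx S) L v →
      ∃ g ∈ realGroup F, g.left = mk L ∧ (g.right : Vtx S) = v := by
  intro L
  induction L using List.reverseRecOn with
  | nil => intro v hv; exact ⟨1, one_mem _, by simp [← one_eq_mk], hv⟩
  | append_singleton L l ih =>
    intro v hv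
    obtain ⟨m, hm, hl, hlv⟩ := isPath_append.mp hv
    obtain ⟨g, hg, hgl, hgr⟩ := ih m hm
    obtain ⟨e, b⟩ := l
    obtain ⟨i, d, rfl⟩ := edge_cases e
    cases b with
    | true =>
      obtain ⟨s, hs⟩ := QuotientGroup.eq.mp (hgr.trans hl.symm)
      refine ⟨g * incS F s * letter i, mul_mem (mul_mem hg (incS_mem s)) (letter_mem i), ?_, ?_⟩
      · have hd : g.right * lam S s = d := by simp [hs]
        simp only [SemidirectProduct.mul_left, SemidirectProduct.mul_right, incS,
          MonoidHom.comp_apply, SemidirectProduct.left_inr, SemidirectProduct.right_inr, map_one,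
          mul_one, letter, hd, hgl]
        rw [mk_append, FreeGroup.of, freeAct_mk]
        simp [Sigma.smul_mk, MulAction.Quotient.smul_coe]
      · have hd : g.right * lam S s = d := by simp [hs]
        simp only [SemidirectProduct.mul_right, incS, MonoidHom.comp_apply,
          SemidirectProduct.right_inr, letter, hd]
        exact hlv
    | false =>
      obtain ⟨s, hs⟩ := QuotientGroup.eq.mp (hgr.trans hl.symm)
      refine ⟨g * incS F s * (letter i)⁻¹, mul_mem (mul_mem hg (incS_mem s))
        (inv_mem (letter_mem i)), ?_, ?_⟩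
      · have hd : g.right * lam S s * (perm i)⁻¹ = d := by
          simp [hs]
        simp only [SemidirectProduct.mul_left, SemidirectProduct.mul_right, SemidirectProduct.inv_left,
          incS, MonoidHom.comp_apply, SemidirectProduct.left_inr, SemidirectProduct.right_inr,
          map_one, mul_one, letter, hgl]
        rw [← MulAut.mul_apply, ← map_mul, hd, mk_append, FreeGroup.of, inv_mk, freeAct_mk]
        simp [Sigma.smul_mk, MulAction.Quotient.smul_coe, invRev]
      · have hd : g.right * lam S s * (perm i)⁻¹ = d := by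
          simp [hs]
        simp only [SemidirectProduct.mul_right, SemidirectProduct.inv_right, incS,
          MonoidHom.comp_apply, SemidirectProduct.right_inr, letter, hd]
        exact hlv

/-- Finite subgroups are conjugate into `S`. -/
theorem finite_conj (H : Subgroup (realGroup F)) (hH : Finite H) :
    ∃ g : realGroup F, ∀ h ∈ H, g * h * g⁻¹ ∈ (emb F).range := by
  have : Finite (H.map (realGroup F).subtype) :=
    Finite.of_equiv H (H.equivMapOfInjective _ (realGroup F).subtype_injective).toEquiv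
  obtain ⟨u, ⟨h0, hh0, hpre⟩, hfix⟩ := exists_fixed (H.map (realGroup F).subtype)
  obtain ⟨h0', hh0', rfl⟩ := hh0
  obtain ⟨v, hv⟩ := isPath_prefix hpre (isPath_left h0'.2)
  obtain ⟨g, hg, hgl, -⟩ := exists_reaching _ v hv
  rw [mk_toWord] at hgl
  refine ⟨(⟨g, hg⟩ : realGroup F)⁻¹, fun h hh => ?_⟩
  set k : realGroup F := (⟨g, hg⟩ : realGroup F)⁻¹ * h * (⟨g, hg⟩ : realGroup F)⁻¹⁻¹ with hk
  have hk1 : (k : Amb F) = g⁻¹ * h * g := by simp [hk]
  have hkl : (k : Amb F).left = 1 := by
    rw [← pt_apply_one, hk1, pt_mul, pt_mul, pt_apply_one g, hgl,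
      hfix (h : Amb F) ⟨h, hh, rfl⟩, ← hgl, ← pt_apply_one g, ← pt_mul, inv_mul_cancel, pt_one]
  have hp := isPath_left k.2
  rw [hkl, toWord_one] at hp
  obtain ⟨s, hs⟩ := QuotientGroup.eq.mp (show ((1 : Equiv.Perm S) : Vtx S) = _ from hp)
  refine ⟨s, Subtype.ext ?_⟩
  apply SemidirectProduct.ext
  · show (incS F s).left = _
    rw [hkl]
    simp [incS]
  · show (incS F s).right = _
    simp [incS, hs]

variable (F) in
/-- The projection to `Perm S`. -/
def proj : realGroup F →* Equiv.Perm S := SemidirectProduct.rightHom.comp (realGroup F).subtype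

/-- The kernel is free. -/
theorem isFreeGroup_ker : IsFreeGroup (proj F).ker := by
  let N : Subgroup (FreeGroup (Edge F)) := (realGroup F).comap SemidirectProduct.inl
  have e : N ≃* (proj F).ker :=
    { toFun := fun n => ⟨⟨SemidirectProduct.inl n.1, n.2⟩, by simp [proj, MonoidHom.mem_ker]⟩
      invFun := fun k => ⟨(k.1 : Amb F).left, by
        have hr : (k.1 : Amb F).right = 1 := k.2
        have he : (SemidirectProduct.inl (k.1 : Amb F).left : Amb F) = k.1 :=
          SemidirectProduct.ext (by simp) (by simp [hr])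
        show SemidirectProduct.inl (k.1 : Amb F).left ∈ realGroup F
        rw [he]
        exact k.1.2⟩
      left_inv := fun n => Subtype.ext (by simp)
      right_inv := fun k => by
        have hr : (k.1 : Amb F).right = 1 := k.2
        exact Subtype.ext (Subtype.ext (SemidirectProduct.ext (by simp) (by simp [hr])))
      map_mul' := fun a b => Subtype.ext (Subtype.ext (by simp)) }
  exact IsFreeGroup.ofMulEquiv e

theorem index_ker_dvd : (proj F).ker.index ∣ (Nat.card S).factorial := by
  rw [Subgroup.index_ker, ← Nat.card_perm]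
  exact (proj F).range.card_subgroup_dvd_card

/-- **Realization of an arbitrary fusion system by a free-by-finite group.** -/
theorem exists_realization : ∃ (G : Type u) (_ : Group G) (ι : ↥S →* G), F.IsRealizedBy ι ∧
    (∀ H : Subgroup G, Finite ↥H → ∃ g : G, ∀ h ∈ H, g * h * g⁻¹ ∈ ι.range) ∧
      ∃ N : Subgroup G, N.Normal ∧ IsFreeGroup ↥N ∧ N.index ∣ (Nat.card ↥S).factorial :=
  ⟨realGroup F, inferInstance, emb F, isRealizedBy, finite_conj, (proj F).ker, inferInstance,
    isFreeGroup_ker, index_ker_dvd⟩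

end

end CfsgLib.Fusion.InfiniteRealization
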