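import Cfsg.Agent.Lib.Fusion.LocalSaturation

/-!
Maps on normalizers onto a fully normalized member of a class, for a system generated by maps on a
family of subgroups.
-/

set_option autoImplicit false
set_option linter.unusedVariables false
set_option linter.unusedSectionVars false
set_option linter.style.haveILetI false

namespace CfsgLib.Fusion

open Cfsg Cfsg.FusionSystem Subgroup

variable {Ω : Type*} [Group Ω] {S : Subgroup Ω} {F : FusionSystem S} {p : ℕ}
  {P : Subgroup Ω} {f g : Ω → Ω}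

/-- The hypotheses at a class outside the generating family. -/
structure ClassSetup (F : FusionSystem S) (p : ℕ) (ℋ : Set (Subgroup Ω)) (P : Subgroup Ω) :
    Prop where
  isPGroup : IsPGroup p S
  gen : ∀ E : FusionSystem S, (∀ R ∈ ℋ, F.Hom R ⊆ E.Hom R) → F ≤ E
  lt : P < S
  notMem : ∀ x, F.IsConj P x → x ∉ ℋ
  big : ∀ R ≤ S, Nat.card P < Nat.card R → LocSat F p R

variable {ℋ : Set (Subgroup Ω)}

theorem img_id (x : Subgroup Ω) : img x (id : Ω → Ω) = x := by
  rw [img, Set.image_id, Subgroup.closure_eq]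

section

variable [Fact p.Prime] [Finite S] (h : ClassSetup F p ℋ P)

include h

theorem ClassSetup.class_lt {x : Subgroup Ω} (hx : F.IsConj P x) : x < S := by
  refine lt_of_le_of_ne (isConj_le_right hx) fun e => ?_
  have := isConj_card hx
  rw [e] at this
  exact h.lt.ne (eq_of_le_of_card_le h.lt.le this.le)

theorem ClassSetup.card_lt_normalizerIn {x : Subgroup Ω} (hx : F.IsConj P x) :
    Nat.card P < Nat.card (normalizerIn S x) := by
  haveI := finite_normalizerIn (S := S) (P := x)
  rw [← isConj_card hx]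
  by_contra hge
  exact (lt_normalizerIn h.isPGroup (h.class_lt hx)).ne
    (eq_of_le_of_card_le (le_normalizerIn (isConj_le_right hx)) (not_lt.1 hge))

/-- A property of maps on the members of the class holds for all of them if it holds for the
restrictions from larger subgroups and passes to composites and inverses. -/
theorem ClassSetup.forall_maps (C : Subgroup Ω → (Ω → Ω) → Prop)
    (hstep : ∀ U R g, F.IsConj P U → IsMap F R g → U < R → R ≤ normalizerIn S U → C U g)
    (hcongr : ∀ U (f g : Ω → Ω), F.IsConj P U → (∀ a ∈ U, f a = g a) → C U f → C U g)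
    (hcomp : ∀ U f g, F.IsConj P U → IsMap F U f → IsMap F (img U f) g → C U f →
      C (img U f) g → C U fun a => g (f a))
    (hinv : ∀ U f f', F.IsConj P U → IsMap F U f → IsMap F (img U f) f' →
      (∀ a ∈ U, f' (f a) = a) → C U f → C (img U f) f') :
    ∀ U, F.IsConj P U → ∀ f, IsMap F U f → C U f := by
  let E : FusionSystem S :=
    { Hom := fun P' => {φ | φ ∈ F.Hom P' ∧ ∀ U ≤ P', F.IsConj P U → C U (toFun φ)}
      le_of_mem := fun hφ => F.le_of_mem hφ.1
      injective_of_mem := fun hφ => F.injective_of_mem hφ.1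
      conj_mem := fun {P' a} hP' ha => ⟨F.conj_mem hP' ha, fun U hU hUc =>
        hcongr U (fun b => a * b * a⁻¹) _ hUc
          (fun b hb => (toFun_apply (conjHom P' a) ⟨b, hU hb⟩).symm)
          (hstep U _ _ hUc (isMap_conj F inf_le_left ha)
            (lt_normalizerIn h.isPGroup (h.class_lt hUc)) le_rfl)⟩
      comp_mem := fun {P' Q' φ ψ} hφ hψ hmem => ⟨F.comp_mem hφ.1 hψ.1 hmem, fun U hU hUc => by
        have hf := (isMap_of_hom hφ.1).mono hU
        have hle : img U (toFun φ) ≤ Q' := fun b hb => by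
          obtain ⟨a, ha, rfl⟩ := hf.mem_img.1 hb
          rw [toFun_of_mem φ (hU ha)]
          exact hmem _
        refine hcongr U (fun a => toFun ψ (toFun φ a)) _ hUc (fun a ha => ?_) (hcomp U _ _ hUc hf
          ((isMap_of_hom hψ.1).mono hle) (hφ.2 U hU hUc)
          (hψ.2 _ hle (isConj_trans hUc hf.isConj)))
        rw [toFun_of_mem φ (hU ha), toFun_of_mem ψ (hmem _), toFun_of_mem _ (hU ha)]
        rfl⟩
      inv_mem := fun {P' φ} hφ => by
        obtain ⟨ψ, hψ, hψx⟩ := F.inv_mem hφ.1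
        refine ⟨ψ, ⟨hψ, fun U hU hUc => ?_⟩, hψx⟩
        have hm := isMap_of_hom hφ.1
        have hmψ := isMap_of_hom hψ
        have hb : ∀ a ∈ P', toFun ψ (toFun φ a) = a := fun a ha => by
          rw [toFun_of_mem φ ha, toFun_of_mem ψ ⟨⟨a, ha⟩, rfl⟩, hψx]
        set U₀ := img U (toFun ψ) with hU₀
        have hU₀P : U₀ ≤ P' := fun a ha => by
          obtain ⟨b, hb', rfl⟩ := (hmψ.mono hU).mem_img.1 ha
          obtain ⟨x, rfl⟩ := hU hb'
          rw [toFun_of_mem ψ ⟨x, rfl⟩, hψx]
          exact x.2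
        have hback : ∀ b ∈ U, toFun φ (toFun ψ b) = b := fun b hb' => by
          obtain ⟨x, rfl⟩ := hU hb'
          rw [toFun_of_mem ψ ⟨x, rfl⟩, hψx, toFun_apply]
        have himg : img U₀ (toFun φ) = U := by
          rw [hU₀, ← img_comp_eq (hmψ.mono hU) hm fun b hb' => hU₀P ((hmψ.mono hU).apply_mem_img hb'),
            img_congr (g := id) hback, img_id]
        have hUc₀ : F.IsConj P U₀ := isConj_trans hUc (hmψ.mono hU).isConj
        have h1 := hinv U₀ (toFun φ) (toFun ψ) hUc₀ (hm.mono hU₀P) (by rw [himg]; exact hmψ.mono hU)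
          (fun a ha => hb a (hU₀P ha)) (hφ.2 U₀ hU₀P hUc₀)
        rwa [himg] at h1 }
  have hH : ∀ R ∈ ℋ, F.Hom R ⊆ E.Hom R := by
    intro R hR φ hφ
    refine ⟨hφ, fun U hU hUc => ?_⟩
    have hRS := (F.le_of_mem hφ).1
    haveI := finite_of_le hRS
    have hUR : U < R := lt_of_le_of_ne hU fun e => h.notMem U hUc (e ▸ hR)
    exact hstep U (normalizerIn R U) _ hUc ((isMap_of_hom hφ).mono inf_le_left)
      (lt_normalizerIn (h.isPGroup.to_le hRS) hUR) (inf_le_inf_right _ hRS)
  intro U hU f hf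
  exact hcongr U _ f hU (fun a ha => toFun_of_mem _ ha) ((h.gen E hH U hf.toHom_mem).2 U le_rfl hU)

/-- The class is connected by steps through larger subgroups. -/
theorem ClassSetup.conn_base {x y : Subgroup Ω} (hx : F.IsConj P x) (hy : F.IsConj P y) :
    WConn F (Nat.card P + 1) x y := by
  obtain ⟨f, hf, rfl⟩ := isConj_iff.1 (isConj_trans (isConj_symm hx) hy)
  refine h.forall_maps (fun U f => WConn F (Nat.card P + 1) U (img U f)) ?_ ?_ ?_ ?_ x hx f hf
  · intro U R g hU hg hlt hR
    haveI := finite_of_le hg.le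
    refine Relation.EqvGen.rel _ _ ⟨R, g, hg, hlt.le, hR, ?_, rfl⟩
    rw [← isConj_card hU]
    by_contra hge
    exact hlt.ne (eq_of_le_of_card_le hlt.le (by omega))
  · intro U f g _ hfg hC
    rwa [← img_congr hfg]
  · intro U f g _ hf hg h1 h2
    rw [img_comp_eq hf hg fun a ha => hf.apply_mem_img ha]
    exact .trans _ _ _ h1 h2
  · intro U f f' _ hf hf' hid h1
    rw [← img_comp_eq hf hf' fun a ha => hf.apply_mem_img ha, img_congr (g := id) hid, img_id]
    exact .symm _ _ h1

/-- The representatives with large normalizer next to a member of the class. -/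
def nextUp (F : FusionSystem S) (k : ℕ) (x : Subgroup Ω) : Set (Subgroup Ω) :=
  {y | k < Nat.card (normalizerIn S y) ∧
    (y = x ∨ (Nat.card (normalizerIn S x) = k ∧ WStep F k x y))}

theorem ClassSetup.nextUp_conn {k : ℕ} (hk : Nat.card P < k) {x x' : Subgroup Ω}
    (hxx : WConn F k x x') :
    ((nextUp F k x).Nonempty ↔ (nextUp F k x').Nonempty) ∧
      ∀ y ∈ nextUp F k x, ∀ y' ∈ nextUp F k x', WConn F (k + 1) y y' := by
  induction hxx with
  | rel a b hab =>
    have hval : ∀ (a b y : Subgroup Ω), WStep F k a b → y ∈ nextUp F k a → WStep F k y b := by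
      intro a b y hab hy
      rcases hy.2 with rfl | ⟨ha, hay⟩
      · exact hab
      · exact WStep.through ha hay hab
    have hne : ∀ (a b : Subgroup Ω), WStep F k a b → (nextUp F k a).Nonempty →
        (nextUp F k b).Nonempty := by
      rintro a b hab ⟨y, hy⟩
      have h1 := hval a b y hab hy
      rcases lt_or_eq_of_le h1.symm.card_le with hb | hb
      · exact ⟨b, hb, Or.inl rfl⟩
      · exact ⟨y, hy.1, Or.inr ⟨hb.symm, h1.symm⟩⟩
    refine ⟨⟨hne a b hab, hne b a hab.symm⟩, fun y hy y' hy' => ?_⟩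
    exact (hval b y y' (hval a b y hab hy).symm hy').symm.widen h.isPGroup h.big hk hy.1 hy'.1
  | refl a =>
    refine ⟨Iff.rfl, fun y hy y' hy' => ?_⟩
    rcases hy.2 with rfl | ⟨ha, hay⟩
    · rcases hy'.2 with rfl | ⟨ha', -⟩
      · exact .refl _
      · exact absurd ha' hy.1.ne'
    · rcases hy'.2 with rfl | ⟨-, hay'⟩
      · exact absurd ha hy'.1.ne'
      · exact (WStep.through ha hay hay').widen h.isPGroup h.big hk hy.1 hy'.1
  | symm a b _ ih => exact ⟨ih.1.symm, fun y hy y' hy' => .symm _ _ (ih.2 y' hy' y hy)⟩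
  | trans a b c _ _ ih₁ ih₂ =>
    refine ⟨ih₁.1.trans ih₂.1, fun y hy y' hy' => ?_⟩
    obtain ⟨m, hm⟩ := ih₁.1.1 ⟨y, hy⟩
    exact .trans _ _ _ (ih₁.2 y hy m hm) (ih₂.2 m hm y' hy')

/-- Members with large normalizers are connected by wide steps. -/
theorem ClassSetup.conn_level (k : ℕ) : ∀ x y : Subgroup Ω, F.IsConj P x → F.IsConj P y →
    Nat.card P + 1 + k ≤ Nat.card (normalizerIn S x) →
    Nat.card P + 1 + k ≤ Nat.card (normalizerIn S y) → WConn F (Nat.card P + 1 + k) x y := by
  induction k with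
  | zero => exact fun x y hx hy _ _ => h.conn_base hx hy
  | succ k ih =>
    intro x y hx hy hxk hyk
    exact (h.nextUp_conn (by omega) (ih x y hx hy (by omega) (by omega))).2 x
      ⟨by omega, Or.inl rfl⟩ y ⟨by omega, Or.inl rfl⟩

/-- Every member of the class maps with its normalizer onto a given fully normalized member. -/
theorem ClassSetup.exists_map_to {Q : Subgroup Ω} (hQ : F.IsConj P Q)
    (hQn : F.IsFullyNormalized Q) {x : Subgroup Ω} (hx : F.IsConj P x) :
    ∃ ψ, IsMap F (normalizerIn S x) ψ ∧ img x ψ = Q ∧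
      ∀ a ∈ normalizerIn S x, ψ a ∈ normalizerIn S Q := by
  set M := Nat.card (normalizerIn S Q) with hM
  have hmax : ∀ y, F.IsConj P y → Nat.card (normalizerIn S y) ≤ M := fun y hy =>
    hQn.2 y (isConj_trans (isConj_symm hQ) hy)
  -- climb to a member with a normalizer of maximal order
  have hclimb : ∀ (d : ℕ) (y : Subgroup Ω), F.IsConj P y →
      M ≤ Nat.card (normalizerIn S y) + d → ∃ z ψ, IsMap F (normalizerIn S y) ψ ∧ img y ψ = z ∧
        F.IsConj P z ∧ M ≤ Nat.card (normalizerIn S z) ∧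
        ∀ a ∈ normalizerIn S y, ψ a ∈ normalizerIn S z := by
    intro d
    induction d with
    | zero => exact fun y hy hd => ⟨y, id, isMap_id F inf_le_left, img_id y, hy, by omega, fun a ha => ha⟩
    | succ d ih =>
      intro y hy hd
      rcases Nat.lt_or_ge (Nat.card (normalizerIn S y)) M with hlt | hge
      swap
      · exact ⟨y, id, isMap_id F inf_le_left, img_id y, hy, hge, fun a ha => ha⟩
      have hyn := h.card_lt_normalizerIn hy
      set k := Nat.card (normalizerIn S y) with hk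
      have hconn : WConn F k y Q := by
        have := h.conn_level (k - Nat.card P - 1) y Q hy hQ (by omega) (by omega)
        rwa [show Nat.card P + 1 + (k - Nat.card P - 1) = k by omega] at this
      obtain ⟨z, hzk, hz⟩ := (h.nextUp_conn hyn hconn).1.2 ⟨Q, hlt, Or.inl rfl⟩
      rcases hz with rfl | ⟨-, R, g, hg, hyR, hR, hkR, rfl⟩
      · omega
      haveI := finite_normalizerIn (S := S) (P := y)
      obtain rfl : R = normalizerIn S y := eq_of_le_of_card_le hR (by omega)
      obtain ⟨z', ψ, hψ, hψi, hz', hz'M, hψN⟩ :=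
        ih _ (isConj_trans hy (hg.mono hyR).isConj) (by omega)
      have hgN : ∀ a ∈ normalizerIn S y, g a ∈ normalizerIn S (img y g) := fun a ha =>
        hg.apply_mem_normalizerIn hyR ha ha.2
      refine ⟨z', fun a => ψ (g a), hg.comp hψ hgN, ?_, hz', hz'M, fun a ha => hψN _ (hgN a ha)⟩
      rw [img_comp_eq (hg.mono hyR) hψ fun a ha => hgN a (hyR ha), hψi]
  obtain ⟨z, ψ, hψ, hψi, hz, hzM, hψN⟩ := hclimb M x hx (by omega)
  have hzQ : WConn F M z Q := by
    have hQk := h.card_lt_normalizerIn hQ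
    rw [← hM] at hQk
    have := h.conn_level (M - Nat.card P - 1) z Q hz hQ (by omega) (by omega)
    rwa [show Nat.card P + 1 + (M - Nat.card P - 1) = M by omega] at this
  let Full : Subgroup Ω → Subgroup Ω → Prop := fun a b => ∃ χ,
    IsMap F (normalizerIn S a) χ ∧ img a χ = b ∧ ∀ c ∈ normalizerIn S a, χ c ∈ normalizerIn S b
  have hstep : ∀ a b, F.IsConj P a → WStep F M a b → Full a b := by
    rintro a b ha ⟨R, g, hg, haR, hR, hkR, rfl⟩
    haveI := finite_normalizerIn (S := S) (P := a)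
    obtain rfl : R = normalizerIn S a := eq_of_le_of_card_le hR ((hmax a ha).trans hkR)
    exact ⟨g, hg, rfl, fun c hc => hg.apply_mem_normalizerIn haR hc hc.2⟩
  have hcomp : ∀ a b c, a ≤ S → Full a b → Full b c → Full a c := by
    rintro a b c ha ⟨χ, hχ, rfl, hχN⟩ ⟨χ', hχ', rfl, hχ'N⟩
    refine ⟨fun u => χ' (χ u), hχ.comp hχ' hχN, ?_, fun u hu => hχ'N _ (hχN u hu)⟩
    rw [img_comp_eq (hχ.mono (le_normalizerIn ha)) hχ' fun u hu => hχN u (le_normalizerIn ha hu)]
  have key : ∀ a b, WConn F M a b →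
      (F.IsConj P a ↔ F.IsConj P b) ∧ (F.IsConj P a → Full a b ∧ Full b a) := by
    intro a b hab
    induction hab with
    | rel a b hab =>
      exact ⟨⟨fun ha => isConj_trans ha hab.isConj, fun hb => isConj_trans hb hab.symm.isConj⟩,
        fun ha => ⟨hstep a b ha hab, hstep b a (isConj_trans ha hab.isConj) hab.symm⟩⟩
    | refl a =>
      exact ⟨Iff.rfl, fun _ => ⟨⟨id, isMap_id F inf_le_left, img_id a, fun c hc => hc⟩,
        ⟨id, isMap_id F inf_le_left, img_id a, fun c hc => hc⟩⟩⟩
    | symm a b _ ih => exact ⟨ih.1.symm, fun hb => (ih.2 (ih.1.2 hb)).symm⟩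
    | trans a b c _ _ ih₁ ih₂ =>
      refine ⟨ih₁.1.trans ih₂.1, fun ha => ?_⟩
      have hb := ih₁.1.1 ha
      exact ⟨hcomp a b c (isConj_le_right ha) (ih₁.2 ha).1 (ih₂.2 hb).1,
        hcomp c b a (isConj_le_right (ih₂.1.1 hb)) (ih₂.2 hb).2 (ih₁.2 ha).2⟩
  obtain ⟨χ, hχ, hχi, hχN⟩ := ((key z Q hzQ).2 hz).1
  refine ⟨fun a => χ (ψ a), hψ.comp hχ hψN, ?_, fun a ha => hχN _ (hψN a ha)⟩
  rw [img_comp_eq (hψ.mono (le_normalizerIn (isConj_le_right hx))) hχ fun a ha =>
    hψN a (le_normalizerIn (isConj_le_right hx) ha), hψi, hχi]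

end

end CfsgLib.Fusion
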