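import Cfsg.Agent.Lib.Fusion.SelfNormalizingCert
import Cfsg.Agent.Lib.KnownA.MathieuOut

/-!
Certificates that the 2-fusion system of a group of permutations of the 24 points is simple.

The Sylow 2-subgroup is listed by a polycyclic indexing: the elements with index divisible by `2^j`
form a series with steps of index 2. The series is shown invariant under the normalizer by labels
computed from fixed points, squares and numbers of commuting elements in a label class.
-/

set_option autoImplicit false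
set_option maxRecDepth 100000
set_option linter.style.haveILetI false
set_option linter.unusedSectionVars false

namespace CfsgLib.Fusion.MathieuCert

open Cfsg CfsgLib.Golay CfsgLib.KnownA.Mathieu
open scoped Pointwise

/-- Binary trees of numbers indexed from the lowest bit. -/
inductive CTree where
  | leaf (v : ℕ) : CTree
  | node (l r : CTree) : CTree

/-- The entry at an index. -/
def CTree.get : CTree → ℕ → ℕ
  | .leaf v, _ => v
  | .node l r, k => bif Nat.beq (k % 2) 0 then l.get (k / 2) else r.get (k / 2)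

/-- Search trees. -/
inductive BTree where
  | nil : BTree
  | node (k v : ℕ) (l r : BTree) : BTree

/-- The value at a key. -/
def BTree.find : BTree → ℕ → ℕ
  | .nil, _ => 1000000
  | .node k v l r, x =>
    bif Nat.beq x k then v else bif Nat.ble x k then l.find x else r.find x

/-- A refinement of labels. -/
inductive Step where
  | sqz (tab : CTree) (dict : BTree) : Step
  | comm (C : List ℕ) (c : ℕ) (tab : CTree) (dict : BTree) : Step

/-- The certificate. -/
structure Cert where
  m : ℕ
  els : CTree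
  idx : BTree
  nxt : CTree
  sq : CTree
  k0 : CTree
  k0dict : BTree
  steps : List Step
  classes : List (List ℕ)
  words : List (List (List ℕ))
  partner : List ℕ
  sep : List (List ℕ)
  moves : List (List ℕ × ℕ × ℕ)

variable (C : Cert) (X : List ℕ)

/-- The code of an element. -/
def el (d : ℕ) : ℕ := C.els.get d

/-- The index of a product with a generator. -/
def nx (d i : ℕ) : ℕ := C.nxt.get (d * 16 + i)

/-- The images of a permutation code as one number. -/
def normCode (g : ℕ) : ℕ := (List.range 24).foldr (fun i acc => Golay.img g i + 32 * acc) 0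

/-- The `k`-fold image of a point. -/
def imgPow (g : ℕ) : ℕ → ℕ → ℕ
  | 0, i => i
  | k + 1, i => Golay.img g (imgPow g k i)

/-- The number of fixed points of a power. -/
def fixCount (g k : ℕ) : ℕ := (List.range 24).countP fun i => Nat.beq (imgPow g k i) i

/-- The first key. -/
def key0 (d : ℕ) : ℕ :=
  fixCount (el C d) 1 + 25 * (fixCount (el C d) 2 + 25 * fixCount (el C d) 4)

/-- Commuting elements. -/
def commB (a b : ℕ) : Bool := eqW [el C a, el C b] [el C b, el C a]

/-- One step is consistent. -/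
def stepOK (L : CTree) : Step → Bool
  | .sqz tab dict => (List.range (2 ^ C.m)).all fun d =>
      Nat.beq (dict.find (L.get d + 4096 * (L.get (C.sq.get d) +
        4096 * L.get (nx C d (C.m - 1))))) (tab.get d)
  | .comm cl c tab dict =>
      (decide (cl = (List.range (2 ^ C.m)).filter fun e => Nat.beq (L.get e) c)) &&
      (List.range (2 ^ C.m)).all fun d =>
        Nat.beq (dict.find (L.get d + 4096 * cl.countP fun e => commB C d e)) (tab.get d)

/-- The labels of a step. -/
def Step.out : Step → CTree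
  | .sqz tab _ => tab
  | .comm _ _ tab _ => tab

/-- All steps are consistent. -/
def stepsOK : List Step → CTree → Bool
  | [], _ => true
  | s :: l, L => stepOK C L s && stepsOK l s.out

/-- The final labels. -/
def finalTab : List Step → CTree → CTree
  | [], L => L
  | s :: l, _ => finalTab l s.out

/-- The elements. -/
def okEls : Bool :=
  Nat.ble 1 C.m && eqW [el C 0] [] &&
  (List.range (2 ^ C.m)).all fun d =>
    inFix X (el C d) && Nat.beq (C.idx.find (normCode (el C d))) d

/-- Products with generators. -/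
def okNxt : Bool :=
  (List.range (2 ^ C.m)).all fun d => (List.range C.m).all fun i =>
    Nat.blt (nx C d i) (2 ^ C.m) && isProd (el C d) (el C (2 ^ i)) (el C (nx C d i)) &&
    (List.range (i + 1)).all fun j =>
      !Nat.beq (d % 2 ^ j) 0 || Nat.beq (nx C d i % 2 ^ j) 0

/-- Every element is reached. -/
def okPred : Bool :=
  (List.range (2 ^ C.m)).all fun d => Nat.beq d 0 || (List.range C.m).any fun i =>
    Nat.beq (d % 2 ^ (i + 1)) (2 ^ i) && Nat.beq (nx C (d - 2 ^ i) i) d

/-- Squares and the centre. -/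
def okSq : Bool :=
  ((List.range (2 ^ C.m)).all fun d =>
    Nat.blt (C.sq.get d) (2 ^ C.m) && isProd (el C d) (el C d) (el C (C.sq.get d))) &&
  ((List.range C.m).all fun i => commB C (2 ^ (C.m - 1)) (2 ^ i)) &&
  (List.range (2 ^ C.m)).all fun d =>
    Nat.beq d 0 || Nat.beq d (2 ^ (C.m - 1)) || (List.range C.m).any fun i => !commB C d (2 ^ i)

/-- The labels. -/
def okLabels : Bool :=
  ((List.range (2 ^ C.m)).all fun d => Nat.beq (C.k0dict.find (key0 C d)) (C.k0.get d)) &&
  stepsOK C C.steps C.k0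

/-- The label is in the `j`-th class. -/
def inClass (L : CTree) (j d : ℕ) : Bool := (C.classes.getD j []).any fun t => Nat.beq t (L.get d)

/-- The series is given by labels. -/
def okSeries : Bool :=
  (List.range C.m).all fun j =>
    ((List.range (2 ^ C.m)).all fun d =>
      !inClass C (finalTab C.steps C.k0) j d || Nat.beq (d % 2 ^ j) 0) &&
    (List.range C.m).all fun i => Nat.blt i j ||
      let w := (C.words.getD j []).getD i []
      (w.all fun e => Nat.blt e (2 ^ C.m) && inClass C (finalTab C.steps C.k0) j e) &&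
        eqW (w.map (el C)) [el C (2 ^ i)]

/-- Points are separated by the subgroup and the masks. -/
def okSep : Bool :=
  (List.range 24).all fun x =>
    Nat.blt (C.partner.getD x 0) 24 && Nat.beq (C.partner.getD (C.partner.getD x 0) 0) x &&
    (List.range 24).all fun y => Nat.beq y x || Nat.beq y (C.partner.getD x 0) ||
      let w := (C.sep.getD x []).getD y 0
      bif Nat.blt w (2 ^ C.m) then
        Bool.xor (Nat.beq (Golay.img (el C w) x) x) (Nat.beq (Golay.img (el C w) y) y)
      else
        Nat.blt (w - 2 ^ C.m) X.length &&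
          Bool.xor ((X.getD (w - 2 ^ C.m) 0).testBit x) ((X.getD (w - 2 ^ C.m) 0).testBit y)

/-- The moves from the known elements. -/
def movesOK : List (List ℕ × ℕ × ℕ) → List ℕ → Bool
  | [], known => (List.range C.m).all fun i => known.any fun e => Nat.beq e (2 ^ i)
  | (w, g, d) :: rest, known =>
    (w.all fun e => known.any fun f => Nat.beq f e) && inFix X g && Nat.blt d (2 ^ C.m) &&
      eqW (g :: w.map (el C)) [el C d, g] && movesOK rest (d :: known)

/-! ### Soundness -/

/-- The element with an index. -/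
noncomputable def P (d : ℕ) : Equiv.Perm GolayPt := permOf (el C d)

/-- The series. -/
noncomputable def H (j : ℕ) : Subgroup (Equiv.Perm GolayPt) :=
  Subgroup.closure ((fun i => P C (2 ^ i)) '' {i | j ≤ i ∧ i < C.m})

variable {C X}

theorem el_inFix (hE : okEls C X = true) {d : ℕ} (hd : d < 2 ^ C.m) :
    inFix X (el C d) = true := by
  simp only [okEls, Bool.and_eq_true, List.all_eq_true, List.mem_range] at hE
  exact (hE.2 d hd).1

theorem el_valid (hE : okEls C X = true) {d : ℕ} (hd : d < 2 ^ C.m) : valid (el C d) = true :=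
  inFix_valid (el_inFix hE hd)

theorem one_le_m (hE : okEls C X = true) : 1 ≤ C.m := by
  simp only [okEls, Bool.and_eq_true] at hE
  exact Nat.le_of_ble_eq_true hE.1.1

theorem P_zero (hE : okEls C X = true) : P C 0 = 1 := by
  have hv := el_valid hE (Nat.two_pow_pos C.m)
  simp only [okEls, Bool.and_eq_true] at hE
  simpa [P] using eqW_sound (L := [el C 0]) (L' := []) (by simp [hv]) hE.1.2

theorem normCode_congr {g g' : ℕ} (h : ∀ i < 24, Golay.img g i = Golay.img g' i) :
    normCode g = normCode g' := by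
  have key : ∀ l : List ℕ, (∀ i ∈ l, i < 24) →
      l.foldr (fun i acc => Golay.img g i + 32 * acc) 0 = l.foldr (fun i acc => Golay.img g' i + 32 * acc) 0 := by
    intro l
    induction l with
    | nil => intro _; rfl
    | cons a l ih =>
      intro hl
      rw [List.foldr_cons, List.foldr_cons, h a (hl a (List.mem_cons_self ..)),
        ih fun i hi => hl i (List.mem_cons_of_mem _ hi)]
  exact key _ fun i hi => List.mem_range.1 hi

theorem P_injective (hE : okEls C X = true) {d e : ℕ} (hd : d < 2 ^ C.m) (he : e < 2 ^ C.m)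
    (h : P C d = P C e) : d = e := by
  have hn : normCode (el C d) = normCode (el C e) := normCode_congr fun i hi => by
    have h1 : permOf (el C d) (pt i) = permOf (el C e) (pt i) := congrArg (fun f => f (pt i)) h
    rw [permOf_pt (el_valid hE hd) hi, permOf_pt (el_valid hE he) hi] at h1
    have := congrArg idx h1
    rwa [idx_pt (valid_lt (el_valid hE hd) hi), idx_pt (valid_lt (el_valid hE he) hi)] at this
  simp only [okEls, Bool.and_eq_true, List.all_eq_true, List.mem_range] at hE
  rw [← Nat.eq_of_beq_eq_true (hE.2 d hd).2, ← Nat.eq_of_beq_eq_true (hE.2 e he).2, hn]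

theorem nx_spec (hE : okEls C X = true) (hN : okNxt C = true) {d i : ℕ} (hd : d < 2 ^ C.m)
    (hi : i < C.m) :
    nx C d i < 2 ^ C.m ∧ P C (nx C d i) = P C d * P C (2 ^ i) ∧
      ∀ j ≤ i, 2 ^ j ∣ d → 2 ^ j ∣ nx C d i := by
  simp only [okNxt, Bool.and_eq_true, List.all_eq_true, List.mem_range, Bool.or_eq_true,
    Bool.not_eq_true'] at hN
  obtain ⟨⟨h1, h2⟩, h3⟩ := hN d hd i hi
  refine ⟨Nat.le_of_ble_eq_true h1, (isProd_sound (el_valid hE hd)
    (el_valid hE (Nat.pow_lt_pow_right one_lt_two hi)) h2).2, fun j hj hdvd => ?_⟩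
  rcases h3 j (by omega) with h | h
  · rw [Nat.dvd_iff_mod_eq_zero.1 hdvd] at h
    exact absurd h (by decide)
  · exact Nat.dvd_of_mod_eq_zero (Nat.eq_of_beq_eq_true h)

theorem pred_spec (hE : okEls C X = true) (hN : okNxt C = true) (hP : okPred C = true) {d : ℕ}
    (hd : d < 2 ^ C.m) (h0 : d ≠ 0) :
    ∃ i, i < C.m ∧ d % 2 ^ (i + 1) = 2 ^ i ∧ P C d = P C (d - 2 ^ i) * P C (2 ^ i) := by
  simp only [okPred, Bool.or_eq_true, List.all_eq_true, List.mem_range, List.any_eq_true,
    Bool.and_eq_true] at hP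
  rcases hP d hd with h | ⟨i, hi, h1, h2⟩
  · exact absurd (Nat.eq_of_beq_eq_true h) h0
  refine ⟨i, hi, Nat.eq_of_beq_eq_true h1, ?_⟩
  have h := (nx_spec hE hN (d := d - 2 ^ i) (lt_of_le_of_lt (Nat.sub_le _ _) hd) hi).2.1
  rwa [Nat.eq_of_beq_eq_true h2] at h

theorem lowest_bit {d i : ℕ} (h : d % 2 ^ (i + 1) = 2 ^ i) :
    2 ^ i ∣ d ∧ ¬ 2 ^ (i + 1) ∣ d ∧ 2 ^ (i + 1) ∣ d - 2 ^ i ∧ 2 ^ i ≤ d := by
  have h1 := Nat.div_add_mod d (2 ^ (i + 1))
  rw [h] at h1
  refine ⟨?_, fun hdvd => ?_, ?_, by omega⟩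
  · rw [← h1, pow_succ, mul_assoc]
    exact dvd_add (dvd_mul_right _ _) dvd_rfl
  · rw [Nat.dvd_iff_mod_eq_zero.1 hdvd] at h
    exact absurd h.symm (pow_ne_zero i two_ne_zero)
  · exact ⟨d / 2 ^ (i + 1), by omega⟩

theorem mem_H (hE : okEls C X = true) (hN : okNxt C = true) (hP : okPred C = true) {j : ℕ}
    {x : Equiv.Perm GolayPt} :
    x ∈ H C j ↔ ∃ d < 2 ^ C.m, 2 ^ j ∣ d ∧ P C d = x := by
  constructor
  · intro hx
    rw [H, ← Subgroup.mem_toSubmonoid, Subgroup.closure_toSubmonoid_of_finite] at hx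
    induction hx using Submonoid.closure_induction_right with
    | one => exact ⟨0, Nat.two_pow_pos _, dvd_zero _, P_zero hE⟩
    | mul_right a _ b hb ih =>
      obtain ⟨i, ⟨hji, hi⟩, rfl⟩ := hb
      obtain ⟨d, hd, hdvd, rfl⟩ := ih
      obtain ⟨h1, h2, h3⟩ := nx_spec hE hN hd hi
      exact ⟨_, h1, h3 j hji hdvd, h2⟩
  · rintro ⟨d, hd, hdvd, rfl⟩
    induction d using Nat.strong_induction_on with
    | _ d ih =>
    rcases eq_or_ne d 0 with rfl | h0
    · rw [P_zero hE]
      exact one_mem _
    obtain ⟨i, hi, hmod, hprod⟩ := pred_spec hE hN hP hd h0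
    obtain ⟨h1, h2, h3, h4⟩ := lowest_bit hmod
    have hji : j ≤ i := by
      by_contra hlt
      exact h2 ((pow_dvd_pow 2 (by omega : i + 1 ≤ j)).trans hdvd)
    rw [hprod]
    refine mul_mem (ih _ (Nat.sub_lt (Nat.pos_of_ne_zero h0) (Nat.two_pow_pos i)) (by omega) ?_)
      (Subgroup.subset_closure ⟨i, ⟨hji, hi⟩, rfl⟩)
    exact Nat.dvd_sub hdvd (pow_dvd_pow 2 hji)

theorem gen_mem (i : ℕ) (hi : i < C.m) : P C (2 ^ i) ∈ H C 0 :=
  Subgroup.subset_closure ⟨i, ⟨Nat.zero_le i, hi⟩, rfl⟩

theorem H_le_fix (hE : okEls C X = true) (j : ℕ) : H C j ≤ fixMasks X := by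
  refine (Subgroup.closure_le _).2 ?_
  rintro _ ⟨i, ⟨-, hi⟩, rfl⟩
  exact inFix_mem (el_inFix hE (Nat.pow_lt_pow_right one_lt_two hi))

theorem card_H (hE : okEls C X = true) (hN : okNxt C = true) (hP : okPred C = true) :
    Nat.card (H C 0) = 2 ^ C.m := by
  rw [← Nat.card_fin (2 ^ C.m)]
  refine (Nat.card_congr (Equiv.ofBijective
    (fun d : Fin (2 ^ C.m) => (⟨P C d, (mem_H hE hN hP).2 ⟨d, d.2, by simp, rfl⟩⟩ : H C 0))
    ⟨fun a b h => Fin.ext (P_injective hE a.2 b.2 (congrArg Subtype.val h)), fun x => ?_⟩)).symm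
  obtain ⟨d, hd, -, hx⟩ := (mem_H hE hN hP).1 x.2
  exact ⟨⟨d, hd⟩, Subtype.ext hx⟩

theorem series_step (hE : okEls C X = true) (hN : okNxt C = true) (hP : okPred C = true) {j : ℕ}
    (hj : j < C.m) {a b : Equiv.Perm GolayPt} (ha : a ∈ H C j) (hb : b ∈ H C j)
    (ha' : a ∉ H C (j + 1)) (hb' : b ∉ H C (j + 1)) : b * a⁻¹ ∈ H C (j + 1) := by
  have key : ∀ {x : Equiv.Perm GolayPt}, x ∈ H C j → x ∉ H C (j + 1) →
      ∃ h ∈ H C (j + 1), x = h * P C (2 ^ j) := by
    intro x hx hx'
    obtain ⟨d, hd, hdvd, rfl⟩ := (mem_H hE hN hP).1 hx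
    have hnd : ¬ 2 ^ (j + 1) ∣ d := fun h => hx' ((mem_H hE hN hP).2 ⟨d, hd, h, rfl⟩)
    obtain ⟨i, hi, hmod, hprod⟩ := pred_spec hE hN hP hd (fun h => hnd (h ▸ dvd_zero _))
    obtain ⟨h1, h2, h3, h4⟩ := lowest_bit hmod
    have hij : i = j := by
      by_contra hne
      rcases Nat.lt_or_ge i j with h | h
      · exact h2 ((pow_dvd_pow 2 (by omega : i + 1 ≤ j)).trans hdvd)
      · exact hnd ((pow_dvd_pow 2 (by omega : j + 1 ≤ i)).trans h1)
    subst hij
    exact ⟨_, (mem_H hE hN hP).2 ⟨d - 2 ^ i, by omega, h3, rfl⟩, hprod⟩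
  obtain ⟨h, hh, rfl⟩ := key ha ha'
  obtain ⟨h', hh', rfl⟩ := key hb hb'
  rw [show h' * P C (2 ^ j) * (h * P C (2 ^ j))⁻¹ = h' * h⁻¹ by group]
  exact mul_mem hh' (inv_mem hh)

theorem imgPow_spec {g : ℕ} (h : valid g = true) :
    ∀ (k : ℕ) {i : ℕ}, i < 24 → (permOf g ^ k) (pt i) = pt (imgPow g k i) ∧ imgPow g k i < 24
  | 0, i, hi => ⟨rfl, hi⟩
  | k + 1, i, hi => by
    obtain ⟨h1, h2⟩ := imgPow_spec h k hi
    exact ⟨by rw [pow_succ', Equiv.Perm.mul_apply, h1, permOf_pt h h2]; rfl, valid_lt h h2⟩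

theorem fixCount_eq {g : ℕ} (h : valid g = true) (k : ℕ) :
    fixCount g k = (Finset.univ.filter fun q => (permOf g ^ k) q = q).card := by
  have h1 : fixCount g k =
      ((List.range 24).filter fun i => Nat.beq (imgPow g k i) i).toFinset.card := by
    rw [List.toFinset_card_of_nodup (List.nodup_range.filter _), fixCount, List.countP_eq_length_filter]
  rw [h1]
  refine (Finset.card_bij (fun q _ => idx q) (fun q hq => ?_) (fun a _ b _ hab => ?_)
    fun i hi => ?_).symm
  · simp only [Finset.mem_filter, Finset.mem_univ, true_and] at hq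
    obtain ⟨h2, h3⟩ := imgPow_spec h k (idx_lt q)
    rw [pt_idx, hq] at h2
    simp only [List.mem_toFinset, List.mem_filter, List.mem_range]
    refine ⟨idx_lt q, ?_⟩
    rw [← idx_pt h3, ← h2]
    exact Nat.beq_refl _
  · rw [← pt_idx a, ← pt_idx b, hab]
  · simp only [List.mem_toFinset, List.mem_filter, List.mem_range] at hi
    obtain ⟨h2, -⟩ := imgPow_spec h k hi.1
    refine ⟨pt i, ?_, idx_pt hi.1⟩
    simp only [Finset.mem_filter, Finset.mem_univ, true_and]
    rw [h2, Nat.eq_of_beq_eq_true hi.2]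

theorem commB_iff (hE : okEls C X = true) {a b : ℕ} (ha : a < 2 ^ C.m) (hb : b < 2 ^ C.m) :
    commB C a b = true ↔ P C a * P C b = P C b * P C a := by
  have hv : ([el C a, el C b] ++ [el C b, el C a]).all valid = true := by
    simp [el_valid hE ha, el_valid hE hb]
  constructor
  · intro h
    simpa [P] using eqW_sound hv h
  · intro h
    by_contra hne
    rw [Bool.not_eq_true] at hne
    exact neW_sound hv hne (by simpa [P] using h)

/-- `d'` is the index of the conjugate. -/
def Corr (C : Cert) (g : Equiv.Perm GolayPt) (d d' : ℕ) : Prop :=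
  d < 2 ^ C.m ∧ d' < 2 ^ C.m ∧ P C d' = g * P C d * g⁻¹

theorem sq_spec (hE : okEls C X = true) (hQ : okSq C = true) {d : ℕ} (hd : d < 2 ^ C.m) :
    C.sq.get d < 2 ^ C.m ∧ P C (C.sq.get d) = P C d * P C d := by
  simp only [okSq, Bool.and_eq_true, List.all_eq_true, List.mem_range] at hQ
  obtain ⟨h1, h2⟩ := hQ.1.1 d hd
  exact ⟨Nat.le_of_ble_eq_true h1, (isProd_sound (el_valid hE hd) (el_valid hE hd) h2).2⟩

theorem z_central (hE : okEls C X = true) (hQ : okSq C = true) :
    ∀ x ∈ H C 0, x * P C (2 ^ (C.m - 1)) = P C (2 ^ (C.m - 1)) * x := by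
  have hm := one_le_m hE
  simp only [okSq, Bool.and_eq_true, List.all_eq_true, List.mem_range] at hQ
  have hle : H C 0 ≤ Subgroup.centralizer {P C (2 ^ (C.m - 1))} := by
    refine (Subgroup.closure_le _).2 ?_
    rintro _ ⟨i, ⟨-, hi⟩, rfl⟩
    rw [SetLike.mem_coe, Subgroup.mem_centralizer_singleton_iff]
    exact ((commB_iff hE (Nat.pow_lt_pow_right one_lt_two (by omega))
      (Nat.pow_lt_pow_right one_lt_two hi)).1 (hQ.1.2 i hi)).symm
  intro x hx
  exact Subgroup.mem_centralizer_singleton_iff.1 (hle hx)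

theorem central_unique (hE : okEls C X = true) (hN : okNxt C = true) (hP : okPred C = true)
    (hQ : okSq C = true) {x : Equiv.Perm GolayPt} (hx : x ∈ H C 0)
    (hc : ∀ y ∈ H C 0, y * x = x * y) (h1 : x ≠ 1) : x = P C (2 ^ (C.m - 1)) := by
  obtain ⟨d, hd, -, rfl⟩ := (mem_H hE hN hP).1 hx
  simp only [okSq, Bool.and_eq_true, List.all_eq_true, List.mem_range, Bool.or_eq_true,
    List.any_eq_true, Bool.not_eq_true'] at hQ
  rcases hQ.2 d hd with (h | h) | ⟨i, hi, h⟩
  · rw [Nat.eq_of_beq_eq_true h] at h1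
    exact absurd (P_zero hE) h1
  · rw [Nat.eq_of_beq_eq_true h]
  · have := (commB_iff hE hd (Nat.pow_lt_pow_right one_lt_two hi)).2 (hc _ (gen_mem i hi)).symm
    rw [h] at this
    exact absurd this (by decide)

theorem conj_z (hE : okEls C X = true) (hN : okNxt C = true) (hP : okPred C = true)
    (hQ : okSq C = true) {g : Equiv.Perm GolayPt}
    (hg : g ∈ Subgroup.normalizer (H C 0 : Set (Equiv.Perm GolayPt))) :
    g * P C (2 ^ (C.m - 1)) * g⁻¹ = P C (2 ^ (C.m - 1)) := by
  have hm := one_le_m hE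
  have hz : P C (2 ^ (C.m - 1)) ∈ H C 0 := gen_mem _ (by omega)
  refine central_unique hE hN hP hQ ((Subgroup.mem_normalizer_iff.1 hg _).1 hz) (fun y hy => ?_) ?_
  · have h2 := z_central hE hQ _ ((Subgroup.mem_normalizer_iff''.1 hg y).1 hy)
    set z := P C (2 ^ (C.m - 1))
    calc y * (g * z * g⁻¹) = g * ((g⁻¹ * y * g) * z) * g⁻¹ := by group
      _ = g * (z * (g⁻¹ * y * g)) * g⁻¹ := by rw [h2]
      _ = g * z * g⁻¹ * y := by group
  · rw [Ne, conj_eq_one_iff, ← P_zero hE]
    exact fun h => (Nat.two_pow_pos _).ne'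
      (P_injective hE (Nat.pow_lt_pow_right one_lt_two (by omega)) (Nat.two_pow_pos _) h)

/-- Labels preserved by conjugation. -/
def InvLab (C : Cert) (g : Equiv.Perm GolayPt) (L : CTree) : Prop :=
  ∀ d d', Corr C g d d' → L.get d = L.get d'

theorem invLab_step (hE : okEls C X = true) (hN : okNxt C = true) (hP : okPred C = true)
    (hQ : okSq C = true) {g : Equiv.Perm GolayPt}
    (hg : g ∈ Subgroup.normalizer (H C 0 : Set (Equiv.Perm GolayPt))) {L : CTree} {s : Step}
    (hL : InvLab C g L) (hs : stepOK C L s = true) : InvLab C g s.out := by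
  have hm := one_le_m hE
  intro d d' hdd'
  obtain ⟨hd, hd', hconj⟩ := id hdd'
  cases s with
  | sqz tab dict =>
    simp only [stepOK, List.all_eq_true, List.mem_range] at hs
    show tab.get d = tab.get d'
    rw [← Nat.eq_of_beq_eq_true (hs d hd), ← Nat.eq_of_beq_eq_true (hs d' hd'), hL d d' hdd']
    obtain ⟨a1, a2⟩ := sq_spec hE hQ hd
    obtain ⟨b1, b2⟩ := sq_spec hE hQ hd'
    obtain ⟨c1, c2, -⟩ := nx_spec hE hN hd (by omega : C.m - 1 < C.m)
    obtain ⟨e1, e2, -⟩ := nx_spec hE hN hd' (by omega : C.m - 1 < C.m)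
    rw [hL (C.sq.get d) (C.sq.get d') ⟨a1, b1, by rw [b2, a2, hconj]; group⟩,
      hL (nx C d (C.m - 1)) (nx C d' (C.m - 1)) ⟨c1, e1, by
        rw [e2, c2, hconj]
        conv_lhs => rw [← conj_z hE hN hP hQ hg]
        group⟩]
  | comm cl c tab dict =>
    simp only [stepOK, Bool.and_eq_true, decide_eq_true_iff, List.all_eq_true, List.mem_range] at hs
    obtain ⟨hcl, hs⟩ := hs
    show tab.get d = tab.get d'
    rw [← Nat.eq_of_beq_eq_true (hs d hd), ← Nat.eq_of_beq_eq_true (hs d' hd'), hL d d' hdd']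
    have hcount : cl.countP (fun e => commB C d e) = cl.countP (fun e => commB C d' e) := by
      have hnd : cl.Nodup := hcl ▸ List.nodup_range.filter _
      have hmem : ∀ e, e ∈ cl ↔ e < 2 ^ C.m ∧ L.get e = c := fun e => by
        rw [hcl, List.mem_filter, List.mem_range]
        constructor
        · exact fun h => ⟨h.1, Nat.eq_of_beq_eq_true h.2⟩
        · rintro ⟨h1, rfl⟩
          exact ⟨h1, Nat.beq_refl _⟩
      rw [List.countP_eq_length_filter, List.countP_eq_length_filter,
        ← List.toFinset_card_of_nodup (hnd.filter _), ← List.toFinset_card_of_nodup (hnd.filter _)]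
      have hex : ∀ e, e < 2 ^ C.m → ∃ e', Corr C g e e' := fun e he => by
        obtain ⟨e', he', -, h⟩ := (mem_H hE hN hP).1
          ((Subgroup.mem_normalizer_iff.1 hg _).1 ((mem_H hE hN hP).2 ⟨e, he, by simp, rfl⟩))
        exact ⟨e', he, he', h⟩
      choose f hf using hex
      refine Finset.card_bij (fun e he => f e ((hmem e).1 (List.mem_filter.1 (List.mem_toFinset.1 he)).1).1)
        (fun e he => ?_) (fun a ha b hb hab => ?_) fun e' he' => ?_
      · obtain ⟨he1, he2⟩ := List.mem_filter.1 (List.mem_toFinset.1 he)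
        obtain ⟨h1, h2, h3⟩ := hf e ((hmem e).1 he1).1
        refine List.mem_toFinset.2 (List.mem_filter.2 ⟨(hmem _).2 ⟨h2, ?_⟩, ?_⟩)
        · exact (hL _ _ ⟨h1, h2, h3⟩).symm.trans ((hmem e).1 he1).2
        · rw [commB_iff hE hd' h2, hconj, h3]
          have h4 := (commB_iff hE hd h1).1 he2
          calc g * P C d * g⁻¹ * (g * P C e * g⁻¹) = g * (P C d * P C e) * g⁻¹ := by group
            _ = g * (P C e * P C d) * g⁻¹ := by rw [h4]
            _ = g * P C e * g⁻¹ * (g * P C d * g⁻¹) := by group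
      · obtain ⟨h1, -, h3⟩ := hf a ((hmem a).1 (List.mem_filter.1 (List.mem_toFinset.1 ha)).1).1
        obtain ⟨k1, -, k3⟩ := hf b ((hmem b).1 (List.mem_filter.1 (List.mem_toFinset.1 hb)).1).1
        rw [hab, k3] at h3
        exact (P_injective hE k1 h1 (mul_left_cancel (mul_right_cancel h3))).symm
      · obtain ⟨he1, he2⟩ := List.mem_filter.1 (List.mem_toFinset.1 he')
        obtain ⟨he1', hec⟩ := (hmem e').1 he1
        obtain ⟨e, he, -, h⟩ := (mem_H hE hN hP).1
          ((Subgroup.mem_normalizer_iff''.1 hg _).1 ((mem_H hE hN hP).2 ⟨e', he1', by simp, rfl⟩))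
        have hcorr : Corr C g e e' := ⟨he, he1', by rw [h]; group⟩
        have hemem : e ∈ (cl.filter fun e => commB C d e).toFinset := by
          refine List.mem_toFinset.2 (List.mem_filter.2 ⟨(hmem e).2 ⟨he, (hL _ _ hcorr).trans hec⟩, ?_⟩)
          rw [commB_iff hE hd he]
          have h4 := (commB_iff hE hd' he1').1 he2
          rw [hconj, hcorr.2.2] at h4
          refine mul_left_cancel (a := g) (mul_right_cancel (b := g⁻¹) ?_)
          calc g * (P C d * P C e) * g⁻¹ = g * P C d * g⁻¹ * (g * P C e * g⁻¹) := by group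
            _ = g * P C e * g⁻¹ * (g * P C d * g⁻¹) := h4
            _ = g * (P C e * P C d) * g⁻¹ := by group
        refine ⟨e, hemem, ?_⟩
        obtain ⟨-, h2', h3'⟩ := hf e he
        exact P_injective hE h2' he1' (h3'.trans hcorr.2.2.symm)
    rw [hcount]

theorem invLab_final (hE : okEls C X = true) (hN : okNxt C = true) (hP : okPred C = true)
    (hQ : okSq C = true) (hLab : okLabels C = true) {g : Equiv.Perm GolayPt}
    (hg : g ∈ Subgroup.normalizer (H C 0 : Set (Equiv.Perm GolayPt))) :
    InvLab C g (finalTab C.steps C.k0) := by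
  simp only [okLabels, Bool.and_eq_true, List.all_eq_true, List.mem_range] at hLab
  have h0 : InvLab C g C.k0 := by
    rintro d d' ⟨hd, hd', hconj⟩
    rw [← Nat.eq_of_beq_eq_true (hLab.1 d hd), ← Nat.eq_of_beq_eq_true (hLab.1 d' hd')]
    have hfix : ∀ k, fixCount (el C d) k = fixCount (el C d') k := fun k => by
      rw [fixCount_eq (el_valid hE hd), fixCount_eq (el_valid hE hd')]
      have hc : permOf (el C d') ^ k = g * permOf (el C d) ^ k * g⁻¹ := by
        rw [← conj_pow]
        exact congrArg (· ^ k) hconj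
      rw [hc]
      refine Finset.card_bij (fun q _ => g q) (fun q hq => ?_) (fun a _ b _ h => g.injective h)
        fun q hq => ⟨g⁻¹ q, ?_, by simp⟩
      · simp only [Finset.mem_filter, Finset.mem_univ, true_and] at hq ⊢
        simp [Equiv.Perm.mul_apply, hq]
      · simp only [Finset.mem_filter, Finset.mem_univ, true_and] at hq ⊢
        refine g.injective ?_
        simpa [Equiv.Perm.mul_apply] using hq
    rw [key0, key0, hfix, hfix, hfix]
  have hsteps : ∀ (l : List Step) (L : CTree), InvLab C g L → stepsOK C l L = true →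
      InvLab C g (finalTab l L) := by
    intro l
    induction l with
    | nil => intro L hL _; exact hL
    | cons s l ih =>
      intro L hL h
      simp only [stepsOK, Bool.and_eq_true] at h
      exact ih _ (invLab_step hE hN hP hQ hg hL h.1) h.2
  exact hsteps _ _ h0 hLab.2

theorem H_invariant (hE : okEls C X = true) (hN : okNxt C = true) (hP : okPred C = true)
    (hQ : okSq C = true) (hLab : okLabels C = true) (hS : okSeries C = true)
    {g : Equiv.Perm GolayPt}
    (hg : g ∈ Subgroup.normalizer (H C 0 : Set (Equiv.Perm GolayPt))) {j : ℕ} (hj : j ≤ C.m)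
    {x : Equiv.Perm GolayPt} (hx : x ∈ H C j) : g * x * g⁻¹ ∈ H C j := by
  rcases eq_or_lt_of_le hj with rfl | hj
  · have : H C C.m = ⊥ := by
      rw [H, Subgroup.closure_eq_bot_iff]
      rintro _ ⟨i, ⟨h1, h2⟩, rfl⟩
      omega
    rw [this, Subgroup.mem_bot] at hx ⊢
    simp [hx]
  have hLinv := invLab_final hE hN hP hQ hLab hg
  simp only [okSeries, Bool.and_eq_true, List.all_eq_true, List.mem_range, Bool.or_eq_true,
    Bool.not_eq_true'] at hS
  obtain ⟨hcl, hw⟩ := hS j hj
  set L := finalTab C.steps C.k0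
  set T : Set (Equiv.Perm GolayPt) :=
    {y | ∃ d < 2 ^ C.m, inClass C L j d = true ∧ P C d = y} with hT
  have hTH : T ⊆ H C j := by
    rintro _ ⟨d, hd, hin, rfl⟩
    refine (mem_H hE hN hP).2 ⟨d, hd, ?_, rfl⟩
    rcases hcl d hd with h | h
    · rw [hin] at h
      exact absurd h (by decide)
    · exact Nat.dvd_of_mod_eq_zero (Nat.eq_of_beq_eq_true h)
  have hHT : H C j ≤ Subgroup.closure T := by
    refine (Subgroup.closure_le _).2 ?_
    rintro _ ⟨i, ⟨hji, hi⟩, rfl⟩
    rcases hw i hi with h | ⟨h1, h2⟩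
    · have := Nat.le_of_ble_eq_true h
      omega
    have hv : (((C.words.getD j []).getD i []).map (el C) ++ [el C (2 ^ i)]).all valid = true := by
      simp only [List.all_append, Bool.and_eq_true, List.all_eq_true, List.mem_map,
        List.mem_singleton]
      exact ⟨by rintro _ ⟨e, he, rfl⟩; exact el_valid hE (Nat.le_of_ble_eq_true (h1 e he).1),
        by rintro _ rfl; exact el_valid hE (Nat.pow_lt_pow_right one_lt_two hi)⟩
    have hprod := eqW_sound hv h2
    simp only [List.map_cons, List.map_nil, List.prod_cons, List.prod_nil, mul_one] at hprod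
    show permOf (el C (2 ^ i)) ∈ Subgroup.closure T
    rw [← hprod]
    refine list_prod_mem fun y hy => ?_
    simp only [List.map_map, List.mem_map] at hy
    obtain ⟨e, he, rfl⟩ := hy
    exact Subgroup.subset_closure ⟨e, Nat.le_of_ble_eq_true (h1 e he).1, (h1 e he).2, rfl⟩
  have hmap := Subgroup.mem_map_of_mem (MulAut.conj g).toMonoidHom (hHT hx)
  rw [MonoidHom.map_closure] at hmap
  refine (Subgroup.closure_le _).2 ?_ hmap
  rintro _ ⟨_, ⟨d, hd, hin, rfl⟩, rfl⟩
  obtain ⟨d', hd', -, h⟩ := (mem_H hE hN hP).1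
    ((Subgroup.mem_normalizer_iff.1 hg _).1 ((mem_H hE hN hP (j := 0)).2 ⟨d, hd, by simp, rfl⟩))
  refine hTH ⟨d', hd', ?_, h⟩
  simp only [inClass] at hin ⊢
  rwa [← hLinv d d' ⟨hd, hd', h⟩]

theorem eq_one_of_centralizes (hE : okEls C X = true) (hSep : okSep C X = true)
    {g : Equiv.Perm GolayPt} (hgX : g ∈ fixMasks X) (hodd : Odd (orderOf g))
    (hc : ∀ d < 2 ^ C.m, g * P C d * g⁻¹ = P C d) : g = 1 := by
  simp only [okSep, Bool.and_eq_true, List.all_eq_true, List.mem_range, Bool.or_eq_true] at hSep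
  have key : ∀ x < 24, g (pt x) = pt x ∨ g (pt x) = pt (C.partner.getD x 0) := by
    intro x hx
    set y := idx (g (pt x)) with hy
    have hy24 : y < 24 := idx_lt _
    have hgy : g (pt x) = pt y := (pt_idx _).symm
    rcases (hSep x hx).2 y hy24 with (h | h) | h
    · exact Or.inl (by rw [hgy, Nat.eq_of_beq_eq_true h])
    · exact Or.inr (by rw [hgy, Nat.eq_of_beq_eq_true h])
    exfalso
    set w := (C.sep.getD x []).getD y 0
    cases hlt : Nat.blt w (2 ^ C.m) with
    | true =>
      rw [hlt] at h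
      simp only [cond_true] at h
      have hw : w < 2 ^ C.m := Nat.le_of_ble_eq_true hlt
      have hv := el_valid hE hw
      have hcomm : g * P C w = P C w * g := mul_inv_eq_iff_eq_mul.1 (hc w hw)
      have hiff : Golay.img (el C w) x = x ↔ Golay.img (el C w) y = y := by
        have h1 : P C w (pt x) = pt (Golay.img (el C w) x) := permOf_pt hv hx
        have h2 : P C w (pt y) = pt (Golay.img (el C w) y) := permOf_pt hv hy24
        have h3 : g (P C w (pt x)) = P C w (g (pt x)) := congrArg (fun f => f (pt x)) hcomm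
        constructor
        · intro e
          rw [h1, e, hgy, h2] at h3
          have := congrArg idx h3
          rw [idx_pt hy24, idx_pt (valid_lt hv hy24)] at this
          exact this.symm
        · intro e
          rw [hgy, h2, e, ← hgy, g.injective.eq_iff, h1] at h3
          have := congrArg idx h3
          rwa [idx_pt hx, idx_pt (valid_lt hv hx)] at this
      by_cases hfx : Golay.img (el C w) x = x
      · have hfy := hiff.1 hfx
        simp [hfx, hfy] at h
      · have hfy : Golay.img (el C w) y ≠ y := fun e => hfx (hiff.2 e)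
        have e1 : Nat.beq (Golay.img (el C w) x) x = false :=
          Bool.eq_false_iff.2 fun e => hfx (Nat.eq_of_beq_eq_true e)
        have e2 : Nat.beq (Golay.img (el C w) y) y = false :=
          Bool.eq_false_iff.2 fun e => hfy (Nat.eq_of_beq_eq_true e)
        simp [e1, e2] at h
    | false =>
      rw [hlt] at h
      simp only [cond_false, Bool.and_eq_true] at h
      obtain ⟨hlen, hx'⟩ := h
      set A := X.getD (w - 2 ^ C.m) 0
      have hA : A ∈ X := by
        show X.getD _ 0 ∈ X
        rw [List.getD_eq_getElem X 0 (Nat.le_of_ble_eq_true hlen)]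
        exact List.getElem_mem _
      have hfix := hgX.2 A hA
      have hiff : A.testBit x = true ↔ A.testBit y = true := by
        have e1 : pt x ∈ mset A ↔ pt y ∈ mset A := by
          conv_rhs => rw [← hfix, ← hgy]
          exact (Finset.smul_mem_smul_finset_iff g).symm
        rwa [mem_mset, mem_mset, idx_pt hx, idx_pt hy24] at e1
      cases hbx : A.testBit x <;> cases hby : A.testBit y <;>
        rw [hbx, hby] at hiff hx' <;> simp at hiff hx'
  have h2 : g ^ 2 = 1 := by
    refine Equiv.ext fun q => ?_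
    rw [pow_two, Equiv.Perm.mul_apply, Equiv.Perm.one_apply, ← pt_idx q]
    set x := idx q
    have hx : x < 24 := idx_lt q
    obtain ⟨⟨hp1, hp2⟩, -⟩ := hSep x hx
    rcases key x hx with h | h
    · rw [h, h]
    · rw [h]
      rcases key _ (Nat.le_of_ble_eq_true hp1) with h' | h'
      · have he : g (pt x) = g (pt (C.partner.getD x 0)) := h.trans h'.symm
        rw [h', ← g.injective he]
      · rw [h', Nat.eq_of_beq_eq_true hp2]
  rw [← orderOf_eq_one_iff]
  exact Nat.eq_one_of_dvd_coprimes (Nat.coprime_two_right.2 hodd) dvd_rfl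
    (orderOf_dvd_of_pow_eq_one h2)

theorem moves_sound (hE : okEls C X = true) {T : Subgroup (Equiv.Perm GolayPt)}
    (hcl : ∀ x ∈ T, ∀ g ∈ fixMasks X, g * x * g⁻¹ ∈ H C 0 → g * x * g⁻¹ ∈ T)
    (hP' : ∀ d < 2 ^ C.m, P C d ∈ H C 0) :
    ∀ (l : List (List ℕ × ℕ × ℕ)) (known : List ℕ),
      (∀ e ∈ known, e < 2 ^ C.m ∧ P C e ∈ T) → movesOK C X l known = true → H C 0 ≤ T
  | [], known, hk, h => by
    simp only [movesOK, List.all_eq_true, List.mem_range, List.any_eq_true] at h
    refine (Subgroup.closure_le _).2 ?_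
    rintro _ ⟨i, ⟨-, hi⟩, rfl⟩
    obtain ⟨e, he, he'⟩ := h i hi
    show P C (2 ^ i) ∈ T
    rw [← Nat.eq_of_beq_eq_true he']
    exact (hk e he).2
  | (w, g, d) :: rest, known, hk, h => by
    simp only [movesOK, Bool.and_eq_true, List.all_eq_true, List.any_eq_true] at h
    obtain ⟨⟨⟨⟨hw, hg⟩, hd⟩, heq⟩, hrest⟩ := h
    have hd' : d < 2 ^ C.m := Nat.le_of_ble_eq_true hd
    refine moves_sound hE hcl hP' rest (d :: known) (fun e he => ?_) hrest
    rcases List.mem_cons.1 he with rfl | he
    swap
    · exact hk e he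
    refine ⟨hd', ?_⟩
    have hv : ((g :: w.map (el C)) ++ [el C e, g]).all valid = true := by
      simp only [List.all_append, List.all_cons, List.all_nil, Bool.and_eq_true, List.all_eq_true,
        List.mem_map, Bool.and_true]
      refine ⟨⟨inFix_valid hg, ?_⟩, el_valid hE hd', inFix_valid hg⟩
      rintro _ ⟨f, hf, rfl⟩
      obtain ⟨f', hf', hff⟩ := hw f hf
      exact el_valid hE ((Nat.eq_of_beq_eq_true hff) ▸ (hk f' hf').1)
    have hprod := eqW_sound hv heq
    simp only [List.map_cons, List.map_nil, List.prod_cons, List.prod_nil, mul_one] at hprod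
    set x := ((w.map (el C)).map permOf).prod
    have hxT : x ∈ T := by
      refine list_prod_mem fun y hy => ?_
      simp only [List.map_map, List.mem_map] at hy
      obtain ⟨f, hf, rfl⟩ := hy
      obtain ⟨f', hf', hff⟩ := hw f hf
      exact (Nat.eq_of_beq_eq_true hff) ▸ (hk f' hf').2
    have he2 : permOf g * x * (permOf g)⁻¹ = P C e := by
      rw [hprod, mul_inv_cancel_right]
      rfl
    rw [← he2]
    exact hcl x hxT _ (inFix_mem hg) (he2 ▸ hP' e hd')

/-- The theorem delivered by a certificate. -/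
theorem isSimple_of_cert (C : Cert) (X : List ℕ) (N : ℕ) (hcard : Nat.card (fixMasks X) = N)
    (hN2 : (N / 2 ^ C.m) % 2 = 1) (hE : okEls C X = true) (hN : okNxt C = true)
    (hP : okPred C = true) (hQ : okSq C = true) (hLab : okLabels C = true)
    (hS : okSeries C = true) (hSep : okSep C X = true)
    (hMov : movesOK C X C.moves [2 ^ (C.m - 1)] = true) (S : Sylow 2 (fixMasks X)) :
    (groupFusionSystem (S : Subgroup (fixMasks X))).IsSimple 2 := by
  have hm := one_le_m hE
  set S₀ := (H C 0).subgroupOf (fixMasks X)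
  have hle := H_le_fix hE (C := C) 0
  have hc0 : Nat.card S₀ = 2 ^ C.m := by
    rw [Nat.card_congr (Subgroup.subgroupOfEquivOfLe hle).toEquiv, card_H hE hN hP]
  have hp : IsPGroup 2 S₀ := IsPGroup.of_card hc0
  have hidx : ¬ 2 ∣ S₀.index := by
    have h := Subgroup.card_mul_index S₀
    rw [hc0, hcard] at h
    have : S₀.index = N / 2 ^ C.m := by
      rw [← h, Nat.mul_div_cancel_left _ (Nat.two_pow_pos _)]
    rw [this]
    omega
  have h1 : S₀ ≠ ⊥ := by
    intro h
    rw [h, Subgroup.card_bot] at hc0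
    have := Nat.one_lt_two_pow (by omega : C.m ≠ 0)
    omega
  have hPmem : ∀ d < 2 ^ C.m, P C d ∈ H C 0 := fun d hd =>
    (mem_H hE hN hP).2 ⟨d, hd, by simp, rfl⟩
  refine group_isSimple_selfNormalizing S₀ hp hidx h1 ?_ ?_ S
  · intro T hT hTc
    rcases eq_or_ne T ⊥ with rfl | hne
    · exact Or.inl rfl
    refine Or.inr (le_antisymm hT ?_)
    set T' := T.map (fixMasks X).subtype
    have hT'S : T' ≤ H C 0 := by
      rintro _ ⟨x, hx, rfl⟩
      exact hT hx
    have hcl : ∀ x ∈ T', ∀ g ∈ fixMasks X, g * x * g⁻¹ ∈ H C 0 → g * x * g⁻¹ ∈ T' := by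
      rintro _ ⟨x, hx, rfl⟩ g hg hgS
      exact ⟨_, hTc x hx ⟨g, hg⟩ hgS, rfl⟩
    have hT'1 : T' ≠ ⊥ := fun h => hne ((Subgroup.map_eq_bot_iff_of_injective _
      (fixMasks X).subtype_injective).1 h)
    have hz : P C (2 ^ (C.m - 1)) ∈ T' := by
      letI : MulAction (H C 0) T' :=
        { smul := fun s t => ⟨s * t * s⁻¹, hcl t t.2 s (hle s.2)
            (mul_mem (mul_mem s.2 (hT'S t.2)) (inv_mem s.2))⟩
          one_smul := fun t => Subtype.ext (by
            show (1 : Equiv.Perm GolayPt) * t * 1⁻¹ = t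
            simp)
          mul_smul := fun a b t => Subtype.ext (by
            show (a : Equiv.Perm GolayPt) * b * t * ((a : Equiv.Perm GolayPt) * b)⁻¹ =
              a * (b * t * (b : Equiv.Perm GolayPt)⁻¹) * (a : Equiv.Perm GolayPt)⁻¹
            group) }
      haveI : Fact (Nat.Prime 2) := ⟨Nat.prime_two⟩
      have hHp : IsPGroup 2 (H C 0) := IsPGroup.of_card (card_H hE hN hP)
      haveI : Nontrivial T' := T'.nontrivial_iff_ne_bot.2 hT'1
      have hdvd : 2 ∣ Nat.card T' := by
        obtain ⟨e, he⟩ := IsPGroup.iff_card.1 (hHp.to_le hT'S)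
        rw [he]
        refine dvd_pow_self 2 fun h0 => ?_
        rw [h0, pow_zero] at he
        have := Finite.one_lt_card (α := T')
        omega
      have hone : (1 : T') ∈ MulAction.fixedPoints (H C 0) T' := fun s => Subtype.ext (by
        show (s : Equiv.Perm GolayPt) * 1 * (s : Equiv.Perm GolayPt)⁻¹ = 1
        simp)
      obtain ⟨t, ht, ht1⟩ :=
        hHp.exists_fixed_point_of_prime_dvd_card_of_fixed_point T' hdvd hone
      rw [← central_unique hE hN hP hQ (hT'S t.2) (fun y hy => ?_)
        (fun h => ht1 (Subtype.ext h.symm))]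
      · exact t.2
      · exact mul_inv_eq_iff_eq_mul.1 (congrArg Subtype.val (ht ⟨y, hy⟩))
    have hall := moves_sound hE hcl hPmem C.moves [2 ^ (C.m - 1)]
      (fun e he => by
        rw [List.mem_singleton] at he
        subst he
        exact ⟨Nat.pow_lt_pow_right one_lt_two (by omega), hz⟩) hMov
    intro x hx
    obtain ⟨y, hy, hyx⟩ := hall hx
    rwa [← (fixMasks X).subtype_injective hyx]
  · intro g hg hodd
    have hgN : (g : Equiv.Perm GolayPt) ∈
        Subgroup.normalizer (H C 0 : Set (Equiv.Perm GolayPt)) := by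
      rw [Subgroup.mem_normalizer_iff]
      intro x
      constructor
      · intro hx
        exact (Subgroup.mem_normalizer_iff.1 hg ⟨x, hle hx⟩).1 hx
      · intro hx
        have hxX : x ∈ fixMasks X := by
          have h2 := mul_mem (mul_mem (inv_mem g.2) (hle hx)) g.2
          simpa [mul_assoc] using h2
        exact (Subgroup.mem_normalizer_iff.1 hg ⟨x, hxX⟩).2 hx
    have hodd' : Odd (orderOf (g : Equiv.Perm GolayPt)) := by
      rwa [Subgroup.orderOf_coe]
    have hcent : ∀ x ∈ H C 0, (g : Equiv.Perm GolayPt) * x * (g : Equiv.Perm GolayPt)⁻¹ = x := by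
      refine commute_of_series (IsPGroup.of_card (card_H hE hN hP)) hodd' (H C) C.m le_rfl ?_ ?_ ?_
        fun j hj a ha b hb => series_step hE hN hP hj ha hb
      · rw [H, Subgroup.closure_eq_bot_iff]
        rintro _ ⟨i, ⟨h1, h2⟩, rfl⟩
        omega
      · intro j _
        exact Subgroup.closure_mono (Set.image_mono fun i hi => ⟨Nat.zero_le i, hi.2⟩)
      · exact fun j hj x hx => H_invariant hE hN hP hQ hLab hS hgN hj hx
    exact Subtype.ext (eq_one_of_centralizes hE hSep g.2 hodd' fun d hd => hcent _ (hPmem d hd))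

end CfsgLib.Fusion.MathieuCert
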