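import Cfsg.Agent.Lib.Fusion.MathieuCert

/-!
A certificate for a group of permutations of the 24 points gives the simplicity of the 2-fusion
system of any larger group in which it has odd index and contains the normalizer of its Sylow
2-subgroup.
-/

set_option autoImplicit false
set_option maxRecDepth 100000
set_option linter.style.haveILetI false
set_option linter.unusedSectionVars false

namespace CfsgLib.Fusion.MathieuCert

open Cfsg CfsgLib.Golay CfsgLib.KnownA.Mathieu
open scoped Pointwise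

variable {G : Type*} [Group G] [Finite G]

/-- The theorem delivered by a certificate for an embedded group. -/
theorem isSimple_of_cert_embed (C : Cert) (X : List ℕ) (φ : fixMasks X →* G)
    (hφ : Function.Injective φ) (N : ℕ) (hcard : Nat.card G = N)
    (hN2 : (N / 2 ^ C.m) % 2 = 1) (hE : okEls C X = true) (hN : okNxt C = true)
    (hP : okPred C = true) (hQ : okSq C = true) (hLab : okLabels C = true)
    (hS : okSeries C = true) (hSep : okSep C X = true)
    (hMov : movesOK C X C.moves [2 ^ (C.m - 1)] = true)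
    (hnorm : ∀ g ∈ Subgroup.normalizer
      ((((H C 0).subgroupOf (fixMasks X)).map φ : Subgroup G) : Set G), g ∈ φ.range)
    (S : Sylow 2 G) :
    (groupFusionSystem (S : Subgroup G)).IsSimple 2 := by
  have hm := one_le_m hE
  set S₀ := (H C 0).subgroupOf (fixMasks X) with hS₀
  have hle := H_le_fix hE (C := C) 0
  have hc0 : Nat.card (S₀.map φ) = 2 ^ C.m := by
    rw [← Nat.card_congr (S₀.equivMapOfInjective φ hφ).toEquiv,
      Nat.card_congr (Subgroup.subgroupOfEquivOfLe hle).toEquiv, card_H hE hN hP]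
  have hp : IsPGroup 2 (S₀.map φ) := IsPGroup.of_card hc0
  have hidx : ¬ 2 ∣ (S₀.map φ).index := by
    have h := Subgroup.card_mul_index (S₀.map φ)
    rw [hc0, hcard] at h
    have : (S₀.map φ).index = N / 2 ^ C.m := by
      rw [← h, Nat.mul_div_cancel_left _ (Nat.two_pow_pos _)]
    rw [this]
    omega
  have h1 : S₀.map φ ≠ ⊥ := by
    intro h
    rw [h, Subgroup.card_bot] at hc0
    have := Nat.one_lt_two_pow (by omega : C.m ≠ 0)
    omega
  have hPmem : ∀ d < 2 ^ C.m, P C d ∈ H C 0 := fun d hd =>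
    (mem_H hE hN hP).2 ⟨d, hd, by simp, rfl⟩
  refine group_isSimple_selfNormalizing (S₀.map φ) hp hidx h1 ?_ ?_ S
  · intro T hT hTc
    rcases eq_or_ne T ⊥ with rfl | hne
    · exact Or.inl rfl
    refine Or.inr (le_antisymm hT ?_)
    set T' := (T.comap φ).map (fixMasks X).subtype
    have hT'S : T' ≤ H C 0 := by
      rintro _ ⟨x, hx, rfl⟩
      obtain ⟨y, hy, hyx⟩ := hT hx
      rw [← hφ hyx]
      exact hy
    have hcl : ∀ x ∈ T', ∀ g ∈ fixMasks X, g * x * g⁻¹ ∈ H C 0 → g * x * g⁻¹ ∈ T' := by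
      rintro _ ⟨x, hx, rfl⟩ g hg hgS
      refine ⟨⟨g, hg⟩ * x * (⟨g, hg⟩ : fixMasks X)⁻¹, ?_, rfl⟩
      show φ _ ∈ T
      have hmem : φ (⟨g, hg⟩ * x * (⟨g, hg⟩ : fixMasks X)⁻¹) ∈ S₀.map φ :=
        Subgroup.mem_map_of_mem φ (show ⟨g, hg⟩ * x * (⟨g, hg⟩ : fixMasks X)⁻¹ ∈ S₀ from hgS)
      rw [map_mul, map_mul, map_inv] at hmem ⊢
      exact hTc (φ x) hx (φ ⟨g, hg⟩) hmem
    have hT'1 : T' ≠ ⊥ := by
      obtain ⟨⟨t, ht⟩, ht1⟩ := T.ne_bot_iff_exists_ne_one.1 hne
      obtain ⟨y, -, rfl⟩ := hT ht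
      intro h
      have hy : (y : Equiv.Perm GolayPt) ∈ T' := ⟨y, ht, rfl⟩
      rw [h, Subgroup.mem_bot] at hy
      have hy1 : y = 1 := Subtype.ext hy
      subst hy1
      exact ht1 (Subtype.ext (map_one φ))
    have hz : P C (2 ^ (C.m - 1)) ∈ T' := by
      letI : MulAction (H C 0) T' :=
        { smul := fun s t => ⟨s * t * s⁻¹, hcl t t.2 s (hle s.2)
            (mul_mem (mul_mem s.2 (hT'S t.2)) (inv_mem s.2))⟩
          one_smul := fun t => Subtype.ext (by
            show (1 : Equiv.Perm GolayPt) * t * 1⁻¹ = t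
            simp)
          mul_smul := fun a b t => Subtype.ext (by
            show (a : Equiv.Perm GolayPt) * b * t * ((a : Equiv.Perm GolayPt) * b)⁻¹ =
              a * (b * t * (b : Equiv.Perm GolayPt)⁻¹) * (a : Equiv.Perm GolayPt)⁻¹
            group) }
      haveI : Fact (Nat.Prime 2) := ⟨Nat.prime_two⟩
      have hHp : IsPGroup 2 (H C 0) := IsPGroup.of_card (card_H hE hN hP)
      haveI : Nontrivial T' := T'.nontrivial_iff_ne_bot.2 hT'1
      have hdvd : 2 ∣ Nat.card T' := by
        obtain ⟨e, he⟩ := IsPGroup.iff_card.1 (hHp.to_le hT'S)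
        rw [he]
        refine dvd_pow_self 2 fun h0 => ?_
        rw [h0, pow_zero] at he
        have := Finite.one_lt_card (α := T')
        omega
      have hone : (1 : T') ∈ MulAction.fixedPoints (H C 0) T' := fun s => Subtype.ext (by
        show (s : Equiv.Perm GolayPt) * 1 * (s : Equiv.Perm GolayPt)⁻¹ = 1
        simp)
      obtain ⟨t, ht, ht1⟩ :=
        hHp.exists_fixed_point_of_prime_dvd_card_of_fixed_point T' hdvd hone
      rw [← central_unique hE hN hP hQ (hT'S t.2) (fun y hy => ?_)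
        (fun h => ht1 (Subtype.ext h.symm))]
      · exact t.2
      · exact mul_inv_eq_iff_eq_mul.1 (congrArg Subtype.val (ht ⟨y, hy⟩))
    have hall := moves_sound hE hcl hPmem C.moves [2 ^ (C.m - 1)]
      (fun e he => by
        rw [List.mem_singleton] at he
        subst he
        exact ⟨Nat.pow_lt_pow_right one_lt_two (by omega), hz⟩) hMov
    rintro _ ⟨x, hx, rfl⟩
    obtain ⟨y, hy, hyx⟩ := hall hx
    rwa [← (fixMasks X).subtype_injective hyx]
  · intro g hg hodd
    obtain ⟨g, rfl⟩ := hnorm g hg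
    have hodd' : Odd (orderOf (g : Equiv.Perm GolayPt)) := by
      rw [Subgroup.orderOf_coe]
      rwa [orderOf_injective φ hφ] at hodd
    have hgS : ∀ x : fixMasks X, x ∈ S₀ ↔ g * x * g⁻¹ ∈ S₀ := fun x => by
      rw [← Subgroup.mem_map_iff_mem hφ (K := S₀), ← Subgroup.mem_map_iff_mem hφ (K := S₀)
        (x := g * x * g⁻¹), map_mul, map_mul, map_inv]
      exact Subgroup.mem_normalizer_iff.1 hg (φ x)
    have hgN : (g : Equiv.Perm GolayPt) ∈
        Subgroup.normalizer (H C 0 : Set (Equiv.Perm GolayPt)) := by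
      rw [Subgroup.mem_normalizer_iff]
      intro x
      constructor
      · intro hx
        exact (hgS ⟨x, hle hx⟩).1 hx
      · intro hx
        have hxX : x ∈ fixMasks X := by
          have h2 := mul_mem (mul_mem (inv_mem g.2) (hle hx)) g.2
          simpa [mul_assoc] using h2
        exact (hgS ⟨x, hxX⟩).2 hx
    have hcent : ∀ x ∈ H C 0, (g : Equiv.Perm GolayPt) * x * (g : Equiv.Perm GolayPt)⁻¹ = x := by
      refine commute_of_series (IsPGroup.of_card (card_H hE hN hP)) hodd' (H C) C.m le_rfl ?_ ?_ ?_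
        fun j hj a ha b hb => series_step hE hN hP hj ha hb
      · rw [H, Subgroup.closure_eq_bot_iff]
        rintro _ ⟨i, ⟨h1, h2⟩, rfl⟩
        omega
      · intro j _
        exact Subgroup.closure_mono (Set.image_mono fun i hi => ⟨Nat.zero_le i, hi.2⟩)
      · exact fun j hj x hx => H_invariant hE hN hP hQ hLab hS hgN hj hx
    rw [show g = 1 from Subtype.ext
      (eq_one_of_centralizes hE hSep g.2 hodd' fun d hd => hcent _ (hPmem d hd)), map_one]

end CfsgLib.Fusion.MathieuCert
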