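import Cfsg.Agent.Lib.Fusion.MathieuCert

/-! The certificate that the 2-fusion system of `M11` is simple. -/

set_option autoImplicit false
set_option maxRecDepth 100000

namespace CfsgLib.Fusion.MathieuCert.M11

/-- Certificate data. -/
def els : CTree :=
  (.node (.node (.node (.node (.leaf 984818244535754528103549039458486304) (.leaf 
    444780054035498696916454447640594464)) (.node (.leaf 466595775391113505876597725632499744) 
    (.leaf 715865315079160221226242363436934176))) (.node (.node (.leaf 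
    486317894067777385906476470720956448) (.leaf 735587421144309950099182594919155744)) (.node 
    (.leaf 425097252063718997693671187165909024) (.leaf 965056821765719142683987426599674912)))) 
    (.node (.node (.node (.leaf 856377456796291930979773524260001824) (.leaf 
    897404965952287837503834665378750496)) (.node (.leaf 630034055089662941550465149732761632) 
    (.leaf 588731458262399560949039262922293280))) (.node (.node (.leaf 
    879264893329572860736714810891616288) (.leaf 837962306391580066238420602333868064)) (.node 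
    (.leaf 606635750426503090090350868217370656) (.leaf 648684985952984778178100424088133664)))))

/-- Certificate data. -/
def idxTree : BTree :=
  (.node 715865315079160221226242363436934176 12 (.node 588731458262399560949039262922293280 13 
    (.node 466595775391113505876597725632499744 4 (.node 444780054035498696916454447640594464 8 
    (.node 425097252063718997693671187165909024 6 .nil .nil) .nil) (.node 
    486317894067777385906476470720956448 2 .nil .nil)) (.node 630034055089662941550465149732761632 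
    5 (.node 606635750426503090090350868217370656 7 .nil .nil) (.node 
    648684985952984778178100424088133664 15 .nil .nil))) (.node 
    879264893329572860736714810891616288 3 (.node 837962306391580066238420602333868064 11 (.node 
    735587421144309950099182594919155744 10 .nil .nil) (.node 856377456796291930979773524260001824 
    1 .nil .nil)) (.node 965056821765719142683987426599674912 14 (.node 
    897404965952287837503834665378750496 9 .nil .nil) (.node 984818244535754528103549039458486304 0 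
    .nil .nil))))

/-- Certificate data. -/
def nxt : CTree :=
  (.node (.node (.node (.node (.node (.node (.node (.node (.leaf 1) (.leaf 9)) (.node (.leaf 5) 
    (.leaf 13))) (.node (.node (.leaf 3) (.leaf 11)) (.node (.leaf 7) (.leaf 15)))) (.node (.node 
    (.node (.leaf 8) (.leaf 0)) (.node (.leaf 12) (.leaf 4))) (.node (.node (.leaf 10) (.leaf 2)) 
    (.node (.leaf 14) (.leaf 6))))) (.leaf 0)) (.leaf 0)) (.node (.node (.node (.node (.node (.node 
    (.leaf 4) (.leaf 12)) (.node (.leaf 8) (.leaf 0))) (.node (.node (.leaf 14) (.leaf 6)) (.node 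
    (.leaf 2) (.leaf 10)))) (.node (.node (.node (.leaf 13) (.leaf 5)) (.node (.leaf 1) (.leaf 9))) 
    (.node (.node (.leaf 7) (.leaf 15)) (.node (.leaf 11) (.leaf 3))))) (.leaf 0)) (.leaf 0))) 
    (.node (.node (.node (.node (.node (.node (.node (.leaf 2) (.leaf 10)) (.node (.leaf 6) (.leaf 
    14))) (.node (.node (.leaf 0) (.leaf 8)) (.node (.leaf 4) (.leaf 12)))) (.node (.node (.node 
    (.leaf 7) (.leaf 15)) (.node (.leaf 11) (.leaf 3))) (.node (.node (.leaf 13) (.leaf 5)) (.node 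
    (.leaf 1) (.leaf 9))))) (.leaf 0)) (.leaf 0)) (.node (.node (.node (.node (.node (.node (.leaf 
    8) (.leaf 0)) (.node (.leaf 12) (.leaf 4))) (.node (.node (.leaf 10) (.leaf 2)) (.node (.leaf 
    14) (.leaf 6)))) (.node (.node (.node (.leaf 9) (.leaf 1)) (.node (.leaf 13) (.leaf 5))) (.node 
    (.node (.leaf 11) (.leaf 3)) (.node (.leaf 15) (.leaf 7))))) (.leaf 0)) (.leaf 0))))

/-- Certificate data. -/
def sq : CTree :=
  (.node (.node (.node (.leaf 0) (.leaf 8)) (.leaf 0)) (.node (.leaf 8) (.node (.leaf 4) (.leaf 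
    12))))

/-- Certificate data. -/
def k0 : CTree :=
  (.node (.node (.node (.node (.leaf 3) (.leaf 2)) (.leaf 1)) (.leaf 2)) (.node (.leaf 1) (.leaf 
    0)))

/-- Certificate data. -/
def k0dict : BTree :=
  (.node 15608 2 (.node 15204 1 (.node 5102 0 .nil .nil) .nil) (.node 15624 3 .nil .nil))

/-- Certificate data. -/
def tab0 : CTree :=
  (.node (.node (.node (.node (.leaf 3) (.leaf 4)) (.leaf 1)) (.leaf 2)) (.node (.leaf 1) (.leaf 
    0)))

/-- Certificate data. -/
def dict0 : BTree :=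
  (.node 33566722 2 (.node 16785409 1 (.node 4096 0 .nil .nil) .nil) (.node 50343938 4 (.node 
    33566723 3 .nil .nil) .nil))

/-- Certificate data. -/
def tab1 : CTree :=
  (.node (.node (.node (.node (.leaf 4) (.leaf 5)) (.leaf 3)) (.leaf 1)) (.node (.leaf 0) (.leaf 
    2)))

/-- Certificate data. -/
def dict1 : BTree :=
  (.node 16385 3 (.node 2 1 (.node 1 0 .nil .nil) (.node 16384 2 .nil .nil)) (.node 16388 5 
    (.node 16387 4 .nil .nil) .nil))

/-- Certificate data. -/
def class1 : List ℕ :=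
  [3, 7, 11, 15]

/-- Certificate data. -/
def classes : List (List ℕ) :=
  [[0, 1, 2, 3, 4, 5], [1, 3, 4, 5], [3, 4, 5], [4, 5]]

/-- Certificate data. -/
def words : List (List (List ℕ)) :=
  [[[1], [2], [4], [4, 4]], [[], [2], [4], [4, 4]], [[], [], [4], [4, 4]], [[], [], [], [8]]]

/-- Certificate data. -/
def sep : List (List ℕ) :=
  [[0, 16, 16, 16, 16, 16, 16, 16, 16, 16, 16, 16, 16, 16, 16, 16, 16, 16, 16, 16, 16, 16, 16, 
    16], [16, 0, 1, 2, 1, 17, 1, 17, 1, 1, 17, 17, 1, 2, 17, 17, 1, 17, 1, 17, 17, 17, 17, 17], 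
    [16, 1, 0, 1, 2, 17, 2, 17, 2, 2, 17, 17, 2, 1, 17, 17, 2, 17, 0, 17, 17, 17, 17, 17], [16, 2, 
    1, 0, 1, 17, 1, 17, 1, 1, 17, 17, 1, 0, 17, 17, 1, 17, 1, 17, 17, 17, 17, 17], [16, 1, 2, 1, 0, 
    17, 6, 17, 6, 0, 17, 17, 10, 1, 17, 17, 10, 17, 2, 17, 17, 17, 17, 17], [16, 17, 17, 17, 17, 0, 
    17, 2, 17, 17, 6, 8, 17, 17, 2, 2, 17, 8, 17, 0, 6, 6, 2, 6], [16, 1, 2, 1, 6, 17, 0, 17, 0, 6, 
    17, 17, 6, 1, 17, 17, 6, 17, 2, 17, 17, 17, 17, 17], [16, 17, 17, 17, 17, 2, 17, 0, 17, 17, 2, 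
    2, 17, 17, 8, 8, 17, 2, 17, 2, 2, 2, 0, 2], [16, 1, 2, 1, 6, 17, 0, 17, 0, 6, 17, 17, 6, 1, 17, 
    17, 6, 17, 2, 17, 17, 17, 17, 17], [16, 1, 2, 1, 0, 17, 6, 17, 6, 0, 17, 17, 10, 1, 17, 17, 10, 
    17, 2, 17, 17, 17, 17, 17], [16, 17, 17, 17, 17, 6, 17, 2, 17, 17, 0, 6, 17, 17, 2, 2, 17, 6, 
    17, 6, 10, 10, 2, 0], [16, 17, 17, 17, 17, 8, 17, 2, 17, 17, 6, 0, 17, 17, 2, 2, 17, 0, 17, 8, 
    6, 6, 2, 6], [16, 1, 2, 1, 10, 17, 6, 17, 6, 10, 17, 17, 0, 1, 17, 17, 0, 17, 2, 17, 17, 17, 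
    17, 17], [16, 2, 1, 0, 1, 17, 1, 17, 1, 1, 17, 17, 1, 0, 17, 17, 1, 17, 1, 17, 17, 17, 17, 17], 
    [16, 17, 17, 17, 17, 2, 17, 8, 17, 17, 2, 2, 17, 17, 0, 0, 17, 2, 17, 2, 2, 2, 8, 2], [16, 17, 
    17, 17, 17, 2, 17, 8, 17, 17, 2, 2, 17, 17, 0, 0, 17, 2, 17, 2, 2, 2, 8, 2], [16, 1, 2, 1, 10, 
    17, 6, 17, 6, 10, 17, 17, 0, 1, 17, 17, 0, 17, 2, 17, 17, 17, 17, 17], [16, 17, 17, 17, 17, 8, 
    17, 2, 17, 17, 6, 0, 17, 17, 2, 2, 17, 0, 17, 8, 6, 6, 2, 6], [16, 1, 0, 1, 2, 17, 2, 17, 2, 2, 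
    17, 17, 2, 1, 17, 17, 2, 17, 0, 17, 17, 17, 17, 17], [16, 17, 17, 17, 17, 0, 17, 2, 17, 17, 6, 
    8, 17, 17, 2, 2, 17, 8, 17, 0, 6, 6, 2, 6], [16, 17, 17, 17, 17, 6, 17, 2, 17, 17, 10, 6, 17, 
    17, 2, 2, 17, 6, 17, 6, 0, 0, 2, 10], [16, 17, 17, 17, 17, 6, 17, 2, 17, 17, 10, 6, 17, 17, 2, 
    2, 17, 6, 17, 6, 0, 0, 2, 10], [16, 17, 17, 17, 17, 2, 17, 0, 17, 17, 2, 2, 17, 17, 8, 8, 17, 
    2, 17, 2, 2, 2, 0, 2], [16, 17, 17, 17, 17, 6, 17, 2, 17, 17, 0, 6, 17, 17, 2, 2, 17, 6, 17, 6, 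
    10, 10, 2, 0]]

/-- Certificate data. -/
def moves : List (List ℕ × ℕ × ℕ) :=
  [([8], 466886455392559431018898263514363456, 2),
    ([8, 2], 437903854642469387825323168624853184, 6),
    ([2, 6], 731761658975873194640307023381567904, 5),
    ([2, 6, 5], 984818244535754528103549039458486304, 1),
    ([6, 2], 984818244535754528103549039458486304, 4)]

/-- The certificate. -/
def cert : Cert :=
  { m := 4, els := els, idx := idxTree, nxt := nxt, sq := sq, k0 := k0, k0dict := k0dict,
    steps := [.sqz tab0 dict0, .comm class1 0 tab1 dict1],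
    classes := classes, words := words, partner := [0, 1, 18, 13, 9, 19, 8, 22, 6, 4, 23, 17, 16, 3, 15, 14, 12, 11, 2, 5, 21, 20, 7, 10],
    sep := sep, moves := moves }

theorem els_ok : okEls cert CfsgLib.Golay.X11 = true := by decide +kernel

theorem nxt_ok : okNxt cert = true := by decide +kernel

theorem pred_ok : okPred cert = true := by decide +kernel

theorem sq_ok : okSq cert = true := by decide +kernel

theorem labels_ok : okLabels cert = true := by decide +kernel

theorem series_ok : okSeries cert = true := by decide +kernel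

theorem sep_ok : okSep cert CfsgLib.Golay.X11 = true := by decide +kernel

theorem moves_ok : movesOK cert CfsgLib.Golay.X11 cert.moves [2 ^ (cert.m - 1)] = true := by decide +kernel

end CfsgLib.Fusion.MathieuCert.M11
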