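import Cfsg.Agent.Lib.Fusion.MathieuCert

/-! The certificate that the 2-fusion system of `M12` is simple. -/

set_option autoImplicit false
set_option maxRecDepth 100000

namespace CfsgLib.Fusion.MathieuCert.M12

/-- Certificate data. -/
def els : CTree :=
  (.node (.node (.node (.node (.node (.node (.leaf 984818244535754528103549039458486304) (.leaf 
    970296026880361490851444743752191270)) (.node (.leaf 721064549862662597311266359538158624) 
    (.leaf 735586767518046189838849015065708838))) (.node (.node (.leaf 
    726540793031248935113236014634180801) (.leaf 733883026546124085945625441590331401)) (.node 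
    (.leaf 983114503556576711025340081728932033) (.leaf 975772270041696837831393854649606153)))) 
    (.node (.node (.node (.leaf 816964726674340312403741859668107296) (.leaf 
    809622495635347601323030240675776806)) (.node (.leaf 851153502255493155128759361107937312) 
    (.leaf 858495733294495310932866694602367270))) (.node (.node (.leaf 
    860199463118896101015374086899043521) (.leaf 845677270222310933014314714378897417)) (.node 
    (.leaf 804146263621500511566181821803759809) (.leaf 818668456518090401929642385017474057))))) 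
    (.node (.node (.node (.node (.leaf 845928014986720888753639071069341984) (.leaf 
    859963454812070188373965565764635686)) (.node (.leaf 818417711753696974483914894103088416) 
    (.leaf 804382271928338230140192933745362982))) (.node (.node (.leaf 
    817403572713698863228470508310306817) (.leaf 809168913177089453036433172656834761)) (.node 
    (.leaf 850714656216127520733829728561285121) (.leaf 858949315752732208563465289942507721)))) 
    (.node (.node (.node (.leaf 975324830235885707264894193849934112) (.leaf 
    983559487296617400067232961491388454)) (.node (.leaf 734330466351947022443742560843483424) 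
    (.leaf 726095809291224774365925133001498662))) (.node (.node (.leaf 
    721309179197215149166510279720242177) (.leaf 735344594263770746621729656988076233)) (.node 
    (.leaf 984573615201180725592165913404213249) (.leaf 970538200134629850498503851118759113)))))) 
    (.node (.node (.node (.node (.node (.leaf 713073281705620136416251770057195778) (.leaf 
    715831679508052417053983208267323971)) (.node (.leaf 962304758729375274727333297929781827) 
    (.leaf 965063156531793388279829860499593474))) (.node (.node (.leaf 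
    973784591413634393427602790643172456) (.leaf 968673431621091836968910369622893650)) (.node 
    (.leaf 724553114409241554890169396541817938) (.leaf 719441954616673025440521055068267624)))) 
    (.node (.node (.node (.leaf 840444397413591063833247921993875560) (.leaf 
    837685979804112251676659502446286930)) (.node (.leaf 798913390806725566675668080001220690) 
    (.leaf 796154973197272727509894886368221288))) (.node (.node (.leaf 
    802523648570904380918183234931820099) (.leaf 807634823218747478840224848237602050)) (.node 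
    (.leaf 844054655185017290233691408217441538) (.leaf 849165829832846221069090766704387651))))) 
    (.node (.node (.node (.node (.leaf 798743753403791383760452203139236418) (.leaf 
    796309874154729465480538071561672963)) (.node (.leaf 840289496456131964689496091968864515) 
    (.leaf 837855617207055879322941220219525698))) (.node (.node (.leaf 
    843980901189793831024159475758302280) (.leaf 849254320259040458109677609764824178)) (.node 
    (.leaf 802435158144726672137346924637619314) (.leaf 807708577213947326232049051850810440)))) 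
    (.node (.node (.node (.leaf 713236759124976266404961286994722888) (.leaf 
    715670658181072910298784201242056818)) (.node (.leaf 962465780056331169665457875479363698) 
    (.leaf 964899679112453786550237576958056520))) (.node (.node (.leaf 
    973864500452770540635546808500913411) (.leaf 968591066528263512163503258032186946)) (.node 
    (.leaf 724635479502067518521693830737331778) (.leaf 719362045577546322964416910685414659)))))))

/-- Certificate data. -/
def idxTree : BTree :=
  (.node 837685979804112251676659502446286930 37 (.node 796154973197272727509894886368221288 53 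
    (.node 724553114409241554890169396541817938 25 (.node 719362045577546322964416910685414659 63 
    (.node 715670658181072910298784201242056818 39 (.node 713236759124976266404961286994722888 7 
    (.node 713073281705620136416251770057195778 1 .nil .nil) .nil) (.node 
    715831679508052417053983208267323971 33 .nil .nil)) (.node 721064549862662597311266359538158624 
    16 (.node 719441954616673025440521055068267624 57 .nil .nil) (.node 
    721309179197215149166510279720242177 14 .nil .nil))) (.node 
    733883026546124085945625441590331401 40 (.node 726095809291224774365925133001498662 54 (.node 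
    724635479502067518521693830737331778 31 .nil .nil) (.node 726540793031248935113236014634180801 
    8 .nil .nil)) (.node 735344594263770746621729656988076233 46 (.node 
    734330466351947022443742560843483424 22 .nil .nil) (.node 735586767518046189838849015065708838 
    48 .nil .nil)))) (.node 807634823218747478840224848237602050 45 (.node 
    802435158144726672137346924637619314 27 (.node 798743753403791383760452203139236418 3 (.node 
    796309874154729465480538071561672963 35 .nil .nil) (.node 798913390806725566675668080001220690 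
    21 .nil .nil)) (.node 804146263621500511566181821803759809 28 (.node 
    802523648570904380918183234931820099 13 .nil .nil) (.node 804382271928338230140192933745362982 
    50 .nil .nil))) (.node 816964726674340312403741859668107296 4 (.node 
    809168913177089453036433172656834761 42 (.node 807708577213947326232049051850810440 59 .nil 
    .nil) (.node 809622495635347601323030240675776806 36 .nil .nil)) (.node 
    818417711753696974483914894103088416 18 (.node 817403572713698863228470508310306817 10 .nil 
    .nil) (.node 818668456518090401929642385017474057 60 .nil .nil))))) (.node 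
    962304758729375274727333297929781827 17 (.node 849165829832846221069090766704387651 61 (.node 
    843980901189793831024159475758302280 11 (.node 840289496456131964689496091968864515 19 (.node 
    837855617207055879322941220219525698 51 .nil .nil) (.node 840444397413591063833247921993875560 
    5 .nil .nil)) (.node 845677270222310933014314714378897417 44 (.node 
    844054655185017290233691408217441538 29 .nil .nil) (.node 845928014986720888753639071069341984 
    2 .nil .nil))) (.node 858495733294495310932866694602367270 52 (.node 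
    850714656216127520733829728561285121 26 (.node 849254320259040458109677609764824178 43 .nil 
    .nil) (.node 851153502255493155128759361107937312 20 .nil .nil)) (.node 
    859963454812070188373965565764635686 34 (.node 858949315752732208563465289942507721 58 .nil 
    .nil) (.node 860199463118896101015374086899043521 12 .nil .nil)))) (.node 
    973784591413634393427602790643172456 9 (.node 968591066528263512163503258032186946 47 (.node 
    964899679112453786550237576958056520 55 (.node 962465780056331169665457875479363698 23 .nil 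
    .nil) (.node 965063156531793388279829860499593474 49 .nil .nil)) (.node 
    970296026880361490851444743752191270 32 (.node 968673431621091836968910369622893650 41 .nil 
    .nil) (.node 970538200134629850498503851118759113 62 .nil .nil))) (.node 
    983114503556576711025340081728932033 24 (.node 975324830235885707264894193849934112 6 (.node 
    973864500452770540635546808500913411 15 .nil .nil) (.node 975772270041696837831393854649606153 
    56 .nil .nil)) (.node 984573615201180725592165913404213249 30 (.node 
    983559487296617400067232961491388454 38 .nil .nil) (.node 984818244535754528103549039458486304 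
    0 .nil .nil))))))

/-- Certificate data. -/
def nxt : CTree :=
  (.node (.node (.node (.node (.node (.node (.node (.node (.node (.node (.leaf 1) (.leaf 33)) 
    (.node (.leaf 17) (.leaf 49))) (.node (.node (.leaf 9) (.leaf 41)) (.node (.leaf 25) (.leaf 
    57)))) (.node (.node (.node (.leaf 5) (.leaf 37)) (.node (.leaf 21) (.leaf 53))) (.node (.node 
    (.leaf 13) (.leaf 45)) (.node (.leaf 29) (.leaf 61))))) (.node (.node (.node (.node (.leaf 3) 
    (.leaf 35)) (.node (.leaf 19) (.leaf 51))) (.node (.node (.leaf 11) (.leaf 43)) (.node (.leaf 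
    27) (.leaf 59)))) (.node (.node (.node (.leaf 7) (.leaf 39)) (.node (.leaf 23) (.leaf 55))) 
    (.node (.node (.leaf 15) (.leaf 47)) (.node (.leaf 31) (.leaf 63)))))) (.node (.node (.node 
    (.node (.node (.leaf 0) (.leaf 32)) (.node (.leaf 16) (.leaf 48))) (.node (.node (.leaf 8) 
    (.leaf 40)) (.node (.leaf 24) (.leaf 56)))) (.node (.node (.node (.leaf 4) (.leaf 36)) (.node 
    (.leaf 20) (.leaf 52))) (.node (.node (.leaf 12) (.leaf 44)) (.node (.leaf 28) (.leaf 60))))) 
    (.node (.node (.node (.node (.leaf 2) (.leaf 34)) (.node (.leaf 18) (.leaf 50))) (.node (.node 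
    (.leaf 10) (.leaf 42)) (.node (.leaf 26) (.leaf 58)))) (.node (.node (.node (.leaf 6) (.leaf 
    38)) (.node (.leaf 22) (.leaf 54))) (.node (.node (.leaf 14) (.leaf 46)) (.node (.leaf 30) 
    (.leaf 62))))))) (.leaf 0)) (.node (.node (.node (.node (.node (.node (.node (.leaf 16) (.leaf 
    48)) (.node (.leaf 0) (.leaf 32))) (.node (.node (.leaf 24) (.leaf 56)) (.node (.leaf 8) (.leaf 
    40)))) (.node (.node (.node (.leaf 20) (.leaf 52)) (.node (.leaf 4) (.leaf 36))) (.node (.node 
    (.leaf 28) (.leaf 60)) (.node (.leaf 12) (.leaf 44))))) (.node (.node (.node (.node (.leaf 18) 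
    (.leaf 50)) (.node (.leaf 2) (.leaf 34))) (.node (.node (.leaf 26) (.leaf 58)) (.node (.leaf 
    10) (.leaf 42)))) (.node (.node (.node (.leaf 22) (.leaf 54)) (.node (.leaf 6) (.leaf 38))) 
    (.node (.node (.leaf 30) (.leaf 62)) (.node (.leaf 14) (.leaf 46)))))) (.node (.node (.node 
    (.node (.node (.leaf 49) (.leaf 17)) (.node (.leaf 33) (.leaf 1))) (.node (.node (.leaf 57) 
    (.leaf 25)) (.node (.leaf 41) (.leaf 9)))) (.node (.node (.node (.leaf 53) (.leaf 21)) (.node 
    (.leaf 37) (.leaf 5))) (.node (.node (.leaf 61) (.leaf 29)) (.node (.leaf 45) (.leaf 13))))) 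
    (.node (.node (.node (.node (.leaf 51) (.leaf 19)) (.node (.leaf 35) (.leaf 3))) (.node (.node 
    (.leaf 59) (.leaf 27)) (.node (.leaf 43) (.leaf 11)))) (.node (.node (.node (.leaf 55) (.leaf 
    23)) (.node (.leaf 39) (.leaf 7))) (.node (.node (.leaf 63) (.leaf 31)) (.node (.leaf 47) 
    (.leaf 15))))))) (.leaf 0))) (.node (.node (.node (.node (.node (.node (.node (.node (.leaf 4) 
    (.leaf 36)) (.node (.leaf 20) (.leaf 52))) (.node (.node (.leaf 12) (.leaf 44)) (.node (.leaf 
    28) (.leaf 60)))) (.node (.node (.node (.leaf 16) (.leaf 48)) (.node (.leaf 0) (.leaf 32))) 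
    (.node (.node (.leaf 24) (.leaf 56)) (.node (.leaf 8) (.leaf 40))))) (.node (.node (.node 
    (.node (.leaf 22) (.leaf 54)) (.node (.leaf 6) (.leaf 38))) (.node (.node (.leaf 30) (.leaf 
    62)) (.node (.leaf 14) (.leaf 46)))) (.node (.node (.node (.leaf 2) (.leaf 34)) (.node (.leaf 
    18) (.leaf 50))) (.node (.node (.leaf 10) (.leaf 42)) (.node (.leaf 26) (.leaf 58)))))) (.node 
    (.node (.node (.node (.node (.leaf 29) (.leaf 61)) (.node (.leaf 13) (.leaf 45))) (.node (.node 
    (.leaf 53) (.leaf 21)) (.node (.leaf 37) (.leaf 5)))) (.node (.node (.node (.leaf 9) (.leaf 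
    41)) (.node (.leaf 25) (.leaf 57))) (.node (.node (.leaf 33) (.leaf 1)) (.node (.leaf 49) 
    (.leaf 17))))) (.node (.node (.node (.node (.leaf 47) (.leaf 15)) (.node (.leaf 63) (.leaf 
    31))) (.node (.node (.leaf 7) (.leaf 39)) (.node (.leaf 23) (.leaf 55)))) (.node (.node (.node 
    (.leaf 59) (.leaf 27)) (.node (.leaf 43) (.leaf 11))) (.node (.node (.leaf 19) (.leaf 51)) 
    (.node (.leaf 3) (.leaf 35))))))) (.leaf 0)) (.leaf 0))) (.node (.node (.node (.node (.node 
    (.node (.node (.node (.node (.leaf 2) (.leaf 34)) (.node (.leaf 18) (.leaf 50))) (.node (.node 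
    (.leaf 10) (.leaf 42)) (.node (.leaf 26) (.leaf 58)))) (.node (.node (.node (.leaf 6) (.leaf 
    38)) (.node (.leaf 22) (.leaf 54))) (.node (.node (.leaf 14) (.leaf 46)) (.node (.leaf 30) 
    (.leaf 62))))) (.node (.node (.node (.node (.leaf 0) (.leaf 32)) (.node (.leaf 16) (.leaf 48))) 
    (.node (.node (.leaf 8) (.leaf 40)) (.node (.leaf 24) (.leaf 56)))) (.node (.node (.node (.leaf 
    4) (.leaf 36)) (.node (.leaf 20) (.leaf 52))) (.node (.node (.leaf 12) (.leaf 44)) (.node 
    (.leaf 28) (.leaf 60)))))) (.node (.node (.node (.node (.node (.leaf 3) (.leaf 35)) (.node 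
    (.leaf 19) (.leaf 51))) (.node (.node (.leaf 11) (.leaf 43)) (.node (.leaf 27) (.leaf 59)))) 
    (.node (.node (.node (.leaf 7) (.leaf 39)) (.node (.leaf 23) (.leaf 55))) (.node (.node (.leaf 
    15) (.leaf 47)) (.node (.leaf 31) (.leaf 63))))) (.node (.node (.node (.node (.leaf 1) (.leaf 
    33)) (.node (.leaf 17) (.leaf 49))) (.node (.node (.leaf 9) (.leaf 41)) (.node (.leaf 25) 
    (.leaf 57)))) (.node (.node (.node (.leaf 5) (.leaf 37)) (.node (.leaf 21) (.leaf 53))) (.node 
    (.node (.leaf 13) (.leaf 45)) (.node (.leaf 29) (.leaf 61))))))) (.leaf 0)) (.node (.node 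
    (.node (.node (.node (.node (.node (.leaf 32) (.leaf 0)) (.node (.leaf 48) (.leaf 16))) (.node 
    (.node (.leaf 40) (.leaf 8)) (.node (.leaf 56) (.leaf 24)))) (.node (.node (.node (.leaf 36) 
    (.leaf 4)) (.node (.leaf 52) (.leaf 20))) (.node (.node (.leaf 44) (.leaf 12)) (.node (.leaf 
    60) (.leaf 28))))) (.node (.node (.node (.node (.leaf 34) (.leaf 2)) (.node (.leaf 50) (.leaf 
    18))) (.node (.node (.leaf 42) (.leaf 10)) (.node (.leaf 58) (.leaf 26)))) (.node (.node (.node 
    (.leaf 38) (.leaf 6)) (.node (.leaf 54) (.leaf 22))) (.node (.node (.leaf 46) (.leaf 14)) 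
    (.node (.leaf 62) (.leaf 30)))))) (.node (.node (.node (.node (.node (.leaf 33) (.leaf 1)) 
    (.node (.leaf 49) (.leaf 17))) (.node (.node (.leaf 41) (.leaf 9)) (.node (.leaf 57) (.leaf 
    25)))) (.node (.node (.node (.leaf 37) (.leaf 5)) (.node (.leaf 53) (.leaf 21))) (.node (.node 
    (.leaf 45) (.leaf 13)) (.node (.leaf 61) (.leaf 29))))) (.node (.node (.node (.node (.leaf 35) 
    (.leaf 3)) (.node (.leaf 51) (.leaf 19))) (.node (.node (.leaf 43) (.leaf 11)) (.node (.leaf 
    59) (.leaf 27)))) (.node (.node (.node (.leaf 39) (.leaf 7)) (.node (.leaf 55) (.leaf 23))) 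
    (.node (.node (.leaf 47) (.leaf 15)) (.node (.leaf 63) (.leaf 31))))))) (.leaf 0))) (.node 
    (.node (.node (.node (.node (.node (.node (.node (.leaf 8) (.leaf 40)) (.node (.leaf 24) (.leaf 
    56))) (.node (.node (.leaf 32) (.leaf 0)) (.node (.leaf 48) (.leaf 16)))) (.node (.node (.node 
    (.leaf 12) (.leaf 44)) (.node (.leaf 28) (.leaf 60))) (.node (.node (.leaf 36) (.leaf 4)) 
    (.node (.leaf 52) (.leaf 20))))) (.node (.node (.node (.node (.leaf 42) (.leaf 10)) (.node 
    (.leaf 58) (.leaf 26))) (.node (.node (.leaf 2) (.leaf 34)) (.node (.leaf 18) (.leaf 50)))) 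
    (.node (.node (.node (.leaf 46) (.leaf 14)) (.node (.leaf 62) (.leaf 30))) (.node (.node (.leaf 
    6) (.leaf 38)) (.node (.leaf 22) (.leaf 54)))))) (.node (.node (.node (.node (.node (.leaf 9) 
    (.leaf 41)) (.node (.leaf 25) (.leaf 57))) (.node (.node (.leaf 33) (.leaf 1)) (.node (.leaf 
    49) (.leaf 17)))) (.node (.node (.node (.leaf 13) (.leaf 45)) (.node (.leaf 29) (.leaf 61))) 
    (.node (.node (.leaf 37) (.leaf 5)) (.node (.leaf 53) (.leaf 21))))) (.node (.node (.node 
    (.node (.leaf 43) (.leaf 11)) (.node (.leaf 59) (.leaf 27))) (.node (.node (.leaf 3) (.leaf 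
    35)) (.node (.leaf 19) (.leaf 51)))) (.node (.node (.node (.leaf 47) (.leaf 15)) (.node (.leaf 
    63) (.leaf 31))) (.node (.node (.leaf 7) (.leaf 39)) (.node (.leaf 23) (.leaf 55))))))) (.leaf 
    0)) (.leaf 0))))

/-- Certificate data. -/
def sq : CTree :=
  (.node (.node (.node (.node (.leaf 0) (.leaf 32)) (.node (.leaf 16) (.leaf 48))) (.leaf 0)) 
    (.node (.node (.node (.node (.leaf 0) (.leaf 32)) (.node (.leaf 32) (.leaf 0))) (.node (.node 
    (.leaf 8) (.leaf 40)) (.node (.leaf 40) (.leaf 8)))) (.node (.node (.node (.leaf 0) (.leaf 32)) 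
    (.node (.leaf 0) (.leaf 32))) (.node (.node (.leaf 56) (.leaf 24)) (.node (.leaf 56) (.leaf 
    24))))))

/-- Certificate data. -/
def k0 : CTree :=
  (.node (.node (.node (.node (.node (.node (.leaf 4) (.leaf 3)) (.leaf 3)) (.leaf 1)) (.leaf 1)) 
    (.node (.node (.leaf 3) (.leaf 2)) (.leaf 3))) (.node (.node (.node (.node (.leaf 2) (.leaf 1)) 
    (.node (.leaf 1) (.leaf 2))) (.leaf 0)) (.node (.node (.node (.leaf 2) (.leaf 1)) (.node (.leaf 
    2) (.leaf 1))) (.leaf 0))))

/-- Certificate data. -/
def k0dict : BTree :=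
  (.node 15600 2 (.node 15204 1 (.node 5102 0 .nil .nil) .nil) (.node 15624 4 (.node 15608 3 .nil 
    .nil) .nil))

/-- Certificate data. -/
def tab0 : CTree :=
  (.node (.node (.node (.node (.node (.node (.leaf 4) (.leaf 5)) (.leaf 3)) (.leaf 1)) (.leaf 1)) 
    (.node (.node (.leaf 3) (.leaf 2)) (.leaf 3))) (.node (.node (.node (.node (.leaf 2) (.leaf 1)) 
    (.node (.leaf 1) (.leaf 2))) (.leaf 0)) (.node (.node (.node (.leaf 2) (.leaf 1)) (.node (.leaf 
    2) (.leaf 1))) (.leaf 0))))

/-- Certificate data. -/
def dict0 : BTree :=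
  (.node 50348035 3 (.node 16789505 1 (.node 4096 0 .nil .nil) (.node 33570818 2 .nil .nil)) 
    (.node 67125251 5 (.node 50348036 4 .nil .nil) .nil))

/-- Certificate data. -/
def tab1 : CTree :=
  (.node (.node (.node (.node (.node (.node (.leaf 6) (.leaf 5)) (.leaf 4)) (.leaf 2)) (.leaf 1)) 
    (.node (.node (.leaf 4) (.leaf 3)) (.leaf 4))) (.node (.node (.node (.node (.leaf 3) (.leaf 2)) 
    (.node (.leaf 2) (.leaf 3))) (.leaf 0)) (.node (.node (.node (.leaf 3) (.leaf 2)) (.node (.leaf 
    3) (.leaf 2))) (.leaf 0))))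

/-- Certificate data. -/
def dict1 : BTree :=
  (.node 33570818 3 (.node 16789505 1 (.node 4096 0 .nil .nil) (.node 16797697 2 .nil .nil)) 
    (.node 67125253 5 (.node 50348035 4 .nil .nil) (.node 83902468 6 .nil .nil)))

/-- Certificate data. -/
def tab2 : CTree :=
  (.node (.node (.node (.node (.node (.node (.leaf 8) (.leaf 7)) (.leaf 6)) (.leaf 5)) (.leaf 4)) 
    (.node (.node (.leaf 3) (.leaf 2)) (.leaf 3))) (.node (.node (.node (.node (.leaf 2) (.leaf 1)) 
    (.node (.leaf 1) (.leaf 2))) (.leaf 0)) (.node (.node (.node (.leaf 2) (.leaf 1)) (.node (.leaf 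
    2) (.leaf 1))) (.leaf 0))))

/-- Certificate data. -/
def dict2 : BTree :=
  (.node 32769 4 (.node 3 2 (.node 2 1 (.node 0 0 .nil .nil) .nil) (.node 4 3 .nil .nil)) (.node 
    32773 7 (.node 32772 6 (.node 32770 5 .nil .nil) .nil) (.node 32774 8 .nil .nil)))

/-- Certificate data. -/
def class2 : List ℕ :=
  [4, 12, 20, 28, 36, 44, 52, 60]

/-- Certificate data. -/
def classes : List (List ℕ) :=
  [[0, 1, 2, 3, 4, 5, 6, 7, 8], [3, 4, 5, 6, 7, 8], [4, 5, 6, 7, 8], [5, 6, 7, 8], [6, 7, 8], [7, 
    8]]

/-- Certificate data. -/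
def words : List (List (List ℕ)) :=
  [[[1], [2], [4], [4, 30, 2], [16], [16, 1, 16, 1]], [[], [2], [4], [4, 30, 2], [16], [16, 2, 
    30, 2, 30]], [[], [], [4], [4, 28], [16], [16, 28, 28]], [[], [], [], [8], [16], [8, 8]], [[], 
    [], [], [], [16], [16, 48]], [[], [], [], [], [], [32]]]

/-- Certificate data. -/
def sep : List (List ℕ) :=
  [[0, 2, 4, 4, 2, 64, 0, 64, 2, 2, 64, 64, 2, 2, 64, 64, 2, 64, 2, 64, 64, 64, 64, 64], [2, 0, 
    2, 2, 4, 64, 2, 64, 4, 0, 64, 64, 4, 4, 64, 64, 4, 64, 4, 64, 64, 64, 64, 64], [4, 2, 0, 0, 2, 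
    64, 4, 64, 2, 2, 64, 64, 2, 2, 64, 64, 2, 64, 2, 64, 64, 64, 64, 64], [4, 2, 0, 0, 2, 64, 4, 
    64, 2, 2, 64, 64, 2, 2, 64, 64, 2, 64, 2, 64, 64, 64, 64, 64], [2, 4, 2, 2, 0, 64, 2, 64, 5, 4, 
    64, 64, 0, 5, 64, 64, 5, 64, 5, 64, 64, 64, 64, 64], [64, 64, 64, 64, 64, 0, 64, 0, 64, 64, 2, 
    6, 64, 64, 2, 2, 64, 9, 64, 6, 6, 2, 6, 9], [0, 2, 4, 4, 2, 64, 0, 64, 2, 2, 64, 64, 2, 2, 64, 
    64, 2, 64, 2, 64, 64, 64, 64, 64], [64, 64, 64, 64, 64, 0, 64, 0, 64, 64, 2, 6, 64, 64, 2, 2, 
    64, 9, 64, 6, 6, 2, 6, 9], [2, 4, 2, 2, 5, 64, 2, 64, 0, 4, 64, 64, 5, 6, 64, 64, 6, 64, 0, 64, 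
    64, 64, 64, 64], [2, 0, 2, 2, 4, 64, 2, 64, 4, 0, 64, 64, 4, 4, 64, 64, 4, 64, 4, 64, 64, 64, 
    64, 64], [64, 64, 64, 64, 64, 2, 64, 2, 64, 64, 0, 2, 64, 64, 0, 12, 64, 2, 64, 2, 2, 12, 2, 
    2], [64, 64, 64, 64, 64, 6, 64, 6, 64, 64, 2, 0, 64, 64, 2, 2, 64, 6, 64, 7, 7, 2, 0, 6], [2, 
    4, 2, 2, 0, 64, 2, 64, 5, 4, 64, 64, 0, 5, 64, 64, 5, 64, 5, 64, 64, 64, 64, 64], [2, 4, 2, 2, 
    5, 64, 2, 64, 6, 4, 64, 64, 5, 0, 64, 64, 0, 64, 6, 64, 64, 64, 64, 64], [64, 64, 64, 64, 64, 
    2, 64, 2, 64, 64, 0, 2, 64, 64, 0, 12, 64, 2, 64, 2, 2, 12, 2, 2], [64, 64, 64, 64, 64, 2, 64, 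
    2, 64, 64, 12, 2, 64, 64, 12, 0, 64, 2, 64, 2, 2, 0, 2, 2], [2, 4, 2, 2, 5, 64, 2, 64, 6, 4, 
    64, 64, 5, 0, 64, 64, 0, 64, 6, 64, 64, 64, 64, 64], [64, 64, 64, 64, 64, 9, 64, 9, 64, 64, 2, 
    6, 64, 64, 2, 2, 64, 0, 64, 6, 6, 2, 6, 0], [2, 4, 2, 2, 5, 64, 2, 64, 0, 4, 64, 64, 5, 6, 64, 
    64, 6, 64, 0, 64, 64, 64, 64, 64], [64, 64, 64, 64, 64, 6, 64, 6, 64, 64, 2, 7, 64, 64, 2, 2, 
    64, 6, 64, 0, 0, 2, 7, 6], [64, 64, 64, 64, 64, 6, 64, 6, 64, 64, 2, 7, 64, 64, 2, 2, 64, 6, 
    64, 0, 0, 2, 7, 6], [64, 64, 64, 64, 64, 2, 64, 2, 64, 64, 12, 2, 64, 64, 12, 0, 64, 2, 64, 2, 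
    2, 0, 2, 2], [64, 64, 64, 64, 64, 6, 64, 6, 64, 64, 2, 0, 64, 64, 2, 2, 64, 6, 64, 7, 7, 2, 0, 
    6], [64, 64, 64, 64, 64, 9, 64, 9, 64, 64, 2, 6, 64, 64, 2, 2, 64, 0, 64, 6, 6, 2, 6, 0]]

/-- Certificate data. -/
def moves : List (List ℕ × ℕ × ℕ) :=
  [([32], 630526398638371012713928542933552420, 14),
    ([14], 803129370150569825208325898903892160, 48),
    ([14], 816963360099316419827536795945931180, 18),
    ([32, 18], 479778480770105477311479298031562753, 22),
    ([14, 22, 18], 982040806968564096982327781788595250, 3),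
    ([48, 3, 18], 984818244535754528103549039458486304, 1),
    ([32, 48, 18], 984818244535754528103549039458486304, 2),
    ([22, 18], 984818244535754528103549039458486304, 4),
    ([48, 22, 14], 984818244535754528103549039458486304, 8),
    ([32, 48], 984818244535754528103549039458486304, 16)]

/-- The certificate. -/
def cert : Cert :=
  { m := 6, els := els, idx := idxTree, nxt := nxt, sq := sq, k0 := k0, k0dict := k0dict,
    steps := [.sqz tab0 dict0, .sqz tab1 dict1, .comm class2 1 tab2 dict2],
    classes := classes, words := words, partner := [6, 9, 3, 2, 12, 7, 0, 5, 18, 1, 14, 22, 4, 16, 10, 21, 13, 23, 8, 20, 19, 15, 11, 17],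
    sep := sep, moves := moves }

theorem els_ok : okEls cert CfsgLib.Golay.X12 = true := by decide +kernel

theorem nxt_ok : okNxt cert = true := by decide +kernel

theorem pred_ok : okPred cert = true := by decide +kernel

theorem sq_ok : okSq cert = true := by decide +kernel

theorem labels_ok : okLabels cert = true := by decide +kernel

theorem series_ok : okSeries cert = true := by decide +kernel

theorem sep_ok : okSep cert CfsgLib.Golay.X12 = true := by decide +kernel

theorem moves_ok : movesOK cert CfsgLib.Golay.X12 cert.moves [2 ^ (cert.m - 1)] = true := by decide +kernel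

end CfsgLib.Fusion.MathieuCert.M12
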