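import Cfsg.Agent.Lib.Fusion.MathieuCert

/-! The certificate that the 2-fusion system of `M22` is simple. -/

set_option autoImplicit false
set_option maxRecDepth 100000

namespace CfsgLib.Fusion.MathieuCert.M22

/-- Certificate data. -/
def els : CTree :=
  (.node (.node (.node (.node (.node (.node (.node (.leaf 984818244535754528103549039458486304) 
    (.leaf 983560022009555626396609859128801888)) (.node (.leaf 
    973662324848730782428376625876882528) (.leaf 958572172218996568532729491323738240))) (.node 
    (.node (.leaf 966077014024434224983489226942686368) (.leaf 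
    964819227369090431314856196510882176)) (.node (.leaf 963562193227185498523716615193927136) 
    (.leaf 967334642880962266844004771788366368)))) (.node (.node (.node (.leaf 
    973662912979506284570855774517056544) (.leaf 958572087258221335466802466369198688)) (.node 
    (.leaf 984817643663241256181675499491199072) (.leaf 983560094924254361760359223381309568))) 
    (.node (.node (.leaf 963562001469185213953184402664561824) (.leaf 
    967334252318246576086866439314121088)) (.node (.leaf 966077218910650763820170868624106976) 
    (.leaf 964819629591404135287417151862217248))))) (.node (.node (.node (.node (.leaf 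
    966065889199318864952172779198879776) (.leaf 964807666673130604710404469913921120)) (.node 
    (.leaf 963550276003438930726346786751488096) (.leaf 967322764305103136119811705171647616))) 
    (.node (.node (.leaf 983549042254642931544766381100140704) (.leaf 
    984806274390134194629743503195224448)) (.node (.leaf 958561311616555218205126848157210080) 
    (.leaf 973651345829169616316124975469877792)))) (.node (.node (.node (.leaf 
    967323392335001944357420755179412512) (.leaf 963550151172554611209019362858082912)) (.node 
    (.leaf 964807778945882767887417264821609568) (.leaf 966065248997766384860765311005137024))) 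
    (.node (.node (.leaf 973651232589163464111039736547170464) (.leaf 
    958560842506831175438812039647581568)) (.node (.leaf 984806756521764575121331939741940192) 
    (.leaf 983549167202528574218691039157455392)))))) (.node (.node (.node (.node (.node (.leaf 
    957477348063992948729814294943404096) (.leaf 980112041774046464091431010282704320)) (.node 
    (.leaf 959465341040502816019537955519549088) (.leaf 960722810937812753837076673647281856))) 
    (.node (.node (.leaf 962385382212605226783770673747838240) (.leaf 
    971188066861484045458390847816219840)) (.node (.leaf 975569026947800413032290422203134176) 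
    (.leaf 978084006588354395877251962411095296)))) (.node (.node (.node (.leaf 
    957477672448975497679624850798351008) (.leaf 980112801836627144597770789680778944)) (.node 
    (.leaf 959465031600185250854466520789732416) (.leaf 960722065665305663321183418001851840))) 
    (.node (.node (.leaf 962385453735528158431821880638096608) (.leaf 
    971187979425659918744287993465617664)) (.node (.leaf 975568941059930224330741490685030688) 
    (.leaf 978084078654387205869666896511767744))))) (.node (.node (.node (.node (.leaf 
    957465749107953471893346204537556160) (.leaf 980100799344735950637519285035208992)) (.node 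
    (.leaf 959453345710763742583463444346078464) (.leaf 960710894256475986235755031331818720))) 
    (.node (.node (.leaf 962374282338735760065456685864139840) (.leaf 
    971176372699095287505667462720570816)) (.node (.leaf 975558165416457803042747155283908256) 
    (.leaf 978073144709164631942774194186564288)))) (.node (.node (.node (.leaf 
    957465701762074041880957799567133920) (.leaf 980100830801892701953630627902558464)) (.node 
    (.leaf 959453298985289887813369782640837920) (.leaf 960710927184290978666489280976899264))) 
    (.node (.node (.leaf 962374566981604248352148375828774592) (.leaf 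
    971177172479611512305351522651686560)) (.node (.leaf 975557380633723742556368064932910528) 
    (.leaf 978072874754895520378414008805044288))))))) (.node (.node (.node (.node (.node (.node 
    (.leaf 963550867471869447153260896577527840) (.leaf 967322682875222138829913951421177440)) 
    (.node (.leaf 966065292438550909658575783383898208) (.leaf 
    964807743506335393706467890782315648))) (.node (.node (.leaf 
    958561110530407842715380622439273632) (.leaf 973650945281293454822318926693128576)) (.node 
    (.leaf 983549236652294703748354546043587040) (.leaf 984806666780896599407666966883908128)))) 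
    (.node (.node (.node (.leaf 964808369716234213634456362121569312) (.leaf 
    966065165787666601831819641306061408)) (.node (.leaf 967322794489676433894843151795461216) 
    (.leaf 963550226612019098951462892778594432))) (.node (.node (.leaf 
    984806555283443627498823228478503072) (.leaf 983548769285123841278409189421975936)) (.node 
    (.leaf 973651428148668511438572570019256800) (.leaf 958561236214038161513552548303394336))))) 
    (.node (.node (.node (.node (.leaf 958572796407684634971422541721229344) (.leaf 
    973662195828805096603049043090888288)) (.node (.leaf 983560131021948119402835186027640928) 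
    (.leaf 984817600726011730274300464127903872))) (.node (.node (.leaf 
    967334527066548472231199617481941152) (.leaf 963561722277362894676620383469739392)) (.node 
    (.leaf 964819706422908878114923540776131040) (.leaf 966077136628817093690423184794723872)))) 
    (.node (.node (.node (.leaf 983560732202510771760283209707927584) (.leaf 
    984817528815023647423495829229537888)) (.node (.leaf 958572209746660633463095447753119840) 
    (.leaf 973662282954993102379918393154851968))) (.node (.node (.leaf 
    964819501537674635316171326426159264) (.leaf 966076732938867444704975244597175680)) (.node 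
    (.leaf 967334717818722548668609484338405856) (.leaf 963562110365634136248225026283019808)))))) 
    (.node (.node (.node (.node (.node (.leaf 975557852331153629026367001497113664) (.leaf 
    978072395637079543391174487622463936)) (.node (.leaf 962374602924140306369313226847895200) 
    (.leaf 971177129116689363771831427950266048))) (.node (.node (.leaf 
    960710817964341050158705859911503136) (.leaf 959453426947405502241281998818870464)) (.node 
    (.leaf 980100881083799710152641036065902816) (.leaf 957465672313396535957972289325403392)))) 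
    (.node (.node (.node (.leaf 978073194178446839980586402870407840) (.leaf 
    975558135734873189102569122649151168)) (.node (.leaf 971176857923271323998359114865132608) 
    (.leaf 962373816902257317671284550704741824))) (.node (.node (.leaf 
    959453381886206908617888920937628896) (.leaf 960710851706178637863501239228353792)) (.node 
    (.leaf 957465625781539701220297486131006752) (.leaf 980100914205231722614800490652995776))))) 
    (.node (.node (.node (.node (.leaf 975569063302164609605354638267396288) (.leaf 
    978083962787007740780195117835457824)) (.node (.leaf 962385418141843115784940946214569216) 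
    (.leaf 971188023485263697934113287774190816))) (.node (.node (.leaf 
    960722543430447394230161524690420800) (.leaf 959464558781968195163235255689366976)) (.node 
    (.leaf 980112844001466431623916045694209696) (.leaf 957477635231060885870204889139188416)))) 
    (.node (.node (.node (.leaf 978084048986100790920862552845227232) (.leaf 
    975568990542510601383932054293655808)) (.node (.leaf 971187950182499811367030487024647456) 
    (.leaf 962385502792982227914350947957228736))) (.node (.node (.leaf 
    959465305213910665355259789793775296) (.leaf 960722854184791732865908477385574048)) (.node 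
    (.leaf 957476876327915585039633903697727936) (.leaf 
    980112520930510656145143492306963520))))))))

/-- Certificate data. -/
def idxTree : BTree :=
  (.node 967322682875222138829913951421177440 65 (.node 962373816902257317671284550704741824 107 
    (.node 959453298985289887813369782640837920 46 (.node 958560842506831175438812039647581568 92 
    (.node 957476876327915585039633903697727936 63 (.node 957465701762074041880957799567133920 14 
    (.node 957465672313396535957972289325403392 115 (.node 957465625781539701220297486131006752 59 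
    .nil .nil) .nil) (.node 957465749107953471893346204537556160 6 .nil .nil)) (.node 
    957477635231060885870204889139188416 119 (.node 957477348063992948729814294943404096 2 .nil 
    .nil) (.node 957477672448975497679624850798351008 10 .nil .nil))) (.node 
    958572087258221335466802466369198688 72 (.node 958561236214038161513552548303394336 121 (.node 
    958561110530407842715380622439273632 17 .nil .nil) (.node 958561311616555218205126848157210080 
    52 .nil .nil)) (.node 958572209746660633463095447753119840 45 (.node 
    958572172218996568532729491323738240 96 .nil .nil) (.node 958572796407684634971422541721229344 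
    5 .nil .nil)))) (.node 960710817964341050158705859911503136 19 (.node 
    959464558781968195163235255689366976 87 (.node 959453381886206908617888920937628896 27 (.node 
    959453345710763742583463444346078464 38 .nil .nil) (.node 959453426947405502241281998818870464 
    83 .nil .nil)) (.node 959465305213910665355259789793775296 31 (.node 
    959465031600185250854466520789732416 42 .nil .nil) (.node 959465341040502816019537955519549088 
    34 .nil .nil))) (.node 960722065665305663321183418001851840 106 (.node 
    960710894256475986235755031331818720 102 (.node 960710851706178637863501239228353792 91 .nil 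
    .nil) (.node 960710927184290978666489280976899264 110 .nil .nil)) (.node 
    960722810937812753837076673647281856 98 (.node 960722543430447394230161524690420800 23 .nil 
    .nil) (.node 960722854184791732865908477385574048 95 .nil .nil))))) (.node 
    964807666673130604710404469913921120 68 (.node 963550151172554611209019362858082912 76 (.node 
    962385382212605226783770673747838240 18 (.node 962374566981604248352148375828774592 30 (.node 
    962374282338735760065456685864139840 22 .nil .nil) (.node 962374602924140306369313226847895200 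
    35 .nil .nil)) (.node 962385453735528158431821880638096608 26 (.node 
    962385418141843115784940946214569216 39 .nil .nil) (.node 962385502792982227914350947957228736 
    111 .nil .nil))) (.node 963561722277362894676620383469739392 85 (.node 
    963550276003438930726346786751488096 36 (.node 963550226612019098951462892778594432 105 .nil 
    .nil) (.node 963550867471869447153260896577527840 1 .nil .nil)) (.node 
    963562110365634136248225026283019808 125 (.node 963562001469185213953184402664561824 24 .nil 
    .nil) (.node 963562193227185498523716615193927136 48 .nil .nil)))) (.node 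
    966065165787666601831819641306061408 73 (.node 964819227369090431314856196510882176 80 (.node 
    964807778945882767887417264821609568 44 (.node 964807743506335393706467890782315648 97 .nil 
    .nil) (.node 964808369716234213634456362121569312 9 .nil .nil)) (.node 
    964819629591404135287417151862217248 120 (.node 964819501537674635316171326426159264 29 .nil 
    .nil) (.node 964819706422908878114923540776131040 53 .nil .nil))) (.node 
    966076732938867444704975244597175680 93 (.node 966065292438550909658575783383898208 33 (.node 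
    966065248997766384860765311005137024 108 .nil .nil) (.node 966065889199318864952172779198879776 
    4 .nil .nil)) (.node 966077136628817093690423184794723872 117 (.node 
    966077014024434224983489226942686368 16 .nil .nil) (.node 966077218910650763820170868624106976 
    56 .nil .nil)))))) (.node 978072395637079543391174487622463936 67 (.node 
    973650945281293454822318926693128576 81 (.node 971176372699095287505667462720570816 86 (.node 
    967334252318246576086866439314121088 88 (.node 967322794489676433894843151795461216 41 (.node 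
    967322764305103136119811705171647616 100 .nil .nil) (.node 967323392335001944357420755179412512 
    12 .nil .nil)) (.node 967334642880962266844004771788366368 112 (.node 
    967334527066548472231199617481941152 21 .nil .nil) (.node 967334717818722548668609484338405856 
    61 .nil .nil))) (.node 971187950182499811367030487024647456 47 (.node 
    971177129116689363771831427950266048 99 (.node 971176857923271323998359114865132608 43 .nil 
    .nil) (.node 971177172479611512305351522651686560 94 .nil .nil)) (.node 
    971188023485263697934113287774190816 103 (.node 971187979425659918744287993465617664 90 .nil 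
    .nil) (.node 971188066861484045458390847816219840 82 .nil .nil)))) (.node 
    975557380633723742556368064932910528 62 (.node 973662195828805096603049043090888288 69 (.node 
    973651345829169616316124975469877792 116 (.node 973651232589163464111039736547170464 28 .nil 
    .nil) (.node 973651428148668511438572570019256800 57 .nil .nil)) (.node 
    973662324848730782428376625876882528 32 (.node 973662282954993102379918393154851968 109 .nil 
    .nil) (.node 973662912979506284570855774517056544 8 .nil .nil))) (.node 
    975568941059930224330741490685030688 58 (.node 975558135734873189102569122649151168 75 (.node 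
    975557852331153629026367001497113664 3 .nil .nil) (.node 975558165416457803042747155283908256 
    54 .nil .nil)) (.node 975569026947800413032290422203134176 50 (.node 
    975568990542510601383932054293655808 79 .nil .nil) (.node 975569063302164609605354638267396288 
    7 .nil .nil))))) (.node 983548769285123841278409189421975936 89 (.node 
    980100799344735950637519285035208992 70 (.node 978083962787007740780195117835457824 71 (.node 
    978073144709164631942774194186564288 118 (.node 978072874754895520378414008805044288 126 .nil 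
    .nil) (.node 978073194178446839980586402870407840 11 .nil .nil)) (.node 
    978084048986100790920862552845227232 15 (.node 978084006588354395877251962411095296 114 .nil 
    .nil) (.node 978084078654387205869666896511767744 122 .nil .nil))) (.node 
    980112041774046464091431010282704320 66 (.node 980100881083799710152641036065902816 51 (.node 
    980100830801892701953630627902558464 78 .nil .nil) (.node 980100914205231722614800490652995776 
    123 .nil .nil)) (.node 980112801836627144597770789680778944 74 (.node 
    980112520930510656145143492306963520 127 .nil .nil) (.node 980112844001466431623916045694209696 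
    55 .nil .nil)))) (.node 984806274390134194629743503195224448 84 (.node 
    983560022009555626396609859128801888 64 (.node 983549167202528574218691039157455392 124 (.node 
    983549042254642931544766381100140704 20 .nil .nil) (.node 983549236652294703748354546043587040 
    49 .nil .nil)) (.node 983560131021948119402835186027640928 37 (.node 
    983560094924254361760359223381309568 104 .nil .nil) (.node 983560732202510771760283209707927584 
    13 .nil .nil))) (.node 984817528815023647423495829229537888 77 (.node 
    984806666780896599407666966883908128 113 (.node 984806555283443627498823228478503072 25 .nil 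
    .nil) (.node 984806756521764575121331939741940192 60 .nil .nil)) (.node 
    984817643663241256181675499491199072 40 (.node 984817600726011730274300464127903872 101 .nil 
    .nil) (.node 984818244535754528103549039458486304 0 .nil .nil)))))))

/-- Certificate data. -/
def nxt : CTree :=
  (.node (.node (.node (.node (.node (.node (.node (.node (.node (.node (.node (.leaf 1) (.leaf 
    65)) (.node (.leaf 33) (.leaf 97))) (.node (.node (.leaf 17) (.leaf 81)) (.node (.leaf 49) 
    (.leaf 113)))) (.node (.node (.node (.leaf 9) (.leaf 73)) (.node (.leaf 41) (.leaf 105))) 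
    (.node (.node (.leaf 25) (.leaf 89)) (.node (.leaf 57) (.leaf 121))))) (.node (.node (.node 
    (.node (.leaf 5) (.leaf 69)) (.node (.leaf 37) (.leaf 101))) (.node (.node (.leaf 21) (.leaf 
    85)) (.node (.leaf 53) (.leaf 117)))) (.node (.node (.node (.leaf 13) (.leaf 77)) (.node (.leaf 
    45) (.leaf 109))) (.node (.node (.leaf 29) (.leaf 93)) (.node (.leaf 61) (.leaf 125)))))) 
    (.node (.node (.node (.node (.node (.leaf 3) (.leaf 67)) (.node (.leaf 35) (.leaf 99))) (.node 
    (.node (.leaf 19) (.leaf 83)) (.node (.leaf 51) (.leaf 115)))) (.node (.node (.node (.leaf 11) 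
    (.leaf 75)) (.node (.leaf 43) (.leaf 107))) (.node (.node (.leaf 27) (.leaf 91)) (.node (.leaf 
    59) (.leaf 123))))) (.node (.node (.node (.node (.leaf 7) (.leaf 71)) (.node (.leaf 39) (.leaf 
    103))) (.node (.node (.leaf 23) (.leaf 87)) (.node (.leaf 55) (.leaf 119)))) (.node (.node 
    (.node (.leaf 15) (.leaf 79)) (.node (.leaf 47) (.leaf 111))) (.node (.node (.leaf 31) (.leaf 
    95)) (.node (.leaf 63) (.leaf 127))))))) (.node (.node (.node (.node (.node (.node (.leaf 8) 
    (.leaf 72)) (.node (.leaf 40) (.leaf 104))) (.node (.node (.leaf 24) (.leaf 88)) (.node (.leaf 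
    56) (.leaf 120)))) (.node (.node (.node (.leaf 0) (.leaf 64)) (.node (.leaf 32) (.leaf 96))) 
    (.node (.node (.leaf 16) (.leaf 80)) (.node (.leaf 48) (.leaf 112))))) (.node (.node (.node 
    (.node (.leaf 12) (.leaf 76)) (.node (.leaf 44) (.leaf 108))) (.node (.node (.leaf 28) (.leaf 
    92)) (.node (.leaf 60) (.leaf 124)))) (.node (.node (.node (.leaf 4) (.leaf 68)) (.node (.leaf 
    36) (.leaf 100))) (.node (.node (.leaf 20) (.leaf 84)) (.node (.leaf 52) (.leaf 116)))))) 
    (.node (.node (.node (.node (.node (.leaf 42) (.leaf 106)) (.node (.leaf 10) (.leaf 74))) 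
    (.node (.node (.leaf 58) (.leaf 122)) (.node (.leaf 26) (.leaf 90)))) (.node (.node (.node 
    (.leaf 34) (.leaf 98)) (.node (.leaf 2) (.leaf 66))) (.node (.node (.leaf 50) (.leaf 114)) 
    (.node (.leaf 18) (.leaf 82))))) (.node (.node (.node (.node (.leaf 110) (.leaf 46)) (.node 
    (.leaf 78) (.leaf 14))) (.node (.node (.leaf 126) (.leaf 62)) (.node (.leaf 94) (.leaf 30)))) 
    (.node (.node (.node (.leaf 102) (.leaf 38)) (.node (.leaf 70) (.leaf 6))) (.node (.node (.leaf 
    118) (.leaf 54)) (.node (.leaf 86) (.leaf 22)))))))) (.leaf 0)) (.node (.node (.node (.node 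
    (.node (.node (.node (.node (.leaf 16) (.leaf 80)) (.node (.leaf 48) (.leaf 112))) (.node 
    (.node (.leaf 64) (.leaf 0)) (.node (.leaf 96) (.leaf 32)))) (.node (.node (.node (.leaf 88) 
    (.leaf 24)) (.node (.leaf 120) (.leaf 56))) (.node (.node (.leaf 8) (.leaf 72)) (.node (.leaf 
    40) (.leaf 104))))) (.node (.node (.node (.node (.leaf 84) (.leaf 20)) (.node (.leaf 116) 
    (.leaf 52))) (.node (.node (.leaf 4) (.leaf 68)) (.node (.leaf 36) (.leaf 100)))) (.node (.node 
    (.node (.leaf 28) (.leaf 92)) (.node (.leaf 60) (.leaf 124))) (.node (.node (.leaf 76) (.leaf 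
    12)) (.node (.leaf 108) (.leaf 44)))))) (.node (.node (.node (.node (.node (.leaf 18) (.leaf 
    82)) (.node (.leaf 50) (.leaf 114))) (.node (.node (.leaf 66) (.leaf 2)) (.node (.leaf 98) 
    (.leaf 34)))) (.node (.node (.node (.leaf 90) (.leaf 26)) (.node (.leaf 122) (.leaf 58))) 
    (.node (.node (.leaf 10) (.leaf 74)) (.node (.leaf 42) (.leaf 106))))) (.node (.node (.node 
    (.node (.leaf 86) (.leaf 22)) (.node (.leaf 118) (.leaf 54))) (.node (.node (.leaf 6) (.leaf 
    70)) (.node (.leaf 38) (.leaf 102)))) (.node (.node (.node (.leaf 30) (.leaf 94)) (.node (.leaf 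
    62) (.leaf 126))) (.node (.node (.leaf 78) (.leaf 14)) (.node (.leaf 110) (.leaf 46))))))) 
    (.node (.node (.node (.node (.node (.node (.leaf 49) (.leaf 113)) (.node (.leaf 17) (.leaf 
    81))) (.node (.node (.leaf 97) (.leaf 33)) (.node (.leaf 65) (.leaf 1)))) (.node (.node (.node 
    (.leaf 121) (.leaf 57)) (.node (.leaf 89) (.leaf 25))) (.node (.node (.leaf 41) (.leaf 105)) 
    (.node (.leaf 9) (.leaf 73))))) (.node (.node (.node (.node (.leaf 53) (.leaf 117)) (.node 
    (.leaf 21) (.leaf 85))) (.node (.node (.leaf 101) (.leaf 37)) (.node (.leaf 69) (.leaf 5)))) 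
    (.node (.node (.node (.leaf 125) (.leaf 61)) (.node (.leaf 93) (.leaf 29))) (.node (.node 
    (.leaf 45) (.leaf 109)) (.node (.leaf 13) (.leaf 77)))))) (.node (.node (.node (.node (.node 
    (.leaf 51) (.leaf 115)) (.node (.leaf 19) (.leaf 83))) (.node (.node (.leaf 99) (.leaf 35)) 
    (.node (.leaf 67) (.leaf 3)))) (.node (.node (.node (.leaf 123) (.leaf 59)) (.node (.leaf 91) 
    (.leaf 27))) (.node (.node (.leaf 43) (.leaf 107)) (.node (.leaf 11) (.leaf 75))))) (.node 
    (.node (.node (.node (.leaf 55) (.leaf 119)) (.node (.leaf 23) (.leaf 87))) (.node (.node 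
    (.leaf 103) (.leaf 39)) (.node (.leaf 71) (.leaf 7)))) (.node (.node (.node (.leaf 127) (.leaf 
    63)) (.node (.leaf 95) (.leaf 31))) (.node (.node (.leaf 47) (.leaf 111)) (.node (.leaf 15) 
    (.leaf 79)))))))) (.leaf 0))) (.node (.node (.node (.node (.node (.node (.node (.node (.node 
    (.leaf 4) (.leaf 68)) (.node (.leaf 36) (.leaf 100))) (.node (.node (.leaf 20) (.leaf 84)) 
    (.node (.leaf 52) (.leaf 116)))) (.node (.node (.node (.leaf 12) (.leaf 76)) (.node (.leaf 44) 
    (.leaf 108))) (.node (.node (.leaf 28) (.leaf 92)) (.node (.leaf 60) (.leaf 124))))) (.node 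
    (.node (.node (.node (.leaf 0) (.leaf 64)) (.node (.leaf 32) (.leaf 96))) (.node (.node (.leaf 
    16) (.leaf 80)) (.node (.leaf 48) (.leaf 112)))) (.node (.node (.node (.leaf 8) (.leaf 72)) 
    (.node (.leaf 40) (.leaf 104))) (.node (.node (.leaf 24) (.leaf 88)) (.node (.leaf 56) (.leaf 
    120)))))) (.node (.node (.node (.node (.node (.leaf 22) (.leaf 86)) (.node (.leaf 54) (.leaf 
    118))) (.node (.node (.leaf 70) (.leaf 6)) (.node (.leaf 102) (.leaf 38)))) (.node (.node 
    (.node (.leaf 94) (.leaf 30)) (.node (.leaf 126) (.leaf 62))) (.node (.node (.leaf 14) (.leaf 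
    78)) (.node (.leaf 46) (.leaf 110))))) (.node (.node (.node (.node (.leaf 82) (.leaf 18)) 
    (.node (.leaf 114) (.leaf 50))) (.node (.node (.leaf 2) (.leaf 66)) (.node (.leaf 34) (.leaf 
    98)))) (.node (.node (.node (.leaf 26) (.leaf 90)) (.node (.leaf 58) (.leaf 122))) (.node 
    (.node (.leaf 74) (.leaf 10)) (.node (.leaf 106) (.leaf 42))))))) (.node (.node (.node (.node 
    (.node (.node (.leaf 13) (.leaf 77)) (.node (.leaf 45) (.leaf 109))) (.node (.node (.leaf 29) 
    (.leaf 93)) (.node (.leaf 61) (.leaf 125)))) (.node (.node (.node (.leaf 5) (.leaf 69)) (.node 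
    (.leaf 37) (.leaf 101))) (.node (.node (.leaf 21) (.leaf 85)) (.node (.leaf 53) (.leaf 117))))) 
    (.node (.node (.node (.node (.leaf 9) (.leaf 73)) (.node (.leaf 41) (.leaf 105))) (.node (.node 
    (.leaf 25) (.leaf 89)) (.node (.leaf 57) (.leaf 121)))) (.node (.node (.node (.leaf 1) (.leaf 
    65)) (.node (.leaf 33) (.leaf 97))) (.node (.node (.leaf 17) (.leaf 81)) (.node (.leaf 49) 
    (.leaf 113)))))) (.node (.node (.node (.node (.node (.leaf 127) (.leaf 63)) (.node (.leaf 95) 
    (.leaf 31))) (.node (.node (.leaf 47) (.leaf 111)) (.node (.leaf 15) (.leaf 79)))) (.node 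
    (.node (.node (.leaf 55) (.leaf 119)) (.node (.leaf 23) (.leaf 87))) (.node (.node (.leaf 103) 
    (.leaf 39)) (.node (.leaf 71) (.leaf 7))))) (.node (.node (.node (.node (.leaf 123) (.leaf 59)) 
    (.node (.leaf 91) (.leaf 27))) (.node (.node (.leaf 43) (.leaf 107)) (.node (.leaf 11) (.leaf 
    75)))) (.node (.node (.node (.leaf 51) (.leaf 115)) (.node (.leaf 19) (.leaf 83))) (.node 
    (.node (.leaf 99) (.leaf 35)) (.node (.leaf 67) (.leaf 3)))))))) (.leaf 0)) (.node (.node 
    (.node (.node (.node (.node (.node (.node (.leaf 64) (.leaf 0)) (.node (.leaf 96) (.leaf 32))) 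
    (.node (.node (.leaf 80) (.leaf 16)) (.node (.leaf 112) (.leaf 48)))) (.node (.node (.node 
    (.leaf 72) (.leaf 8)) (.node (.leaf 104) (.leaf 40))) (.node (.node (.leaf 88) (.leaf 24)) 
    (.node (.leaf 120) (.leaf 56))))) (.node (.node (.node (.node (.leaf 68) (.leaf 4)) (.node 
    (.leaf 100) (.leaf 36))) (.node (.node (.leaf 84) (.leaf 20)) (.node (.leaf 116) (.leaf 52)))) 
    (.node (.node (.node (.leaf 76) (.leaf 12)) (.node (.leaf 108) (.leaf 44))) (.node (.node 
    (.leaf 92) (.leaf 28)) (.node (.leaf 124) (.leaf 60)))))) (.node (.node (.node (.node (.node 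
    (.leaf 66) (.leaf 2)) (.node (.leaf 98) (.leaf 34))) (.node (.node (.leaf 82) (.leaf 18)) 
    (.node (.leaf 114) (.leaf 50)))) (.node (.node (.node (.leaf 74) (.leaf 10)) (.node (.leaf 106) 
    (.leaf 42))) (.node (.node (.leaf 90) (.leaf 26)) (.node (.leaf 122) (.leaf 58))))) (.node 
    (.node (.node (.node (.leaf 70) (.leaf 6)) (.node (.leaf 102) (.leaf 38))) (.node (.node (.leaf 
    86) (.leaf 22)) (.node (.leaf 118) (.leaf 54)))) (.node (.node (.node (.leaf 78) (.leaf 14)) 
    (.node (.leaf 110) (.leaf 46))) (.node (.node (.leaf 94) (.leaf 30)) (.node (.leaf 126) (.leaf 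
    62))))))) (.node (.node (.node (.node (.node (.node (.leaf 65) (.leaf 1)) (.node (.leaf 97) 
    (.leaf 33))) (.node (.node (.leaf 81) (.leaf 17)) (.node (.leaf 113) (.leaf 49)))) (.node 
    (.node (.node (.leaf 73) (.leaf 9)) (.node (.leaf 105) (.leaf 41))) (.node (.node (.leaf 89) 
    (.leaf 25)) (.node (.leaf 121) (.leaf 57))))) (.node (.node (.node (.node (.leaf 69) (.leaf 5)) 
    (.node (.leaf 101) (.leaf 37))) (.node (.node (.leaf 85) (.leaf 21)) (.node (.leaf 117) (.leaf 
    53)))) (.node (.node (.node (.leaf 77) (.leaf 13)) (.node (.leaf 109) (.leaf 45))) (.node 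
    (.node (.leaf 93) (.leaf 29)) (.node (.leaf 125) (.leaf 61)))))) (.node (.node (.node (.node 
    (.node (.leaf 67) (.leaf 3)) (.node (.leaf 99) (.leaf 35))) (.node (.node (.leaf 83) (.leaf 
    19)) (.node (.leaf 115) (.leaf 51)))) (.node (.node (.node (.leaf 75) (.leaf 11)) (.node (.leaf 
    107) (.leaf 43))) (.node (.node (.leaf 91) (.leaf 27)) (.node (.leaf 123) (.leaf 59))))) (.node 
    (.node (.node (.node (.leaf 71) (.leaf 7)) (.node (.leaf 103) (.leaf 39))) (.node (.node (.leaf 
    87) (.leaf 23)) (.node (.leaf 119) (.leaf 55)))) (.node (.node (.node (.leaf 79) (.leaf 15)) 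
    (.node (.leaf 111) (.leaf 47))) (.node (.node (.leaf 95) (.leaf 31)) (.node (.leaf 127) (.leaf 
    63)))))))) (.leaf 0)))) (.node (.node (.node (.node (.node (.node (.node (.node (.node (.node 
    (.leaf 2) (.leaf 66)) (.node (.leaf 34) (.leaf 98))) (.node (.node (.leaf 18) (.leaf 82)) 
    (.node (.leaf 50) (.leaf 114)))) (.node (.node (.node (.leaf 10) (.leaf 74)) (.node (.leaf 42) 
    (.leaf 106))) (.node (.node (.leaf 26) (.leaf 90)) (.node (.leaf 58) (.leaf 122))))) (.node 
    (.node (.node (.node (.leaf 6) (.leaf 70)) (.node (.leaf 38) (.leaf 102))) (.node (.node (.leaf 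
    22) (.leaf 86)) (.node (.leaf 54) (.leaf 118)))) (.node (.node (.node (.leaf 14) (.leaf 78)) 
    (.node (.leaf 46) (.leaf 110))) (.node (.node (.leaf 30) (.leaf 94)) (.node (.leaf 62) (.leaf 
    126)))))) (.node (.node (.node (.node (.node (.leaf 96) (.leaf 32)) (.node (.leaf 64) (.leaf 
    0))) (.node (.node (.leaf 112) (.leaf 48)) (.node (.leaf 80) (.leaf 16)))) (.node (.node (.node 
    (.leaf 104) (.leaf 40)) (.node (.leaf 72) (.leaf 8))) (.node (.node (.leaf 120) (.leaf 56)) 
    (.node (.leaf 88) (.leaf 24))))) (.node (.node (.node (.node (.leaf 36) (.leaf 100)) (.node 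
    (.leaf 4) (.leaf 68))) (.node (.node (.leaf 52) (.leaf 116)) (.node (.leaf 20) (.leaf 84)))) 
    (.node (.node (.node (.leaf 44) (.leaf 108)) (.node (.leaf 12) (.leaf 76))) (.node (.node 
    (.leaf 60) (.leaf 124)) (.node (.leaf 28) (.leaf 92))))))) (.node (.node (.node (.node (.node 
    (.node (.leaf 115) (.leaf 51)) (.node (.leaf 83) (.leaf 19))) (.node (.node (.leaf 35) (.leaf 
    99)) (.node (.leaf 3) (.leaf 67)))) (.node (.node (.node (.leaf 59) (.leaf 123)) (.node (.leaf 
    27) (.leaf 91))) (.node (.node (.leaf 107) (.leaf 43)) (.node (.leaf 75) (.leaf 11))))) (.node 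
    (.node (.node (.node (.leaf 119) (.leaf 55)) (.node (.leaf 87) (.leaf 23))) (.node (.node 
    (.leaf 39) (.leaf 103)) (.node (.leaf 7) (.leaf 71)))) (.node (.node (.node (.leaf 63) (.leaf 
    127)) (.node (.leaf 31) (.leaf 95))) (.node (.node (.leaf 111) (.leaf 47)) (.node (.leaf 79) 
    (.leaf 15)))))) (.node (.node (.node (.node (.node (.leaf 17) (.leaf 81)) (.node (.leaf 49) 
    (.leaf 113))) (.node (.node (.leaf 65) (.leaf 1)) (.node (.leaf 97) (.leaf 33)))) (.node (.node 
    (.node (.leaf 89) (.leaf 25)) (.node (.leaf 121) (.leaf 57))) (.node (.node (.leaf 9) (.leaf 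
    73)) (.node (.leaf 41) (.leaf 105))))) (.node (.node (.node (.node (.leaf 85) (.leaf 21)) 
    (.node (.leaf 117) (.leaf 53))) (.node (.node (.leaf 5) (.leaf 69)) (.node (.leaf 37) (.leaf 
    101)))) (.node (.node (.node (.leaf 29) (.leaf 93)) (.node (.leaf 61) (.leaf 125))) (.node 
    (.node (.leaf 77) (.leaf 13)) (.node (.leaf 109) (.leaf 45)))))))) (.leaf 0)) (.node (.node 
    (.node (.node (.node (.node (.node (.node (.leaf 32) (.leaf 96)) (.node (.leaf 0) (.leaf 64))) 
    (.node (.node (.leaf 48) (.leaf 112)) (.node (.leaf 16) (.leaf 80)))) (.node (.node (.node 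
    (.leaf 40) (.leaf 104)) (.node (.leaf 8) (.leaf 72))) (.node (.node (.leaf 56) (.leaf 120)) 
    (.node (.leaf 24) (.leaf 88))))) (.node (.node (.node (.node (.leaf 100) (.leaf 36)) (.node 
    (.leaf 68) (.leaf 4))) (.node (.node (.leaf 116) (.leaf 52)) (.node (.leaf 84) (.leaf 20)))) 
    (.node (.node (.node (.leaf 108) (.leaf 44)) (.node (.leaf 76) (.leaf 12))) (.node (.node 
    (.leaf 124) (.leaf 60)) (.node (.leaf 92) (.leaf 28)))))) (.node (.node (.node (.node (.node 
    (.leaf 34) (.leaf 98)) (.node (.leaf 2) (.leaf 66))) (.node (.node (.leaf 50) (.leaf 114)) 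
    (.node (.leaf 18) (.leaf 82)))) (.node (.node (.node (.leaf 42) (.leaf 106)) (.node (.leaf 10) 
    (.leaf 74))) (.node (.node (.leaf 58) (.leaf 122)) (.node (.leaf 26) (.leaf 90))))) (.node 
    (.node (.node (.node (.leaf 102) (.leaf 38)) (.node (.leaf 70) (.leaf 6))) (.node (.node (.leaf 
    118) (.leaf 54)) (.node (.leaf 86) (.leaf 22)))) (.node (.node (.node (.leaf 110) (.leaf 46)) 
    (.node (.leaf 78) (.leaf 14))) (.node (.node (.leaf 126) (.leaf 62)) (.node (.leaf 94) (.leaf 
    30))))))) (.node (.node (.node (.node (.node (.node (.leaf 97) (.leaf 33)) (.node (.leaf 65) 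
    (.leaf 1))) (.node (.node (.leaf 113) (.leaf 49)) (.node (.leaf 81) (.leaf 17)))) (.node (.node 
    (.node (.leaf 105) (.leaf 41)) (.node (.leaf 73) (.leaf 9))) (.node (.node (.leaf 121) (.leaf 
    57)) (.node (.leaf 89) (.leaf 25))))) (.node (.node (.node (.node (.leaf 37) (.leaf 101)) 
    (.node (.leaf 5) (.leaf 69))) (.node (.node (.leaf 53) (.leaf 117)) (.node (.leaf 21) (.leaf 
    85)))) (.node (.node (.node (.leaf 45) (.leaf 109)) (.node (.leaf 13) (.leaf 77))) (.node 
    (.node (.leaf 61) (.leaf 125)) (.node (.leaf 29) (.leaf 93)))))) (.node (.node (.node (.node 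
    (.node (.leaf 99) (.leaf 35)) (.node (.leaf 67) (.leaf 3))) (.node (.node (.leaf 115) (.leaf 
    51)) (.node (.leaf 83) (.leaf 19)))) (.node (.node (.node (.leaf 107) (.leaf 43)) (.node (.leaf 
    75) (.leaf 11))) (.node (.node (.leaf 123) (.leaf 59)) (.node (.leaf 91) (.leaf 27))))) (.node 
    (.node (.node (.node (.leaf 39) (.leaf 103)) (.node (.leaf 7) (.leaf 71))) (.node (.node (.leaf 
    55) (.leaf 119)) (.node (.leaf 23) (.leaf 87)))) (.node (.node (.node (.leaf 47) (.leaf 111)) 
    (.node (.leaf 15) (.leaf 79))) (.node (.node (.leaf 63) (.leaf 127)) (.node (.leaf 31) (.leaf 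
    95)))))))) (.leaf 0))) (.node (.node (.node (.node (.node (.node (.node (.node (.node (.leaf 8) 
    (.leaf 72)) (.node (.leaf 40) (.leaf 104))) (.node (.node (.leaf 24) (.leaf 88)) (.node (.leaf 
    56) (.leaf 120)))) (.node (.node (.node (.leaf 0) (.leaf 64)) (.node (.leaf 32) (.leaf 96))) 
    (.node (.node (.leaf 16) (.leaf 80)) (.node (.leaf 48) (.leaf 112))))) (.node (.node (.node 
    (.node (.leaf 12) (.leaf 76)) (.node (.leaf 44) (.leaf 108))) (.node (.node (.leaf 28) (.leaf 
    92)) (.node (.leaf 60) (.leaf 124)))) (.node (.node (.node (.leaf 4) (.leaf 68)) (.node (.leaf 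
    36) (.leaf 100))) (.node (.node (.leaf 20) (.leaf 84)) (.node (.leaf 52) (.leaf 116)))))) 
    (.node (.node (.node (.node (.node (.leaf 42) (.leaf 106)) (.node (.leaf 10) (.leaf 74))) 
    (.node (.node (.leaf 58) (.leaf 122)) (.node (.leaf 26) (.leaf 90)))) (.node (.node (.node 
    (.leaf 34) (.leaf 98)) (.node (.leaf 2) (.leaf 66))) (.node (.node (.leaf 50) (.leaf 114)) 
    (.node (.leaf 18) (.leaf 82))))) (.node (.node (.node (.node (.leaf 110) (.leaf 46)) (.node 
    (.leaf 78) (.leaf 14))) (.node (.node (.leaf 126) (.leaf 62)) (.node (.leaf 94) (.leaf 30)))) 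
    (.node (.node (.node (.leaf 102) (.leaf 38)) (.node (.leaf 70) (.leaf 6))) (.node (.node (.leaf 
    118) (.leaf 54)) (.node (.leaf 86) (.leaf 22))))))) (.node (.node (.node (.node (.node (.node 
    (.leaf 9) (.leaf 73)) (.node (.leaf 41) (.leaf 105))) (.node (.node (.leaf 25) (.leaf 89)) 
    (.node (.leaf 57) (.leaf 121)))) (.node (.node (.node (.leaf 1) (.leaf 65)) (.node (.leaf 33) 
    (.leaf 97))) (.node (.node (.leaf 17) (.leaf 81)) (.node (.leaf 49) (.leaf 113))))) (.node 
    (.node (.node (.node (.leaf 13) (.leaf 77)) (.node (.leaf 45) (.leaf 109))) (.node (.node 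
    (.leaf 29) (.leaf 93)) (.node (.leaf 61) (.leaf 125)))) (.node (.node (.node (.leaf 5) (.leaf 
    69)) (.node (.leaf 37) (.leaf 101))) (.node (.node (.leaf 21) (.leaf 85)) (.node (.leaf 53) 
    (.leaf 117)))))) (.node (.node (.node (.node (.node (.leaf 43) (.leaf 107)) (.node (.leaf 11) 
    (.leaf 75))) (.node (.node (.leaf 59) (.leaf 123)) (.node (.leaf 27) (.leaf 91)))) (.node 
    (.node (.node (.leaf 35) (.leaf 99)) (.node (.leaf 3) (.leaf 67))) (.node (.node (.leaf 51) 
    (.leaf 115)) (.node (.leaf 19) (.leaf 83))))) (.node (.node (.node (.node (.leaf 111) (.leaf 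
    47)) (.node (.leaf 79) (.leaf 15))) (.node (.node (.leaf 127) (.leaf 63)) (.node (.leaf 95) 
    (.leaf 31)))) (.node (.node (.node (.leaf 103) (.leaf 39)) (.node (.leaf 71) (.leaf 7))) (.node 
    (.node (.leaf 119) (.leaf 55)) (.node (.leaf 87) (.leaf 23)))))))) (.leaf 0)) (.leaf 0))))

/-- Certificate data. -/
def sq : CTree :=
  (.node (.node (.node (.node (.node (.leaf 0) (.leaf 64)) (.leaf 0)) (.node (.node (.node (.leaf 
    0) (.leaf 64)) (.node (.leaf 0) (.leaf 64))) (.node (.node (.leaf 0) (.leaf 64)) (.node (.leaf 
    64) (.leaf 0))))) (.node (.node (.node (.leaf 96) (.leaf 32)) (.leaf 64)) (.node (.node (.node 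
    (.leaf 48) (.leaf 112)) (.node (.leaf 48) (.leaf 112))) (.node (.node (.leaf 80) (.leaf 16)) 
    (.node (.leaf 16) (.leaf 80)))))) (.node (.node (.node (.node (.node (.leaf 8) (.leaf 72)) 
    (.node (.leaf 104) (.leaf 40))) (.node (.node (.leaf 8) (.leaf 72)) (.node (.leaf 40) (.leaf 
    104)))) (.node (.node (.leaf 0) (.leaf 96)) (.node (.leaf 0) (.leaf 32)))) (.node (.node (.node 
    (.node (.leaf 24) (.leaf 88)) (.node (.leaf 120) (.leaf 56))) (.node (.node (.leaf 56) (.leaf 
    120)) (.node (.leaf 24) (.leaf 88)))) (.node (.node (.leaf 96) (.leaf 0)) (.node (.leaf 0) 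
    (.leaf 32))))))

/-- Certificate data. -/
def k0 : CTree :=
  (.node (.node (.node (.node (.node (.node (.node (.leaf 3) (.leaf 2)) (.leaf 2)) (.leaf 1)) 
    (.leaf 2)) (.node (.node (.node (.leaf 2) (.leaf 1)) (.node (.leaf 2) (.leaf 1))) (.node (.node 
    (.leaf 2) (.leaf 1)) (.node (.leaf 1) (.leaf 2))))) (.node (.leaf 1) (.leaf 0))) (.node (.node 
    (.leaf 1) (.node (.node (.leaf 2) (.leaf 1)) (.node (.leaf 2) (.leaf 1)))) (.node (.leaf 1) 
    (.node (.node (.leaf 1) (.leaf 2)) (.node (.leaf 2) (.leaf 1))))))

/-- Certificate data. -/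
def k0dict : BTree :=
  (.node 15608 2 (.node 15204 1 (.node 5102 0 .nil .nil) .nil) (.node 15624 3 .nil .nil))

/-- Certificate data. -/
def tab0 : CTree :=
  (.node (.node (.node (.node (.node (.node (.node (.leaf 3) (.leaf 4)) (.leaf 2)) (.leaf 1)) 
    (.leaf 2)) (.node (.node (.node (.leaf 2) (.leaf 1)) (.node (.leaf 2) (.leaf 1))) (.node (.node 
    (.leaf 2) (.leaf 1)) (.node (.leaf 1) (.leaf 2))))) (.node (.leaf 1) (.leaf 0))) (.node (.node 
    (.leaf 1) (.node (.node (.leaf 2) (.leaf 1)) (.node (.leaf 2) (.leaf 1)))) (.node (.leaf 1) 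
    (.node (.node (.leaf 1) (.leaf 2)) (.node (.leaf 2) (.leaf 1))))))

/-- Certificate data. -/
def dict0 : BTree :=
  (.node 33566722 2 (.node 16785409 1 (.node 4096 0 .nil .nil) .nil) (.node 50343938 4 (.node 
    33566723 3 .nil .nil) .nil))

/-- Certificate data. -/
def tab1 : CTree :=
  (.node (.node (.node (.node (.node (.node (.node (.leaf 5) (.leaf 4)) (.leaf 3)) (.leaf 2)) 
    (.leaf 3)) (.node (.node (.node (.leaf 3) (.leaf 2)) (.node (.leaf 3) (.leaf 2))) (.node (.node 
    (.leaf 3) (.leaf 2)) (.node (.leaf 2) (.leaf 3))))) (.node (.node (.leaf 1) (.leaf 2)) (.leaf 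
    0))) (.node (.node (.leaf 1) (.node (.node (.leaf 3) (.leaf 1)) (.node (.leaf 3) (.leaf 1)))) 
    (.node (.leaf 1) (.node (.node (.leaf 1) (.leaf 3)) (.node (.leaf 3) (.leaf 1))))))

/-- Certificate data. -/
def dict1 : BTree :=
  (.node 33566722 3 (.node 16785409 1 (.node 4096 0 .nil .nil) (.node 16793601 2 .nil .nil)) 
    (.node 67121155 5 (.node 50343940 4 .nil .nil) .nil))

/-- Certificate data. -/
def tab2 : CTree :=
  (.node (.node (.node (.node (.node (.node (.node (.leaf 9) (.leaf 8)) (.leaf 7)) (.leaf 6)) 
    (.leaf 5)) (.node (.node (.node (.leaf 5) (.leaf 6)) (.node (.leaf 5) (.leaf 6))) (.node (.node 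
    (.leaf 5) (.leaf 6)) (.node (.leaf 6) (.leaf 5))))) (.node (.node (.leaf 3) (.leaf 4)) (.leaf 
    2))) (.node (.node (.leaf 0) (.node (.node (.leaf 1) (.leaf 3)) (.node (.leaf 1) (.leaf 3)))) 
    (.node (.leaf 0) (.node (.node (.leaf 3) (.leaf 1)) (.node (.leaf 1) (.leaf 3))))))

/-- Certificate data. -/
def dict2 : BTree :=
  (.node 16387 5 (.node 8192 2 (.node 3 1 (.node 1 0 .nil .nil) .nil) (.node 16386 4 (.node 16385 
    3 .nil .nil) .nil)) (.node 81924 8 (.node 49155 7 (.node 32770 6 .nil .nil) .nil) (.node 81925 
    9 .nil .nil)))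

/-- Certificate data. -/
def class2 : List ℕ :=
  [10, 16, 26, 28, 36, 42, 44, 48, 52, 58, 74, 80, 90, 92, 100, 106, 108, 112, 116, 122]

/-- Certificate data. -/
def tab3 : CTree :=
  (.node (.node (.node (.node (.node (.node (.node (.leaf 11) (.leaf 10)) (.leaf 9)) (.leaf 8)) 
    (.leaf 7)) (.node (.node (.node (.leaf 2) (.leaf 3)) (.node (.leaf 2) (.leaf 3))) (.node (.node 
    (.leaf 2) (.leaf 3)) (.node (.leaf 3) (.leaf 2))))) (.node (.node (.leaf 5) (.leaf 6)) (.leaf 
    1))) (.node (.node (.leaf 0) (.node (.node (.leaf 4) (.leaf 5)) (.node (.leaf 4) (.leaf 5)))) 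
    (.node (.leaf 0) (.node (.node (.leaf 5) (.leaf 4)) (.node (.leaf 4) (.leaf 5))))))

/-- Certificate data. -/
def dict3 : BTree :=
  (.node 8196 6 (.node 6 3 (.node 2 1 (.node 0 0 .nil .nil) (.node 5 2 .nil .nil)) (.node 8195 5 
    (.node 8193 4 .nil .nil) .nil)) (.node 8199 9 (.node 8198 8 (.node 8197 7 .nil .nil) .nil) 
    (.node 8201 11 (.node 8200 10 .nil .nil) .nil)))

/-- Certificate data. -/
def class3 : List ℕ :=
  [32, 96]

/-- Certificate data. -/
def classes : List (List ℕ) :=
  [[0, 1, 2, 3, 4, 5, 6, 7, 8, 9, 10, 11], [1, 2, 3, 6, 7, 8, 9, 10, 11], [2, 3, 7, 8, 9, 10, 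
    11], [7, 8, 9, 10, 11], [8, 9, 10, 11], [9, 10, 11], [10, 11]]

/-- Certificate data. -/
def words : List (List (List ℕ)) :=
  [[[1], [23, 4, 1], [4], [4, 12], [23, 12, 23, 4], [4, 12, 23, 4, 12, 23], [4, 23, 12, 1, 23, 
    1]], [[], [126, 12], [4], [4, 12], [4, 126, 126, 4], [12, 126, 12, 126], [4, 126, 4, 126]], 
    [[], [], [4], [4, 12], [20, 4], [4, 12, 40], [4, 40, 4, 40]], [[], [], [], [8], [24, 8], [8, 
    40], [40, 104]], [[], [], [], [], [16], [32], [32, 96]], [[], [], [], [], [], [32], [32, 96]], 
    [[], [], [], [], [], [], [64]]]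

/-- Certificate data. -/
def sep : List (List ℕ) :=
  [[0, 128, 128, 128, 128, 128, 128, 128, 128, 128, 128, 128, 128, 128, 128, 128, 128, 128, 128, 
    128, 128, 128, 128, 128], [128, 0, 1, 1, 1, 1, 1, 1, 1, 1, 1, 1, 1, 1, 1, 1, 1, 1, 1, 0, 1, 1, 
    1, 129], [128, 1, 0, 5, 5, 12, 17, 40, 40, 17, 3, 2, 12, 4, 0, 4, 3, 4, 4, 1, 2, 20, 20, 129], 
    [128, 1, 5, 0, 0, 5, 5, 5, 5, 5, 3, 2, 5, 4, 5, 4, 3, 4, 4, 1, 2, 5, 5, 129], [128, 1, 5, 0, 0, 
    5, 5, 5, 5, 5, 3, 2, 5, 4, 5, 4, 3, 4, 4, 1, 2, 5, 5, 129], [128, 1, 12, 5, 5, 0, 12, 12, 12, 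
    12, 3, 2, 0, 4, 12, 4, 3, 4, 4, 1, 2, 12, 12, 129], [128, 1, 17, 5, 5, 12, 0, 17, 17, 0, 3, 2, 
    12, 4, 17, 4, 3, 4, 4, 1, 2, 17, 17, 129], [128, 1, 40, 5, 5, 12, 17, 0, 0, 17, 3, 2, 12, 4, 
    40, 4, 3, 4, 4, 1, 2, 20, 20, 129], [128, 1, 40, 5, 5, 12, 17, 0, 0, 17, 3, 2, 12, 4, 40, 4, 3, 
    4, 4, 1, 2, 20, 20, 129], [128, 1, 17, 5, 5, 12, 0, 17, 17, 0, 3, 2, 12, 4, 17, 4, 3, 4, 4, 1, 
    2, 17, 17, 129], [128, 1, 3, 3, 3, 3, 3, 3, 3, 3, 0, 2, 3, 3, 3, 3, 0, 3, 3, 1, 2, 3, 3, 129], 
    [128, 1, 2, 2, 2, 2, 2, 2, 2, 2, 2, 0, 2, 2, 2, 2, 2, 2, 2, 1, 0, 2, 2, 129], [128, 1, 12, 5, 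
    5, 0, 12, 12, 12, 12, 3, 2, 0, 4, 12, 4, 3, 4, 4, 1, 2, 12, 12, 129], [128, 1, 4, 4, 4, 4, 4, 
    4, 4, 4, 3, 2, 4, 0, 4, 11, 3, 11, 0, 1, 2, 4, 4, 129], [128, 1, 0, 5, 5, 12, 17, 40, 40, 17, 
    3, 2, 12, 4, 0, 4, 3, 4, 4, 1, 2, 20, 20, 129], [128, 1, 4, 4, 4, 4, 4, 4, 4, 4, 3, 2, 4, 11, 
    4, 0, 3, 0, 11, 1, 2, 4, 4, 129], [128, 1, 3, 3, 3, 3, 3, 3, 3, 3, 0, 2, 3, 3, 3, 3, 0, 3, 3, 
    1, 2, 3, 3, 129], [128, 1, 4, 4, 4, 4, 4, 4, 4, 4, 3, 2, 4, 11, 4, 0, 3, 0, 11, 1, 2, 4, 4, 
    129], [128, 1, 4, 4, 4, 4, 4, 4, 4, 4, 3, 2, 4, 0, 4, 11, 3, 11, 0, 1, 2, 4, 4, 129], [128, 0, 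
    1, 1, 1, 1, 1, 1, 1, 1, 1, 1, 1, 1, 1, 1, 1, 1, 1, 0, 1, 1, 1, 129], [128, 1, 2, 2, 2, 2, 2, 2, 
    2, 2, 2, 0, 2, 2, 2, 2, 2, 2, 2, 1, 0, 2, 2, 129], [128, 1, 20, 5, 5, 12, 17, 20, 20, 17, 3, 2, 
    12, 4, 20, 4, 3, 4, 4, 1, 2, 0, 0, 129], [128, 1, 20, 5, 5, 12, 17, 20, 20, 17, 3, 2, 12, 4, 
    20, 4, 3, 4, 4, 1, 2, 0, 0, 129], [128, 129, 129, 129, 129, 129, 129, 129, 129, 129, 129, 129, 
    129, 129, 129, 129, 129, 129, 129, 129, 129, 129, 129, 0]]

/-- Certificate data. -/
def moves : List (List ℕ × ℕ × ℕ) :=
  [([64], 966077053090796506059393316935968064, 109),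
    ([64], 975766499458970352680792117401406720, 79),
    ([64, 109, 79, 109], 962142373018245149582465620046535328, 8),
    ([109], 978322276760973220067734113496728640, 55),
    ([64, 8, 55, 8], 971062850387121796133604067884837088, 4),
    ([79, 109, 4, 55], 984818244535754528103549039458486304, 1),
    ([109, 55, 8], 984818244535754528103549039458486304, 2),
    ([55, 8, 79], 984818244535754528103549039458486304, 16),
    ([109, 79, 109, 79], 984818244535754528103549039458486304, 32)]

/-- The certificate. -/
def cert : Cert :=
  { m := 7, els := els, idx := idxTree, nxt := nxt, sq := sq, k0 := k0, k0dict := k0dict,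
    steps := [.sqz tab0 dict0, .sqz tab1 dict1, .comm class2 2 tab2 dict2, .comm class3 7 tab3 dict3],
    classes := classes, words := words, partner := [0, 19, 14, 4, 3, 12, 9, 8, 7, 6, 16, 20, 5, 18, 2, 17, 10, 15, 13, 1, 11, 22, 21, 23],
    sep := sep, moves := moves }

theorem els_ok : okEls cert CfsgLib.Golay.X22 = true := by decide +kernel

theorem nxt_ok : okNxt cert = true := by decide +kernel

theorem pred_ok : okPred cert = true := by decide +kernel

theorem sq_ok : okSq cert = true := by decide +kernel

theorem labels_ok : okLabels cert = true := by decide +kernel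

theorem series_ok : okSeries cert = true := by decide +kernel

theorem sep_ok : okSep cert CfsgLib.Golay.X22 = true := by decide +kernel

theorem moves_ok : movesOK cert CfsgLib.Golay.X22 cert.moves [2 ^ (cert.m - 1)] = true := by decide +kernel

end CfsgLib.Fusion.MathieuCert.M22
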