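import Cfsg.Agent.Lib.Fusion.MathieuCert

/-! The certificate that the 2-fusion system of `M23` is simple. -/

set_option autoImplicit false
set_option maxRecDepth 100000

namespace CfsgLib.Fusion.MathieuCert.M23

/-- Certificate data. -/
def els : CTree :=
  (.node (.node (.node (.node (.node (.node (.node (.leaf 984818244535754528103549039458486304) 
    (.leaf 984031032893471366798723065824106031)) (.node (.leaf 
    984394849157975519398817718713159681) (.leaf 984107091890839581288962484818554353))) (.node 
    (.node (.leaf 967078741790982490878632733560814722) (.leaf 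
    967692284409960426968673214986060149)) (.node (.leaf 967121842297852199924814148636460100) 
    (.leaf 967765808067473263368952146238441131)))) (.node (.node (.node (.leaf 
    967150998107068424814075433960756256) (.leaf 967925532004275896583617805147146799)) (.node 
    (.leaf 967237198270595335603018656432466945) (.leaf 967537630881955843357229866132017649))) 
    (.node (.node (.leaf 984559643581411435241544248397725826) (.leaf 
    983956241624182087387378616169348469)) (.node (.leaf 984648379509922407861135344505586756) 
    (.leaf 983994271064897945883124581491033771))))) (.node (.node (.node (.node (.leaf 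
    962379561368354858750818930959360227) (.leaf 962198286829518167484204677444711046)) (.node 
    (.leaf 962300966490073219159906574399453287) (.leaf 962442943240759018139512732585011412))) 
    (.node (.node (.leaf 976300899889163057037293630479538632) (.leaf 
    976398509139954329942108807850462540)) (.node (.leaf 976450482737288042585609116781203726) 
    (.leaf 976968951678171127181576170204994954)))) (.node (.node (.node (.leaf 
    976577247449031619984706134672980180) (.leaf 976720492083382991411224719236048999)) (.node 
    (.leaf 976660912543226264016580672583901830) (.leaf 976478371359811634654179451485008099))) 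
    (.node (.node (.leaf 962184342711992073621201870850773386) (.leaf 
    962687600154891760395599585155063054)) (.node (.leaf 962009407161048840170770060428777804) 
    (.leaf 962122227909896636026768146292182472)))))) (.node (.node (.node (.node (.node (.leaf 
    976607671605327482668242317735039008) (.leaf 976340196709137894985683541288922671)) (.node 
    (.leaf 977008249117701540113203612162328577) (.leaf 976241319923679331721928010429093361))) 
    (.node (.node (.leaf 961932080358871532291763172388783234) (.leaf 
    962576046592273816852601659688486261)) (.node (.leaf 961883910022546038809926939937422404) 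
    (.leaf 962497452177780495785648128760677035)))) (.node (.node (.node (.leaf 
    962043633843586950641282970664807456) (.leaf 962323784006705413376587370058093103)) (.node 
    (.leaf 961980251236282212745668363080029185) (.leaf 962734502762524426193270715223050737))) 
    (.node (.node (.leaf 976857398541679447701360401166304386) (.leaf 
    976203290560459841708354579843073397)) (.node (.leaf 976773733988538151349631179589681220) 
    (.leaf 976170331567541689512841802765713067))))) (.node (.node (.node (.node (.leaf 
    967471713824646567979613177837566179) (.leaf 967652987357444484656660886222580358)) (.node 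
    (.leaf 967554110572603348897167855552274535) (.leaf 967412133588807359402133338422522068))) 
    (.node (.node (.leaf 984227519085120108300523562613461448) (.leaf 
    984778947250829649535592083601104204)) (.node (.leaf 984067795186785867843631764713675022) 
    (.leaf 984198363044035677167835141586881930)))) (.node (.node (.node (.leaf 
    984427807608971439230807669996036308) (.leaf 984284563207701896477752101984841831)) (.node 
    (.leaf 984347945775746077332596462287567494) (.leaf 984530487965227843126529570908416227))) 
    (.node (.node (.leaf 967190294927477698835720186693523850) (.leaf 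
    967336074901076462714375725548440846)) (.node (.leaf 967355089737392092257186651749142860) 
    (.leaf 967891305786679553808189441382096328))))))) (.node (.node (.node (.node (.node (.node 
    (.leaf 967927829634843265954563106142620192) (.leaf 967162169290712308072456042163033135)) 
    (.node (.leaf 967529787307766251257037318220157409) (.leaf 
    967240763550609497278451878489107473))) (.node (.node (.leaf 
    983948398023518908892314840010997090) (.leaf 984553067629914075378946530889400469)) (.node 
    (.leaf 984006709873387442228706064701015716) (.leaf 984639268257659056211977602681898059)))) 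
    (.node (.node (.node (.leaf 984039668750465946789307298640844320) (.leaf 
    984805330331391781625161798575851567)) (.node (.leaf 984113192446652603944651744076049889) 
    (.leaf 984402217363181013309410686442737681))) (.node (.node (.leaf 
    967699652643094006743335822970519906) (.leaf 967074701167267791863437549173324949)) (.node 
    (.leaf 967763035095358735274065512405534372) (.leaf 967110195770998925725082971013366859))))) 
    (.node (.node (.node (.node (.leaf 976644195385321468679571468479177347) (.leaf 
    976490810165512563683694940093329638)) (.node (.leaf 976560530291491626017360289122629831) 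
    (.leaf 976746875045308655756429533974472820))) (.node (.node (.leaf 
    962016775396033566746061670266149192) (.leaf 962118187289166490030634667482287564)) (.node 
    (.leaf 962176499139470649050361925790650766) (.leaf 962684827185078228860244976558185738)))) 
    (.node (.node (.node (.leaf 962293122917205871768626278959855732) (.leaf 
    962446508524286641843260027868096711)) (.node (.leaf 962386929603069232979462978563055846) 
    (.leaf 962200584462053606253380314368979587))) (.node (.node (.leaf 
    976437568531218173666098013736554762) (.leaf 976985193435631434060284688937229710)) (.node 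
    (.leaf 976274041526188447665043598912559564) (.leaf 976414750897729840588203570420550984)))))) 
    (.node (.node (.node (.node (.node (.leaf 962332419892692972981225518439731744) (.leaf 
    962053537379042542102739315203517487)) (.node (.leaf 962740603347372906702910812759329249) 
    (.leaf 961964801759697809931417389095146513))) (.node (.node (.leaf 
    976201785210364619976326904773985634) (.leaf 976867302045561306009663368215069845)) (.node 
    (.leaf 976156149711005003145314689457831588) (.leaf 976768425685682400922728215508287563)))) 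
    (.node (.node (.node (.leaf 976329817804698208072816189929500192) (.leaf 
    976608701555167104656538077305966639)) (.node (.leaf 976246152826468358437543361028445665) 
    (.leaf 977021955573491521843722039143434257))) (.node (.node (.leaf 
    962566935370028178528421177151685986) (.leaf 961921701484588876441474292876199061)) (.node 
    (.leaf 962490876256258366396449123149644452) (.leaf 961898884160718947395361952868023371))))) 
    (.node (.node (.node (.node (.leaf 984373061090096186587729135407577731) (.leaf 
    984511235508301961158981833172592870)) (.node (.leaf 984441514068292552448468445962084551) 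
    (.leaf 984270381352809766599788677455491188))) (.node (.node (.leaf 
    967349781463948458455230392061448520) (.leaf 967896138717744918542112765164166604)) (.node 
    (.leaf 967188789605541952980651346983131534) (.leaf 967330766627638695553524045405719818)))) 
    (.node (.node (.node (.leaf 967555140551518604054658957405462644) (.leaf 
    967416966520509067595270854164197575)) (.node (.leaf 967476546755749746196971862452418790) 
    (.leaf 967647679083963025842043235255102083))) (.node (.node (.leaf 
    984081501645766980222159333115861258) (.leaf 984184181189483559658230955068394894)) (.node 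
    (.leaf 984246296146210517878179296651497932) (.leaf 
    984753356541172990878972147499277640))))))))

/-- Certificate data. -/
def idxTree : BTree :=
  (.node 976156149711005003145314689457831588 51 (.node 967074701167267791863437549173324949 89 
    (.node 962293122917205871768626278959855732 13 (.node 962043633843586950641282970664807456 10 
    (.node 961964801759697809931417389095146513 99 (.node 961921701484588876441474292876199061 91 
    (.node 961898884160718947395361952868023371 123 (.node 961883910022546038809926939937422404 50 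
    .nil .nil) .nil) (.node 961932080358871532291763172388783234 18 .nil .nil)) (.node 
    962009407161048840170770060428777804 60 (.node 961980251236282212745668363080029185 42 .nil 
    .nil) (.node 962016775396033566746061670266149192 21 .nil .nil))) (.node 
    962176499139470649050361925790650766 53 (.node 962118187289166490030634667482287564 85 (.node 
    962053537379042542102739315203517487 67 .nil .nil) (.node 962122227909896636026768146292182472 
    124 .nil .nil)) (.node 962198286829518167484204677444711046 68 (.node 
    962184342711992073621201870850773386 28 .nil .nil) (.node 962200584462053606253380314368979587 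
    109 .nil .nil)))) (.node 962490876256258366396449123149644452 59 (.node 
    962379561368354858750818930959360227 4 (.node 962323784006705413376587370058093103 74 (.node 
    962300966490073219159906574399453287 36 .nil .nil) (.node 962332419892692972981225518439731744 
    3 .nil .nil)) (.node 962442943240759018139512732585011412 100 (.node 
    962386929603069232979462978563055846 45 .nil .nil) (.node 962446508524286641843260027868096711 
    77 .nil .nil))) (.node 962684827185078228860244976558185738 117 (.node 
    962566935370028178528421177151685986 27 (.node 962497452177780495785648128760677035 114 .nil 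
    .nil) (.node 962576046592273816852601659688486261 82 .nil .nil)) (.node 
    962734502762524426193270715223050737 106 (.node 962687600154891760395599585155063054 92 .nil 
    .nil) (.node 962740603347372906702910812759329249 35 .nil .nil))))) (.node 
    967471713824646567979613177837566179 6 (.node 967237198270595335603018656432466945 40 (.node 
    967150998107068424814075433960756256 8 (.node 967110195770998925725082971013366859 121 (.node 
    967078741790982490878632733560814722 16 .nil .nil) (.node 967121842297852199924814148636460100 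
    48 .nil .nil)) (.node 967188789605541952980651346983131534 55 (.node 
    967162169290712308072456042163033135 65 .nil .nil) (.node 967190294927477698835720186693523850 
    30 .nil .nil))) (.node 967349781463948458455230392061448520 23 (.node 
    967330766627638695553524045405719818 119 (.node 967240763550609497278451878489107473 97 .nil 
    .nil) (.node 967336074901076462714375725548440846 94 .nil .nil)) (.node 
    967412133588807359402133338422522068 102 (.node 967355089737392092257186651749142860 62 .nil 
    .nil) (.node 967416966520509067595270854164197575 79 .nil .nil)))) (.node 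
    967692284409960426968673214986060149 80 (.node 967554110572603348897167855552274535 38 (.node 
    967529787307766251257037318220157409 33 (.node 967476546755749746196971862452418790 47 .nil 
    .nil) (.node 967537630881955843357229866132017649 104 .nil .nil)) (.node 
    967647679083963025842043235255102083 111 (.node 967555140551518604054658957405462644 15 .nil 
    .nil) (.node 967652987357444484656660886222580358 70 .nil .nil))) (.node 
    967891305786679553808189441382096328 126 (.node 967763035095358735274065512405534372 57 (.node 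
    967699652643094006743335822970519906 25 .nil .nil) (.node 967765808067473263368952146238441131 
    112 .nil .nil)) (.node 967925532004275896583617805147146799 72 (.node 
    967896138717744918542112765164166604 87 .nil .nil) (.node 967927829634843265954563106142620192 
    1 .nil .nil)))))) (.node 983948398023518908892314840010997090 17 (.node 
    976560530291491626017360289122629831 37 (.node 976329817804698208072816189929500192 11 (.node 
    976241319923679331721928010429093361 98 (.node 976201785210364619976326904773985634 19 (.node 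
    976170331567541689512841802765713067 122 .nil .nil) (.node 976203290560459841708354579843073397 
    90 .nil .nil)) (.node 976274041526188447665043598912559564 61 (.node 
    976246152826468358437543361028445665 43 .nil .nil) (.node 976300899889163057037293630479538632 
    20 .nil .nil))) (.node 976437568531218173666098013736554762 29 (.node 
    976398509139954329942108807850462540 84 (.node 976340196709137894985683541288922671 66 .nil 
    .nil) (.node 976414750897729840588203570420550984 125 .nil .nil)) (.node 
    976478371359811634654179451485008099 108 (.node 976450482737288042585609116781203726 52 .nil 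
    .nil) (.node 976490810165512563683694940093329638 69 .nil .nil)))) (.node 
    976768425685682400922728215508287563 115 (.node 976644195385321468679571468479177347 5 (.node 
    976607671605327482668242317735039008 2 (.node 976577247449031619984706134672980180 12 .nil 
    .nil) (.node 976608701555167104656538077305966639 75 .nil .nil)) (.node 
    976720492083382991411224719236048999 76 (.node 976660912543226264016580672583901830 44 .nil 
    .nil) (.node 976746875045308655756429533974472820 101 .nil .nil))) (.node 
    976968951678171127181576170204994954 116 (.node 976857398541679447701360401166304386 26 (.node 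
    976773733988538151349631179589681220 58 .nil .nil) (.node 976867302045561306009663368215069845 
    83 .nil .nil)) (.node 977008249117701540113203612162328577 34 (.node 
    976985193435631434060284688937229710 93 .nil .nil) (.node 977021955573491521843722039143434257 
    107 .nil .nil))))) (.node 984347945775746077332596462287567494 46 (.node 
    984107091890839581288962484818554353 96 (.node 984031032893471366798723065824106031 64 (.node 
    983994271064897945883124581491033771 120 (.node 983956241624182087387378616169348469 88 .nil 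
    .nil) (.node 984006709873387442228706064701015716 49 .nil .nil)) (.node 
    984067795186785867843631764713675022 54 (.node 984039668750465946789307298640844320 9 .nil 
    .nil) (.node 984081501645766980222159333115861258 31 .nil .nil))) (.node 
    984227519085120108300523562613461448 22 (.node 984184181189483559658230955068394894 95 (.node 
    984113192446652603944651744076049889 41 .nil .nil) (.node 984198363044035677167835141586881930 
    118 .nil .nil)) (.node 984270381352809766599788677455491188 103 (.node 
    984246296146210517878179296651497932 63 .nil .nil) (.node 984284563207701896477752101984841831 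
    78 .nil .nil)))) (.node 984553067629914075378946530889400469 81 (.node 
    984427807608971439230807669996036308 14 (.node 984394849157975519398817718713159681 32 (.node 
    984373061090096186587729135407577731 7 .nil .nil) (.node 984402217363181013309410686442737681 
    105 .nil .nil)) (.node 984511235508301961158981833172592870 71 (.node 
    984441514068292552448468445962084551 39 .nil .nil) (.node 984530487965227843126529570908416227 
    110 .nil .nil))) (.node 984753356541172990878972147499277640 127 (.node 
    984639268257659056211977602681898059 113 (.node 984559643581411435241544248397725826 24 .nil 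
    .nil) (.node 984648379509922407861135344505586756 56 .nil .nil)) (.node 
    984805330331391781625161798575851567 73 (.node 984778947250829649535592083601104204 86 .nil 
    .nil) (.node 984818244535754528103549039458486304 0 .nil .nil)))))))

/-- Certificate data. -/
def nxt : CTree :=
  (.node (.node (.node (.node (.node (.node (.node (.node (.node (.node (.node (.leaf 1) (.leaf 
    65)) (.node (.leaf 33) (.leaf 97))) (.node (.node (.leaf 17) (.leaf 81)) (.node (.leaf 49) 
    (.leaf 113)))) (.node (.node (.node (.leaf 9) (.leaf 73)) (.node (.leaf 41) (.leaf 105))) 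
    (.node (.node (.leaf 25) (.leaf 89)) (.node (.leaf 57) (.leaf 121))))) (.node (.node (.node 
    (.node (.leaf 5) (.leaf 69)) (.node (.leaf 37) (.leaf 101))) (.node (.node (.leaf 21) (.leaf 
    85)) (.node (.leaf 53) (.leaf 117)))) (.node (.node (.node (.leaf 13) (.leaf 77)) (.node (.leaf 
    45) (.leaf 109))) (.node (.node (.leaf 29) (.leaf 93)) (.node (.leaf 61) (.leaf 125)))))) 
    (.node (.node (.node (.node (.node (.leaf 3) (.leaf 67)) (.node (.leaf 35) (.leaf 99))) (.node 
    (.node (.leaf 19) (.leaf 83)) (.node (.leaf 51) (.leaf 115)))) (.node (.node (.node (.leaf 11) 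
    (.leaf 75)) (.node (.leaf 43) (.leaf 107))) (.node (.node (.leaf 27) (.leaf 91)) (.node (.leaf 
    59) (.leaf 123))))) (.node (.node (.node (.node (.leaf 7) (.leaf 71)) (.node (.leaf 39) (.leaf 
    103))) (.node (.node (.leaf 23) (.leaf 87)) (.node (.leaf 55) (.leaf 119)))) (.node (.node 
    (.node (.leaf 15) (.leaf 79)) (.node (.leaf 47) (.leaf 111))) (.node (.node (.leaf 31) (.leaf 
    95)) (.node (.leaf 63) (.leaf 127))))))) (.node (.node (.node (.node (.node (.node (.leaf 0) 
    (.leaf 64)) (.node (.leaf 32) (.leaf 96))) (.node (.node (.leaf 16) (.leaf 80)) (.node (.leaf 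
    48) (.leaf 112)))) (.node (.node (.node (.leaf 8) (.leaf 72)) (.node (.leaf 40) (.leaf 104))) 
    (.node (.node (.leaf 24) (.leaf 88)) (.node (.leaf 56) (.leaf 120))))) (.node (.node (.node 
    (.node (.leaf 4) (.leaf 68)) (.node (.leaf 36) (.leaf 100))) (.node (.node (.leaf 20) (.leaf 
    84)) (.node (.leaf 52) (.leaf 116)))) (.node (.node (.node (.leaf 12) (.leaf 76)) (.node (.leaf 
    44) (.leaf 108))) (.node (.node (.leaf 28) (.leaf 92)) (.node (.leaf 60) (.leaf 124)))))) 
    (.node (.node (.node (.node (.node (.leaf 2) (.leaf 66)) (.node (.leaf 34) (.leaf 98))) (.node 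
    (.node (.leaf 18) (.leaf 82)) (.node (.leaf 50) (.leaf 114)))) (.node (.node (.node (.leaf 10) 
    (.leaf 74)) (.node (.leaf 42) (.leaf 106))) (.node (.node (.leaf 26) (.leaf 90)) (.node (.leaf 
    58) (.leaf 122))))) (.node (.node (.node (.node (.leaf 6) (.leaf 70)) (.node (.leaf 38) (.leaf 
    102))) (.node (.node (.leaf 22) (.leaf 86)) (.node (.leaf 54) (.leaf 118)))) (.node (.node 
    (.node (.leaf 14) (.leaf 78)) (.node (.leaf 46) (.leaf 110))) (.node (.node (.leaf 30) (.leaf 
    94)) (.node (.leaf 62) (.leaf 126)))))))) (.leaf 0)) (.node (.node (.node (.node (.node (.node 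
    (.node (.node (.leaf 16) (.leaf 80)) (.node (.leaf 48) (.leaf 112))) (.node (.node (.leaf 64) 
    (.leaf 0)) (.node (.leaf 96) (.leaf 32)))) (.node (.node (.node (.leaf 88) (.leaf 24)) (.node 
    (.leaf 120) (.leaf 56))) (.node (.node (.leaf 8) (.leaf 72)) (.node (.leaf 40) (.leaf 104))))) 
    (.node (.node (.node (.node (.leaf 20) (.leaf 84)) (.node (.leaf 52) (.leaf 116))) (.node 
    (.node (.leaf 68) (.leaf 4)) (.node (.leaf 100) (.leaf 36)))) (.node (.node (.node (.leaf 92) 
    (.leaf 28)) (.node (.leaf 124) (.leaf 60))) (.node (.node (.leaf 12) (.leaf 76)) (.node (.leaf 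
    44) (.leaf 108)))))) (.node (.node (.node (.node (.node (.leaf 50) (.leaf 114)) (.node (.leaf 
    18) (.leaf 82))) (.node (.node (.leaf 98) (.leaf 34)) (.node (.leaf 66) (.leaf 2)))) (.node 
    (.node (.node (.leaf 122) (.leaf 58)) (.node (.leaf 90) (.leaf 26))) (.node (.node (.leaf 42) 
    (.leaf 106)) (.node (.leaf 10) (.leaf 74))))) (.node (.node (.node (.node (.leaf 54) (.leaf 
    118)) (.node (.leaf 22) (.leaf 86))) (.node (.node (.leaf 102) (.leaf 38)) (.node (.leaf 70) 
    (.leaf 6)))) (.node (.node (.node (.leaf 126) (.leaf 62)) (.node (.leaf 94) (.leaf 30))) (.node 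
    (.node (.leaf 46) (.leaf 110)) (.node (.leaf 14) (.leaf 78))))))) (.node (.node (.node (.node 
    (.node (.node (.leaf 17) (.leaf 81)) (.node (.leaf 49) (.leaf 113))) (.node (.node (.leaf 65) 
    (.leaf 1)) (.node (.leaf 97) (.leaf 33)))) (.node (.node (.node (.leaf 89) (.leaf 25)) (.node 
    (.leaf 121) (.leaf 57))) (.node (.node (.leaf 9) (.leaf 73)) (.node (.leaf 41) (.leaf 105))))) 
    (.node (.node (.node (.node (.leaf 21) (.leaf 85)) (.node (.leaf 53) (.leaf 117))) (.node 
    (.node (.leaf 69) (.leaf 5)) (.node (.leaf 101) (.leaf 37)))) (.node (.node (.node (.leaf 93) 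
    (.leaf 29)) (.node (.leaf 125) (.leaf 61))) (.node (.node (.leaf 13) (.leaf 77)) (.node (.leaf 
    45) (.leaf 109)))))) (.node (.node (.node (.node (.node (.leaf 51) (.leaf 115)) (.node (.leaf 
    19) (.leaf 83))) (.node (.node (.leaf 99) (.leaf 35)) (.node (.leaf 67) (.leaf 3)))) (.node 
    (.node (.node (.leaf 123) (.leaf 59)) (.node (.leaf 91) (.leaf 27))) (.node (.node (.leaf 43) 
    (.leaf 107)) (.node (.leaf 11) (.leaf 75))))) (.node (.node (.node (.node (.leaf 55) (.leaf 
    119)) (.node (.leaf 23) (.leaf 87))) (.node (.node (.leaf 103) (.leaf 39)) (.node (.leaf 71) 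
    (.leaf 7)))) (.node (.node (.node (.leaf 127) (.leaf 63)) (.node (.leaf 95) (.leaf 31))) (.node 
    (.node (.leaf 47) (.leaf 111)) (.node (.leaf 15) (.leaf 79)))))))) (.leaf 0))) (.node (.node 
    (.node (.node (.node (.node (.node (.node (.node (.leaf 4) (.leaf 68)) (.node (.leaf 36) (.leaf 
    100))) (.node (.node (.leaf 20) (.leaf 84)) (.node (.leaf 52) (.leaf 116)))) (.node (.node 
    (.node (.leaf 12) (.leaf 76)) (.node (.leaf 44) (.leaf 108))) (.node (.node (.leaf 28) (.leaf 
    92)) (.node (.leaf 60) (.leaf 124))))) (.node (.node (.node (.node (.leaf 32) (.leaf 96)) 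
    (.node (.leaf 0) (.leaf 64))) (.node (.node (.leaf 48) (.leaf 112)) (.node (.leaf 16) (.leaf 
    80)))) (.node (.node (.node (.leaf 40) (.leaf 104)) (.node (.leaf 8) (.leaf 72))) (.node (.node 
    (.leaf 56) (.leaf 120)) (.node (.leaf 24) (.leaf 88)))))) (.node (.node (.node (.node (.node 
    (.leaf 70) (.leaf 6)) (.node (.leaf 102) (.leaf 38))) (.node (.node (.leaf 86) (.leaf 22)) 
    (.node (.leaf 118) (.leaf 54)))) (.node (.node (.node (.leaf 78) (.leaf 14)) (.node (.leaf 110) 
    (.leaf 46))) (.node (.node (.leaf 94) (.leaf 30)) (.node (.leaf 126) (.leaf 62))))) (.node 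
    (.node (.node (.node (.leaf 98) (.leaf 34)) (.node (.leaf 66) (.leaf 2))) (.node (.node (.leaf 
    114) (.leaf 50)) (.node (.leaf 82) (.leaf 18)))) (.node (.node (.node (.leaf 106) (.leaf 42)) 
    (.node (.leaf 74) (.leaf 10))) (.node (.node (.leaf 122) (.leaf 58)) (.node (.leaf 90) (.leaf 
    26))))))) (.node (.node (.node (.node (.node (.node (.leaf 53) (.leaf 117)) (.node (.leaf 21) 
    (.leaf 85))) (.node (.node (.leaf 101) (.leaf 37)) (.node (.leaf 69) (.leaf 5)))) (.node (.node 
    (.node (.leaf 125) (.leaf 61)) (.node (.leaf 93) (.leaf 29))) (.node (.node (.leaf 45) (.leaf 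
    109)) (.node (.leaf 13) (.leaf 77))))) (.node (.node (.node (.node (.leaf 17) (.leaf 81)) 
    (.node (.leaf 49) (.leaf 113))) (.node (.node (.leaf 65) (.leaf 1)) (.node (.leaf 97) (.leaf 
    33)))) (.node (.node (.node (.leaf 89) (.leaf 25)) (.node (.leaf 121) (.leaf 57))) (.node 
    (.node (.leaf 9) (.leaf 73)) (.node (.leaf 41) (.leaf 105)))))) (.node (.node (.node (.node 
    (.node (.leaf 87) (.leaf 23)) (.node (.leaf 119) (.leaf 55))) (.node (.node (.leaf 7) (.leaf 
    71)) (.node (.leaf 39) (.leaf 103)))) (.node (.node (.node (.leaf 31) (.leaf 95)) (.node (.leaf 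
    63) (.leaf 127))) (.node (.node (.leaf 79) (.leaf 15)) (.node (.leaf 111) (.leaf 47))))) (.node 
    (.node (.node (.node (.leaf 115) (.leaf 51)) (.node (.leaf 83) (.leaf 19))) (.node (.node 
    (.leaf 35) (.leaf 99)) (.node (.leaf 3) (.leaf 67)))) (.node (.node (.node (.leaf 59) (.leaf 
    123)) (.node (.leaf 27) (.leaf 91))) (.node (.node (.leaf 107) (.leaf 43)) (.node (.leaf 75) 
    (.leaf 11)))))))) (.leaf 0)) (.node (.node (.node (.node (.node (.node (.node (.node (.leaf 64) 
    (.leaf 0)) (.node (.leaf 96) (.leaf 32))) (.node (.node (.leaf 80) (.leaf 16)) (.node (.leaf 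
    112) (.leaf 48)))) (.node (.node (.node (.leaf 72) (.leaf 8)) (.node (.leaf 104) (.leaf 40))) 
    (.node (.node (.leaf 88) (.leaf 24)) (.node (.leaf 120) (.leaf 56))))) (.node (.node (.node 
    (.node (.leaf 68) (.leaf 4)) (.node (.leaf 100) (.leaf 36))) (.node (.node (.leaf 84) (.leaf 
    20)) (.node (.leaf 116) (.leaf 52)))) (.node (.node (.node (.leaf 76) (.leaf 12)) (.node (.leaf 
    108) (.leaf 44))) (.node (.node (.leaf 92) (.leaf 28)) (.node (.leaf 124) (.leaf 60)))))) 
    (.node (.node (.node (.node (.node (.leaf 66) (.leaf 2)) (.node (.leaf 98) (.leaf 34))) (.node 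
    (.node (.leaf 82) (.leaf 18)) (.node (.leaf 114) (.leaf 50)))) (.node (.node (.node (.leaf 74) 
    (.leaf 10)) (.node (.leaf 106) (.leaf 42))) (.node (.node (.leaf 90) (.leaf 26)) (.node (.leaf 
    122) (.leaf 58))))) (.node (.node (.node (.node (.leaf 70) (.leaf 6)) (.node (.leaf 102) (.leaf 
    38))) (.node (.node (.leaf 86) (.leaf 22)) (.node (.leaf 118) (.leaf 54)))) (.node (.node 
    (.node (.leaf 78) (.leaf 14)) (.node (.leaf 110) (.leaf 46))) (.node (.node (.leaf 94) (.leaf 
    30)) (.node (.leaf 126) (.leaf 62))))))) (.node (.node (.node (.node (.node (.node (.leaf 65) 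
    (.leaf 1)) (.node (.leaf 97) (.leaf 33))) (.node (.node (.leaf 81) (.leaf 17)) (.node (.leaf 
    113) (.leaf 49)))) (.node (.node (.node (.leaf 73) (.leaf 9)) (.node (.leaf 105) (.leaf 41))) 
    (.node (.node (.leaf 89) (.leaf 25)) (.node (.leaf 121) (.leaf 57))))) (.node (.node (.node 
    (.node (.leaf 69) (.leaf 5)) (.node (.leaf 101) (.leaf 37))) (.node (.node (.leaf 85) (.leaf 
    21)) (.node (.leaf 117) (.leaf 53)))) (.node (.node (.node (.leaf 77) (.leaf 13)) (.node (.leaf 
    109) (.leaf 45))) (.node (.node (.leaf 93) (.leaf 29)) (.node (.leaf 125) (.leaf 61)))))) 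
    (.node (.node (.node (.node (.node (.leaf 67) (.leaf 3)) (.node (.leaf 99) (.leaf 35))) (.node 
    (.node (.leaf 83) (.leaf 19)) (.node (.leaf 115) (.leaf 51)))) (.node (.node (.node (.leaf 75) 
    (.leaf 11)) (.node (.leaf 107) (.leaf 43))) (.node (.node (.leaf 91) (.leaf 27)) (.node (.leaf 
    123) (.leaf 59))))) (.node (.node (.node (.node (.leaf 71) (.leaf 7)) (.node (.leaf 103) (.leaf 
    39))) (.node (.node (.leaf 87) (.leaf 23)) (.node (.leaf 119) (.leaf 55)))) (.node (.node 
    (.node (.leaf 79) (.leaf 15)) (.node (.leaf 111) (.leaf 47))) (.node (.node (.leaf 95) (.leaf 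
    31)) (.node (.leaf 127) (.leaf 63)))))))) (.leaf 0)))) (.node (.node (.node (.node (.node 
    (.node (.node (.node (.node (.node (.leaf 2) (.leaf 66)) (.node (.leaf 34) (.leaf 98))) (.node 
    (.node (.leaf 18) (.leaf 82)) (.node (.leaf 50) (.leaf 114)))) (.node (.node (.node (.leaf 10) 
    (.leaf 74)) (.node (.leaf 42) (.leaf 106))) (.node (.node (.leaf 26) (.leaf 90)) (.node (.leaf 
    58) (.leaf 122))))) (.node (.node (.node (.node (.leaf 6) (.leaf 70)) (.node (.leaf 38) (.leaf 
    102))) (.node (.node (.leaf 22) (.leaf 86)) (.node (.leaf 54) (.leaf 118)))) (.node (.node 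
    (.node (.leaf 14) (.leaf 78)) (.node (.leaf 46) (.leaf 110))) (.node (.node (.leaf 30) (.leaf 
    94)) (.node (.leaf 62) (.leaf 126)))))) (.node (.node (.node (.node (.node (.leaf 0) (.leaf 
    64)) (.node (.leaf 32) (.leaf 96))) (.node (.node (.leaf 16) (.leaf 80)) (.node (.leaf 48) 
    (.leaf 112)))) (.node (.node (.node (.leaf 8) (.leaf 72)) (.node (.leaf 40) (.leaf 104))) 
    (.node (.node (.leaf 24) (.leaf 88)) (.node (.leaf 56) (.leaf 120))))) (.node (.node (.node 
    (.node (.leaf 4) (.leaf 68)) (.node (.leaf 36) (.leaf 100))) (.node (.node (.leaf 20) (.leaf 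
    84)) (.node (.leaf 52) (.leaf 116)))) (.node (.node (.node (.leaf 12) (.leaf 76)) (.node (.leaf 
    44) (.leaf 108))) (.node (.node (.leaf 28) (.leaf 92)) (.node (.leaf 60) (.leaf 124))))))) 
    (.node (.node (.node (.node (.node (.node (.leaf 11) (.leaf 75)) (.node (.leaf 43) (.leaf 
    107))) (.node (.node (.leaf 27) (.leaf 91)) (.node (.leaf 59) (.leaf 123)))) (.node (.node 
    (.node (.leaf 3) (.leaf 67)) (.node (.leaf 35) (.leaf 99))) (.node (.node (.leaf 19) (.leaf 
    83)) (.node (.leaf 51) (.leaf 115))))) (.node (.node (.node (.node (.leaf 111) (.leaf 47)) 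
    (.node (.leaf 79) (.leaf 15))) (.node (.node (.leaf 127) (.leaf 63)) (.node (.leaf 95) (.leaf 
    31)))) (.node (.node (.node (.leaf 103) (.leaf 39)) (.node (.leaf 71) (.leaf 7))) (.node (.node 
    (.leaf 119) (.leaf 55)) (.node (.leaf 87) (.leaf 23)))))) (.node (.node (.node (.node (.node 
    (.leaf 9) (.leaf 73)) (.node (.leaf 41) (.leaf 105))) (.node (.node (.leaf 25) (.leaf 89)) 
    (.node (.leaf 57) (.leaf 121)))) (.node (.node (.node (.leaf 1) (.leaf 65)) (.node (.leaf 33) 
    (.leaf 97))) (.node (.node (.leaf 17) (.leaf 81)) (.node (.leaf 49) (.leaf 113))))) (.node 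
    (.node (.node (.node (.leaf 109) (.leaf 45)) (.node (.leaf 77) (.leaf 13))) (.node (.node 
    (.leaf 125) (.leaf 61)) (.node (.leaf 93) (.leaf 29)))) (.node (.node (.node (.leaf 101) (.leaf 
    37)) (.node (.leaf 69) (.leaf 5))) (.node (.node (.leaf 117) (.leaf 53)) (.node (.leaf 85) 
    (.leaf 21)))))))) (.leaf 0)) (.node (.node (.node (.node (.node (.node (.node (.node (.leaf 32) 
    (.leaf 96)) (.node (.leaf 0) (.leaf 64))) (.node (.node (.leaf 48) (.leaf 112)) (.node (.leaf 
    16) (.leaf 80)))) (.node (.node (.node (.leaf 40) (.leaf 104)) (.node (.leaf 8) (.leaf 72))) 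
    (.node (.node (.leaf 56) (.leaf 120)) (.node (.leaf 24) (.leaf 88))))) (.node (.node (.node 
    (.node (.leaf 36) (.leaf 100)) (.node (.leaf 4) (.leaf 68))) (.node (.node (.leaf 52) (.leaf 
    116)) (.node (.leaf 20) (.leaf 84)))) (.node (.node (.node (.leaf 44) (.leaf 108)) (.node 
    (.leaf 12) (.leaf 76))) (.node (.node (.leaf 60) (.leaf 124)) (.node (.leaf 28) (.leaf 92)))))) 
    (.node (.node (.node (.node (.node (.leaf 34) (.leaf 98)) (.node (.leaf 2) (.leaf 66))) (.node 
    (.node (.leaf 50) (.leaf 114)) (.node (.leaf 18) (.leaf 82)))) (.node (.node (.node (.leaf 42) 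
    (.leaf 106)) (.node (.leaf 10) (.leaf 74))) (.node (.node (.leaf 58) (.leaf 122)) (.node (.leaf 
    26) (.leaf 90))))) (.node (.node (.node (.node (.leaf 38) (.leaf 102)) (.node (.leaf 6) (.leaf 
    70))) (.node (.node (.leaf 54) (.leaf 118)) (.node (.leaf 22) (.leaf 86)))) (.node (.node 
    (.node (.leaf 46) (.leaf 110)) (.node (.leaf 14) (.leaf 78))) (.node (.node (.leaf 62) (.leaf 
    126)) (.node (.leaf 30) (.leaf 94))))))) (.node (.node (.node (.node (.node (.node (.leaf 97) 
    (.leaf 33)) (.node (.leaf 65) (.leaf 1))) (.node (.node (.leaf 113) (.leaf 49)) (.node (.leaf 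
    81) (.leaf 17)))) (.node (.node (.node (.leaf 105) (.leaf 41)) (.node (.leaf 73) (.leaf 9))) 
    (.node (.node (.leaf 121) (.leaf 57)) (.node (.leaf 89) (.leaf 25))))) (.node (.node (.node 
    (.node (.leaf 101) (.leaf 37)) (.node (.leaf 69) (.leaf 5))) (.node (.node (.leaf 117) (.leaf 
    53)) (.node (.leaf 85) (.leaf 21)))) (.node (.node (.node (.leaf 109) (.leaf 45)) (.node (.leaf 
    77) (.leaf 13))) (.node (.node (.leaf 125) (.leaf 61)) (.node (.leaf 93) (.leaf 29)))))) (.node 
    (.node (.node (.node (.node (.leaf 99) (.leaf 35)) (.node (.leaf 67) (.leaf 3))) (.node (.node 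
    (.leaf 115) (.leaf 51)) (.node (.leaf 83) (.leaf 19)))) (.node (.node (.node (.leaf 107) (.leaf 
    43)) (.node (.leaf 75) (.leaf 11))) (.node (.node (.leaf 123) (.leaf 59)) (.node (.leaf 91) 
    (.leaf 27))))) (.node (.node (.node (.node (.leaf 103) (.leaf 39)) (.node (.leaf 71) (.leaf 
    7))) (.node (.node (.leaf 119) (.leaf 55)) (.node (.leaf 87) (.leaf 23)))) (.node (.node (.node 
    (.leaf 111) (.leaf 47)) (.node (.leaf 79) (.leaf 15))) (.node (.node (.leaf 127) (.leaf 63)) 
    (.node (.leaf 95) (.leaf 31)))))))) (.leaf 0))) (.node (.node (.node (.node (.node (.node 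
    (.node (.node (.node (.leaf 8) (.leaf 72)) (.node (.leaf 40) (.leaf 104))) (.node (.node (.leaf 
    24) (.leaf 88)) (.node (.leaf 56) (.leaf 120)))) (.node (.node (.node (.leaf 0) (.leaf 64)) 
    (.node (.leaf 32) (.leaf 96))) (.node (.node (.leaf 16) (.leaf 80)) (.node (.leaf 48) (.leaf 
    112))))) (.node (.node (.node (.node (.leaf 108) (.leaf 44)) (.node (.leaf 76) (.leaf 12))) 
    (.node (.node (.leaf 124) (.leaf 60)) (.node (.leaf 92) (.leaf 28)))) (.node (.node (.node 
    (.leaf 100) (.leaf 36)) (.node (.leaf 68) (.leaf 4))) (.node (.node (.leaf 116) (.leaf 52)) 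
    (.node (.leaf 84) (.leaf 20)))))) (.node (.node (.node (.node (.node (.leaf 10) (.leaf 74)) 
    (.node (.leaf 42) (.leaf 106))) (.node (.node (.leaf 26) (.leaf 90)) (.node (.leaf 58) (.leaf 
    122)))) (.node (.node (.node (.leaf 2) (.leaf 66)) (.node (.leaf 34) (.leaf 98))) (.node (.node 
    (.leaf 18) (.leaf 82)) (.node (.leaf 50) (.leaf 114))))) (.node (.node (.node (.node (.leaf 
    110) (.leaf 46)) (.node (.leaf 78) (.leaf 14))) (.node (.node (.leaf 126) (.leaf 62)) (.node 
    (.leaf 94) (.leaf 30)))) (.node (.node (.node (.leaf 102) (.leaf 38)) (.node (.leaf 70) (.leaf 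
    6))) (.node (.node (.leaf 118) (.leaf 54)) (.node (.leaf 86) (.leaf 22))))))) (.node (.node 
    (.node (.node (.node (.node (.leaf 9) (.leaf 73)) (.node (.leaf 41) (.leaf 105))) (.node (.node 
    (.leaf 25) (.leaf 89)) (.node (.leaf 57) (.leaf 121)))) (.node (.node (.node (.leaf 1) (.leaf 
    65)) (.node (.leaf 33) (.leaf 97))) (.node (.node (.leaf 17) (.leaf 81)) (.node (.leaf 49) 
    (.leaf 113))))) (.node (.node (.node (.node (.leaf 109) (.leaf 45)) (.node (.leaf 77) (.leaf 
    13))) (.node (.node (.leaf 125) (.leaf 61)) (.node (.leaf 93) (.leaf 29)))) (.node (.node 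
    (.node (.leaf 101) (.leaf 37)) (.node (.leaf 69) (.leaf 5))) (.node (.node (.leaf 117) (.leaf 
    53)) (.node (.leaf 85) (.leaf 21)))))) (.node (.node (.node (.node (.node (.leaf 11) (.leaf 
    75)) (.node (.leaf 43) (.leaf 107))) (.node (.node (.leaf 27) (.leaf 91)) (.node (.leaf 59) 
    (.leaf 123)))) (.node (.node (.node (.leaf 3) (.leaf 67)) (.node (.leaf 35) (.leaf 99))) (.node 
    (.node (.leaf 19) (.leaf 83)) (.node (.leaf 51) (.leaf 115))))) (.node (.node (.node (.node 
    (.leaf 111) (.leaf 47)) (.node (.leaf 79) (.leaf 15))) (.node (.node (.leaf 127) (.leaf 63)) 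
    (.node (.leaf 95) (.leaf 31)))) (.node (.node (.node (.leaf 103) (.leaf 39)) (.node (.leaf 71) 
    (.leaf 7))) (.node (.node (.leaf 119) (.leaf 55)) (.node (.leaf 87) (.leaf 23)))))))) (.leaf 
    0)) (.leaf 0))))

/-- Certificate data. -/
def sq : CTree :=
  (.node (.node (.node (.node (.node (.leaf 0) (.leaf 64)) (.leaf 0)) (.node (.node (.leaf 32) 
    (.leaf 96)) (.leaf 64))) (.node (.node (.node (.leaf 0) (.leaf 96)) (.node (.leaf 0) (.leaf 
    32))) (.node (.node (.leaf 96) (.leaf 0)) (.node (.leaf 0) (.leaf 32))))) (.node (.node (.node 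
    (.node (.node (.leaf 0) (.leaf 64)) (.node (.leaf 64) (.leaf 0))) (.node (.node (.leaf 0) 
    (.leaf 64)) (.node (.leaf 0) (.leaf 64)))) (.node (.node (.node (.leaf 16) (.leaf 80)) (.node 
    (.leaf 80) (.leaf 16))) (.node (.node (.leaf 112) (.leaf 48)) (.node (.leaf 112) (.leaf 48))))) 
    (.node (.node (.node (.node (.leaf 8) (.leaf 72)) (.node (.leaf 104) (.leaf 40))) (.node (.node 
    (.leaf 8) (.leaf 72)) (.node (.leaf 40) (.leaf 104)))) (.node (.node (.node (.leaf 120) (.leaf 
    56)) (.node (.leaf 24) (.leaf 88))) (.node (.node (.leaf 24) (.leaf 88)) (.node (.leaf 56) 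
    (.leaf 120)))))))

/-- Certificate data. -/
def k0 : CTree :=
  (.node (.node (.node (.node (.node (.node (.node (.leaf 3) (.leaf 2)) (.leaf 2)) (.leaf 1)) 
    (.leaf 2)) (.leaf 1)) (.node (.node (.node (.leaf 2) (.leaf 1)) (.node (.leaf 2) (.leaf 1))) 
    (.node (.node (.leaf 1) (.leaf 2)) (.node (.leaf 2) (.leaf 1))))) (.node (.node (.node (.node 
    (.node (.leaf 2) (.leaf 1)) (.node (.leaf 1) (.leaf 2))) (.node (.node (.leaf 2) (.leaf 1)) 
    (.node (.leaf 2) (.leaf 1)))) (.leaf 0)) (.leaf 1)))

/-- Certificate data. -/
def k0dict : BTree :=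
  (.node 15608 2 (.node 15204 1 (.node 5102 0 .nil .nil) .nil) (.node 15624 3 .nil .nil))

/-- Certificate data. -/
def tab0 : CTree :=
  (.node (.node (.node (.node (.node (.node (.node (.leaf 3) (.leaf 4)) (.leaf 2)) (.leaf 1)) 
    (.leaf 2)) (.leaf 1)) (.node (.node (.node (.leaf 2) (.leaf 1)) (.node (.leaf 2) (.leaf 1))) 
    (.node (.node (.leaf 1) (.leaf 2)) (.node (.leaf 2) (.leaf 1))))) (.node (.node (.node (.node 
    (.node (.leaf 2) (.leaf 1)) (.node (.leaf 1) (.leaf 2))) (.node (.node (.leaf 2) (.leaf 1)) 
    (.node (.leaf 2) (.leaf 1)))) (.leaf 0)) (.leaf 1)))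

/-- Certificate data. -/
def dict0 : BTree :=
  (.node 33566722 2 (.node 16785409 1 (.node 4096 0 .nil .nil) .nil) (.node 50343938 4 (.node 
    33566723 3 .nil .nil) .nil))

/-- Certificate data. -/
def tab1 : CTree :=
  (.node (.node (.node (.node (.node (.node (.node (.leaf 5) (.leaf 4)) (.leaf 3)) (.leaf 2)) 
    (.leaf 3)) (.node (.leaf 1) (.leaf 2))) (.node (.node (.node (.leaf 3) (.leaf 1)) (.node (.leaf 
    3) (.leaf 1))) (.node (.node (.leaf 1) (.leaf 3)) (.node (.leaf 3) (.leaf 1))))) (.node (.node 
    (.node (.node (.node (.leaf 3) (.leaf 2)) (.node (.leaf 2) (.leaf 3))) (.node (.node (.leaf 3) 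
    (.leaf 2)) (.node (.leaf 3) (.leaf 2)))) (.leaf 0)) (.leaf 1)))

/-- Certificate data. -/
def dict1 : BTree :=
  (.node 33566722 3 (.node 16785409 1 (.node 4096 0 .nil .nil) (.node 16793601 2 .nil .nil)) 
    (.node 67121155 5 (.node 50343940 4 .nil .nil) .nil))

/-- Certificate data. -/
def tab2 : CTree :=
  (.node (.node (.node (.node (.node (.node (.node (.leaf 9) (.leaf 8)) (.leaf 7)) (.leaf 6)) 
    (.leaf 5)) (.node (.leaf 3) (.leaf 4))) (.node (.node (.node (.leaf 1) (.leaf 3)) (.node (.leaf 
    1) (.leaf 3))) (.node (.node (.leaf 3) (.leaf 1)) (.node (.leaf 1) (.leaf 3))))) (.node (.node 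
    (.node (.node (.node (.leaf 5) (.leaf 6)) (.node (.leaf 6) (.leaf 5))) (.node (.node (.leaf 5) 
    (.leaf 6)) (.node (.leaf 5) (.leaf 6)))) (.leaf 2)) (.leaf 0)))

/-- Certificate data. -/
def dict2 : BTree :=
  (.node 16387 5 (.node 8192 2 (.node 3 1 (.node 1 0 .nil .nil) .nil) (.node 16386 4 (.node 16385 
    3 .nil .nil) .nil)) (.node 81924 8 (.node 49155 7 (.node 32770 6 .nil .nil) .nil) (.node 81925 
    9 .nil .nil)))

/-- Certificate data. -/
def class2 : List ℕ :=
  [12, 16, 17, 28, 33, 41, 44, 48, 57, 60, 76, 80, 81, 92, 97, 105, 108, 112, 121, 124]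

/-- Certificate data. -/
def tab3 : CTree :=
  (.node (.node (.node (.node (.node (.node (.node (.leaf 11) (.leaf 10)) (.leaf 9)) (.leaf 8)) 
    (.leaf 7)) (.node (.leaf 5) (.leaf 6))) (.node (.node (.node (.leaf 4) (.leaf 5)) (.node (.leaf 
    4) (.leaf 5))) (.node (.node (.leaf 5) (.leaf 4)) (.node (.leaf 4) (.leaf 5))))) (.node (.node 
    (.node (.node (.node (.leaf 2) (.leaf 3)) (.node (.leaf 3) (.leaf 2))) (.node (.node (.leaf 2) 
    (.leaf 3)) (.node (.leaf 2) (.leaf 3)))) (.leaf 1)) (.leaf 0)))

/-- Certificate data. -/
def dict3 : BTree :=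
  (.node 8196 6 (.node 6 3 (.node 2 1 (.node 0 0 .nil .nil) (.node 5 2 .nil .nil)) (.node 8195 5 
    (.node 8193 4 .nil .nil) .nil)) (.node 8199 9 (.node 8198 8 (.node 8197 7 .nil .nil) .nil) 
    (.node 8201 11 (.node 8200 10 .nil .nil) .nil)))

/-- Certificate data. -/
def class3 : List ℕ :=
  [32, 96]

/-- Certificate data. -/
def classes : List (List ℕ) :=
  [[0, 1, 2, 3, 4, 5, 6, 7, 8, 9, 10, 11], [4, 5, 6, 7, 8, 9, 10, 11], [6, 7, 8, 9, 10, 11], [7, 
    8, 9, 10, 11], [8, 9, 10, 11], [9, 10, 11], [10, 11]]

/-- Certificate data. -/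
def words : List (List (List ℕ)) :=
  [[[1], [2], [4], [2, 10], [34, 24, 10], [2, 34], [2, 4, 34, 4]], [[], [2], [4], [2, 10], [34, 
    24, 10], [2, 34], [2, 4, 34, 4]], [[], [], [108, 8], [8], [24, 8], [32], [108, 108]], [[], [], 
    [], [8], [24, 8], [32], [8, 24, 8, 24]], [[], [], [], [], [16], [32], [16, 16]], [[], [], [], 
    [], [], [32], [64]], [[], [], [], [], [], [], [64]]]

/-- Certificate data. -/
def sep : List (List ℕ) :=
  [[0, 1, 2, 1, 1, 2, 1, 1, 1, 1, 1, 1, 1, 1, 1, 0, 2, 1, 4, 1, 1, 2, 1, 128], [1, 0, 1, 2, 2, 1, 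
    2, 2, 2, 2, 2, 2, 2, 4, 2, 1, 1, 0, 1, 4, 2, 1, 2, 128], [2, 1, 0, 1, 1, 14, 1, 1, 1, 1, 1, 1, 
    1, 1, 1, 2, 14, 1, 2, 1, 1, 0, 1, 128], [1, 2, 1, 0, 9, 1, 0, 19, 19, 7, 19, 9, 19, 2, 19, 1, 
    1, 2, 1, 2, 19, 1, 7, 128], [1, 2, 1, 9, 0, 1, 9, 9, 9, 7, 9, 0, 9, 2, 9, 1, 1, 2, 1, 2, 9, 1, 
    7, 128], [2, 1, 14, 1, 1, 0, 1, 1, 1, 1, 1, 1, 1, 1, 1, 2, 0, 1, 2, 1, 1, 14, 1, 128], [1, 2, 
    1, 0, 9, 1, 0, 19, 19, 7, 19, 9, 19, 2, 19, 1, 1, 2, 1, 2, 19, 1, 7, 128], [1, 2, 1, 19, 9, 1, 
    19, 0, 40, 7, 25, 9, 40, 2, 25, 1, 1, 2, 1, 2, 0, 1, 7, 128], [1, 2, 1, 19, 9, 1, 19, 40, 0, 7, 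
    25, 9, 0, 2, 25, 1, 1, 2, 1, 2, 40, 1, 7, 128], [1, 2, 1, 7, 7, 1, 7, 7, 7, 0, 7, 7, 7, 2, 7, 
    1, 1, 2, 1, 2, 7, 1, 0, 128], [1, 2, 1, 19, 9, 1, 19, 25, 25, 7, 0, 9, 25, 2, 0, 1, 1, 2, 1, 2, 
    25, 1, 7, 128], [1, 2, 1, 9, 0, 1, 9, 9, 9, 7, 9, 0, 9, 2, 9, 1, 1, 2, 1, 2, 9, 1, 7, 128], [1, 
    2, 1, 19, 9, 1, 19, 40, 0, 7, 25, 9, 0, 2, 25, 1, 1, 2, 1, 2, 40, 1, 7, 128], [1, 4, 1, 2, 2, 
    1, 2, 2, 2, 2, 2, 2, 2, 0, 2, 1, 1, 4, 1, 0, 2, 1, 2, 128], [1, 2, 1, 19, 9, 1, 19, 25, 25, 7, 
    0, 9, 25, 2, 0, 1, 1, 2, 1, 2, 25, 1, 7, 128], [0, 1, 2, 1, 1, 2, 1, 1, 1, 1, 1, 1, 1, 1, 1, 0, 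
    2, 1, 4, 1, 1, 2, 1, 128], [2, 1, 14, 1, 1, 0, 1, 1, 1, 1, 1, 1, 1, 1, 1, 2, 0, 1, 2, 1, 1, 14, 
    1, 128], [1, 0, 1, 2, 2, 1, 2, 2, 2, 2, 2, 2, 2, 4, 2, 1, 1, 0, 1, 4, 2, 1, 2, 128], [4, 1, 2, 
    1, 1, 2, 1, 1, 1, 1, 1, 1, 1, 1, 1, 4, 2, 1, 0, 1, 1, 2, 1, 128], [1, 4, 1, 2, 2, 1, 2, 2, 2, 
    2, 2, 2, 2, 0, 2, 1, 1, 4, 1, 0, 2, 1, 2, 128], [1, 2, 1, 19, 9, 1, 19, 0, 40, 7, 25, 9, 40, 2, 
    25, 1, 1, 2, 1, 2, 0, 1, 7, 128], [2, 1, 0, 1, 1, 14, 1, 1, 1, 1, 1, 1, 1, 1, 1, 2, 14, 1, 2, 
    1, 1, 0, 1, 128], [1, 2, 1, 7, 7, 1, 7, 7, 7, 0, 7, 7, 7, 2, 7, 1, 1, 2, 1, 2, 7, 1, 0, 128], 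
    [128, 128, 128, 128, 128, 128, 128, 128, 128, 128, 128, 128, 128, 128, 128, 128, 128, 128, 128, 
    128, 128, 128, 128, 0]]

/-- Certificate data. -/
def moves : List (List ℕ × ℕ × ℕ) :=
  [([64], 979419069099067167271554191331088448, 66),
    ([64], 980380064314546002342027176798540852, 78),
    ([64], 960995990826742831548400902390385909, 65),
    ([64, 65], 984818244535754528103549039458486304, 1),
    ([64, 66], 984818244535754528103549039458486304, 2),
    ([64, 65, 66, 65, 78], 984818244535754528103549039458486304, 4),
    ([66, 65, 66, 65], 984818244535754528103549039458486304, 8),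
    ([66, 65, 78, 66, 65, 78], 984818244535754528103549039458486304, 16),
    ([78, 65, 66, 65, 78, 65, 66, 65], 984818244535754528103549039458486304, 32)]

/-- The certificate. -/
def cert : Cert :=
  { m := 7, els := els, idx := idxTree, nxt := nxt, sq := sq, k0 := k0, k0dict := k0dict,
    steps := [.sqz tab0 dict0, .sqz tab1 dict1, .comm class2 2 tab2 dict2, .comm class3 7 tab3 dict3],
    classes := classes, words := words, partner := [15, 17, 21, 6, 11, 16, 3, 20, 12, 22, 14, 4, 8, 19, 10, 0, 5, 1, 18, 13, 7, 2, 9, 23],
    sep := sep, moves := moves }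

theorem els_ok : okEls cert CfsgLib.Golay.X23 = true := by decide +kernel

theorem nxt_ok : okNxt cert = true := by decide +kernel

theorem pred_ok : okPred cert = true := by decide +kernel

theorem sq_ok : okSq cert = true := by decide +kernel

theorem labels_ok : okLabels cert = true := by decide +kernel

theorem series_ok : okSeries cert = true := by decide +kernel

theorem sep_ok : okSep cert CfsgLib.Golay.X23 = true := by decide +kernel

theorem moves_ok : movesOK cert CfsgLib.Golay.X23 cert.moves [2 ^ (cert.m - 1)] = true := by decide +kernel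

end CfsgLib.Fusion.MathieuCert.M23
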