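import Cfsg.Agent.Lib.Fusion.MathieuCert

/-! The certificate that the 2-fusion system of `M24` is simple. -/

set_option autoImplicit false
set_option maxRecDepth 100000

namespace CfsgLib.Fusion.MathieuCert.M24

/-- Certificate data. -/
def els : CTree :=
  (.node (.node (.node (.node (.node (.node (.node (.node (.node (.node (.leaf 
    984818244535754528103549039458486304) (.leaf 943847776787635803628206923652438415)) (.node 
    (.leaf 877156364336173858273874012524975105) (.leaf 152790387905695497859875677938628076))) 
    (.node (.node (.leaf 943844927035725250943584723391907872) (.leaf 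
    984815394782709991802954656237328783)) (.node (.leaf 152793237658588775470751665693103105) 
    (.leaf 877159214088235669648214608252188140)))) (.node (.node (.node (.leaf 
    877138453836724030097756073524660256) (.leaf 152772477406094410994039343471630735)) (.node 
    (.leaf 984812760466102605412385163952886785) (.leaf 943842292718135139626761443613521388))) 
    (.node (.node (.leaf 152787753589164035962070554553059360) (.leaf 
    877153730018659671449815101645461903)) (.node (.leaf 943827016536048239584984020026037249) 
    (.leaf 984797484283184239134072348338140652))))) (.node (.node (.node (.node (.leaf 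
    434269984872477504587561650740280482) (.leaf 594866104810380803389433554185781670)) (.node 
    (.leaf 716968426590640862590931360639561797) (.leaf 354967980023028541798813685558609101))) 
    (.node (.node (.leaf 594868320737708953466115477983509666) (.leaf 
    434272200799504216419335118229078438)) (.node (.leaf 354965764096152793508853443042029637) 
    (.leaf 716966210663161748972436211869615309)))) (.node (.node (.node (.leaf 
    716963180205325666508535944121367714) (.leaf 354962733637864309258231494012633510)) (.node 
    (.leaf 434251836688690949802675252752560197) (.leaf 594847956626443285062733931225842893))) 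
    (.node (.node (.leaf 354947615911837423605763001775635618) (.leaf 
    716948062478997342611158995575439782)) (.node (.leaf 594863074352922572501924104743989317) 
    (.leaf 434266954414566871913330520017339597)))))) (.node (.node (.node (.node (.node (.leaf 
    984812680889878029252177586422913056) (.leaf 943842213838110611894610990832716175)) (.node 
    (.leaf 877138533219525935350244786670613505) (.leaf 152772556479541609633908660636456428))) 
    (.node (.node (.leaf 943827096112499408631863995162859552) (.leaf 
    984797563163134022965079141309843855)) (.node (.leaf 152787674206134652379193880777307137) 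
    (.leaf 877153650945288102154805007312688620)))) (.node (.node (.node (.leaf 
    877156681403690341711522003233216544) (.leaf 152790704663555052453372652226840975)) (.node 
    (.leaf 984817927274815373758182184366224385) (.leaf 943847460223198919942428813748245996))) 
    (.node (.node (.leaf 152792920591298884919776072591710240) (.leaf 
    877158897330301371153573974154873231)) (.node (.leaf 943845244296436926958563617854370817) 
    (.leaf 984815711347222504833591988973573612))))) (.node (.node (.node (.node (.leaf 
    434251758156604525386893464772542626) (.leaf 594847876701826829517002501689752998)) (.node 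
    (.leaf 716963259472417517261281706958586949) (.leaf 354962812827475338466998948691521741))) 
    (.node (.node (.leaf 594863152884480993456241124139630754) (.leaf 
    434267034338955627767745081524895142)) (.node (.leaf 354947536645275494775865727405851717) 
    (.leaf 716947983289612094632324689042026701)))) (.node (.node (.node (.leaf 
    716968743541691293228149593394839714) (.leaf 354968296896900373123585230594456998)) (.node 
    (.leaf 434269668656432500287307392842204229) (.leaf 594865787201503545727698034292732109))) 
    (.node (.node (.leaf 354965447144574359410170441702375586) (.leaf 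
    716965893789062217956347798805233062)) (.node (.leaf 594868636954283879689218224349021253) 
    (.leaf 434272518408607255311003786267603149))))))) (.node (.node (.node (.node (.node (.node 
    (.leaf 434258441796425598922118161941923872) (.leaf 594854560341232442023434610227583375)) 
    (.node (.leaf 716951658725390941313455521399247873) (.leaf 
    354951212080335818869816965433996780))) (.node (.node (.leaf 
    594851552137832564232710927649638432) (.leaf 434255433591891737515422296403351951)) (.node 
    (.leaf 354954220284718421586794435505886209) (.leaf 716954666928942077793897599443875308)))) 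
    (.node (.node (.node (.leaf 716957296299607735391632746912090144) (.leaf 
    354956849654401354258275795480156559)) (.node (.leaf 434271281698310217603203681465144321) 
    (.leaf 594867400243268319394238525217486316))) (.node (.node (.leaf 
    354967060186830223450362719394662432) (.leaf 716967506830902620967747487865969039)) (.node 
    (.leaf 594857189711822175128405388796924929) (.leaf 434261071166032607100835153017320940))))) 
    (.node (.node (.node (.node (.leaf 943833225154502679885646246222412962) (.leaf 
    984803692205552976608582888936538534)) (.node (.leaf 152776628056321471143235050083692613) 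
    (.leaf 877142604795588676224941223241778381))) (.node (.node (.leaf 
    984801634739686996439827937154415778) (.leaf 943831167688335261471982838131360166)) (.node 
    (.leaf 877144662261907058180417856305049669) (.leaf 152778685522036487770176776893596877)))) 
    (.node (.node (.node (.leaf 152781869489347695110020374367812770) (.leaf 
    877147846228765863733539772498117030)) (.node (.leaf 943846461197577868678123666974355525) 
    (.leaf 984816928248477201859247084716262605))) (.node (.node (.leaf 
    877157898304453431854691233778318498) (.leaf 152791921564733824986263379339084198)) (.node 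
    (.leaf 984806876173242035524817304717209669) (.leaf 943836409121739337015158980721935565)))))) 
    (.node (.node (.node (.node (.node (.leaf 594857269636438077271955183171573792) (.leaf 
    434261149697817657835453326850001295)) (.node (.leaf 354966980997218345691227258424210433) 
    (.leaf 716967427564113545848714980629091820))) (.node (.node (.leaf 
    434271201773920908346326284697344032) (.leaf 594867321711408524758476691575703951)) (.node 
    (.leaf 716957375488992134820380247252743169) (.leaf 354956928921266058722167525549086188)))) 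
    (.node (.node (.node (.leaf 354953744954521008475140656247150624) (.leaf 
    716954191521265245090815153479813519)) (.node (.leaf 594852028203034001728779040312570881) 
    (.leaf 434255908264564545834090408963216876))) (.node (.node (.leaf 
    716952134055814947311781698264832032) (.leaf 354951687487937907671755751588956559)) (.node 
    (.leaf 434257965730996683095662088649192449) (.leaf 594854085668635263049625720499770860))))) 
    (.node (.node (.node (.node (.leaf 984806797292990878012365697499365538) (.leaf 
    943836329545287614565816170324868518)) (.node (.leaf 877157977378127776783695783810237509) 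
    (.leaf 152792000947762360019053246922076365))) (.node (.node (.leaf 
    943846540077301022729110505607823522) (.leaf 984817007824701224617273027084795302)) (.node 
    (.leaf 152781790416203272103864312803329093) (.leaf 877147766845963109930683053060600013)))) 
    (.node (.node (.node (.leaf 877145137475865011378314275217670306) (.leaf 
    152779161045650853303390133796191654)) (.node (.leaf 984801159719152230658484461055870021) 
    (.leaf 943830691971297708522216538414690509))) (.node (.node (.leaf 
    152776152841835514483873862586695842) (.leaf 877142129271746611000410998310649254)) (.node 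
    (.leaf 943833700175567367589838210788394053) (.leaf 
    984804167922816310788282336798683341)))))))) (.node (.node (.node (.node (.node (.node (.node 
    (.leaf 500376722000523747570965052996461251) (.leaf 57124942676373327960229266033460981)) 
    (.node (.leaf 623574531636714879215877173248309366) (.leaf 
    19523809130202986383393775802526391))) (.node (.node (.leaf 
    500379175587330330357730110218454773) (.leaf 57127396264539659451998630533636803)) (.node 
    (.leaf 623572078049190290350766600127294135) (.leaf 19521355542754660969969927201372278)))) 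
    (.node (.node (.node (.leaf 500391302443875154685272618743904374) (.leaf 
    57139523120366477701195623160064695)) (.node (.leaf 623577002562539626806986850408899267) 
    (.leaf 19526280055385991347844661583955701))) (.node (.node (.leaf 
    500381646513948448200098437410073271) (.leaf 57129867190516034667708166346094710)) (.node 
    (.leaf 623586658491748327213815515843708661) (.leaf 19535935985954440459677634296947395))))) 
    (.node (.node (.node (.node (.leaf 546742231629057237842788465861809608) (.leaf 
    224657566542457335709351167489412433)) (.node (.leaf 252365950569145174132490402809437454) 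
    (.leaf 91080228975534680708291689480378922))) (.node (.node (.leaf 
    546744843672528754484179646123412817) (.leaf 224660178586608790113927206381245896)) (.node 
    (.leaf 252363338525485458043451734431554090) (.leaf 91077616931571425751363138704825614)))) 
    (.node (.node (.node (.leaf 546757366669205285061399050139557134) (.leaf 
    224672701583097121243499122281110058)) (.node (.leaf 252367866898173281619297061439722952) 
    (.leaf 91082145304071049879560977596714321))) (.node (.node (.leaf 
    546746760001518309428793778241624618) (.leaf 224662094915106606743003967985507598)) (.node 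
    (.leaf 252378473565672057804254845221375313) (.leaf 91092751972249763827703620008596936)))))) 
    (.node (.node (.node (.node (.node (.leaf 500391777967507633787244562588124867) (.leaf 
    57139998333890798655184423307682549)) (.node (.leaf 623576527503120310883640763162339446) 
    (.leaf 19525804377648507215230004838677175))) (.node (.node (.leaf 
    500381171298988719220287036095210229) (.leaf 57129391666732223089041523607062211)) (.node 
    (.leaf 623587134170921588307134258349128375) (.leaf 19536411045524719924836935845423222)))) 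
    (.node (.node (.node (.leaf 500376642927169775336723057069795446) (.leaf 
    57124863294195642062013513275521719)) (.node (.leaf 623574611174282014628745025772635843) 
    (.leaf 19523888048167509102983671962804981))) (.node (.node (.leaf 
    500379254970943793216649948736535223) (.leaf 57127475338044595228053840762218614)) (.node 
    (.leaf 623571999129790359605354102799770357) (.leaf 19521276005036193080407375782233795))))) 
    (.node (.node (.node (.node (.leaf 546756890720223975310579949718539720) (.leaf 
    224672226794166813229291355191334225)) (.node (.leaf 252368341841359705779913351650007310) 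
    (.leaf 91082621098796243483971554897223210))) (.node (.node (.leaf 
    546747234789995357882680367903757649) (.leaf 224662570864618281138529298858315208)) (.node 
    (.leaf 252377997771398721807615803895504426) (.leaf 91092277028534376974930740799527182)))) 
    (.node (.node (.node (.leaf 546742310276683863769005852084754702) (.leaf 
    224657646351117185624657653470027306)) (.node (.leaf 252365870915723662616070206375759304) 
    (.leaf 91080150172669716383188013710497105))) (.node (.node (.leaf 
    546744763864320762176644696117435946) (.leaf 224660099938453201495553231159515406)) (.node 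
    (.leaf 252363417327897162808234232773793105) (.leaf 91077696585523301912489565590293960))))))) 
    (.node (.node (.node (.node (.node (.node (.leaf 500390244015795432824708047550025160) (.leaf 
    57138464691984844897905651485234513)) (.node (.leaf 623588053646810529139154660519631118) 
    (.leaf 19537331140487209300886258505375274))) (.node (.node (.leaf 
    500392697598106144016807378926196049) (.leaf 57140918274975641427142508343168456)) (.node 
    (.leaf 623585600064310216546858199574175274) (.leaf 19534877557686014171846531216726286)))) 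
    (.node (.node (.node (.leaf 500387768137870195896095829622020366) (.leaf 
    57135988814550091906233829469707818)) (.node (.leaf 623568244149909215909031565596855752) 
    (.leaf 19517521643095412133822767670121809))) (.node (.node (.leaf 
    500372888101166278244491757491346986) (.leaf 57121108777545291717886490995841294)) (.node 
    (.leaf 623583124186423532160438508158244177) (.leaf 19532401680289813722367235713273288))))) 
    (.node (.node (.node (.node (.leaf 546758365682926022508260921540944629) (.leaf 
    224673700597346258756823365879809731)) (.node (.leaf 252376860541209872513483127251974839) 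
    (.leaf 91091138947485077298396190634059894))) (.node (.node (.leaf 
    546755753644630409764002542005601987) (.leaf 224671088557690307011750359552172789)) (.node 
    (.leaf 252379472580223122401205538093443190) (.leaf 91093750986423391900005165655571127)))) 
    (.node (.node (.node (.leaf 546738160045665656131827490757884599) (.leaf 
    224653494959443190523039339610581110)) (.node (.leaf 252374780803643688731181245184254709) 
    (.leaf 91089059210561595373444904052508355))) (.node (.node (.leaf 
    546753673907857596232959309968910454) (.leaf 224669008821560195338057723001649847)) (.node 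
    (.leaf 252359266942169385773513457279354563) (.leaf 91073545347726953414962489355313909)))))) 
    (.node (.node (.node (.node (.node (.leaf 500372571343023352858265887784832337) (.leaf 
    57120791710426656108205491215652296)) (.node (.leaf 623583441408780506169005797485369898) 
    (.leaf 19532718283194400709706815872851214))) (.node (.node (.leaf 
    500388085205517794197933418400994760) (.leaf 57136305572241159684688163201584465)) (.node 
    (.leaf 623567927546474264276985754985487630) (.leaf 19517204421191697685576655770638890)))) 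
    (.node (.node (.node (.leaf 500392776981228348175676363327429162) (.leaf 
    57140997348139913110078596244299022)) (.node (.leaf 623585521145402061010330634793553233) 
    (.leaf 19534798020307693866569023694984648))) (.node (.node (.leaf 
    500390164942100796497065729197104398) (.leaf 57138385309315900299357844511644202)) (.node 
    (.leaf 623588133184717812136588757040158152) (.leaf 19537410058943507229642287311359313))))) 
    (.node (.node (.node (.node (.leaf 546753356414860650773440486183084739) (.leaf 
    224668692488463657008218500757669621)) (.node (.leaf 252359583429370929133995392424392822) 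
    (.leaf 91073862686618893843838600240081591))) (.node (.node (.leaf 
    546738476377326417500962627241723637) (.leaf 224653812452289172440744949094490819)) (.node 
    (.leaf 252374463466187156328127735466732215) (.leaf 91088742723511384489657667802282102)))) 
    (.node (.node (.node (.leaf 546755832292597183274786172224747638) (.leaf 
    224671168366841932136222978178493111)) (.node (.leaf 252379392926460946791385019233510083) 
    (.leaf 91093672183067168874569435670038261))) (.node (.node (.leaf 
    546758285875209805409610904081869495) (.leaf 224673621949530817722734434555476086)) (.node 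
    (.leaf 252376939343130318578214771477366517) (.leaf 
    91091218601096289366403495192076995))))))))) (.node (.node (.node (.node (.node (.node (.node 
    (.node (.leaf 984797642623984997567594628879848480) (.leaf 
    943827175069288648852066181193577871)) (.node (.leaf 877154126082557010110958776552720385) 
    (.leaf 152788149845500730308868939591686636))) (.node (.node (.leaf 
    943842688936845668822773905471738912) (.leaf 984813156490408329070235340691846543)) (.node 
    (.leaf 152772635978926435264415002807470081) (.leaf 877138612215150953682064277246777836)))) 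
    (.node (.node (.node (.leaf 877158817870583273362386253750408224) (.leaf 
    152792841633376030018483191817155983)) (.node (.leaf 984815236210785284474902464532940801) 
    (.leaf 943844768656239899301187241818888684))) (.node (.node (.leaf 
    152790229565952872336537504753357856) (.leaf 877156205802026427212373554220447119)) (.node 
    (.leaf 943847380724645781909386716376631297) (.leaf 984817848278359405698661376568957420))))) 
    (.node (.node (.node (.node (.leaf 434267113644618051733653404642455714) (.leaf 
    594863232847517031003205778419516838)) (.node (.leaf 716948458581540632038103157974711365) 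
    (.leaf 354948011278923696565760782730854605))) (.node (.node (.leaf 
    594848352805977540353413799379251362) (.leaf 434252233602777417986858139787724198)) (.node 
    (.leaf 354962891320915589002274443052268613) (.leaf 716963338622928863998176741548294349)))) 
    (.node (.node (.node (.leaf 716965814483701970105110914201497762) (.leaf 
    354965367181236293322486934424323494)) (.node (.leaf 434272043117283263825380961266449477) 
    (.leaf 594868162320030984405214939576828109))) (.node (.node (.leaf 
    354967820793051838401845371418783906) (.leaf 716968268095216372087466065381492134)) (.node 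
    (.leaf 594865708708667841112578183863516229) (.leaf 434269589505316460056304128805306573)))))) 
    (.node (.node (.node (.node (.node (.leaf 984815315284307595950796905296016416) (.leaf 
    943844848039117802833416641586042255)) (.node (.leaf 877158738990482747350495114348402689) 
    (.leaf 152792762057076341022250490688932332))) (.node (.node (.leaf 
    943847301651349325450401745642107936) (.leaf 984817768895406020395525389414405519)) (.node 
    (.leaf 152790308445826657887803611103860737) (.leaf 877156285378402483423228405759019500)))) 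
    (.node (.node (.node (.leaf 877153809518195239261205790246777888) (.leaf 
    152787832584637574243242771120625039)) (.node (.leaf 984797959381768553881350916546861057) 
    (.leaf 943827492136730019453689048303569388))) (.node (.node (.leaf 
    152772952543514061131077459141964832) (.leaf 877138929475938627976783858330441103)) (.node 
    (.leaf 943842372178835372048392584753223681) (.leaf 984812839423043325683234623992203756))))) 
    (.node (.node (.node (.node (.leaf 434272122306517474475425750338241698) (.leaf 
    594868241586744098137854316923892134)) (.node (.leaf 716965734559464251579485870155563077) 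
    (.leaf 354965288649526687465427812051401933))) (.node (.node (.leaf 
    594865629518905774575021211723007138) (.leaf 434269510238375794206300468945367462)) (.node 
    (.leaf 354967900717819331276366318416494661) (.leaf 716968346627151611600505750384229581)))) 
    (.node (.node (.node (.leaf 716948140972286555817644972474565794) (.leaf 
    354947695062499955245400139342623142)) (.node (.leaf 434267430518868620078531335168458821) 
    (.leaf 594863549798944280199146676781890765))) (.node (.node (.leaf 
    354963208929641809335220445483697314) (.leaf 716963654839125053201173102423650726)) (.node 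
    (.leaf 594848035932256746357431771805024325) (.leaf 434251916651575802446897804055166157))))))) 
    (.node (.node (.node (.node (.node (.node (.leaf 434260516608108519175492990735225888) (.leaf 
    594856635887919976957034139183789455)) (.node (.leaf 716967347601342337686148571662321665) 
    (.leaf 354966901691291534774829545365510636))) (.node (.node (.leaf 
    594867242561161269536216975257670688) (.leaf 434271123280216123286608814342944143)) (.node 
    (.leaf 354956295019032967121900496785573889) (.leaf 716956740928252008648778960560658924)))) 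
    (.node (.node (.node (.leaf 716954824612107260562103256760128544) (.leaf 
    354954378701905494108971005491099023)) (.node (.leaf 434255988228167441594121062729385985) 
    (.leaf 594852107508129862917475436150168044))) (.node (.node (.leaf 
    354951766639318039705343235072529440) (.leaf 716952212548386117690408473875395983)) (.node 
    (.leaf 594854719571700042247356994062682113) (.leaf 434258600290905859539562058120174060))))) 
    (.node (.node (.node (.node (.leaf 943836250549398209283507289807564962) (.leaf 
    984806717793870881766257600641467814)) (.node (.leaf 152791366890642497291852917598043205) 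
    (.leaf 877157343823331782985467588381442253))) (.node (.node (.leaf 
    984816373728745731352407979267829922) (.leaf 943845906483971915772654382619461030)) (.node 
    (.leaf 877147687888909335186038891036228677) (.leaf 152781710955616389015984143504998605)))) 
    (.node (.node (.node (.leaf 152779240041842434700370452827320482) (.leaf 
    877145216974682979083703519077402022)) (.node (.leaf 943831326029022117169572511670254661) 
    (.leaf 984801793273343530962604427037475021))) (.node (.node (.leaf 
    877142763368004280379947484641439906) (.leaf 152776786434862592899611132576892326)) (.node 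
    (.leaf 984804246880474631453082142754585669) (.leaf 943833779635549557183610150639534285)))))) 
    (.node (.node (.node (.node (.node (.leaf 594854640304986079964349610424054816) (.leaf 
    434258521101369980060167283770922383)) (.node (.leaf 354951845171027092160220722284009473) 
    (.leaf 716952292472926906997933144651794924))) (.node (.node (.leaf 
    434256067495107258894037916396565536) (.leaf 594852186697590260625963623112021391)) (.node 
    (.leaf 716954746080171467646600736497145857) (.leaf 354954298777441072016068485125048812)))) 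
    (.node (.node (.node (.leaf 354956769691780888276593732943688736) (.leaf 
    716957216993529444424587759844791695)) (.node (.leaf 594866767153408438553393842672408577) 
    (.leaf 434270647949943597338929911485958636))) (.node (.node (.leaf 
    716966872928820271548364805532759072) (.leaf 354966425625938617228114158693979535)) (.node 
    (.leaf 434260992015634609697691090268985345) (.leaf 594857111218268870119335192451123692))))) 
    (.node (.node (.node (.node (.leaf 984804326263126347927149344730481826) (.leaf 
    943833858708845165092508315181298086)) (.node (.leaf 877142683791931294950711059734528069) 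
    (.leaf 152776707554988253945882190966144205))) (.node (.node (.leaf 
    943831246645842544807993126625641634) (.leaf 984801714199820370936341979982836134)) (.node 
    (.leaf 152779319618445194478502780686008389) (.leaf 877145295854782951693413023317966029)))) 
    (.node (.node (.node (.leaf 877147212171494963677549925712463010) (.leaf 
    152781235934702886214534281916297638)) (.node (.leaf 984816849252738833905727721660579909) 
    (.leaf 943846381698306687529273467139177677))) (.node (.node (.leaf 
    152791842607529012912829699853092002) (.leaf 877157818844017733669553167457268134)) (.node 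
    (.leaf 943835775025934881079083450366591045) (.leaf 
    984806242579761743665619078751567053)))))))) (.node (.node (.node (.node (.node (.node (.node 
    (.leaf 500381726167602441206432700275112643) (.leaf 57129946379238194334284412364499701)) 
    (.node (.leaf 623587292356488316958816118835814518) (.leaf 
    19536569385763556095612024549426871))) (.node (.node (.leaf 
    500391936693948261343383360025668341) (.leaf 57140156906944722406931183500245699)) (.node 
    (.leaf 623577081829424490743519943186237111) (.leaf 19526358858775034101310769312702582)))) 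
    (.node (.node (.node (.leaf 500379096785452147425034119987339382) (.leaf 
    57127316997730602410236427562895031)) (.node (.leaf 623571444262537197980951954087525059) 
    (.leaf 19520721291169735260397264314968821))) (.node (.node (.leaf 
    500376088600790438829801552550577847) (.leaf 57124308813144198035998780538986614)) (.node 
    (.leaf 623574452446480900497839005625264885) (.leaf 19523729476474145712980427237898947))))) 
    (.node (.node (.node (.node (.leaf 546747393285348859715472897390763464) (.leaf 
    224662729204545171337811717256337745)) (.node (.leaf 252378552329696749425668334315296014) 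
    (.leaf 91092831741881215378648764622736938))) (.node (.node (.leaf 
    546757445355710663744261272103901521) (.leaf 224672781275585658751187975998234056)) (.node 
    (.leaf 252368500259146745949232471485877802) (.leaf 91082779671028927412919993997120782)))) 
    (.node (.node (.node (.leaf 546744209305721925808825152585159950) (.leaf 
    224659545225408721368104368363212330)) (.node (.leaf 252363258833222270573053334084836808) 
    (.leaf 91077538244916252589093368479799633))) (.node (.node (.leaf 
    546742151859199181875955893275790890) (.leaf 224657487778583692945942201257645326)) (.node 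
    (.leaf 252365316279556815058275105277925713) (.leaf 91079595691929480458903023701646792)))))) 
    (.node (.node (.node (.node (.node (.leaf 500378621106921145467208217293499075) (.leaf 
    57126841937518137596560578960669429)) (.node (.leaf 623571919476854667825270515590808694) 
    (.leaf 19521196815595732187580454107751095))) (.node (.node (.leaf 
    500376563659567569404631092743387893) (.leaf 57124784491523941304106277095844547)) (.node 
    (.leaf 623573976923490606744383608834794167) (.leaf 19523254262307565623498787278701686)))) 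
    (.node (.node (.node (.leaf 500381805086360112816352357791057014) (.leaf 
    57130025917598847572363510837387959)) (.node (.leaf 623587212973517113235389120129313475) 
    (.leaf 19536490311616434971040267267095285))) (.node (.node (.leaf 
    500391857157023311279032054555091639) (.leaf 57140077988337940551848447528387702)) (.node 
    (.leaf 623577160902136277629245392059153141) (.leaf 19526438241594979135019361882221251))))) 
    (.node (.node (.node (.node (.leaf 546744685100485598168452003167033800) (.leaf 
    224660020168632222331387290401856849)) (.node (.leaf 252362784044254885756178935166700814) 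
    (.leaf 91077062295896464083057994777417258))) (.node (.node (.leaf 
    546741676915520871825849645895081297) (.leaf 224657011984348835704519433213139400)) (.node 
    (.leaf 252365792229030010698584162869368362) (.leaf 91080070480369452110122981535419662)))) 
    (.node (.node (.node (.leaf 546747314482446818587702589792521486) (.leaf 
    224662649551085181066175247541294634)) (.node (.leaf 252378632138395078096191093577275848) 
    (.leaf 91092910389544918107532782674042193))) (.node (.node (.leaf 
    546757525009624061150171425708004906) (.leaf 224672860077960286713303842512112910)) (.node 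
    (.leaf 252368421611028234133525128092507473) (.leaf 91082699862859413860601317272508872))))))) 
    (.node (.node (.node (.node (.node (.node (.leaf 500372413157834097768695796454152648) (.leaf 
    57120633369809535006528314194517329)) (.node (.leaf 623583044997021061328224946831265038) 
    (.leaf 19532322026485021033188433223636522))) (.node (.node (.leaf 
    500387689335160357791852749121412433) (.leaf 57135909547817134745419766945012168)) (.node 
    (.leaf 623567768819505199904870864594720298) (.leaf 19517045848667022694494110042426638)))) 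
    (.node (.node (.node (.leaf 500393173392685729888093226267577614) (.leaf 
    57141393605152905441463114521892394)) (.node (.leaf 623585679331271180076109331523754440) 
    (.leaf 19534956360243401465535447402175825))) (.node (.node (.leaf 
    500390323669373473524046755216250410) (.leaf 57138543881538512162076402525900046)) (.node 
    (.leaf 623588529054393835039958673005796689) (.leaf 19537806084047396145119288967453128))))) 
    (.node (.node (.node (.node (.leaf 546753197996545026214192688146758389) (.leaf 
    224668533916760369413886861369354947)) (.node (.leaf 252359187249831131728065166030578359) 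
    (.leaf 91073466661902402694801762403402870))) (.node (.node (.leaf 
    546738080275882814602227495594961603) (.leaf 224653416194738778031798846132271861)) (.node 
    (.leaf 252374304971210980483494389888500854) (.leaf 91088584383206356933425746334360247)))) 
    (.node (.node (.node (.leaf 546756228472060864802982270016234167) (.leaf 
    224671564391634465376017651859670134)) (.node (.leaf 252379551343417044006557398667016949) 
    (.leaf 91093830756130057599952786419002051))) (.node (.node (.leaf 
    546758444370262023345002085504599158) (.leaf 224673780289759729401232227421070007)) (.node 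
    (.leaf 252377335445933522608001614484777667) (.leaf 91091614857287156431274179551476469)))))) 
    (.node (.node (.node (.node (.node (.leaf 500390640272316539266602608657193297) (.leaf 
    57138861103932562973310323681385928)) (.node (.leaf 623588211987238122627611041397247530) 
    (.leaf 19537489325865992003677145979573518))) (.node (.node (.leaf 
    500392856170819092242513746196454856) (.leaf 57141077001756432564633577191889233)) (.node 
    (.leaf 623585996088923769099347391974266126) (.leaf 19535273427853922964706404352790058)))) 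
    (.node (.node (.node (.leaf 500387609797744960683908609771310634) (.leaf 
    57135830628870500453675928883025166)) (.node (.leaf 623567847892707950343023225777215825) 
    (.leaf 19517125231826303656029726272019912))) (.node (.node (.leaf 
    500372492076251916942235551978771726) (.leaf 57120712907679741201295778886684202)) (.node 
    (.leaf 623582965614389193532343771686034888) (.leaf 19532242952828863460762388152080721))))) 
    (.node (.node (.node (.node (.leaf 546758761708360814883548435033701059) (.leaf 
    224674096776167754936502916617546485)) (.node (.leaf 252377019113630502103373638189359222) 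
    (.leaf 91091297365083359862085117121316535))) (.node (.node (.leaf 
    546755911984217136093983787817446133) (.leaf 224671247053384784082634380786481859)) (.node 
    (.leaf 252379868837056174814592769506592439) (.leaf 91094147088584336794299168851402870)))) 
    (.node (.node (.node (.leaf 546738001473320109402003011557990518) (.leaf 
    224653336541769751312308088628004535)) (.node (.leaf 252374384779569456717637247159155395) 
    (.leaf 91088663030379612618998130604944117))) (.node (.node (.leaf 
    546753277650949387172529754060441271) (.leaf 224668612719474333303829751543308406)) (.node 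
    (.leaf 252359108601222172868764988757682933) (.leaf 
    91073386853393036705821983588661955)))))))))) (.node (.node (.node (.node (.node (.node (.node 
    (.node (.node (.leaf 944566496293932917779193620711180672) (.leaf 
    984076630549445909304164270948915247)) (.node (.leaf 152832565764805710409970723728332257) 
    (.leaf 877117412556059578270194909652431884))) (.node (.node (.leaf 
    984086841077038459556865618352966016) (.leaf 944576706820392715736089704193431599)) (.node 
    (.leaf 877107202029448807548113572933113313) (.leaf 152822355237364132922454629561349132)))) 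
    (.node (.node (.node (.leaf 152819725855667393849282358171863424) (.leaf 
    877104572646770288944321290858895407)) (.node (.leaf 944560858726969821580619241231586785) 
    (.leaf 984070992982633785870775144706389004))) (.node (.node (.leaf 
    877101564462712608607488815589460352) (.leaf 152816717670476961216644618980628527)) (.node 
    (.leaf 984074001167673245738227630660556257) (.leaf 944563866911178474682636969738089484))))) 
    (.node (.node (.node (.node (.leaf 595222353011383079366088392078278050) (.leaf 
    433896066327443727793061127496695974)) (.node (.leaf 354804721718030774877164246519984325) 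
    (.leaf 717129686838654558228444356495606861))) (.node (.node (.leaf 
    433906118398296385846592841151200674) (.leaf 595232405081932712754721311878807718)) (.node 
    (.leaf 717119634768256192752901877606461637) (.leaf 354794669647026848910542091954095181)))) 
    (.node (.node (.node (.leaf 354791485667701878981008942633008546) (.leaf 
    717116450788476930245379493520015526)) (.node (.leaf 595217111585610562502980950929191109) 
    (.leaf 433890824901519943016863245436224589))) (.node (.node (.leaf 
    717114393341954556400313177239535010) (.leaf 354789428220876480471043832498552998)) (.node 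
    (.leaf 433892882348496609439918796482064581) (.leaf 595219169031981668434956826298287181)))))) 
    (.node (.node (.node (.node (.node (.leaf 944563391890898450375648674000771456) (.leaf 
    984073525450079024230760901273880623)) (.node (.leaf 152817192885173241866919939061528033) 
    (.leaf 877102039985890573771668520632554508))) (.node (.node (.leaf 
    984071468003972104496958169606166912) (.leaf 944561334443657597754419979253549103)) (.node 
    (.leaf 877104097432980158479806774468392417) (.leaf 152819250331431429513813111640626188)))) 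
    (.node (.node (.node (.leaf 152822434311323914677695414724663680) (.leaf 
    877107281411889978669353555384305711)) (.node (.leaf 944576627940849190324135943373698529) 
    (.leaf 984086761500181032092338611558192140))) (.node (.node (.leaf 
    877117333483158090834148853651577216) (.leaf 152832486381458093955064749912426543)) (.node 
    (.leaf 984076709429895584901878835459044833) (.leaf 944566575869732346072431086017811468))))) 
    (.node (.node (.node (.node (.leaf 595219643704652115572494695478329762) (.leaf 
    433893358413398481033209503018433702)) (.node (.leaf 354788952813610037135728213891679429) 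
    (.leaf 717113918011648681004800220129996877))) (.node (.node (.leaf 
    433890350228925125224184582445236642) (.leaf 595216635519877358412049401590856870)) (.node 
    (.leaf 717116926196574410930430767254537413) (.leaf 354791960997932420179567881227808845)))) 
    (.node (.node (.node (.leaf 354794590380195272534539746531541410) (.leaf 
    717119555578384889168797006006926502)) (.node (.leaf 595232483614168292932945907874530501) 
    (.leaf 433906198322763685628475462177566797))) (.node (.node (.leaf 
    717129766105561763949305908107215266) (.leaf 354804800907070745963628275317554342)) (.node 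
    (.leaf 433895987796039184964572186628621509) (.leaf 595222273086840445387251752537174093))))))) 
    (.node (.node (.node (.node (.node (.node (.leaf 595212960077600499710134213981505920) (.leaf 
    433886674785931189698656576217847855)) (.node (.leaf 354800553548471546839364195494335969) 
    (.leaf 717125518746396460766614262903026700))) (.node (.node (.leaf 
    433901950964164495727583410887625088) (.leaf 595228236254701053443255784729483311)) (.node 
    (.leaf 717110242569144934268307438917981665) (.leaf 354785277370389213575622614061626380)))) 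
    (.node (.node (.node (.leaf 354806037606034068372326108222654848) (.leaf 
    717131002803808009534390922394277935)) (.node (.leaf 595230870589139729044454115759101409) 
    (.leaf 433904585297621391798161731232510988))) (.node (.node (.leaf 
    717128153080911060860576962831518080) (.leaf 354803187882004367402706884738095151)) (.node 
    (.leaf 433907435021500120002595701480003041) (.leaf 595233720312187650483453328558928908))))) 
    (.node (.node (.node (.node (.leaf 984082514141393679637146579826818466) (.leaf 
    944572380581494627005871974086967462)) (.node (.leaf 877097968402764101893120902101184709) 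
    (.leaf 152813121301328291212209942063416397))) (.node (.node (.leaf 
    944557262860304237841294767119515042) (.leaf 984067396419900265807670579005391014)) (.node 
    (.leaf 152828239022972972954776383796228293) (.leaf 877113086123803223144607668157252685)))) 
    (.node (.node (.node (.leaf 877116116598639762688725883930000802) (.leaf 
    152831269497355219920905364803616934)) (.node (.leaf 984087760514619769708823412503916741) 
    (.leaf 944577626954569449164458365852681293))) (.node (.node (.leaf 
    152833485395669943536971957255486882) (.leaf 877118332496651461639893682527895718)) (.node 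
    (.leaf 944575411056709018126381008166170821) (.leaf 984085544616153778179666379140662349)))))) 
    (.node (.node (.node (.node (.node (.leaf 433904901514458143038307362887211392) (.leaf 
    595231188197679015835172249002051631)) (.node (.leaf 717130685852904151001647877080823265) 
    (.leaf 354805720731561888874205388638458892))) (.node (.node (.leaf 
    595233404096409193562502426066688384) (.leaf 433907117412054387878211576872339503)) (.node 
    (.leaf 354803504833814376121210733741946337) (.leaf 717128469954325241187408140927570956)))) 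
    (.node (.node (.node (.leaf 717125439480056216877639078917773696) (.leaf 
    354800474358562686837106149564024879)) (.node (.leaf 433886753318204326295034346544346593) 
    (.leaf 595213040001576467004989673570571276))) (.node (.node (.leaf 
    354785356637787751783792527209339264) (.leaf 717110321758147348936899493483579439)) (.node 
    (.leaf 595228157723334067032638818093381089) (.leaf 433901871039130529261438409810416652))))) 
    (.node (.node (.node (.node (.leaf 944577943519091406918913630253711778) (.leaf 
    984088077775020073916076725795208358)) (.node (.leaf 152830952739852561422938273143784645) 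
    (.leaf 877115799531220159224984397897510989))) (.node (.node (.leaf 
    984085228051707449770070320928686498) (.leaf 944575093795477381421486852072914086)) (.node 
    (.leaf 877118649254985157487596429315376325) (.leaf 152833802463014212803759424773238861)))) 
    (.node (.node (.node (.leaf 152813042227935471288855524526457250) (.leaf 
    877097889019454041856086902517251238)) (.node (.leaf 944572459461906746185714564365124805) 
    (.leaf 984082593717684440417692406669553741))) (.node (.node (.leaf 
    877113165197271672412821291883266466) (.leaf 152828318405451700494169540578196646)) (.node 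
    (.leaf 984067317540319183977563643854881989) (.leaf 
    944557183283938142863794921762041933)))))))) (.node (.node (.node (.node (.node (.node (.node 
    (.leaf 57746936966087570089173574274261731) (.leaf 499781771712639958479488968940832469)) 
    (.node (.leaf 19983544166619567336886533533776566) (.leaf 
    623141840650485784083031806154516599))) (.node (.node (.leaf 
    57749390577072376425466044851701461) (.leaf 499784225324985099204910086537847523)) (.node 
    (.leaf 19981090554917167668147195972986999) (.leaf 623139387038858236690057555540851382)))) 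
    (.node (.node (.node (.leaf 57744461105427127471669560863636150) (.leaf 
    499779295852622256918666735566432375)) (.node (.leaf 19963734652453459795655234093621987) 
    (.leaf 623122031135676935485118726678136533))) (.node (.node (.leaf 
    57729581063699639135493395442575479) (.leaf 499764415810969620858255657092496054)) (.node 
    (.leaf 19978614693463354799384532531332821) (.leaf 623136911178047164877976672135422691))))) 
    (.node (.node (.node (.node (.leaf 224835959888518801398076653221008712) (.leaf 
    546596106420806229022083590415125969)) (.node (.leaf 91415657486128023845248255482060334) 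
    (.leaf 252052341972759312985628841345472778))) (.node (.node (.leaf 
    224833347820188747590156698983140817) (.leaf 546593494353156278998045158059234632)) (.node 
    (.leaf 91418269554268487782186167021263114) (.leaf 252054954040598852880649316400029230)))) 
    (.node (.node (.node (.leaf 224815754233350904264836288276946478) (.leaf 
    546575900766128845801742704654375178)) (.node (.leaf 91413577766469370819753307575342408) 
    (.leaf 252050262252610146047234414255443409))) (.node (.node (.leaf 
    224831268100491542022469224564349194) (.leaf 546591414632968559517458204457131566)) (.node 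
    (.leaf 91398063899139143191138328589274577) (.leaf 252034748385960022202500957151352136)))))) 
    (.node (.node (.node (.node (.node (.leaf 57729263996259596698317930312517347) (.leaf 
    499764099052316179505791876093944533)) (.node (.leaf 19978931297379493218505377202612918) 
    (.leaf 623137228400224510248495073592752247))) (.node (.node (.leaf 
    57744777862569900388333023259534037) (.leaf 499779612919986227289125219237086947)) (.node 
    (.leaf 19963417430351227261161954154166391) (.leaf 623121714533272424732490060551039670)))) 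
    (.node (.node (.node (.leaf 57749469651238754816646657377053366) (.leaf 
    499784304707937119450110523253176439)) (.node (.leaf 19981011017226885258911962988857059) 
    (.leaf 623139308119430120462911739284300501))) (.node (.node (.leaf 
    57746857583210662679998259076806775) (.leaf 499781692639985207754800534959663798)) (.node 
    (.leaf 19983623084537015128232031187673813) (.leaf 623141920188099994425550057679242979))))) 
    (.node (.node (.node (.node (.leaf 224830951768252899476826586796330312) (.leaf 
    546591097139945641066912772639643089)) (.node (.leaf 91398381237423651903696370300803630) 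
    (.leaf 252035064872937074486130985025330442))) (.node (.node (.leaf 
    224816071726222859173568460024272337) (.leaf 546576217098595556973583655516704072)) (.node 
    (.leaf 91413261279265504288522014222900490) (.leaf 252049944914475346497892584998230574)))) 
    (.node (.node (.node (.leaf 224833427628723496274774508548741678) (.leaf 
    546593573000908006156357221191212298)) (.node (.leaf 91418190751779605264483761399172424) 
    (.leaf 252054874386801259555421849324541393))) (.node (.node (.leaf 
    224835881240540259992163324610567434) (.leaf 546596026612421189500681993303841326)) (.node 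
    (.leaf 91415737139774653628662462487385553) (.leaf 252052420775476264129529560061873480))))))) 
    (.node (.node (.node (.node (.node (.node (.leaf 57733414955350107211025547523001672) (.leaf 
    499768249702242684690940760874800593)) (.node (.leaf 19970022150705926166006428385466926) 
    (.leaf 623128318634761359236566266454367498))) (.node (.node (.leaf 
    57735868561839399358318720041637329) (.leaf 499770703309411933048162943042555208)) (.node 
    (.leaf 19967568544028446100280773016870154) (.leaf 623125865027780298797776567136573998)))) 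
    (.node (.node (.node (.leaf 57747995410449798291842848852564526) (.leaf 
    499782830157834144063254589003521290)) (.node (.leaf 19972493064782389790606369963937096) 
    (.leaf 623130789548346054569669681233679825))) (.node (.node (.leaf 
    57738339475877310440726135108033802) (.leaf 499773174222958075839073831309793838)) (.node 
    (.leaf 19982148999166689723290600858506705) (.leaf 623140445483410310712282921777368392))))) 
    (.node (.node (.node (.node (.leaf 224819825809412939695546343596565205) (.leaf 
    546579972342720291258153166829733603)) (.node (.leaf 91404747539148571962528703716702327) 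
    (.leaf 252041432025667489302619776341158582))) (.node (.node (.leaf 
    224822437873247110379866745346279139) (.leaf 546582584405194717849155318383321813)) (.node 
    (.leaf 91402135476032363545536632068418230) (.leaf 252038819962475100444289294686140535)))) 
    (.node (.node (.node (.leaf 224834960862632966578284553359669367) (.leaf 
    546595107395298536314901456498141878)) (.node (.leaf 91406663855104699785207736861631189) 
    (.leaf 252043348342265398951288729580783331))) (.node (.node (.leaf 
    224824354189996608453804428522236598) (.leaf 546584500722585997749082921653975159)) (.node 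
    (.leaf 91417270528459020177016191800493795) (.leaf 252053955014259975249778934323520213)))))) 
    (.node (.node (.node (.node (.node (.leaf 57748470624598079229358363334675921) (.leaf 
    499783305681674585975432195155154248)) (.node (.leaf 19972017386203538140441373706344714) 
    (.leaf 623130314488936183370141556857527854))) (.node (.node (.leaf 
    57737863952263682776149794434864456) (.leaf 499772699008660085738342104373366225)) (.node 
    (.leaf 19982624058727524464631985304821294) (.leaf 623140921161761093736249604940650762)))) 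
    (.node (.node (.node (.leaf 57733335572321609070597914970052874) (.leaf 
    499768170628907601903772267607219758)) (.node (.leaf 19970101069303853593784579162934737) 
    (.leaf 623128398172527012736384241497429320))) (.node (.node (.leaf 
    57735947635325445687300473379380782) (.leaf 499770782692212362562392262501193994)) (.node 
    (.leaf 19967489006489606848064063452271944) (.leaf 623125786109032662206782203904789969))))) 
    (.node (.node (.node (.node (.leaf 224834486073917704916970199273513699) (.leaf 
    546594631445270257417456566431598293)) (.node (.leaf 91407139650394716518617830659373750) 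
    (.leaf 252043823285718922776637879935740023))) (.node (.node (.leaf 
    224824830138513259684757140044596949) (.leaf 546584975511226146574372154222256867)) (.node 
    (.leaf 91416795585081568418384022904940663) (.leaf 252053479220480626952169159128431286)))) 
    (.node (.node (.node (.leaf 224819905618628168016596806285736630) (.leaf 
    546580050990623461573764953480046711)) (.node (.leaf 91404668736508098713573980739117795) 
    (.leaf 252041352371189563914912249979258581))) (.node (.node (.leaf 
    224822359225420012130971940155369591) (.leaf 546582504597490157963905174296804022)) (.node 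
    (.leaf 91402215128998661266751979886134997) (.leaf 
    252038898765040460857218896145851107))))))))) (.node (.node (.node (.node (.node (.node (.node 
    (.node (.leaf 944576548442008746398885595539674496) (.leaf 
    984086682504087556259094394023097391)) (.node (.leaf 152821800756701286854165255752976865) 
    (.leaf 877106647354521268197532777597081612))) (.node (.node (.leaf 
    984076075836815334914399406724388224) (.leaf 944565941773603477610480156644848687)) (.node 
    (.leaf 877117254022775269072847775580522977) (.leaf 152832407424124776111950683963070476)))) 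
    (.node (.node (.node (.leaf 152817272384240066541285877174965632) (.leaf 
    877102118981908779971562958107685935)) (.node (.leaf 944564025445293812006347731209652705) 
    (.leaf 984074159507523889779646970604460044))) (.node (.node (.leaf 
    877104731026286789216401793482462592) (.leaf 152819884427485028342414260953625647)) (.node 
    (.leaf 984071547464127660065428145914415585) (.leaf 944561413401067070674599336746260492))))) 
    (.node (.node (.node (.node (.leaf 595231850523608750167447903434715554) (.leaf 
    433905564574718580565543225101157542)) (.node (.leaf 354794510417293145503806804014349509) 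
    (.leaf 717119476272966405974114687912312909))) (.node (.node (.leaf 
    433895908644981665712614396791402914) (.leaf 595222194593568515501715093596669094)) (.node 
    (.leaf 717129132203157613405032750987427013) (.leaf 354804166346879087591550379087036493)))) 
    (.node (.node (.node (.leaf 354789585903641788577318243652809122) (.leaf 
    717114551759466021812811380787840166)) (.node (.leaf 595219723668083952388519220888222917) 
    (.leaf 433893437719042810021429289317597261))) (.node (.node (.leaf 
    717117005347104138858480582413070754) (.leaf 354792039490976585810183463749747878)) (.node 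
    (.leaf 433890984131858985553749322457726149) (.leaf 595217270080294862577664766025924685)))))) 
    (.node (.node (.node (.node (.node (.leaf 944561492784490095113435621834732928) (.leaf 
    984071626537104850633309700862153775)) (.node (.leaf 152819804851610192065246484374428129) 
    (.leaf 877104652145761410486851730025449484))) (.node (.node (.leaf 
    984074080125158126642337299425834368) (.leaf 944563946371409733382942444993221679)) (.node 
    (.leaf 877102198558690799452159653629893089) (.leaf 152817351263707888821404139047815180)))) 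
    (.node (.node (.node (.leaf 152831931707512407922080257213674880) (.leaf 
    877116779001512653578500249627628591)) (.node (.leaf 944566417297764033962019091903519201) 
    (.leaf 984076551050529762247078424168007692))) (.node (.node (.leaf 
    877107123072190897688929818256323968) (.leaf 152822275777057014292989050437178415)) (.node 
    (.leaf 984086206980834183110984377707436513) (.leaf 944576073227236762616774776511891468))))) 
    (.node (.node (.node (.node (.leaf 595217190890876966127833617842570658) (.leaf 
    433890904864574149617425839134650534)) (.node (.leaf 354792119415897145152387222676635845) 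
    (.leaf 717117083878886311902431454992612429))) (.node (.node (.leaf 
    433893516908536188242167041531348386) (.leaf 595219802934537898549059634599309478)) (.node 
    (.leaf 717114471835376647394295879147258053) (.leaf 354789507371783838614555579368553549)))) 
    (.node (.node (.node (.leaf 354804642412234366319114809039586722) (.leaf 
    717129606875374800982249482266947750)) (.node (.leaf 595221719263715899666523274387652805) 
    (.leaf 433895433237261815243025054768348237))) (.node (.node (.leaf 
    717119000207686609017456861990159778) (.leaf 354794035744245068150807003122839718)) (.node 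
    (.leaf 433906039905402381324423301596479685) (.leaf 595232325931252823718225453753056333))))))) 
    (.node (.node (.node (.node (.node (.node (.leaf 595228633169791234315581112199681408) (.leaf 
    433902347143072447185075700513682479)) (.node (.leaf 354785435788467742133265728188910049) 
    (.leaf 717110400251343474089393209349576716))) (.node (.node (.leaf 
    433886833281484498448855825010693504) (.leaf 595213119307070238135650785100575791)) (.node 
    (.leaf 717125914113913202356233095537297889) (.leaf 354800949650206958782576044603283468)))) 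
    (.node (.node (.node (.leaf 354803029387583589587384029915059584) (.leaf 
    717127993850308053630421070164341807)) (.node (.leaf 595233324945501937020198123324312033) 
    (.leaf 433907038918934417802783152549697548))) (.node (.node (.leaf 
    717130605889850359596941988893889920) (.leaf 354805641425992848110194497048491055)) (.node 
    (.leaf 433904426880373891366882244504881633) (.leaf 595230712906110898966767645506148364))))) 
    (.node (.node (.node (.node (.leaf 984067792638239254514189815006278050) (.leaf 
    944557658884906020218153357512115366)) (.node (.leaf 877113244696490161461160175666445509) 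
    (.leaf 152828397401620464263392551548682317))) (.node (.node (.leaf 
    944572538921912039044531053578531234) (.leaf 984082672674941953527763529544402086)) (.node 
    (.leaf 152813517365068738015004090247625925) (.leaf 877098364659333169869597226362961997)))) 
    (.node (.node (.node (.leaf 877118174156537295627062283485295010) (.leaf 
    152833326861818571194479912604599462)) (.node (.leaf 984085148553018670507023020038208709) 
    (.leaf 944575014799534463445801309306978381))) (.node (.node (.leaf 
    152830873279319477240213809251692962) (.leaf 877115720573734881859992198604096678)) (.node 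
    (.leaf 944577468382487849978056647425244357) (.leaf 984087602135366791696103870154047565)))))) 
    (.node (.node (.node (.node (.node (.leaf 433906959730007411118121409256666496) (.leaf 
    595233245678179101943863709123482671)) (.node (.leaf 717128073775266612112635759968983521) 
    (.leaf 354803107918874872866165497604278284))) (.node (.node (.leaf 
    595230792096095166952956002709026176) (.leaf 433904506146789838387692927437018159)) (.node 
    (.leaf 354805561501941472831408726186858977) (.leaf 717130527357501519868728719620507660)))) 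
    (.node (.node (.node (.leaf 717110717860864614197707645229806976) (.leaf 
    354785752004321902186052129628034095)) (.node (.leaf 433902030269582858874314211145062881) 
    (.leaf 595228316217905522465241764248946700))) (.node (.node (.leaf 
    354800632041743079975788222632899968) (.leaf 717125597897152154247922962829481007)) (.node 
    (.leaf 595213436181467009649841193412205025) (.leaf 433887150232312653849763371377264652))))) 
    (.node (.node (.node (.node (.leaf 944574935416677810543041033139226018) (.leaf 
    984085069479172591023347464600727718)) (.node (.leaf 152833406438562591535346877347856581) 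
    (.leaf 877118253036496007672631150347271245))) (.node (.node (.leaf 
    984087681518298926369770750352197026) (.leaf 944577547455503039685949133250736294)) (.node 
    (.leaf 877115640997822046442813491147145413) (.leaf 152830794399284988275833150685002829)))) 
    (.node (.node (.node (.leaf 152828714662474175604919588256155042) (.leaf 
    877113561260558859655294302166954150)) (.node (.leaf 944557341817939676314733009380147397) 
    (.leaf 984067475880283188881948999930264653))) (.node (.node (.leaf 
    877098047398554940298976793685886370) (.leaf 152813200800169150045086894135128230)) (.node 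
    (.leaf 984082989742739482354872134962675909) (.leaf 
    944572855679792327757960076949830733)))))))) (.node (.node (.node (.node (.node (.node (.node 
    (.leaf 57749865908028795182755820225968867) (.leaf 499784701118823345006359363864472277)) 
    (.node (.leaf 19981169357574260779635319408468662) (.leaf 
    623139466305681679728376881059611767))) (.node (.node (.leaf 
    57747016154871563110929134946101973) (.leaf 499781851367025488092969465662651107)) (.node 
    (.leaf 19984019110013899519015137704985719) (.leaf 623142316058197129974213646244782774)))) 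
    (.node (.node (.node (.leaf 57729105656063588241934425891283638) (.leaf 
    499763940867499919891527889624482935)) (.node (.leaf 19978535040437716853174899237239523) 
    (.leaf 623136831987903353975926540793686741))) (.node (.node (.leaf 
    57744381838528315648751072048071799) (.leaf 499779217050040458804801482669925046)) (.node 
    (.leaf 19963258857255396113911386097101525) (.leaf 623121555806080408395099814731594467))))) 
    (.node (.node (.node (.node (.leaf 224833823653747854354315013890596168) (.leaf 
    546593969180177677516815286107593169)) (.node (.leaf 91418349323893548515491286809237038) 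
    (.leaf 252055032804668487572962255311375626))) (.node (.node (.leaf 
    224836039580584606227303424784947665) (.leaf 546596185107695787552282266499767624)) (.node 
    (.leaf 91416133396867206771520833216220426) (.leaf 252052816877339967408477317617866286)))) 
    (.node (.node (.node (.leaf 224830793195610111131655861956597294) (.leaf 
    546590938722531702585652660972752138)) (.node (.leaf 91397985212929540870868624237321544) 
    (.leaf 252034668693212711636843065940302289))) (.node (.node (.leaf 
    224815675469583595566990383615380746) (.leaf 546575820996203008600472698531042862)) (.node 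
    (.leaf 91413102938766466564552059879872977) (.leaf 252049786419730995493005071080676680)))))) 
    (.node (.node (.node (.node (.node (.leaf 57744302919818014114981000712825571) (.leaf 
    499779137511632435489166797522320085)) (.node (.leaf 19963338240925157265511274975905462) 
    (.leaf 623121634879528972092904682335641719))) (.node (.node (.leaf 
    57729185192960057678053225252534997) (.leaf 499764019786135182376249132199684835)) (.node 
    (.leaf 19978455967065151435110720334766199) (.leaf 623136752605744187473150677759706806)))) 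
    (.node (.node (.node (.leaf 57747333377766649387846988566906550) (.leaf 
    499782167970223811818714565412626551)) (.node (.leaf 19983702352078272859927101627738851) 
    (.leaf 623141998990039346630638728951249621))) (.node (.node (.leaf 
    57749549304906469736751409177567351) (.leaf 499784383897438853378265536088491702)) (.node 
    (.leaf 19981486424220490243694350915648213) (.leaf 623139783063542267338416088376814307))))) 
    (.node (.node (.node (.node (.leaf 224815595815974116373219105356994888) (.leaf 
    546575742193524462424811956177427921)) (.node (.leaf 91413181586707857380822459743374894) 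
    (.leaf 252049866228077630046166691829175562))) (.node (.node (.leaf 
    224830871998137398617598243941473745) (.leaf 546591018376366446500523056795179336)) (.node 
    (.leaf 91397905404356387218010838308934922) (.leaf 252034590045423833888888074061385262)))) 
    (.node (.node (.node (.leaf 224836356067751322168891789390450222) (.leaf 
    546596502445792182133384119394194698)) (.node (.leaf 91415815904032402452431590215833928) 
    (.leaf 252052500544911661204876343118323153))) (.node (.node (.leaf 
    224833506315424940673516995816281354) (.leaf 546593652693163474643542329486675502)) (.node 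
    (.leaf 91418665656170596029373900940041681) (.leaf 252055350297728556613150615875803464))))))) 
    (.node (.node (.node (.node (.node (.node (.leaf 57735789295317548912415068228966728) (.leaf 
    499770624506452435399571024389856721)) (.node (.leaf 19966934293034173619751937614319150) 
    (.leaf 623125231241330661318955470876464394))) (.node (.node (.leaf 
    57732781091011328398039313154072017) (.leaf 499767616302824916716527231348234568)) (.node 
    (.leaf 19969942497152206215695209839252746) (.leaf 623128239445146367920431746768047662)))) 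
    (.node (.node (.node (.leaf 57738418665190123336346208610291246) (.leaf 
    499773253876815523736401643954492682)) (.node (.leaf 19982782399263011955083542269057352) 
    (.leaf 623141079347068985741387596347891153))) (.node (.node (.leaf 
    57748629197203163717680539211158794) (.leaf 499783464408526238123268978222009902)) (.node 
    (.leaf 19972571867061783655316728818228689) (.leaf 623130868815546459272952744930335048))))) 
    (.node (.node (.node (.node (.leaf 224821804511510945786772759363271381) (.leaf 
    546581950038961799692517371398007523)) (.node (.leaf 91402056789444914116587678055178359) 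
    (.leaf 252038740270106374569124679539672758))) (.node (.node (.leaf 
    224819747046174598157568634495511267) (.leaf 546579892572264748739303136392592085)) (.node 
    (.leaf 91404114255499224013120133024368310) (.leaf 252040797736085463255010584443658359)))) 
    (.node (.node (.node (.leaf 224824988479502896781932994004852855) (.leaf 
    546585134006311009630995826003363510)) (.node (.leaf 91417350297554375880690188449659605) 
    (.leaf 252054033778858577389908969970379491))) (.node (.node (.leaf 
    224835040555077356385953502163191478) (.leaf 546595186081810248024369784096497783)) (.node 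
    (.leaf 91407298222697878543998010392750819) (.leaf 252043981702641376729206681775815381)))))) 
    (.node (.node (.node (.node (.node (.leaf 57738498202766113178205846921828817) (.leaf 
    499773332795601565295635983549062472)) (.node (.leaf 19982703325739815036458860184374538) 
    (.leaf 623140999964230151258918300526466606))) (.node (.node (.leaf 
    57748550278643641258142364796476744) (.leaf 499783384870797735213093931925887441)) (.node 
    (.leaf 19972651250051876827504385008391726) (.leaf 623130947888844391470478309450976522)))) 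
    (.node (.node (.node (.leaf 57735314235719563581430755035712778) (.leaf 
    499770148828063247407364364863788590)) (.node (.leaf 19967409816684951873971207034427857) 
    (.leaf 623125706455667056387927174175677768))) (.node (.node (.leaf 
    57733256769551775079964333048878638) (.leaf 499768091362197637326412426977447178)) (.node 
    (.leaf 19969467283042330246419671719927112) (.leaf 623127763921343076597897069363354065))))) 
    (.node (.node (.node (.node (.leaf 224824908825742786087601212564257507) (.leaf 
    546585055202952795475641650862303957)) (.node (.leaf 91417428946175287102701427263447734) 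
    (.leaf 252054113587355991017583687738246263))) (.node (.node (.leaf 
    224835119356924975892483651459427029) (.leaf 546595265735494360438960876835519203)) (.node 
    (.leaf 91407218414275503965372121384928375) (.leaf 252043903055532019386711328748380854)))) 
    (.node (.node (.node (.leaf 224822279455682210518521361881703094) (.leaf 
    546582425833534001732551720274445431)) (.node (.leaf 91401580840134449912518532909939427) 
    (.leaf 252038265480673372001410873290042069))) (.node (.node (.leaf 
    224819271251677435166583114379117687) (.leaf 546579417629605037887070419660513974)) (.node 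
    (.leaf 91404589043421631932009913429174997) (.leaf 
    252041273685319929179339040887323363)))))))))))

/-- Certificate data. -/
def idxTree : BTree :=
  (.node 499763940867499919891527889624482935 583 (.node 224653336541769751312308088628004535 638 
    (.node 91073386853393036705821983588661955 1022 (.node 57120633369809535006528314194517329 526 
    (.node 19963258857255396113911386097101525 455 (.node 19532242952828863460762388152080721 990 
    (.node 19523254262307565623498787278701686 918 (.node 19520721291169735260397264314968821 838 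
    (.node 19517204421191697685576655770638890 924 (.node 19517125231826303656029726272019912 862 
    (.node 19517045848667022694494110042426638 910 .nil .nil) .nil) (.node 
    19517521643095412133822767670121809 844 .nil .nil)) (.node 19521276005036193080407375782233795 
    980 (.node 19521196815595732187580454107751095 790 .nil .nil) (.node 
    19521355542754660969969927201372278 900 .nil .nil))) (.node 19525804377648507215230004838677175 
    788 (.node 19523809130202986383393775802526391 772 (.node 19523729476474145712980427237898947 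
    966 .nil .nil) (.node 19523888048167509102983671962804981 852 .nil .nil)) (.node 
    19526358858775034101310769312702582 902 (.node 19526280055385991347844661583955701 836 .nil 
    .nil) (.node 19526438241594979135019361882221251 982 .nil .nil)))) (.node 
    19535935985954440459677634296947395 964 (.node 19534798020307693866569023694984648 860 (.node 
    19532401680289813722367235713273288 972 (.node 19532322026485021033188433223636522 782 .nil 
    .nil) (.node 19532718283194400709706815872851214 796 .nil .nil)) (.node 
    19534956360243401465535447402175825 846 (.node 19534877557686014171846531216726286 908 .nil 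
    .nil) (.node 19535273427853922964706404352790058 926 .nil .nil))) (.node 
    19537331140487209300886258505375274 780 (.node 19536490311616434971040267267095285 854 (.node 
    19536411045524719924836935845423222 916 .nil .nil) (.node 19536569385763556095612024549426871 
    774 .nil .nil)) (.node 19537489325865992003677145979573518 798 (.node 
    19537410058943507229642287311359313 988 .nil .nil) (.node 19537806084047396145119288967453128 
    974 .nil .nil))))) (.node 19978455967065151435110720334766199 407 (.node 
    19969467283042330246419671719927112 479 (.node 19966934293034173619751937614319150 271 (.node 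
    19963417430351227261161954154166391 405 (.node 19963338240925157265511274975905462 279 .nil 
    .nil) (.node 19963734652453459795655234093621987 325 .nil .nil)) (.node 
    19967489006489606848064063452271944 477 (.node 19967409816684951873971207034427857 351 .nil 
    .nil) (.node 19967568544028446100280773016870154 397 .nil .nil))) (.node 
    19972017386203538140441373706344714 285 (.node 19970022150705926166006428385466926 269 (.node 
    19969942497152206215695209839252746 399 .nil .nil) (.node 19970101069303853593784579162934737 
    349 .nil .nil)) (.node 19972571867061783655316728818228689 463 (.node 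
    19972493064782389790606369963937096 333 .nil .nil) (.node 19972651250051876827504385008391726 
    415 .nil .nil)))) (.node 19982148999166689723290600858506705 461 (.node 
    19981011017226885258911962988857059 341 (.node 19978614693463354799384532531332821 453 (.node 
    19978535040437716853174899237239523 327 .nil .nil) (.node 19978931297379493218505377202612918 
    277 .nil .nil)) (.node 19981169357574260779635319408468662 263 (.node 
    19981090554917167668147195972986999 389 .nil .nil) (.node 19981486424220490243694350915648213 
    471 .nil .nil))) (.node 19983544166619567336886533533776566 261 (.node 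
    19982703325739815036458860184374538 287 (.node 19982624058727524464631985304821294 413 .nil 
    .nil) (.node 19982782399263011955083542269057352 335 .nil .nil)) (.node 
    19983702352078272859927101627738851 343 (.node 19983623084537015128232031187673813 469 .nil 
    .nil) (.node 19984019110013899519015137704985719 391 .nil .nil)))))) (.node 
    57729105656063588241934425891283638 71 (.node 57135830628870500453675928883025166 606 (.node 
    57126841937518137596560578960669429 534 (.node 57124308813144198035998780538986614 710 (.node 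
    57120791710426656108205491215652296 540 (.node 57120712907679741201295778886684202 734 .nil 
    .nil) (.node 57121108777545291717886490995841294 716 .nil .nil)) (.node 
    57124863294195642062013513275521719 596 (.node 57124784491523941304106277095844547 662 .nil 
    .nil) (.node 57124942676373327960229266033460981 516 .nil .nil))) (.node 
    57129391666732223089041523607062211 660 (.node 57127396264539659451998630533636803 644 (.node 
    57127316997730602410236427562895031 582 .nil .nil) (.node 57127475338044595228053840762218614 
    724 .nil .nil)) (.node 57129946379238194334284412364499701 518 (.node 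
    57129867190516034667708166346094710 708 .nil .nil) (.node 57130025917598847572363510837387959 
    598 .nil .nil)))) (.node 57139523120366477701195623160064695 580 (.node 
    57138385309315900299357844511644202 732 (.node 57135988814550091906233829469707818 588 (.node 
    57135909547817134745419766945012168 654 .nil .nil) (.node 57136305572241159684688163201584465 
    668 .nil .nil)) (.node 57138543881538512162076402525900046 718 (.node 
    57138464691984844897905651485234513 524 .nil .nil) (.node 57138861103932562973310323681385928 
    542 .nil .nil))) (.node 57140918274975641427142508343168456 652 (.node 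
    57140077988337940551848447528387702 726 (.node 57139998333890798655184423307682549 532 .nil 
    .nil) (.node 57140156906944722406931183500245699 646 .nil .nil)) (.node 
    57141077001756432564633577191889233 670 (.node 57140997348139913110078596244299022 604 .nil 
    .nil) (.node 57141393605152905441463114521892394 590 .nil .nil))))) (.node 
    57744302919818014114981000712825571 23 (.node 57735314235719563581430755035712778 95 (.node 
    57732781091011328398039313154072017 143 (.node 57729263996259596698317930312517347 21 (.node 
    57729185192960057678053225252534997 151 .nil .nil) (.node 57729581063699639135493395442575479 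
    197 .nil .nil)) (.node 57733335572321609070597914970052874 93 (.node 
    57733256769551775079964333048878638 223 .nil .nil) (.node 57733414955350107211025547523001672 
    13 .nil .nil))) (.node 57737863952263682776149794434864456 157 (.node 
    57735868561839399358318720041637329 141 (.node 57735789295317548912415068228966728 15 .nil 
    .nil) (.node 57735947635325445687300473379380782 221 .nil .nil)) (.node 
    57738418665190123336346208610291246 79 (.node 57738339475877310440726135108033802 205 .nil 
    .nil) (.node 57738498202766113178205846921828817 31 .nil .nil)))) (.node 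
    57747995410449798291842848852564526 77 (.node 57746857583210662679998259076806775 213 (.node 
    57744461105427127471669560863636150 69 (.node 57744381838528315648751072048071799 199 .nil 
    .nil) (.node 57744777862569900388333023259534037 149 .nil .nil)) (.node 
    57747016154871563110929134946101973 135 (.node 57746936966087570089173574274261731 5 .nil .nil) 
    (.node 57747333377766649387846988566906550 87 .nil .nil))) (.node 
    57749390577072376425466044851701461 133 (.node 57748550278643641258142364796476744 159 (.node 
    57748470624598079229358363334675921 29 .nil .nil) (.node 57748629197203163717680539211158794 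
    207 .nil .nil)) (.node 57749549304906469736751409177567351 215 (.node 
    57749469651238754816646657377053366 85 .nil .nil) (.node 57749865908028795182755820225968867 7 
    .nil .nil))))))) (.node 152772477406094410994039343471630735 576 (.node 
    91397905404356387218010838308934922 439 (.node 91088584383206356933425746334360247 942 (.node 
    91079595691929480458903023701646792 998 (.node 91077062295896464083057994777417258 822 (.node 
    91073545347726953414962489355313909 1004 (.node 91073466661902402694801762403402870 814 .nil 
    .nil) (.node 91073862686618893843838600240081591 828 .nil .nil)) (.node 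
    91077616931571425751363138704825614 932 (.node 91077538244916252589093368479799633 870 .nil 
    .nil) (.node 91077696585523301912489565590293960 1012 .nil .nil))) (.node 
    91082145304071049879560977596714321 868 (.node 91080150172669716383188013710497105 884 (.node 
    91080070480369452110122981535419662 950 .nil .nil) (.node 91080228975534680708291689480378922 
    804 .nil .nil)) (.node 91082699862859413860601317272508872 1014 (.node 
    91082621098796243483971554897223210 820 .nil .nil) (.node 91082779671028927412919993997120782 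
    934 .nil .nil)))) (.node 91092277028534376974930740799527182 948 (.node 
    91091138947485077298396190634059894 812 (.node 91088742723511384489657667802282102 956 (.node 
    91088663030379612618998130604944117 894 .nil .nil) (.node 91089059210561595373444904052508355 
    876 .nil .nil)) (.node 91091297365083359862085117121316535 830 (.node 
    91091218601096289366403495192076995 1020 .nil .nil) (.node 91091614857287156431274179551476469 
    1006 .nil .nil))) (.node 91093672183067168874569435670038261 892 (.node 
    91092831741881215378648764622736938 806 (.node 91092751972249763827703620008596936 996 .nil 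
    .nil) (.node 91092910389544918107532782674042193 886 .nil .nil)) (.node 
    91093830756130057599952786419002051 878 (.node 91093750986423391900005165655571127 940 .nil 
    .nil) (.node 91094147088584336794299168851402870 958 .nil .nil))))) (.node 
    91413102938766466564552059879872977 487 (.node 91404114255499224013120133024368310 431 (.node 
    91401580840134449912518532909939427 383 (.node 91398063899139143191138328589274577 485 (.node 
    91397985212929540870868624237321544 359 .nil .nil) (.node 91398381237423651903696370300803630 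
    309 .nil .nil)) (.node 91402135476032363545536632068418230 429 (.node 
    91402056789444914116587678055178359 303 .nil .nil) (.node 91402215128998661266751979886134997 
    509 .nil .nil))) (.node 91406663855104699785207736861631189 365 (.node 
    91404668736508098713573980739117795 381 (.node 91404589043421631932009913429174997 511 .nil 
    .nil) (.node 91404747539148571962528703716702327 301 .nil .nil)) (.node 
    91407218414275503965372121384928375 447 (.node 91407139650394716518617830659373750 317 .nil 
    .nil) (.node 91407298222697878543998010392750819 495 .nil .nil)))) (.node 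
    91416795585081568418384022904940663 445 (.node 91415657486128023845248255482060334 293 (.node 
    91413261279265504288522014222900490 437 (.node 91413181586707857380822459743374894 311 .nil 
    .nil) (.node 91413577766469370819753307575342408 357 .nil .nil)) (.node 
    91415815904032402452431590215833928 375 (.node 91415737139774653628662462487385553 501 .nil 
    .nil) (.node 91416133396867206771520833216220426 423 .nil .nil))) (.node 
    91418190751779605264483761399172424 373 (.node 91417350297554375880690188449659605 367 (.node 
    91417270528459020177016191800493795 493 .nil .nil) (.node 91417428946175287102701427263447734 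
    319 .nil .nil)) (.node 91418349323893548515491286809237038 295 (.node 
    91418269554268487782186167021263114 421 .nil .nil) (.node 91418665656170596029373900940041681 
    503 .nil .nil)))))) (.node 152813042227935471288855524526457250 121 (.node 
    152787674206134652379193880777307137 400 (.node 152778685522036487770176776893596877 936 (.node 
    152776152841835514483873862586695842 248 (.node 152772635978926435264415002807470081 386 (.node 
    152772556479541609633908660636456428 784 .nil .nil) (.node 152772952543514061131077459141964832 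
    210 .nil .nil)) (.node 152776707554988253945882190966144205 826 (.node 
    152776628056321471143235050083692613 296 .nil .nil) (.node 152776786434862592899611132576892326 
    746 .nil .nil))) (.node 152781235934702886214534281916297638 634 (.node 
    152779240041842434700370452827320482 106 (.node 152779161045650853303390133796191654 632 .nil 
    .nil) (.node 152779319618445194478502780686008389 442 .nil .nil)) (.node 
    152781790416203272103864312803329093 440 (.node 152781710955616389015984143504998605 938 .nil 
    .nil) (.node 152781869489347695110020374367812770 104 .nil .nil)))) (.node 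
    152791366890642497291852917598043205 298 (.node 152790229565952872336537504753357856 194 (.node 
    152787832584637574243242771120625039 594 (.node 152787753589164035962070554553059360 192 .nil 
    .nil) (.node 152788149845500730308868939591686636 770 .nil .nil)) (.node 
    152790387905695497859875677938628076 768 (.node 152790308445826657887803611103860737 402 .nil 
    .nil) (.node 152790704663555052453372652226840975 592 .nil .nil))) (.node 
    152792762057076341022250490688932332 786 (.node 152791921564733824986263379339084198 744 (.node 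
    152791842607529012912829699853092002 250 .nil .nil) (.node 152792000947762360019053246922076365 
    824 .nil .nil)) (.node 152792920591298884919776072591710240 208 (.node 
    152792841633376030018483191817155983 578 .nil .nil) (.node 152793237658588775470751665693103105 
    384 .nil .nil))))) (.node 152828239022972972954776383796228293 425 (.node 
    152819250331431429513813111640626188 913 (.node 152816717670476961216644618980628527 705 (.node 
    152813200800169150045086894135128230 763 (.node 152813121301328291212209942063416397 809 .nil 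
    .nil) (.node 152813517365068738015004090247625925 427 .nil .nil)) (.node 
    152817272384240066541285877174965632 67 (.node 152817192885173241866919939061528033 273 .nil 
    .nil) (.node 152817351263707888821404139047815180 915 .nil .nil))) (.node 
    152821800756701286854165255752976865 259 (.node 152819804851610192065246484374428129 275 (.node 
    152819725855667393849282358171863424 65 .nil .nil) (.node 152819884427485028342414260953625647 
    707 .nil .nil)) (.node 152822355237364132922454629561349132 897 (.node 
    152822275777057014292989050437178415 723 .nil .nil) (.node 152822434311323914677695414724663680 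
    81 .nil .nil)))) (.node 152831931707512407922080257213674880 83 (.node 
    152830794399284988275833150685002829 955 (.node 152828397401620464263392551548682317 811 (.node 
    152828318405451700494169540578196646 761 .nil .nil) (.node 152828714662474175604919588256155042 
    123 .nil .nil)) (.node 152830952739852561422938273143784645 313 (.node 
    152830873279319477240213809251692962 235 .nil .nil) (.node 152831269497355219920905364803616934 
    617 .nil .nil))) (.node 152833326861818571194479912604599462 619 (.node 
    152832486381458093955064749912426543 721 (.node 152832407424124776111950683963070476 899 .nil 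
    .nil) (.node 152832565764805710409970723728332257 257 .nil .nil)) (.node 
    152833485395669943536971957255486882 233 (.node 152833406438562591535346877347856581 315 .nil 
    .nil) (.node 152833802463014212803759424773238861 953 .nil .nil)))))))) (.node 
    354785277370389213575622614061626380 905 (.node 252034590045423833888888074061385262 951 (.node 
    224815595815974116373219105356994888 55 (.node 224668533916760369413886861369354947 558 (.node 
    224659545225408721368104368363212330 614 (.node 224657011984348835704519433213139400 694 (.node 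
    224653494959443190523039339610581110 620 (.node 224653416194738778031798846132271861 686 .nil 
    .nil) (.node 224653812452289172440744949094490819 700 .nil .nil)) (.node 
    224657566542457335709351167489412433 548 (.node 224657487778583692945942201257645326 742 .nil 
    .nil) (.node 224657646351117185624657653470027306 628 .nil .nil))) (.node 
    224662094915106606743003967985507598 740 (.node 224660099938453201495553231159515406 756 (.node 
    224660020168632222331387290401856849 566 .nil .nil) (.node 224660178586608790113927206381245896 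
    676 .nil .nil)) (.node 224662649551085181066175247541294634 630 (.node 
    224662570864618281138529298858315208 692 .nil .nil) (.node 224662729204545171337811717256337745 
    550 .nil .nil)))) (.node 224672226794166813229291355191334225 564 (.node 
    224671088557690307011750359552172789 684 (.node 224668692488463657008218500757669621 572 (.node 
    224668612719474333303829751543308406 766 .nil .nil) (.node 224669008821560195338057723001649847 
    748 .nil .nil)) (.node 224671247053384784082634380786481859 702 (.node 
    224671168366841932136222978178493111 636 .nil .nil) (.node 224671564391634465376017651859670134 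
    622 .nil .nil))) (.node 224673621949530817722734434555476086 764 (.node 
    224672781275585658751187975998234056 678 (.node 224672701583097121243499122281110058 612 .nil 
    .nil) (.node 224672860077960286713303842512112910 758 .nil .nil)) (.node 
    224673780289759729401232227421070007 750 (.node 224673700597346258756823365879809731 556 .nil 
    .nil) (.node 224674096776167754936502916617546485 574 .nil .nil))))) (.node 
    224830793195610111131655861956597294 103 (.node 224821804511510945786772759363271381 47 (.node 
    224819271251677435166583114379117687 255 (.node 224815754233350904264836288276946478 101 (.node 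
    224815675469583595566990383615380746 231 .nil .nil) (.node 224816071726222859173568460024272337 
    181 .nil .nil)) (.node 224819825809412939695546343596565205 45 (.node 
    224819747046174598157568634495511267 175 .nil .nil) (.node 224819905618628168016596806285736630 
    125 .nil .nil))) (.node 224824354189996608453804428522236598 237 (.node 
    224822359225420012130971940155369591 253 (.node 224822279455682210518521361881703094 127 .nil 
    .nil) (.node 224822437873247110379866745346279139 173 .nil .nil)) (.node 
    224824908825742786087601212564257507 63 (.node 224824830138513259684757140044596949 189 .nil 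
    .nil) (.node 224824988479502896781932994004852855 111 .nil .nil)))) (.node 
    224834486073917704916970199273513699 61 (.node 224833347820188747590156698983140817 165 (.node 
    224830951768252899476826586796330312 53 (.node 224830871998137398617598243941473745 183 .nil 
    .nil) (.node 224831268100491542022469224564349194 229 .nil .nil)) (.node 
    224833506315424940673516995816281354 247 (.node 224833427628723496274774508548741678 117 .nil 
    .nil) (.node 224833823653747854354315013890596168 39 .nil .nil))) (.node 
    224835881240540259992163324610567434 245 (.node 224835040555077356385953502163191478 239 (.node 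
    224834960862632966578284553359669367 109 .nil .nil) (.node 224835119356924975892483651459427029 
    191 .nil .nil)) (.node 224836039580584606227303424784947665 167 (.node 
    224835959888518801398076653221008712 37 .nil .nil) (.node 224836356067751322168891789390450222 
    119 .nil .nil)))))) (.node 252359108601222172868764988757682933 510 (.node 
    252049786419730995493005071080676680 999 (.node 252040797736085463255010584443658359 943 (.node 
    252038265480673372001410873290042069 895 (.node 252034748385960022202500957151352136 997 (.node 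
    252034668693212711636843065940302289 871 .nil .nil) (.node 252035064872937074486130985025330442 
    821 .nil .nil)) (.node 252038819962475100444289294686140535 941 (.node 
    252038740270106374569124679539672758 815 .nil .nil) (.node 252038898765040460857218896145851107 
    1021 .nil .nil))) (.node 252043348342265398951288729580783331 877 (.node 
    252041352371189563914912249979258581 893 (.node 252041273685319929179339040887323363 1023 .nil 
    .nil) (.node 252041432025667489302619776341158582 813 .nil .nil)) (.node 
    252043903055532019386711328748380854 959 (.node 252043823285718922776637879935740023 829 .nil 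
    .nil) (.node 252043981702641376729206681775815381 1007 .nil .nil)))) (.node 
    252053479220480626952169159128431286 957 (.node 252052341972759312985628841345472778 805 (.node 
    252049944914475346497892584998230574 949 (.node 252049866228077630046166691829175562 823 .nil 
    .nil) (.node 252050262252610146047234414255443409 869 .nil .nil)) (.node 
    252052500544911661204876343118323153 887 (.node 252052420775476264129529560061873480 1013 .nil 
    .nil) (.node 252052816877339967408477317617866286 935 .nil .nil))) (.node 
    252054874386801259555421849324541393 885 (.node 252054033778858577389908969970379491 879 (.node 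
    252053955014259975249778934323520213 1005 .nil .nil) (.node 
    252054113587355991017583687738246263 831 .nil .nil)) (.node 
    252055032804668487572962255311375626 807 (.node 252054954040598852880649316400029230 933 .nil 
    .nil) (.node 252055350297728556613150615875803464 1015 .nil .nil))))) (.node 
    252374304971210980483494389888500854 430 (.node 252365316279556815058275105277925713 486 (.node 
    252362784044254885756178935166700814 310 (.node 252359266942169385773513457279354563 492 (.node 
    252359187249831131728065166030578359 302 .nil .nil) (.node 252359583429370929133995392424392822 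
    316 .nil .nil)) (.node 252363338525485458043451734431554090 420 (.node 
    252363258833222270573053334084836808 358 .nil .nil) (.node 252363417327897162808234232773793105 
    500 .nil .nil))) (.node 252367866898173281619297061439722952 356 (.node 
    252365870915723662616070206375759304 372 (.node 252365792229030010698584162869368362 438 .nil 
    .nil) (.node 252365950569145174132490402809437454 292 .nil .nil)) (.node 
    252368421611028234133525128092507473 502 (.node 252368341841359705779913351650007310 308 .nil 
    .nil) (.node 252368500259146745949232471485877802 422 .nil .nil)))) (.node 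
    252377997771398721807615803895504426 436 (.node 252376860541209872513483127251974839 300 (.node 
    252374463466187156328127735466732215 444 (.node 252374384779569456717637247159155395 382 .nil 
    .nil) (.node 252374780803643688731181245184254709 364 .nil .nil)) (.node 
    252377019113630502103373638189359222 318 (.node 252376939343130318578214771477366517 508 .nil 
    .nil) (.node 252377335445933522608001614484777667 494 .nil .nil))) (.node 
    252379392926460946791385019233510083 380 (.node 252378552329696749425668334315296014 294 (.node 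
    252378473565672057804254845221375313 484 .nil .nil) (.node 252378632138395078096191093577275848 
    374 .nil .nil)) (.node 252379551343417044006557398667016949 366 (.node 
    252379472580223122401205538093443190 428 .nil .nil) (.node 252379868837056174814592769506592439 
    446 .nil .nil))))))) (.node 433886674785931189698656576217847855 521 (.node 
    354947536645275494775865727405851717 432 (.node 354800474358562686837106149564024879 601 (.node 
    354791485667701878981008942633008546 97 (.node 354788952813610037135728213891679429 305 (.node 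
    354785435788467742133265728188910049 267 (.node 354785356637787751783792527209339264 217 .nil 
    .nil) (.node 354785752004321902186052129628034095 603 .nil .nil)) (.node 
    354789507371783838614555579368553549 947 (.node 354789428220876480471043832498552998 737 .nil 
    .nil) (.node 354789585903641788577318243652809122 99 .nil .nil))) (.node 
    354794035744245068150807003122839718 755 (.node 354792039490976585810183463749747878 739 (.node 
    354791960997932420179567881227808845 945 .nil .nil) (.node 354792119415897145152387222676635845 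
    307 .nil .nil)) (.node 354794590380195272534539746531541410 113 (.node 
    354794510417293145503806804014349509 291 .nil .nil) (.node 354794669647026848910542091954095181 
    929 .nil .nil)))) (.node 354804166346879087591550379087036493 931 (.node 
    354803029387583589587384029915059584 75 (.node 354800632041743079975788222632899968 219 (.node 
    354800553548471546839364195494335969 265 .nil .nil) (.node 354800949650206958782576044603283468 
    907 .nil .nil)) (.node 354803187882004367402706884738095151 713 (.node 
    354803107918874872866165497604278284 795 .nil .nil) (.node 354803504833814376121210733741946337 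
    409 .nil .nil))) (.node 354805561501941472831408726186858977 411 (.node 
    354804721718030774877164246519984325 289 (.node 354804642412234366319114809039586722 115 .nil 
    .nil) (.node 354804800907070745963628275317554342 753 .nil .nil)) (.node 
    354805720731561888874205388638458892 793 (.node 354805641425992848110194497048491055 715 .nil 
    .nil) (.node 354806037606034068372326108222654848 73 .nil .nil))))) (.node 
    354962733637864309258231494012633510 608 (.node 354953744954521008475140656247150624 88 (.node 
    354951212080335818869816965433996780 776 (.node 354947695062499955245400139342623142 626 (.node 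
    354947615911837423605763001775635618 224 .nil .nil) (.node 354948011278923696565760782730854605 
    802 .nil .nil)) (.node 354951766639318039705343235072529440 202 (.node 
    354951687487937907671755751588956559 728 .nil .nil) (.node 354951845171027092160220722284009473 
    282 .nil .nil))) (.node 354956295019032967121900496785573889 394 (.node 
    354954298777441072016068485125048812 922 (.node 354954220284718421586794435505886209 392 .nil 
    .nil) (.node 354954378701905494108971005491099023 586 .nil .nil)) (.node 
    354956849654401354258275795480156559 584 (.node 354956769691780888276593732943688736 90 .nil 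
    .nil) (.node 354956928921266058722167525549086188 920 .nil .nil)))) (.node 
    354966425625938617228114158693979535 730 (.node 354965288649526687465427812051401933 818 (.node 
    354962891320915589002274443052268613 418 (.node 354962812827475338466998948691521741 816 .nil 
    .nil) (.node 354963208929641809335220445483697314 242 .nil .nil)) (.node 
    354965447144574359410170441702375586 240 (.node 354965367181236293322486934424323494 610 .nil 
    .nil) (.node 354965764096152793508853443042029637 416 .nil .nil))) (.node 
    354967820793051838401845371418783906 226 (.node 354966980997218345691227258424210433 280 (.node 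
    354966901691291534774829545365510636 778 .nil .nil) (.node 354967060186830223450362719394662432 
    200 .nil .nil)) (.node 354967980023028541798813685558609101 800 (.node 
    354967900717819331276366318416494661 434 .nil .nil) (.node 354968296896900373123585230594456998 
    624 .nil .nil)))))) (.node 434251758156604525386893464772542626 48 (.node 
    433901871039130529261438409810416652 985 (.node 433892882348496609439918796482064581 481 (.node 
    433890350228925125224184582445236642 177 (.node 433886833281484498448855825010693504 139 (.node 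
    433886753318204326295034346544346593 345 .nil .nil) (.node 433887150232312653849763371377264652 
    987 .nil .nil)) (.node 433890904864574149617425839134650534 563 (.node 
    433890824901519943016863245436224589 865 .nil .nil) (.node 433890984131858985553749322457726149 
    483 .nil .nil))) (.node 433895433237261815243025054768348237 883 (.node 
    433893437719042810021429289317597261 867 (.node 433893358413398481033209503018433702 561 .nil 
    .nil) (.node 433893516908536188242167041531348386 179 .nil .nil)) (.node 
    433895987796039184964572186628621509 497 (.node 433895908644981665712614396791402914 163 .nil 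
    .nil) (.node 433896066327443727793061127496695974 545 .nil .nil)))) (.node 
    433905564574718580565543225101157542 547 (.node 433904426880373891366882244504881633 459 (.node 
    433902030269582858874314211145062881 347 (.node 433901950964164495727583410887625088 137 .nil 
    .nil) (.node 433902347143072447185075700513682479 523 .nil .nil)) (.node 
    433904585297621391798161731232510988 841 (.node 433904506146789838387692927437018159 667 .nil 
    .nil) (.node 433904901514458143038307362887211392 25 .nil .nil))) (.node 
    433906959730007411118121409256666496 27 (.node 433906118398296385846592841151200674 161 (.node 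
    433906039905402381324423301596479685 499 .nil .nil) (.node 433906198322763685628475462177566797 
    881 .nil .nil)) (.node 433907117412054387878211576872339503 665 (.node 
    433907038918934417802783152549697548 843 .nil .nil) (.node 433907435021500120002595701480003041 
    457 .nil .nil))))) (.node 434266954414566871913330520017339597 992 (.node 
    434257965730996683095662088649192449 472 (.node 434255433591891737515422296403351951 648 (.node 
    434251916651575802446897804055166157 1010 (.node 434251836688690949802675252752560197 352 .nil 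
    .nil) (.node 434252233602777417986858139787724198 674 .nil .nil)) (.node 
    434255988228167441594121062729385985 330 (.node 434255908264564545834090408963216876 856 .nil 
    .nil) (.node 434256067495107258894037916396565536 154 .nil .nil))) (.node 
    434260516608108519175492990735225888 10 (.node 434258521101369980060167283770922383 538 (.node 
    434258441796425598922118161941923872 8 .nil .nil) (.node 434258600290905859539562058120174060 
    970 .nil .nil)) (.node 434261071166032607100835153017320940 968 (.node 
    434260992015634609697691090268985345 474 .nil .nil) (.node 434261149697817657835453326850001295 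
    536 .nil .nil)))) (.node 434270647949943597338929911485958636 858 (.node 
    434269510238375794206300468945367462 690 (.node 434267113644618051733653404642455714 34 (.node 
    434267034338955627767745081524895142 688 .nil .nil) (.node 434267430518868620078531335168458821 
    370 .nil .nil)) (.node 434269668656432500287307392842204229 368 (.node 
    434269589505316460056304128805306573 994 .nil .nil) (.node 434269984872477504587561650740280482 
    32 .nil .nil))) (.node 434272043117283263825380961266449477 354 (.node 
    434271201773920908346326284697344032 152 (.node 434271123280216123286608814342944143 650 .nil 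
    .nil) (.node 434271281698310217603203681465144321 328 .nil .nil)) (.node 
    434272200799504216419335118229078438 672 (.node 434272122306517474475425750338241698 50 .nil 
    .nil) (.node 434272518408607255311003786267603149 1008 .nil .nil))))))))) (.node 
    716947983289612094632324689042026701 944 (.node 594847876701826829517002501689752998 560 (.node 
    546575742193524462424811956177427921 567 (.node 500372413157834097768695796454152648 14 (.node 
    499779137511632435489166797522320085 535 (.node 499770148828063247407364364863788590 607 (.node 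
    499767616302824916716527231348234568 655 (.node 499764099052316179505791876093944533 533 (.node 
    499764019786135182376249132199684835 663 .nil .nil) (.node 499764415810969620858255657092496054 
    709 .nil .nil)) (.node 499768170628907601903772267607219758 605 (.node 
    499768091362197637326412426977447178 735 .nil .nil) (.node 499768249702242684690940760874800593 
    525 .nil .nil))) (.node 499772699008660085738342104373366225 669 (.node 
    499770703309411933048162943042555208 653 (.node 499770624506452435399571024389856721 527 .nil 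
    .nil) (.node 499770782692212362562392262501193994 733 .nil .nil)) (.node 
    499773253876815523736401643954492682 591 (.node 499773174222958075839073831309793838 717 .nil 
    .nil) (.node 499773332795601565295635983549062472 543 .nil .nil)))) (.node 
    499782830157834144063254589003521290 589 (.node 499781692639985207754800534959663798 725 (.node 
    499779295852622256918666735566432375 581 (.node 499779217050040458804801482669925046 711 .nil 
    .nil) (.node 499779612919986227289125219237086947 661 .nil .nil)) (.node 
    499781851367025488092969465662651107 647 (.node 499781771712639958479488968940832469 517 .nil 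
    .nil) (.node 499782167970223811818714565412626551 599 .nil .nil))) (.node 
    499784225324985099204910086537847523 645 (.node 499783384870797735213093931925887441 671 (.node 
    499783305681674585975432195155154248 541 .nil .nil) (.node 499783464408526238123268978222009902 
    719 .nil .nil)) (.node 499784383897438853378265536088491702 727 (.node 
    499784304707937119450110523253176439 597 .nil .nil) (.node 499784701118823345006359363864472277 
    519 .nil .nil))))) (.node 500387609797744960683908609771310634 94 (.node 
    500378621106921145467208217293499075 22 (.node 500376088600790438829801552550577847 198 (.node 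
    500372571343023352858265887784832337 28 (.node 500372492076251916942235551978771726 222 .nil 
    .nil) (.node 500372888101166278244491757491346986 204 .nil .nil)) (.node 
    500376642927169775336723057069795446 84 (.node 500376563659567569404631092743387893 150 .nil 
    .nil) (.node 500376722000523747570965052996461251 4 .nil .nil))) (.node 
    500381171298988719220287036095210229 148 (.node 500379175587330330357730110218454773 132 (.node 
    500379096785452147425034119987339382 70 .nil .nil) (.node 500379254970943793216649948736535223 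
    212 .nil .nil)) (.node 500381726167602441206432700275112643 6 (.node 
    500381646513948448200098437410073271 196 .nil .nil) (.node 500381805086360112816352357791057014 
    86 .nil .nil)))) (.node 500391302443875154685272618743904374 68 (.node 
    500390164942100796497065729197104398 220 (.node 500387768137870195896095829622020366 76 (.node 
    500387689335160357791852749121412433 142 .nil .nil) (.node 500388085205517794197933418400994760 
    156 .nil .nil)) (.node 500390323669373473524046755216250410 206 (.node 
    500390244015795432824708047550025160 12 .nil .nil) (.node 500390640272316539266602608657193297 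
    30 .nil .nil))) (.node 500392697598106144016807378926196049 140 (.node 
    500391857157023311279032054555091639 214 (.node 500391777967507633787244562588124867 20 .nil 
    .nil) (.node 500391936693948261343383360025668341 134 .nil .nil)) (.node 
    500392856170819092242513746196454856 158 (.node 500392776981228348175676363327429162 92 .nil 
    .nil) (.node 500393173392685729888093226267577614 78 .nil .nil)))))) (.node 
    546738001473320109402003011557990518 126 (.node 546590938722531702585652660972752138 615 (.node 
    546581950038961799692517371398007523 559 (.node 546579417629605037887070419660513974 767 (.node 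
    546575900766128845801742704654375178 613 (.node 546575820996203008600472698531042862 743 .nil 
    .nil) (.node 546576217098595556973583655516704072 693 .nil .nil)) (.node 
    546579972342720291258153166829733603 557 (.node 546579892572264748739303136392592085 687 .nil 
    .nil) (.node 546580050990623461573764953480046711 637 .nil .nil))) (.node 
    546584500722585997749082921653975159 749 (.node 546582504597490157963905174296804022 765 (.node 
    546582425833534001732551720274445431 639 .nil .nil) (.node 546582584405194717849155318383321813 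
    685 .nil .nil)) (.node 546585055202952795475641650862303957 575 (.node 
    546584975511226146574372154222256867 701 .nil .nil) (.node 546585134006311009630995826003363510 
    623 .nil .nil)))) (.node 546594631445270257417456566431598293 573 (.node 
    546593494353156278998045158059234632 677 (.node 546591097139945641066912772639643089 565 (.node 
    546591018376366446500523056795179336 695 .nil .nil) (.node 546591414632968559517458204457131566 
    741 .nil .nil)) (.node 546593652693163474643542329486675502 759 (.node 
    546593573000908006156357221191212298 629 .nil .nil) (.node 546593969180177677516815286107593169 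
    551 .nil .nil))) (.node 546596026612421189500681993303841326 757 (.node 
    546595186081810248024369784096497783 751 (.node 546595107395298536314901456498141878 621 .nil 
    .nil) (.node 546595265735494360438960876835519203 703 .nil .nil)) (.node 
    546596185107695787552282266499767624 679 (.node 546596106420806229022083590415125969 549 .nil 
    .nil) (.node 546596502445792182133384119394194698 631 .nil .nil))))) (.node 
    546753197996545026214192688146758389 46 (.node 546744209305721925808825152585159950 102 (.node 
    546741676915520871825849645895081297 182 (.node 546738160045665656131827490757884599 108 (.node 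
    546738080275882814602227495594961603 174 .nil .nil) (.node 546738476377326417500962627241723637 
    188 .nil .nil)) (.node 546742231629057237842788465861809608 36 (.node 
    546742151859199181875955893275790890 230 .nil .nil) (.node 546742310276683863769005852084754702 
    116 .nil .nil))) (.node 546746760001518309428793778241624618 228 (.node 
    546744763864320762176644696117435946 244 (.node 546744685100485598168452003167033800 54 .nil 
    .nil) (.node 546744843672528754484179646123412817 164 .nil .nil)) (.node 
    546747314482446818587702589792521486 118 (.node 546747234789995357882680367903757649 180 .nil 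
    .nil) (.node 546747393285348859715472897390763464 38 .nil .nil)))) (.node 
    546756890720223975310579949718539720 52 (.node 546755753644630409764002542005601987 172 (.node 
    546753356414860650773440486183084739 60 (.node 546753277650949387172529754060441271 254 .nil 
    .nil) (.node 546753673907857596232959309968910454 236 .nil .nil)) (.node 
    546755911984217136093983787817446133 190 (.node 546755832292597183274786172224747638 124 .nil 
    .nil) (.node 546756228472060864802982270016234167 110 .nil .nil))) (.node 
    546758285875209805409610904081869495 252 (.node 546757445355710663744261272103901521 166 (.node 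
    546757366669205285061399050139557134 100 .nil .nil) (.node 546757525009624061150171425708004906 
    246 .nil .nil)) (.node 546758444370262023345002085504599158 238 (.node 
    546758365682926022508260921540944629 44 .nil .nil) (.node 546758761708360814883548435033701059 
    62 .nil .nil))))))) (.node 623121555806080408395099814731594467 967 (.node 
    595212960077600499710134213981505920 9 (.node 594863074352922572501924104743989317 480 (.node 
    594854085668635263049625720499770860 984 (.node 594851552137832564232710927649638432 136 (.node 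
    594848035932256746357431771805024325 498 (.node 594847956626443285062733931225842893 864 .nil 
    .nil) (.node 594848352805977540353413799379251362 162 .nil .nil)) (.node 
    594852107508129862917475436150168044 842 (.node 594852028203034001728779040312570881 344 .nil 
    .nil) (.node 594852186697590260625963623112021391 666 .nil .nil))) (.node 
    594856635887919976957034139183789455 522 (.node 594854640304986079964349610424054816 26 (.node 
    594854560341232442023434610227583375 520 .nil .nil) (.node 594854719571700042247356994062682113 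
    458 .nil .nil)) (.node 594857189711822175128405388796924929 456 (.node 
    594857111218268870119335192451123692 986 .nil .nil) (.node 594857269636438077271955183171573792 
    24 .nil .nil)))) (.node 594866767153408438553393842672408577 346 (.node 
    594865629518905774575021211723007138 178 (.node 594863232847517031003205778419516838 546 (.node 
    594863152884480993456241124139630754 176 .nil .nil) (.node 594863549798944280199146676781890765 
    882 .nil .nil)) (.node 594865787201503545727698034292732109 880 (.node 
    594865708708667841112578183863516229 482 .nil .nil) (.node 594866104810380803389433554185781670 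
    544 .nil .nil))) (.node 594868162320030984405214939576828109 866 (.node 
    594867321711408524758476691575703951 664 (.node 594867242561161269536216975257670688 138 .nil 
    .nil) (.node 594867400243268319394238525217486316 840 .nil .nil)) (.node 
    594868320737708953466115477983509666 160 (.node 594868241586744098137854316923892134 562 .nil 
    .nil) (.node 594868636954283879689218224349021253 496 .nil .nil))))) (.node 
    595228157723334067032638818093381089 473 (.node 595219169031981668434956826298287181 993 (.node 
    595216635519877358412049401590856870 689 (.node 595213119307070238135650785100575791 651 (.node 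
    595213040001576467004989673570571276 857 .nil .nil) (.node 595213436181467009649841193412205025 
    475 .nil .nil)) (.node 595217190890876966127833617842570658 51 (.node 
    595217111585610562502980950929191109 353 .nil .nil) (.node 595217270080294862577664766025924685 
    995 .nil .nil))) (.node 595221719263715899666523274387652805 371 (.node 
    595219723668083952388519220888222917 355 (.node 595219643704652115572494695478329762 49 .nil 
    .nil) (.node 595219802934537898549059634599309478 691 .nil .nil)) (.node 
    595222273086840445387251752537174093 1009 (.node 595222194593568515501715093596669094 675 .nil 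
    .nil) (.node 595222353011383079366088392078278050 33 .nil .nil)))) (.node 
    595231850523608750167447903434715554 35 (.node 595230712906110898966767645506148364 971 (.node 
    595228316217905522465241764248946700 859 (.node 595228236254701053443255784729483311 649 .nil 
    .nil) (.node 595228633169791234315581112199681408 11 .nil .nil)) (.node 
    595230870589139729044454115759101409 329 (.node 595230792096095166952956002709026176 155 .nil 
    .nil) (.node 595231188197679015835172249002051631 537 .nil .nil))) (.node 
    595233245678179101943863709123482671 539 (.node 595232405081932712754721311878807718 673 (.node 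
    595232325931252823718225453753056333 1011 .nil .nil) (.node 
    595232483614168292932945907874530501 369 .nil .nil)) (.node 
    595233404096409193562502426066688384 153 (.node 595233324945501937020198123324312033 331 .nil 
    .nil) (.node 595233720312187650483453328558928908 969 .nil .nil)))))) (.node 
    623567768819505199904870864594720298 398 (.node 623136752605744187473150677759706806 919 (.node 
    623127763921343076597897069363354065 991 (.node 623125231241330661318955470876464394 783 (.node 
    623121714533272424732490060551039670 917 (.node 623121634879528972092904682335641719 791 .nil 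
    .nil) (.node 623122031135676935485118726678136533 837 .nil .nil)) (.node 
    623125786109032662206782203904789969 989 (.node 623125706455667056387927174175677768 863 .nil 
    .nil) (.node 623125865027780298797776567136573998 909 .nil .nil))) (.node 
    623130314488936183370141556857527854 797 (.node 623128318634761359236566266454367498 781 (.node 
    623128239445146367920431746768047662 911 .nil .nil) (.node 623128398172527012736384241497429320 
    861 .nil .nil)) (.node 623130868815546459272952744930335048 975 (.node 
    623130789548346054569669681233679825 845 .nil .nil) (.node 623130947888844391470478309450976522 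
    927 .nil .nil)))) (.node 623140445483410310712282921777368392 973 (.node 
    623139308119430120462911739284300501 853 (.node 623136911178047164877976672135422691 965 (.node 
    623136831987903353975926540793686741 839 .nil .nil) (.node 623137228400224510248495073592752247 
    789 .nil .nil)) (.node 623139466305681679728376881059611767 775 (.node 
    623139387038858236690057555540851382 901 .nil .nil) (.node 623139783063542267338416088376814307 
    983 .nil .nil))) (.node 623141840650485784083031806154516599 773 (.node 
    623140999964230151258918300526466606 799 (.node 623140921161761093736249604940650762 925 .nil 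
    .nil) (.node 623141079347068985741387596347891153 847 .nil .nil)) (.node 
    623141998990039346630638728951249621 855 (.node 623141920188099994425550057679242979 981 .nil 
    .nil) (.node 623142316058197129974213646244782774 903 .nil .nil))))) (.node 
    623582965614389193532343771686034888 478 (.node 623573976923490606744383608834794167 406 (.node 
    623571444262537197980951954087525059 326 (.node 623567927546474264276985754985487630 412 (.node 
    623567847892707950343023225777215825 350 .nil .nil) (.node 623568244149909215909031565596855752 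
    332 .nil .nil)) (.node 623571999129790359605354102799770357 468 (.node 
    623571919476854667825270515590808694 278 .nil .nil) (.node 623572078049190290350766600127294135 
    388 .nil .nil))) (.node 623576527503120310883640763162339446 276 (.node 
    623574531636714879215877173248309366 260 (.node 623574452446480900497839005625264885 454 .nil 
    .nil) (.node 623574611174282014628745025772635843 340 .nil .nil)) (.node 
    623577081829424490743519943186237111 390 (.node 623577002562539626806986850408899267 324 .nil 
    .nil) (.node 623577160902136277629245392059153141 470 .nil .nil)))) (.node 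
    623586658491748327213815515843708661 452 (.node 623585521145402061010330634793553233 348 (.node 
    623583124186423532160438508158244177 460 (.node 623583044997021061328224946831265038 270 .nil 
    .nil) (.node 623583441408780506169005797485369898 284 .nil .nil)) (.node 
    623585679331271180076109331523754440 334 (.node 623585600064310216546858199574175274 396 .nil 
    .nil) (.node 623585996088923769099347391974266126 414 .nil .nil))) (.node 
    623588053646810529139154660519631118 268 (.node 623587212973517113235389120129313475 342 (.node 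
    623587134170921588307134258349128375 404 .nil .nil) (.node 623587292356488316958816118835814518 
    262 .nil .nil)) (.node 623588211987238122627611041397247530 286 (.node 
    623588133184717812136588757040158152 476 .nil .nil) (.node 623588529054393835039958673005796689 
    462 .nil .nil)))))))) (.node 943827016536048239584984020026037249 448 (.node 
    877097889019454041856086902517251238 633 (.node 717110242569144934268307438917981665 393 (.node 
    716963180205325666508535944121367714 96 (.node 716954191521265245090815153479813519 600 (.node 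
    716951658725390941313455521399247873 264 (.node 716948140972286555817644972474565794 114 (.node 
    716948062478997342611158995575439782 736 .nil .nil) (.node 716948458581540632038103157974711365 
    290 .nil .nil)) (.node 716952212548386117690408473875395983 714 (.node 
    716952134055814947311781698264832032 216 .nil .nil) (.node 716952292472926906997933144651794924 
    794 .nil .nil))) (.node 716956740928252008648778960560658924 906 (.node 
    716954746080171467646600736497145857 410 (.node 716954666928942077793897599443875308 904 .nil 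
    .nil) (.node 716954824612107260562103256760128544 74 .nil .nil)) (.node 
    716957296299607735391632746912090144 72 (.node 716957216993529444424587759844791695 602 .nil 
    .nil) (.node 716957375488992134820380247252743169 408 .nil .nil)))) (.node 
    716966872928820271548364805532759072 218 (.node 716965734559464251579485870155563077 306 (.node 
    716963338622928863998176741548294349 930 (.node 716963259472417517261281706958586949 304 .nil 
    .nil) (.node 716963654839125053201173102423650726 754 .nil .nil)) (.node 
    716965893789062217956347798805233062 752 (.node 716965814483701970105110914201497762 98 .nil 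
    .nil) (.node 716966210663161748972436211869615309 928 .nil .nil))) (.node 
    716968268095216372087466065381492134 738 (.node 716967427564113545848714980629091820 792 (.node 
    716967347601342337686148571662321665 266 .nil .nil) (.node 716967506830902620967747487865969039 
    712 .nil .nil)) (.node 716968426590640862590931360639561797 288 (.node 
    716968346627151611600505750384229581 946 .nil .nil) (.node 716968743541691293228149593394839714 
    112 .nil .nil))))) (.node 717125439480056216877639078917773696 89 (.node 
    717116450788476930245379493520015526 609 (.node 717113918011648681004800220129996877 817 (.node 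
    717110400251343474089393209349576716 779 (.node 717110321758147348936899493483579439 729 .nil 
    .nil) (.node 717110717860864614197707645229806976 91 .nil .nil)) (.node 
    717114471835376647394295879147258053 435 (.node 717114393341954556400313177239535010 225 .nil 
    .nil) (.node 717114551759466021812811380787840166 611 .nil .nil))) (.node 
    717119000207686609017456861990159778 243 (.node 717117005347104138858480582413070754 227 (.node 
    717116926196574410930430767254537413 433 .nil .nil) (.node 717117083878886311902431454992612429 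
    819 .nil .nil)) (.node 717119555578384889168797006006926502 625 (.node 
    717119476272966405974114687912312909 803 .nil .nil) (.node 717119634768256192752901877606461637 
    417 .nil .nil)))) (.node 717129132203157613405032750987427013 419 (.node 
    717127993850308053630421070164341807 587 (.node 717125597897152154247922962829481007 731 (.node 
    717125518746396460766614262903026700 777 .nil .nil) (.node 717125914113913202356233095537297889 
    395 .nil .nil)) (.node 717128153080911060860576962831518080 201 (.node 
    717128073775266612112635759968983521 283 .nil .nil) (.node 717128469954325241187408140927570956 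
    921 .nil .nil))) (.node 717130527357501519868728719620507660 923 (.node 
    717129686838654558228444356495606861 801 (.node 717129606875374800982249482266947750 627 .nil 
    .nil) (.node 717129766105561763949305908107215266 241 .nil .nil)) (.node 
    717130685852904151001647877080823265 281 (.node 717130605889850359596941988893889920 203 .nil 
    .nil) (.node 717131002803808009534390922394277935 585 .nil .nil)))))) (.node 
    877138453836724030097756073524660256 64 (.node 877113086123803223144607668157252685 937 (.node 
    877104097432980158479806774468392417 401 (.node 877101564462712608607488815589460352 193 (.node 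
    877098047398554940298976793685886370 251 (.node 877097968402764101893120902101184709 297 .nil 
    .nil) (.node 877098364659333169869597226362961997 939 .nil .nil)) (.node 
    877102118981908779971562958107685935 579 (.node 877102039985890573771668520632554508 785 .nil 
    .nil) (.node 877102198558690799452159653629893089 403 .nil .nil))) (.node 
    877106647354521268197532777597081612 771 (.node 877104652145761410486851730025449484 787 (.node 
    877104572646770288944321290858895407 577 .nil .nil) (.node 877104731026286789216401793482462592 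
    195 .nil .nil)) (.node 877107202029448807548113572933113313 385 (.node 
    877107123072190897688929818256323968 211 .nil .nil) (.node 877107281411889978669353555384305711 
    593 .nil .nil)))) (.node 877116779001512653578500249627628591 595 (.node 
    877115640997822046442813491147145413 443 (.node 877113244696490161461160175666445509 299 (.node 
    877113165197271672412821291883266466 249 .nil .nil) (.node 877113561260558859655294302166954150 
    635 .nil .nil)) (.node 877115799531220159224984397897510989 825 (.node 
    877115720573734881859992198604096678 747 .nil .nil) (.node 877116116598639762688725883930000802 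
    105 .nil .nil))) (.node 877118174156537295627062283485295010 107 (.node 
    877117333483158090834148853651577216 209 (.node 877117254022775269072847775580522977 387 .nil 
    .nil) (.node 877117412556059578270194909652431884 769 .nil .nil)) (.node 
    877118332496651461639893682527895718 745 (.node 877118253036496007672631150347271245 827 .nil 
    .nil) (.node 877118649254985157487596429315376325 441 .nil .nil))))) (.node 
    877153650945288102154805007312688620 912 (.node 877144662261907058180417856305049669 424 (.node 
    877142129271746611000410998310649254 760 (.node 877138612215150953682064277246777836 898 (.node 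
    877138533219525935350244786670613505 272 .nil .nil) (.node 877138929475938627976783858330441103 
    722 .nil .nil)) (.node 877142683791931294950711059734528069 314 (.node 
    877142604795588676224941223241778381 808 .nil .nil) (.node 877142763368004280379947484641439906 
    234 .nil .nil))) (.node 877147212171494963677549925712463010 122 (.node 
    877145216974682979083703519077402022 618 (.node 877145137475865011378314275217670306 120 .nil 
    .nil) (.node 877145295854782951693413023317966029 954 .nil .nil)) (.node 
    877147766845963109930683053060600013 952 (.node 877147687888909335186038891036228677 426 .nil 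
    .nil) (.node 877147846228765863733539772498117030 616 .nil .nil)))) (.node 
    877157343823331782985467588381442253 810 (.node 877156205802026427212373554220447119 706 (.node 
    877153809518195239261205790246777888 82 (.node 877153730018659671449815101645461903 704 .nil 
    .nil) (.node 877154126082557010110958776552720385 258 .nil .nil)) (.node 
    877156364336173858273874012524975105 256 (.node 877156285378402483423228405759019500 914 .nil 
    .nil) (.node 877156681403690341711522003233216544 80 .nil .nil))) (.node 
    877158738990482747350495114348402689 274 (.node 877157898304453431854691233778318498 232 (.node 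
    877157818844017733669553167457268134 762 .nil .nil) (.node 877157977378127776783695783810237509 
    312 .nil .nil)) (.node 877158897330301371153573974154873231 720 (.node 
    877158817870583273362386253750408224 66 .nil .nil) (.node 877159214088235669648214608252188140 
    896 .nil .nil))))))) (.node 984067317540319183977563643854881989 505 (.node 
    944557183283938142863794921762041933 1017 (.node 943842213838110611894610990832716175 528 
    (.node 943833225154502679885646246222412962 40 (.node 943830691971297708522216538414690509 888 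
    (.node 943827175069288648852066181193577871 514 (.node 943827096112499408631863995162859552 144 
    .nil .nil) (.node 943827492136730019453689048303569388 850 .nil .nil)) (.node 
    943831246645842544807993126625641634 186 (.node 943831167688335261471982838131360166 680 .nil 
    .nil) (.node 943831326029022117169572511670254661 362 .nil .nil))) (.node 
    943835775025934881079083450366591045 506 (.node 943833779635549557183610150639534285 1002 
    (.node 943833700175567367589838210788394053 504 .nil .nil) (.node 
    943833858708845165092508315181298086 570 .nil .nil)) (.node 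
    943836329545287614565816170324868518 568 (.node 943836250549398209283507289807564962 42 .nil 
    .nil) (.node 943836409121739337015158980721935565 1000 .nil .nil)))) (.node 
    943845906483971915772654382619461030 682 (.node 943844768656239899301187241818888684 834 (.node 
    943842372178835372048392584753223681 466 (.node 943842292718135139626761443613521388 832 .nil 
    .nil) (.node 943842688936845668822773905471738912 130 .nil .nil)) (.node 
    943844927035725250943584723391907872 128 (.node 943844848039117802833416641586042255 530 .nil 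
    .nil) (.node 943845244296436926958563617854370817 464 .nil .nil))) (.node 
    943847301651349325450401745642107936 146 (.node 943846461197577868678123666974355525 360 (.node 
    943846381698306687529273467139177677 890 .nil .nil) (.node 943846540077301022729110505607823522 
    184 .nil .nil)) (.node 943847460223198919942428813748245996 848 (.node 
    943847380724645781909386716376631297 450 .nil .nil) (.node 943847776787635803628206923652438415 
    512 .nil .nil))))) (.node 944572380581494627005871974086967462 553 (.node 
    944563391890898450375648674000771456 17 (.node 944560858726969821580619241231586785 321 (.node 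
    944557341817939676314733009380147397 379 (.node 944557262860304237841294767119515042 169 .nil 
    .nil) (.node 944557658884906020218153357512115366 555 .nil .nil)) (.node 
    944561413401067070674599336746260492 963 (.node 944561334443657597754419979253549103 657 .nil 
    .nil) (.node 944561492784490095113435621834732928 19 .nil .nil))) (.node 
    944565941773603477610480156644848687 643 (.node 944563946371409733382942444993221679 659 (.node 
    944563866911178474682636969738089484 961 .nil .nil) (.node 944564025445293812006347731209652705 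
    323 .nil .nil)) (.node 944566496293932917779193620711180672 1 (.node 
    944566417297764033962019091903519201 339 .nil .nil) (.node 944566575869732346072431086017811468 
    977 .nil .nil)))) (.node 944576073227236762616774776511891468 979 (.node 
    944574935416677810543041033139226018 59 (.node 944572538921912039044531053578531234 171 (.node 
    944572459461906746185714564365124805 377 .nil .nil) (.node 944572855679792327757960076949830733 
    1019 .nil .nil)) (.node 944575093795477381421486852072914086 697 (.node 
    944575014799534463445801309306978381 875 .nil .nil) (.node 944575411056709018126381008166170821 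
    489 .nil .nil))) (.node 944577468382487849978056647425244357 491 (.node 
    944576627940849190324135943373698529 337 (.node 944576548442008746398885595539674496 3 .nil 
    .nil) (.node 944576706820392715736089704193431599 641 .nil .nil)) (.node 
    944577626954569449164458365852681293 873 (.node 944577547455503039685949133250736294 699 .nil 
    .nil) (.node 944577943519091406918913630253711778 57 .nil .nil)))))) (.node 
    984797484283184239134072348338140652 960 (.node 984082514141393679637146579826818466 41 (.node 
    984073525450079024230760901273880623 529 (.node 984070992982633785870775144706389004 833 (.node 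
    984067475880283188881948999930264653 891 (.node 984067396419900265807670579005391014 681 .nil 
    .nil) (.node 984067792638239254514189815006278050 43 .nil .nil)) (.node 
    984071547464127660065428145914415585 451 (.node 984071468003972104496958169606166912 145 .nil 
    .nil) (.node 984071626537104850633309700862153775 531 .nil .nil))) (.node 
    984076075836815334914399406724388224 131 (.node 984074080125158126642337299425834368 147 (.node 
    984074001167673245738227630660556257 449 .nil .nil) (.node 984074159507523889779646970604460044 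
    835 .nil .nil)) (.node 984076630549445909304164270948915247 513 (.node 
    984076551050529762247078424168007692 851 .nil .nil) (.node 984076709429895584901878835459044833 
    465 .nil .nil)))) (.node 984086206980834183110984377707436513 467 (.node 
    984085069479172591023347464600727718 571 (.node 984082672674941953527763529544402086 683 (.node 
    984082593717684440417692406669553741 889 .nil .nil) (.node 984082989742739482354872134962675909 
    507 .nil .nil)) (.node 984085228051707449770070320928686498 185 (.node 
    984085148553018670507023020038208709 363 .nil .nil) (.node 984085544616153778179666379140662349 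
    1001 .nil .nil))) (.node 984087602135366791696103870154047565 1003 (.node 
    984086761500181032092338611558192140 849 (.node 984086682504087556259094394023097391 515 .nil 
    .nil) (.node 984086841077038459556865618352966016 129 .nil .nil)) (.node 
    984087760514619769708823412503916741 361 (.node 984087681518298926369770750352197026 187 .nil 
    .nil) (.node 984088077775020073916076725795208358 569 .nil .nil))))) (.node 
    984812680889878029252177586422913056 16 (.node 984803692205552976608582888936538534 552 (.node 
    984801159719152230658484461055870021 376 (.node 984797642623984997567594628879848480 2 (.node 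
    984797563163134022965079141309843855 656 .nil .nil) (.node 984797959381768553881350916546861057 
    338 .nil .nil)) (.node 984801714199820370936341979982836134 698 (.node 
    984801634739686996439827937154415778 168 .nil .nil) (.node 984801793273343530962604427037475021 
    874 .nil .nil))) (.node 984806242579761743665619078751567053 1018 (.node 
    984804246880474631453082142754585669 490 (.node 984804167922816310788282336798683341 1016 .nil 
    .nil) (.node 984804326263126347927149344730481826 58 .nil .nil)) (.node 
    984806797292990878012365697499365538 56 (.node 984806717793870881766257600641467814 554 .nil 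
    .nil) (.node 984806876173242035524817304717209669 488 .nil .nil)))) (.node 
    984816373728745731352407979267829922 170 (.node 984815236210785284474902464532940801 322 (.node 
    984812839423043325683234623992203756 978 (.node 984812760466102605412385163952886785 320 .nil 
    .nil) (.node 984813156490408329070235340691846543 642 .nil .nil)) (.node 
    984815394782709991802954656237328783 640 (.node 984815315284307595950796905296016416 18 .nil 
    .nil) (.node 984815711347222504833591988973573612 976 .nil .nil))) (.node 
    984817768895406020395525389414405519 658 (.node 984816928248477201859247084716262605 872 (.node 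
    984816849252738833905727721660579909 378 .nil .nil) (.node 984817007824701224617273027084795302 
    696 .nil .nil)) (.node 984817927274815373758182184366224385 336 (.node 
    984817848278359405698661376568957420 962 .nil .nil) (.node 984818244535754528103549039458486304 
    0 .nil .nil))))))))))

/-- Certificate data. -/
def nxt : CTree :=
  (.node (.node (.node (.node (.node (.node (.node (.node (.node (.node (.node (.node (.node 
    (.node (.leaf 1) (.leaf 513)) (.node (.leaf 257) (.leaf 769))) (.node (.node (.leaf 129) (.leaf 
    641)) (.node (.leaf 385) (.leaf 897)))) (.node (.node (.node (.leaf 65) (.leaf 577)) (.node 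
    (.leaf 321) (.leaf 833))) (.node (.node (.leaf 193) (.leaf 705)) (.node (.leaf 449) (.leaf 
    961))))) (.node (.node (.node (.node (.leaf 33) (.leaf 545)) (.node (.leaf 289) (.leaf 801))) 
    (.node (.node (.leaf 161) (.leaf 673)) (.node (.leaf 417) (.leaf 929)))) (.node (.node (.node 
    (.leaf 97) (.leaf 609)) (.node (.leaf 353) (.leaf 865))) (.node (.node (.leaf 225) (.leaf 737)) 
    (.node (.leaf 481) (.leaf 993)))))) (.node (.node (.node (.node (.node (.leaf 17) (.leaf 529)) 
    (.node (.leaf 273) (.leaf 785))) (.node (.node (.leaf 145) (.leaf 657)) (.node (.leaf 401) 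
    (.leaf 913)))) (.node (.node (.node (.leaf 81) (.leaf 593)) (.node (.leaf 337) (.leaf 849))) 
    (.node (.node (.leaf 209) (.leaf 721)) (.node (.leaf 465) (.leaf 977))))) (.node (.node (.node 
    (.node (.leaf 49) (.leaf 561)) (.node (.leaf 305) (.leaf 817))) (.node (.node (.leaf 177) 
    (.leaf 689)) (.node (.leaf 433) (.leaf 945)))) (.node (.node (.node (.leaf 113) (.leaf 625)) 
    (.node (.leaf 369) (.leaf 881))) (.node (.node (.leaf 241) (.leaf 753)) (.node (.leaf 497) 
    (.leaf 1009))))))) (.node (.node (.node (.node (.node (.node (.leaf 9) (.leaf 521)) (.node 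
    (.leaf 265) (.leaf 777))) (.node (.node (.leaf 137) (.leaf 649)) (.node (.leaf 393) (.leaf 
    905)))) (.node (.node (.node (.leaf 73) (.leaf 585)) (.node (.leaf 329) (.leaf 841))) (.node 
    (.node (.leaf 201) (.leaf 713)) (.node (.leaf 457) (.leaf 969))))) (.node (.node (.node (.node 
    (.leaf 41) (.leaf 553)) (.node (.leaf 297) (.leaf 809))) (.node (.node (.leaf 169) (.leaf 681)) 
    (.node (.leaf 425) (.leaf 937)))) (.node (.node (.node (.leaf 105) (.leaf 617)) (.node (.leaf 
    361) (.leaf 873))) (.node (.node (.leaf 233) (.leaf 745)) (.node (.leaf 489) (.leaf 1001)))))) 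
    (.node (.node (.node (.node (.node (.leaf 25) (.leaf 537)) (.node (.leaf 281) (.leaf 793))) 
    (.node (.node (.leaf 153) (.leaf 665)) (.node (.leaf 409) (.leaf 921)))) (.node (.node (.node 
    (.leaf 89) (.leaf 601)) (.node (.leaf 345) (.leaf 857))) (.node (.node (.leaf 217) (.leaf 729)) 
    (.node (.leaf 473) (.leaf 985))))) (.node (.node (.node (.node (.leaf 57) (.leaf 569)) (.node 
    (.leaf 313) (.leaf 825))) (.node (.node (.leaf 185) (.leaf 697)) (.node (.leaf 441) (.leaf 
    953)))) (.node (.node (.node (.leaf 121) (.leaf 633)) (.node (.leaf 377) (.leaf 889))) (.node 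
    (.node (.leaf 249) (.leaf 761)) (.node (.leaf 505) (.leaf 1017)))))))) (.node (.node (.node 
    (.node (.node (.node (.node (.leaf 5) (.leaf 517)) (.node (.leaf 261) (.leaf 773))) (.node 
    (.node (.leaf 133) (.leaf 645)) (.node (.leaf 389) (.leaf 901)))) (.node (.node (.node (.leaf 
    69) (.leaf 581)) (.node (.leaf 325) (.leaf 837))) (.node (.node (.leaf 197) (.leaf 709)) (.node 
    (.leaf 453) (.leaf 965))))) (.node (.node (.node (.node (.leaf 37) (.leaf 549)) (.node (.leaf 
    293) (.leaf 805))) (.node (.node (.leaf 165) (.leaf 677)) (.node (.leaf 421) (.leaf 933)))) 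
    (.node (.node (.node (.leaf 101) (.leaf 613)) (.node (.leaf 357) (.leaf 869))) (.node (.node 
    (.leaf 229) (.leaf 741)) (.node (.leaf 485) (.leaf 997)))))) (.node (.node (.node (.node (.node 
    (.leaf 21) (.leaf 533)) (.node (.leaf 277) (.leaf 789))) (.node (.node (.leaf 149) (.leaf 661)) 
    (.node (.leaf 405) (.leaf 917)))) (.node (.node (.node (.leaf 85) (.leaf 597)) (.node (.leaf 
    341) (.leaf 853))) (.node (.node (.leaf 213) (.leaf 725)) (.node (.leaf 469) (.leaf 981))))) 
    (.node (.node (.node (.node (.leaf 53) (.leaf 565)) (.node (.leaf 309) (.leaf 821))) (.node 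
    (.node (.leaf 181) (.leaf 693)) (.node (.leaf 437) (.leaf 949)))) (.node (.node (.node (.leaf 
    117) (.leaf 629)) (.node (.leaf 373) (.leaf 885))) (.node (.node (.leaf 245) (.leaf 757)) 
    (.node (.leaf 501) (.leaf 1013))))))) (.node (.node (.node (.node (.node (.node (.leaf 13) 
    (.leaf 525)) (.node (.leaf 269) (.leaf 781))) (.node (.node (.leaf 141) (.leaf 653)) (.node 
    (.leaf 397) (.leaf 909)))) (.node (.node (.node (.leaf 77) (.leaf 589)) (.node (.leaf 333) 
    (.leaf 845))) (.node (.node (.leaf 205) (.leaf 717)) (.node (.leaf 461) (.leaf 973))))) (.node 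
    (.node (.node (.node (.leaf 45) (.leaf 557)) (.node (.leaf 301) (.leaf 813))) (.node (.node 
    (.leaf 173) (.leaf 685)) (.node (.leaf 429) (.leaf 941)))) (.node (.node (.node (.leaf 109) 
    (.leaf 621)) (.node (.leaf 365) (.leaf 877))) (.node (.node (.leaf 237) (.leaf 749)) (.node 
    (.leaf 493) (.leaf 1005)))))) (.node (.node (.node (.node (.node (.leaf 29) (.leaf 541)) (.node 
    (.leaf 285) (.leaf 797))) (.node (.node (.leaf 157) (.leaf 669)) (.node (.leaf 413) (.leaf 
    925)))) (.node (.node (.node (.leaf 93) (.leaf 605)) (.node (.leaf 349) (.leaf 861))) (.node 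
    (.node (.leaf 221) (.leaf 733)) (.node (.leaf 477) (.leaf 989))))) (.node (.node (.node (.node 
    (.leaf 61) (.leaf 573)) (.node (.leaf 317) (.leaf 829))) (.node (.node (.leaf 189) (.leaf 701)) 
    (.node (.leaf 445) (.leaf 957)))) (.node (.node (.node (.leaf 125) (.leaf 637)) (.node (.leaf 
    381) (.leaf 893))) (.node (.node (.leaf 253) (.leaf 765)) (.node (.leaf 509) (.leaf 
    1021))))))))) (.node (.node (.node (.node (.node (.node (.node (.node (.leaf 3) (.leaf 515)) 
    (.node (.leaf 259) (.leaf 771))) (.node (.node (.leaf 131) (.leaf 643)) (.node (.leaf 387) 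
    (.leaf 899)))) (.node (.node (.node (.leaf 67) (.leaf 579)) (.node (.leaf 323) (.leaf 835))) 
    (.node (.node (.leaf 195) (.leaf 707)) (.node (.leaf 451) (.leaf 963))))) (.node (.node (.node 
    (.node (.leaf 35) (.leaf 547)) (.node (.leaf 291) (.leaf 803))) (.node (.node (.leaf 163) 
    (.leaf 675)) (.node (.leaf 419) (.leaf 931)))) (.node (.node (.node (.leaf 99) (.leaf 611)) 
    (.node (.leaf 355) (.leaf 867))) (.node (.node (.leaf 227) (.leaf 739)) (.node (.leaf 483) 
    (.leaf 995)))))) (.node (.node (.node (.node (.node (.leaf 19) (.leaf 531)) (.node (.leaf 275) 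
    (.leaf 787))) (.node (.node (.leaf 147) (.leaf 659)) (.node (.leaf 403) (.leaf 915)))) (.node 
    (.node (.node (.leaf 83) (.leaf 595)) (.node (.leaf 339) (.leaf 851))) (.node (.node (.leaf 
    211) (.leaf 723)) (.node (.leaf 467) (.leaf 979))))) (.node (.node (.node (.node (.leaf 51) 
    (.leaf 563)) (.node (.leaf 307) (.leaf 819))) (.node (.node (.leaf 179) (.leaf 691)) (.node 
    (.leaf 435) (.leaf 947)))) (.node (.node (.node (.leaf 115) (.leaf 627)) (.node (.leaf 371) 
    (.leaf 883))) (.node (.node (.leaf 243) (.leaf 755)) (.node (.leaf 499) (.leaf 1011))))))) 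
    (.node (.node (.node (.node (.node (.node (.leaf 11) (.leaf 523)) (.node (.leaf 267) (.leaf 
    779))) (.node (.node (.leaf 139) (.leaf 651)) (.node (.leaf 395) (.leaf 907)))) (.node (.node 
    (.node (.leaf 75) (.leaf 587)) (.node (.leaf 331) (.leaf 843))) (.node (.node (.leaf 203) 
    (.leaf 715)) (.node (.leaf 459) (.leaf 971))))) (.node (.node (.node (.node (.leaf 43) (.leaf 
    555)) (.node (.leaf 299) (.leaf 811))) (.node (.node (.leaf 171) (.leaf 683)) (.node (.leaf 
    427) (.leaf 939)))) (.node (.node (.node (.leaf 107) (.leaf 619)) (.node (.leaf 363) (.leaf 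
    875))) (.node (.node (.leaf 235) (.leaf 747)) (.node (.leaf 491) (.leaf 1003)))))) (.node 
    (.node (.node (.node (.node (.leaf 27) (.leaf 539)) (.node (.leaf 283) (.leaf 795))) (.node 
    (.node (.leaf 155) (.leaf 667)) (.node (.leaf 411) (.leaf 923)))) (.node (.node (.node (.leaf 
    91) (.leaf 603)) (.node (.leaf 347) (.leaf 859))) (.node (.node (.leaf 219) (.leaf 731)) (.node 
    (.leaf 475) (.leaf 987))))) (.node (.node (.node (.node (.leaf 59) (.leaf 571)) (.node (.leaf 
    315) (.leaf 827))) (.node (.node (.leaf 187) (.leaf 699)) (.node (.leaf 443) (.leaf 955)))) 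
    (.node (.node (.node (.leaf 123) (.leaf 635)) (.node (.leaf 379) (.leaf 891))) (.node (.node 
    (.leaf 251) (.leaf 763)) (.node (.leaf 507) (.leaf 1019)))))))) (.node (.node (.node (.node 
    (.node (.node (.node (.leaf 7) (.leaf 519)) (.node (.leaf 263) (.leaf 775))) (.node (.node 
    (.leaf 135) (.leaf 647)) (.node (.leaf 391) (.leaf 903)))) (.node (.node (.node (.leaf 71) 
    (.leaf 583)) (.node (.leaf 327) (.leaf 839))) (.node (.node (.leaf 199) (.leaf 711)) (.node 
    (.leaf 455) (.leaf 967))))) (.node (.node (.node (.node (.leaf 39) (.leaf 551)) (.node (.leaf 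
    295) (.leaf 807))) (.node (.node (.leaf 167) (.leaf 679)) (.node (.leaf 423) (.leaf 935)))) 
    (.node (.node (.node (.leaf 103) (.leaf 615)) (.node (.leaf 359) (.leaf 871))) (.node (.node 
    (.leaf 231) (.leaf 743)) (.node (.leaf 487) (.leaf 999)))))) (.node (.node (.node (.node (.node 
    (.leaf 23) (.leaf 535)) (.node (.leaf 279) (.leaf 791))) (.node (.node (.leaf 151) (.leaf 663)) 
    (.node (.leaf 407) (.leaf 919)))) (.node (.node (.node (.leaf 87) (.leaf 599)) (.node (.leaf 
    343) (.leaf 855))) (.node (.node (.leaf 215) (.leaf 727)) (.node (.leaf 471) (.leaf 983))))) 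
    (.node (.node (.node (.node (.leaf 55) (.leaf 567)) (.node (.leaf 311) (.leaf 823))) (.node 
    (.node (.leaf 183) (.leaf 695)) (.node (.leaf 439) (.leaf 951)))) (.node (.node (.node (.leaf 
    119) (.leaf 631)) (.node (.leaf 375) (.leaf 887))) (.node (.node (.leaf 247) (.leaf 759)) 
    (.node (.leaf 503) (.leaf 1015))))))) (.node (.node (.node (.node (.node (.node (.leaf 15) 
    (.leaf 527)) (.node (.leaf 271) (.leaf 783))) (.node (.node (.leaf 143) (.leaf 655)) (.node 
    (.leaf 399) (.leaf 911)))) (.node (.node (.node (.leaf 79) (.leaf 591)) (.node (.leaf 335) 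
    (.leaf 847))) (.node (.node (.leaf 207) (.leaf 719)) (.node (.leaf 463) (.leaf 975))))) (.node 
    (.node (.node (.node (.leaf 47) (.leaf 559)) (.node (.leaf 303) (.leaf 815))) (.node (.node 
    (.leaf 175) (.leaf 687)) (.node (.leaf 431) (.leaf 943)))) (.node (.node (.node (.leaf 111) 
    (.leaf 623)) (.node (.leaf 367) (.leaf 879))) (.node (.node (.leaf 239) (.leaf 751)) (.node 
    (.leaf 495) (.leaf 1007)))))) (.node (.node (.node (.node (.node (.leaf 31) (.leaf 543)) (.node 
    (.leaf 287) (.leaf 799))) (.node (.node (.leaf 159) (.leaf 671)) (.node (.leaf 415) (.leaf 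
    927)))) (.node (.node (.node (.leaf 95) (.leaf 607)) (.node (.leaf 351) (.leaf 863))) (.node 
    (.node (.leaf 223) (.leaf 735)) (.node (.leaf 479) (.leaf 991))))) (.node (.node (.node (.node 
    (.leaf 63) (.leaf 575)) (.node (.leaf 319) (.leaf 831))) (.node (.node (.leaf 191) (.leaf 703)) 
    (.node (.leaf 447) (.leaf 959)))) (.node (.node (.node (.leaf 127) (.leaf 639)) (.node (.leaf 
    383) (.leaf 895))) (.node (.node (.leaf 255) (.leaf 767)) (.node (.leaf 511) (.leaf 
    1023)))))))))) (.node (.node (.node (.node (.node (.node (.node (.node (.node (.leaf 0) (.leaf 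
    512)) (.node (.leaf 256) (.leaf 768))) (.node (.node (.leaf 128) (.leaf 640)) (.node (.leaf 
    384) (.leaf 896)))) (.node (.node (.node (.leaf 64) (.leaf 576)) (.node (.leaf 320) (.leaf 
    832))) (.node (.node (.leaf 192) (.leaf 704)) (.node (.leaf 448) (.leaf 960))))) (.node (.node 
    (.node (.node (.leaf 32) (.leaf 544)) (.node (.leaf 288) (.leaf 800))) (.node (.node (.leaf 
    160) (.leaf 672)) (.node (.leaf 416) (.leaf 928)))) (.node (.node (.node (.leaf 96) (.leaf 
    608)) (.node (.leaf 352) (.leaf 864))) (.node (.node (.leaf 224) (.leaf 736)) (.node (.leaf 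
    480) (.leaf 992)))))) (.node (.node (.node (.node (.node (.leaf 16) (.leaf 528)) (.node (.leaf 
    272) (.leaf 784))) (.node (.node (.leaf 144) (.leaf 656)) (.node (.leaf 400) (.leaf 912)))) 
    (.node (.node (.node (.leaf 80) (.leaf 592)) (.node (.leaf 336) (.leaf 848))) (.node (.node 
    (.leaf 208) (.leaf 720)) (.node (.leaf 464) (.leaf 976))))) (.node (.node (.node (.node (.leaf 
    48) (.leaf 560)) (.node (.leaf 304) (.leaf 816))) (.node (.node (.leaf 176) (.leaf 688)) (.node 
    (.leaf 432) (.leaf 944)))) (.node (.node (.node (.leaf 112) (.leaf 624)) (.node (.leaf 368) 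
    (.leaf 880))) (.node (.node (.leaf 240) (.leaf 752)) (.node (.leaf 496) (.leaf 1008))))))) 
    (.node (.node (.node (.node (.node (.node (.leaf 8) (.leaf 520)) (.node (.leaf 264) (.leaf 
    776))) (.node (.node (.leaf 136) (.leaf 648)) (.node (.leaf 392) (.leaf 904)))) (.node (.node 
    (.node (.leaf 72) (.leaf 584)) (.node (.leaf 328) (.leaf 840))) (.node (.node (.leaf 200) 
    (.leaf 712)) (.node (.leaf 456) (.leaf 968))))) (.node (.node (.node (.node (.leaf 40) (.leaf 
    552)) (.node (.leaf 296) (.leaf 808))) (.node (.node (.leaf 168) (.leaf 680)) (.node (.leaf 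
    424) (.leaf 936)))) (.node (.node (.node (.leaf 104) (.leaf 616)) (.node (.leaf 360) (.leaf 
    872))) (.node (.node (.leaf 232) (.leaf 744)) (.node (.leaf 488) (.leaf 1000)))))) (.node 
    (.node (.node (.node (.node (.leaf 24) (.leaf 536)) (.node (.leaf 280) (.leaf 792))) (.node 
    (.node (.leaf 152) (.leaf 664)) (.node (.leaf 408) (.leaf 920)))) (.node (.node (.node (.leaf 
    88) (.leaf 600)) (.node (.leaf 344) (.leaf 856))) (.node (.node (.leaf 216) (.leaf 728)) (.node 
    (.leaf 472) (.leaf 984))))) (.node (.node (.node (.node (.leaf 56) (.leaf 568)) (.node (.leaf 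
    312) (.leaf 824))) (.node (.node (.leaf 184) (.leaf 696)) (.node (.leaf 440) (.leaf 952)))) 
    (.node (.node (.node (.leaf 120) (.leaf 632)) (.node (.leaf 376) (.leaf 888))) (.node (.node 
    (.leaf 248) (.leaf 760)) (.node (.leaf 504) (.leaf 1016)))))))) (.node (.node (.node (.node 
    (.node (.node (.node (.leaf 4) (.leaf 516)) (.node (.leaf 260) (.leaf 772))) (.node (.node 
    (.leaf 132) (.leaf 644)) (.node (.leaf 388) (.leaf 900)))) (.node (.node (.node (.leaf 68) 
    (.leaf 580)) (.node (.leaf 324) (.leaf 836))) (.node (.node (.leaf 196) (.leaf 708)) (.node 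
    (.leaf 452) (.leaf 964))))) (.node (.node (.node (.node (.leaf 36) (.leaf 548)) (.node (.leaf 
    292) (.leaf 804))) (.node (.node (.leaf 164) (.leaf 676)) (.node (.leaf 420) (.leaf 932)))) 
    (.node (.node (.node (.leaf 100) (.leaf 612)) (.node (.leaf 356) (.leaf 868))) (.node (.node 
    (.leaf 228) (.leaf 740)) (.node (.leaf 484) (.leaf 996)))))) (.node (.node (.node (.node (.node 
    (.leaf 20) (.leaf 532)) (.node (.leaf 276) (.leaf 788))) (.node (.node (.leaf 148) (.leaf 660)) 
    (.node (.leaf 404) (.leaf 916)))) (.node (.node (.node (.leaf 84) (.leaf 596)) (.node (.leaf 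
    340) (.leaf 852))) (.node (.node (.leaf 212) (.leaf 724)) (.node (.leaf 468) (.leaf 980))))) 
    (.node (.node (.node (.node (.leaf 52) (.leaf 564)) (.node (.leaf 308) (.leaf 820))) (.node 
    (.node (.leaf 180) (.leaf 692)) (.node (.leaf 436) (.leaf 948)))) (.node (.node (.node (.leaf 
    116) (.leaf 628)) (.node (.leaf 372) (.leaf 884))) (.node (.node (.leaf 244) (.leaf 756)) 
    (.node (.leaf 500) (.leaf 1012))))))) (.node (.node (.node (.node (.node (.node (.leaf 12) 
    (.leaf 524)) (.node (.leaf 268) (.leaf 780))) (.node (.node (.leaf 140) (.leaf 652)) (.node 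
    (.leaf 396) (.leaf 908)))) (.node (.node (.node (.leaf 76) (.leaf 588)) (.node (.leaf 332) 
    (.leaf 844))) (.node (.node (.leaf 204) (.leaf 716)) (.node (.leaf 460) (.leaf 972))))) (.node 
    (.node (.node (.node (.leaf 44) (.leaf 556)) (.node (.leaf 300) (.leaf 812))) (.node (.node 
    (.leaf 172) (.leaf 684)) (.node (.leaf 428) (.leaf 940)))) (.node (.node (.node (.leaf 108) 
    (.leaf 620)) (.node (.leaf 364) (.leaf 876))) (.node (.node (.leaf 236) (.leaf 748)) (.node 
    (.leaf 492) (.leaf 1004)))))) (.node (.node (.node (.node (.node (.leaf 28) (.leaf 540)) (.node 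
    (.leaf 284) (.leaf 796))) (.node (.node (.leaf 156) (.leaf 668)) (.node (.leaf 412) (.leaf 
    924)))) (.node (.node (.node (.leaf 92) (.leaf 604)) (.node (.leaf 348) (.leaf 860))) (.node 
    (.node (.leaf 220) (.leaf 732)) (.node (.leaf 476) (.leaf 988))))) (.node (.node (.node (.node 
    (.leaf 60) (.leaf 572)) (.node (.leaf 316) (.leaf 828))) (.node (.node (.leaf 188) (.leaf 700)) 
    (.node (.leaf 444) (.leaf 956)))) (.node (.node (.node (.leaf 124) (.leaf 636)) (.node (.leaf 
    380) (.leaf 892))) (.node (.node (.leaf 252) (.leaf 764)) (.node (.leaf 508) (.leaf 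
    1020))))))))) (.node (.node (.node (.node (.node (.node (.node (.node (.leaf 2) (.leaf 514)) 
    (.node (.leaf 258) (.leaf 770))) (.node (.node (.leaf 130) (.leaf 642)) (.node (.leaf 386) 
    (.leaf 898)))) (.node (.node (.node (.leaf 66) (.leaf 578)) (.node (.leaf 322) (.leaf 834))) 
    (.node (.node (.leaf 194) (.leaf 706)) (.node (.leaf 450) (.leaf 962))))) (.node (.node (.node 
    (.node (.leaf 34) (.leaf 546)) (.node (.leaf 290) (.leaf 802))) (.node (.node (.leaf 162) 
    (.leaf 674)) (.node (.leaf 418) (.leaf 930)))) (.node (.node (.node (.leaf 98) (.leaf 610)) 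
    (.node (.leaf 354) (.leaf 866))) (.node (.node (.leaf 226) (.leaf 738)) (.node (.leaf 482) 
    (.leaf 994)))))) (.node (.node (.node (.node (.node (.leaf 18) (.leaf 530)) (.node (.leaf 274) 
    (.leaf 786))) (.node (.node (.leaf 146) (.leaf 658)) (.node (.leaf 402) (.leaf 914)))) (.node 
    (.node (.node (.leaf 82) (.leaf 594)) (.node (.leaf 338) (.leaf 850))) (.node (.node (.leaf 
    210) (.leaf 722)) (.node (.leaf 466) (.leaf 978))))) (.node (.node (.node (.node (.leaf 50) 
    (.leaf 562)) (.node (.leaf 306) (.leaf 818))) (.node (.node (.leaf 178) (.leaf 690)) (.node 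
    (.leaf 434) (.leaf 946)))) (.node (.node (.node (.leaf 114) (.leaf 626)) (.node (.leaf 370) 
    (.leaf 882))) (.node (.node (.leaf 242) (.leaf 754)) (.node (.leaf 498) (.leaf 1010))))))) 
    (.node (.node (.node (.node (.node (.node (.leaf 10) (.leaf 522)) (.node (.leaf 266) (.leaf 
    778))) (.node (.node (.leaf 138) (.leaf 650)) (.node (.leaf 394) (.leaf 906)))) (.node (.node 
    (.node (.leaf 74) (.leaf 586)) (.node (.leaf 330) (.leaf 842))) (.node (.node (.leaf 202) 
    (.leaf 714)) (.node (.leaf 458) (.leaf 970))))) (.node (.node (.node (.node (.leaf 42) (.leaf 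
    554)) (.node (.leaf 298) (.leaf 810))) (.node (.node (.leaf 170) (.leaf 682)) (.node (.leaf 
    426) (.leaf 938)))) (.node (.node (.node (.leaf 106) (.leaf 618)) (.node (.leaf 362) (.leaf 
    874))) (.node (.node (.leaf 234) (.leaf 746)) (.node (.leaf 490) (.leaf 1002)))))) (.node 
    (.node (.node (.node (.node (.leaf 26) (.leaf 538)) (.node (.leaf 282) (.leaf 794))) (.node 
    (.node (.leaf 154) (.leaf 666)) (.node (.leaf 410) (.leaf 922)))) (.node (.node (.node (.leaf 
    90) (.leaf 602)) (.node (.leaf 346) (.leaf 858))) (.node (.node (.leaf 218) (.leaf 730)) (.node 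
    (.leaf 474) (.leaf 986))))) (.node (.node (.node (.node (.leaf 58) (.leaf 570)) (.node (.leaf 
    314) (.leaf 826))) (.node (.node (.leaf 186) (.leaf 698)) (.node (.leaf 442) (.leaf 954)))) 
    (.node (.node (.node (.leaf 122) (.leaf 634)) (.node (.leaf 378) (.leaf 890))) (.node (.node 
    (.leaf 250) (.leaf 762)) (.node (.leaf 506) (.leaf 1018)))))))) (.node (.node (.node (.node 
    (.node (.node (.node (.leaf 6) (.leaf 518)) (.node (.leaf 262) (.leaf 774))) (.node (.node 
    (.leaf 134) (.leaf 646)) (.node (.leaf 390) (.leaf 902)))) (.node (.node (.node (.leaf 70) 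
    (.leaf 582)) (.node (.leaf 326) (.leaf 838))) (.node (.node (.leaf 198) (.leaf 710)) (.node 
    (.leaf 454) (.leaf 966))))) (.node (.node (.node (.node (.leaf 38) (.leaf 550)) (.node (.leaf 
    294) (.leaf 806))) (.node (.node (.leaf 166) (.leaf 678)) (.node (.leaf 422) (.leaf 934)))) 
    (.node (.node (.node (.leaf 102) (.leaf 614)) (.node (.leaf 358) (.leaf 870))) (.node (.node 
    (.leaf 230) (.leaf 742)) (.node (.leaf 486) (.leaf 998)))))) (.node (.node (.node (.node (.node 
    (.leaf 22) (.leaf 534)) (.node (.leaf 278) (.leaf 790))) (.node (.node (.leaf 150) (.leaf 662)) 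
    (.node (.leaf 406) (.leaf 918)))) (.node (.node (.node (.leaf 86) (.leaf 598)) (.node (.leaf 
    342) (.leaf 854))) (.node (.node (.leaf 214) (.leaf 726)) (.node (.leaf 470) (.leaf 982))))) 
    (.node (.node (.node (.node (.leaf 54) (.leaf 566)) (.node (.leaf 310) (.leaf 822))) (.node 
    (.node (.leaf 182) (.leaf 694)) (.node (.leaf 438) (.leaf 950)))) (.node (.node (.node (.leaf 
    118) (.leaf 630)) (.node (.leaf 374) (.leaf 886))) (.node (.node (.leaf 246) (.leaf 758)) 
    (.node (.leaf 502) (.leaf 1014))))))) (.node (.node (.node (.node (.node (.node (.leaf 14) 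
    (.leaf 526)) (.node (.leaf 270) (.leaf 782))) (.node (.node (.leaf 142) (.leaf 654)) (.node 
    (.leaf 398) (.leaf 910)))) (.node (.node (.node (.leaf 78) (.leaf 590)) (.node (.leaf 334) 
    (.leaf 846))) (.node (.node (.leaf 206) (.leaf 718)) (.node (.leaf 462) (.leaf 974))))) (.node 
    (.node (.node (.node (.leaf 46) (.leaf 558)) (.node (.leaf 302) (.leaf 814))) (.node (.node 
    (.leaf 174) (.leaf 686)) (.node (.leaf 430) (.leaf 942)))) (.node (.node (.node (.leaf 110) 
    (.leaf 622)) (.node (.leaf 366) (.leaf 878))) (.node (.node (.leaf 238) (.leaf 750)) (.node 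
    (.leaf 494) (.leaf 1006)))))) (.node (.node (.node (.node (.node (.leaf 30) (.leaf 542)) (.node 
    (.leaf 286) (.leaf 798))) (.node (.node (.leaf 158) (.leaf 670)) (.node (.leaf 414) (.leaf 
    926)))) (.node (.node (.node (.leaf 94) (.leaf 606)) (.node (.leaf 350) (.leaf 862))) (.node 
    (.node (.leaf 222) (.leaf 734)) (.node (.leaf 478) (.leaf 990))))) (.node (.node (.node (.node 
    (.leaf 62) (.leaf 574)) (.node (.leaf 318) (.leaf 830))) (.node (.node (.leaf 190) (.leaf 702)) 
    (.node (.leaf 446) (.leaf 958)))) (.node (.node (.node (.leaf 126) (.leaf 638)) (.node (.leaf 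
    382) (.leaf 894))) (.node (.node (.leaf 254) (.leaf 766)) (.node (.leaf 510) (.leaf 
    1022))))))))))) (.node (.node (.node (.node (.node (.node (.node (.node (.node (.node (.leaf 
    256) (.leaf 768)) (.node (.leaf 0) (.leaf 512))) (.node (.node (.leaf 384) (.leaf 896)) (.node 
    (.leaf 128) (.leaf 640)))) (.node (.node (.node (.leaf 320) (.leaf 832)) (.node (.leaf 64) 
    (.leaf 576))) (.node (.node (.leaf 448) (.leaf 960)) (.node (.leaf 192) (.leaf 704))))) (.node 
    (.node (.node (.node (.leaf 288) (.leaf 800)) (.node (.leaf 32) (.leaf 544))) (.node (.node 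
    (.leaf 416) (.leaf 928)) (.node (.leaf 160) (.leaf 672)))) (.node (.node (.node (.leaf 352) 
    (.leaf 864)) (.node (.leaf 96) (.leaf 608))) (.node (.node (.leaf 480) (.leaf 992)) (.node 
    (.leaf 224) (.leaf 736)))))) (.node (.node (.node (.node (.node (.leaf 272) (.leaf 784)) (.node 
    (.leaf 16) (.leaf 528))) (.node (.node (.leaf 400) (.leaf 912)) (.node (.leaf 144) (.leaf 
    656)))) (.node (.node (.node (.leaf 336) (.leaf 848)) (.node (.leaf 80) (.leaf 592))) (.node 
    (.node (.leaf 464) (.leaf 976)) (.node (.leaf 208) (.leaf 720))))) (.node (.node (.node (.node 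
    (.leaf 304) (.leaf 816)) (.node (.leaf 48) (.leaf 560))) (.node (.node (.leaf 432) (.leaf 944)) 
    (.node (.leaf 176) (.leaf 688)))) (.node (.node (.node (.leaf 368) (.leaf 880)) (.node (.leaf 
    112) (.leaf 624))) (.node (.node (.leaf 496) (.leaf 1008)) (.node (.leaf 240) (.leaf 752))))))) 
    (.node (.node (.node (.node (.node (.node (.leaf 264) (.leaf 776)) (.node (.leaf 8) (.leaf 
    520))) (.node (.node (.leaf 392) (.leaf 904)) (.node (.leaf 136) (.leaf 648)))) (.node (.node 
    (.node (.leaf 328) (.leaf 840)) (.node (.leaf 72) (.leaf 584))) (.node (.node (.leaf 456) 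
    (.leaf 968)) (.node (.leaf 200) (.leaf 712))))) (.node (.node (.node (.node (.leaf 296) (.leaf 
    808)) (.node (.leaf 40) (.leaf 552))) (.node (.node (.leaf 424) (.leaf 936)) (.node (.leaf 168) 
    (.leaf 680)))) (.node (.node (.node (.leaf 360) (.leaf 872)) (.node (.leaf 104) (.leaf 616))) 
    (.node (.node (.leaf 488) (.leaf 1000)) (.node (.leaf 232) (.leaf 744)))))) (.node (.node 
    (.node (.node (.node (.leaf 280) (.leaf 792)) (.node (.leaf 24) (.leaf 536))) (.node (.node 
    (.leaf 408) (.leaf 920)) (.node (.leaf 152) (.leaf 664)))) (.node (.node (.node (.leaf 344) 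
    (.leaf 856)) (.node (.leaf 88) (.leaf 600))) (.node (.node (.leaf 472) (.leaf 984)) (.node 
    (.leaf 216) (.leaf 728))))) (.node (.node (.node (.node (.leaf 312) (.leaf 824)) (.node (.leaf 
    56) (.leaf 568))) (.node (.node (.leaf 440) (.leaf 952)) (.node (.leaf 184) (.leaf 696)))) 
    (.node (.node (.node (.leaf 376) (.leaf 888)) (.node (.leaf 120) (.leaf 632))) (.node (.node 
    (.leaf 504) (.leaf 1016)) (.node (.leaf 248) (.leaf 760)))))))) (.node (.node (.node (.node 
    (.node (.node (.node (.leaf 260) (.leaf 772)) (.node (.leaf 4) (.leaf 516))) (.node (.node 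
    (.leaf 388) (.leaf 900)) (.node (.leaf 132) (.leaf 644)))) (.node (.node (.node (.leaf 324) 
    (.leaf 836)) (.node (.leaf 68) (.leaf 580))) (.node (.node (.leaf 452) (.leaf 964)) (.node 
    (.leaf 196) (.leaf 708))))) (.node (.node (.node (.node (.leaf 292) (.leaf 804)) (.node (.leaf 
    36) (.leaf 548))) (.node (.node (.leaf 420) (.leaf 932)) (.node (.leaf 164) (.leaf 676)))) 
    (.node (.node (.node (.leaf 356) (.leaf 868)) (.node (.leaf 100) (.leaf 612))) (.node (.node 
    (.leaf 484) (.leaf 996)) (.node (.leaf 228) (.leaf 740)))))) (.node (.node (.node (.node (.node 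
    (.leaf 276) (.leaf 788)) (.node (.leaf 20) (.leaf 532))) (.node (.node (.leaf 404) (.leaf 916)) 
    (.node (.leaf 148) (.leaf 660)))) (.node (.node (.node (.leaf 340) (.leaf 852)) (.node (.leaf 
    84) (.leaf 596))) (.node (.node (.leaf 468) (.leaf 980)) (.node (.leaf 212) (.leaf 724))))) 
    (.node (.node (.node (.node (.leaf 308) (.leaf 820)) (.node (.leaf 52) (.leaf 564))) (.node 
    (.node (.leaf 436) (.leaf 948)) (.node (.leaf 180) (.leaf 692)))) (.node (.node (.node (.leaf 
    372) (.leaf 884)) (.node (.leaf 116) (.leaf 628))) (.node (.node (.leaf 500) (.leaf 1012)) 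
    (.node (.leaf 244) (.leaf 756))))))) (.node (.node (.node (.node (.node (.node (.leaf 268) 
    (.leaf 780)) (.node (.leaf 12) (.leaf 524))) (.node (.node (.leaf 396) (.leaf 908)) (.node 
    (.leaf 140) (.leaf 652)))) (.node (.node (.node (.leaf 332) (.leaf 844)) (.node (.leaf 76) 
    (.leaf 588))) (.node (.node (.leaf 460) (.leaf 972)) (.node (.leaf 204) (.leaf 716))))) (.node 
    (.node (.node (.node (.leaf 300) (.leaf 812)) (.node (.leaf 44) (.leaf 556))) (.node (.node 
    (.leaf 428) (.leaf 940)) (.node (.leaf 172) (.leaf 684)))) (.node (.node (.node (.leaf 364) 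
    (.leaf 876)) (.node (.leaf 108) (.leaf 620))) (.node (.node (.leaf 492) (.leaf 1004)) (.node 
    (.leaf 236) (.leaf 748)))))) (.node (.node (.node (.node (.node (.leaf 284) (.leaf 796)) (.node 
    (.leaf 28) (.leaf 540))) (.node (.node (.leaf 412) (.leaf 924)) (.node (.leaf 156) (.leaf 
    668)))) (.node (.node (.node (.leaf 348) (.leaf 860)) (.node (.leaf 92) (.leaf 604))) (.node 
    (.node (.leaf 476) (.leaf 988)) (.node (.leaf 220) (.leaf 732))))) (.node (.node (.node (.node 
    (.leaf 316) (.leaf 828)) (.node (.leaf 60) (.leaf 572))) (.node (.node (.leaf 444) (.leaf 956)) 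
    (.node (.leaf 188) (.leaf 700)))) (.node (.node (.node (.leaf 380) (.leaf 892)) (.node (.leaf 
    124) (.leaf 636))) (.node (.node (.leaf 508) (.leaf 1020)) (.node (.leaf 252) (.leaf 
    764))))))))) (.node (.node (.node (.node (.node (.node (.node (.node (.leaf 258) (.leaf 770)) 
    (.node (.leaf 2) (.leaf 514))) (.node (.node (.leaf 386) (.leaf 898)) (.node (.leaf 130) (.leaf 
    642)))) (.node (.node (.node (.leaf 322) (.leaf 834)) (.node (.leaf 66) (.leaf 578))) (.node 
    (.node (.leaf 450) (.leaf 962)) (.node (.leaf 194) (.leaf 706))))) (.node (.node (.node (.node 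
    (.leaf 290) (.leaf 802)) (.node (.leaf 34) (.leaf 546))) (.node (.node (.leaf 418) (.leaf 930)) 
    (.node (.leaf 162) (.leaf 674)))) (.node (.node (.node (.leaf 354) (.leaf 866)) (.node (.leaf 
    98) (.leaf 610))) (.node (.node (.leaf 482) (.leaf 994)) (.node (.leaf 226) (.leaf 738)))))) 
    (.node (.node (.node (.node (.node (.leaf 274) (.leaf 786)) (.node (.leaf 18) (.leaf 530))) 
    (.node (.node (.leaf 402) (.leaf 914)) (.node (.leaf 146) (.leaf 658)))) (.node (.node (.node 
    (.leaf 338) (.leaf 850)) (.node (.leaf 82) (.leaf 594))) (.node (.node (.leaf 466) (.leaf 978)) 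
    (.node (.leaf 210) (.leaf 722))))) (.node (.node (.node (.node (.leaf 306) (.leaf 818)) (.node 
    (.leaf 50) (.leaf 562))) (.node (.node (.leaf 434) (.leaf 946)) (.node (.leaf 178) (.leaf 
    690)))) (.node (.node (.node (.leaf 370) (.leaf 882)) (.node (.leaf 114) (.leaf 626))) (.node 
    (.node (.leaf 498) (.leaf 1010)) (.node (.leaf 242) (.leaf 754))))))) (.node (.node (.node 
    (.node (.node (.node (.leaf 266) (.leaf 778)) (.node (.leaf 10) (.leaf 522))) (.node (.node 
    (.leaf 394) (.leaf 906)) (.node (.leaf 138) (.leaf 650)))) (.node (.node (.node (.leaf 330) 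
    (.leaf 842)) (.node (.leaf 74) (.leaf 586))) (.node (.node (.leaf 458) (.leaf 970)) (.node 
    (.leaf 202) (.leaf 714))))) (.node (.node (.node (.node (.leaf 298) (.leaf 810)) (.node (.leaf 
    42) (.leaf 554))) (.node (.node (.leaf 426) (.leaf 938)) (.node (.leaf 170) (.leaf 682)))) 
    (.node (.node (.node (.leaf 362) (.leaf 874)) (.node (.leaf 106) (.leaf 618))) (.node (.node 
    (.leaf 490) (.leaf 1002)) (.node (.leaf 234) (.leaf 746)))))) (.node (.node (.node (.node 
    (.node (.leaf 282) (.leaf 794)) (.node (.leaf 26) (.leaf 538))) (.node (.node (.leaf 410) 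
    (.leaf 922)) (.node (.leaf 154) (.leaf 666)))) (.node (.node (.node (.leaf 346) (.leaf 858)) 
    (.node (.leaf 90) (.leaf 602))) (.node (.node (.leaf 474) (.leaf 986)) (.node (.leaf 218) 
    (.leaf 730))))) (.node (.node (.node (.node (.leaf 314) (.leaf 826)) (.node (.leaf 58) (.leaf 
    570))) (.node (.node (.leaf 442) (.leaf 954)) (.node (.leaf 186) (.leaf 698)))) (.node (.node 
    (.node (.leaf 378) (.leaf 890)) (.node (.leaf 122) (.leaf 634))) (.node (.node (.leaf 506) 
    (.leaf 1018)) (.node (.leaf 250) (.leaf 762)))))))) (.node (.node (.node (.node (.node (.node 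
    (.node (.leaf 262) (.leaf 774)) (.node (.leaf 6) (.leaf 518))) (.node (.node (.leaf 390) (.leaf 
    902)) (.node (.leaf 134) (.leaf 646)))) (.node (.node (.node (.leaf 326) (.leaf 838)) (.node 
    (.leaf 70) (.leaf 582))) (.node (.node (.leaf 454) (.leaf 966)) (.node (.leaf 198) (.leaf 
    710))))) (.node (.node (.node (.node (.leaf 294) (.leaf 806)) (.node (.leaf 38) (.leaf 550))) 
    (.node (.node (.leaf 422) (.leaf 934)) (.node (.leaf 166) (.leaf 678)))) (.node (.node (.node 
    (.leaf 358) (.leaf 870)) (.node (.leaf 102) (.leaf 614))) (.node (.node (.leaf 486) (.leaf 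
    998)) (.node (.leaf 230) (.leaf 742)))))) (.node (.node (.node (.node (.node (.leaf 278) (.leaf 
    790)) (.node (.leaf 22) (.leaf 534))) (.node (.node (.leaf 406) (.leaf 918)) (.node (.leaf 150) 
    (.leaf 662)))) (.node (.node (.node (.leaf 342) (.leaf 854)) (.node (.leaf 86) (.leaf 598))) 
    (.node (.node (.leaf 470) (.leaf 982)) (.node (.leaf 214) (.leaf 726))))) (.node (.node (.node 
    (.node (.leaf 310) (.leaf 822)) (.node (.leaf 54) (.leaf 566))) (.node (.node (.leaf 438) 
    (.leaf 950)) (.node (.leaf 182) (.leaf 694)))) (.node (.node (.node (.leaf 374) (.leaf 886)) 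
    (.node (.leaf 118) (.leaf 630))) (.node (.node (.leaf 502) (.leaf 1014)) (.node (.leaf 246) 
    (.leaf 758))))))) (.node (.node (.node (.node (.node (.node (.leaf 270) (.leaf 782)) (.node 
    (.leaf 14) (.leaf 526))) (.node (.node (.leaf 398) (.leaf 910)) (.node (.leaf 142) (.leaf 
    654)))) (.node (.node (.node (.leaf 334) (.leaf 846)) (.node (.leaf 78) (.leaf 590))) (.node 
    (.node (.leaf 462) (.leaf 974)) (.node (.leaf 206) (.leaf 718))))) (.node (.node (.node (.node 
    (.leaf 302) (.leaf 814)) (.node (.leaf 46) (.leaf 558))) (.node (.node (.leaf 430) (.leaf 942)) 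
    (.node (.leaf 174) (.leaf 686)))) (.node (.node (.node (.leaf 366) (.leaf 878)) (.node (.leaf 
    110) (.leaf 622))) (.node (.node (.leaf 494) (.leaf 1006)) (.node (.leaf 238) (.leaf 750)))))) 
    (.node (.node (.node (.node (.node (.leaf 286) (.leaf 798)) (.node (.leaf 30) (.leaf 542))) 
    (.node (.node (.leaf 414) (.leaf 926)) (.node (.leaf 158) (.leaf 670)))) (.node (.node (.node 
    (.leaf 350) (.leaf 862)) (.node (.leaf 94) (.leaf 606))) (.node (.node (.leaf 478) (.leaf 990)) 
    (.node (.leaf 222) (.leaf 734))))) (.node (.node (.node (.node (.leaf 318) (.leaf 830)) (.node 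
    (.leaf 62) (.leaf 574))) (.node (.node (.leaf 446) (.leaf 958)) (.node (.leaf 190) (.leaf 
    702)))) (.node (.node (.node (.leaf 382) (.leaf 894)) (.node (.leaf 126) (.leaf 638))) (.node 
    (.node (.leaf 510) (.leaf 1022)) (.node (.leaf 254) (.leaf 766)))))))))) (.node (.node (.node 
    (.node (.node (.node (.node (.node (.node (.leaf 769) (.leaf 257)) (.node (.leaf 513) (.leaf 
    1))) (.node (.node (.leaf 897) (.leaf 385)) (.node (.leaf 641) (.leaf 129)))) (.node (.node 
    (.node (.leaf 833) (.leaf 321)) (.node (.leaf 577) (.leaf 65))) (.node (.node (.leaf 961) 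
    (.leaf 449)) (.node (.leaf 705) (.leaf 193))))) (.node (.node (.node (.node (.leaf 801) (.leaf 
    289)) (.node (.leaf 545) (.leaf 33))) (.node (.node (.leaf 929) (.leaf 417)) (.node (.leaf 673) 
    (.leaf 161)))) (.node (.node (.node (.leaf 865) (.leaf 353)) (.node (.leaf 609) (.leaf 97))) 
    (.node (.node (.leaf 993) (.leaf 481)) (.node (.leaf 737) (.leaf 225)))))) (.node (.node (.node 
    (.node (.node (.leaf 785) (.leaf 273)) (.node (.leaf 529) (.leaf 17))) (.node (.node (.leaf 
    913) (.leaf 401)) (.node (.leaf 657) (.leaf 145)))) (.node (.node (.node (.leaf 849) (.leaf 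
    337)) (.node (.leaf 593) (.leaf 81))) (.node (.node (.leaf 977) (.leaf 465)) (.node (.leaf 721) 
    (.leaf 209))))) (.node (.node (.node (.node (.leaf 817) (.leaf 305)) (.node (.leaf 561) (.leaf 
    49))) (.node (.node (.leaf 945) (.leaf 433)) (.node (.leaf 689) (.leaf 177)))) (.node (.node 
    (.node (.leaf 881) (.leaf 369)) (.node (.leaf 625) (.leaf 113))) (.node (.node (.leaf 1009) 
    (.leaf 497)) (.node (.leaf 753) (.leaf 241))))))) (.node (.node (.node (.node (.node (.node 
    (.leaf 777) (.leaf 265)) (.node (.leaf 521) (.leaf 9))) (.node (.node (.leaf 905) (.leaf 393)) 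
    (.node (.leaf 649) (.leaf 137)))) (.node (.node (.node (.leaf 841) (.leaf 329)) (.node (.leaf 
    585) (.leaf 73))) (.node (.node (.leaf 969) (.leaf 457)) (.node (.leaf 713) (.leaf 201))))) 
    (.node (.node (.node (.node (.leaf 809) (.leaf 297)) (.node (.leaf 553) (.leaf 41))) (.node 
    (.node (.leaf 937) (.leaf 425)) (.node (.leaf 681) (.leaf 169)))) (.node (.node (.node (.leaf 
    873) (.leaf 361)) (.node (.leaf 617) (.leaf 105))) (.node (.node (.leaf 1001) (.leaf 489)) 
    (.node (.leaf 745) (.leaf 233)))))) (.node (.node (.node (.node (.node (.leaf 793) (.leaf 281)) 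
    (.node (.leaf 537) (.leaf 25))) (.node (.node (.leaf 921) (.leaf 409)) (.node (.leaf 665) 
    (.leaf 153)))) (.node (.node (.node (.leaf 857) (.leaf 345)) (.node (.leaf 601) (.leaf 89))) 
    (.node (.node (.leaf 985) (.leaf 473)) (.node (.leaf 729) (.leaf 217))))) (.node (.node (.node 
    (.node (.leaf 825) (.leaf 313)) (.node (.leaf 569) (.leaf 57))) (.node (.node (.leaf 953) 
    (.leaf 441)) (.node (.leaf 697) (.leaf 185)))) (.node (.node (.node (.leaf 889) (.leaf 377)) 
    (.node (.leaf 633) (.leaf 121))) (.node (.node (.leaf 1017) (.leaf 505)) (.node (.leaf 761) 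
    (.leaf 249)))))))) (.node (.node (.node (.node (.node (.node (.node (.leaf 773) (.leaf 261)) 
    (.node (.leaf 517) (.leaf 5))) (.node (.node (.leaf 901) (.leaf 389)) (.node (.leaf 645) (.leaf 
    133)))) (.node (.node (.node (.leaf 837) (.leaf 325)) (.node (.leaf 581) (.leaf 69))) (.node 
    (.node (.leaf 965) (.leaf 453)) (.node (.leaf 709) (.leaf 197))))) (.node (.node (.node (.node 
    (.leaf 805) (.leaf 293)) (.node (.leaf 549) (.leaf 37))) (.node (.node (.leaf 933) (.leaf 421)) 
    (.node (.leaf 677) (.leaf 165)))) (.node (.node (.node (.leaf 869) (.leaf 357)) (.node (.leaf 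
    613) (.leaf 101))) (.node (.node (.leaf 997) (.leaf 485)) (.node (.leaf 741) (.leaf 229)))))) 
    (.node (.node (.node (.node (.node (.leaf 789) (.leaf 277)) (.node (.leaf 533) (.leaf 21))) 
    (.node (.node (.leaf 917) (.leaf 405)) (.node (.leaf 661) (.leaf 149)))) (.node (.node (.node 
    (.leaf 853) (.leaf 341)) (.node (.leaf 597) (.leaf 85))) (.node (.node (.leaf 981) (.leaf 469)) 
    (.node (.leaf 725) (.leaf 213))))) (.node (.node (.node (.node (.leaf 821) (.leaf 309)) (.node 
    (.leaf 565) (.leaf 53))) (.node (.node (.leaf 949) (.leaf 437)) (.node (.leaf 693) (.leaf 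
    181)))) (.node (.node (.node (.leaf 885) (.leaf 373)) (.node (.leaf 629) (.leaf 117))) (.node 
    (.node (.leaf 1013) (.leaf 501)) (.node (.leaf 757) (.leaf 245))))))) (.node (.node (.node 
    (.node (.node (.node (.leaf 781) (.leaf 269)) (.node (.leaf 525) (.leaf 13))) (.node (.node 
    (.leaf 909) (.leaf 397)) (.node (.leaf 653) (.leaf 141)))) (.node (.node (.node (.leaf 845) 
    (.leaf 333)) (.node (.leaf 589) (.leaf 77))) (.node (.node (.leaf 973) (.leaf 461)) (.node 
    (.leaf 717) (.leaf 205))))) (.node (.node (.node (.node (.leaf 813) (.leaf 301)) (.node (.leaf 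
    557) (.leaf 45))) (.node (.node (.leaf 941) (.leaf 429)) (.node (.leaf 685) (.leaf 173)))) 
    (.node (.node (.node (.leaf 877) (.leaf 365)) (.node (.leaf 621) (.leaf 109))) (.node (.node 
    (.leaf 1005) (.leaf 493)) (.node (.leaf 749) (.leaf 237)))))) (.node (.node (.node (.node 
    (.node (.leaf 797) (.leaf 285)) (.node (.leaf 541) (.leaf 29))) (.node (.node (.leaf 925) 
    (.leaf 413)) (.node (.leaf 669) (.leaf 157)))) (.node (.node (.node (.leaf 861) (.leaf 349)) 
    (.node (.leaf 605) (.leaf 93))) (.node (.node (.leaf 989) (.leaf 477)) (.node (.leaf 733) 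
    (.leaf 221))))) (.node (.node (.node (.node (.leaf 829) (.leaf 317)) (.node (.leaf 573) (.leaf 
    61))) (.node (.node (.leaf 957) (.leaf 445)) (.node (.leaf 701) (.leaf 189)))) (.node (.node 
    (.node (.leaf 893) (.leaf 381)) (.node (.leaf 637) (.leaf 125))) (.node (.node (.leaf 1021) 
    (.leaf 509)) (.node (.leaf 765) (.leaf 253))))))))) (.node (.node (.node (.node (.node (.node 
    (.node (.node (.leaf 771) (.leaf 259)) (.node (.leaf 515) (.leaf 3))) (.node (.node (.leaf 899) 
    (.leaf 387)) (.node (.leaf 643) (.leaf 131)))) (.node (.node (.node (.leaf 835) (.leaf 323)) 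
    (.node (.leaf 579) (.leaf 67))) (.node (.node (.leaf 963) (.leaf 451)) (.node (.leaf 707) 
    (.leaf 195))))) (.node (.node (.node (.node (.leaf 803) (.leaf 291)) (.node (.leaf 547) (.leaf 
    35))) (.node (.node (.leaf 931) (.leaf 419)) (.node (.leaf 675) (.leaf 163)))) (.node (.node 
    (.node (.leaf 867) (.leaf 355)) (.node (.leaf 611) (.leaf 99))) (.node (.node (.leaf 995) 
    (.leaf 483)) (.node (.leaf 739) (.leaf 227)))))) (.node (.node (.node (.node (.node (.leaf 787) 
    (.leaf 275)) (.node (.leaf 531) (.leaf 19))) (.node (.node (.leaf 915) (.leaf 403)) (.node 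
    (.leaf 659) (.leaf 147)))) (.node (.node (.node (.leaf 851) (.leaf 339)) (.node (.leaf 595) 
    (.leaf 83))) (.node (.node (.leaf 979) (.leaf 467)) (.node (.leaf 723) (.leaf 211))))) (.node 
    (.node (.node (.node (.leaf 819) (.leaf 307)) (.node (.leaf 563) (.leaf 51))) (.node (.node 
    (.leaf 947) (.leaf 435)) (.node (.leaf 691) (.leaf 179)))) (.node (.node (.node (.leaf 883) 
    (.leaf 371)) (.node (.leaf 627) (.leaf 115))) (.node (.node (.leaf 1011) (.leaf 499)) (.node 
    (.leaf 755) (.leaf 243))))))) (.node (.node (.node (.node (.node (.node (.leaf 779) (.leaf 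
    267)) (.node (.leaf 523) (.leaf 11))) (.node (.node (.leaf 907) (.leaf 395)) (.node (.leaf 651) 
    (.leaf 139)))) (.node (.node (.node (.leaf 843) (.leaf 331)) (.node (.leaf 587) (.leaf 75))) 
    (.node (.node (.leaf 971) (.leaf 459)) (.node (.leaf 715) (.leaf 203))))) (.node (.node (.node 
    (.node (.leaf 811) (.leaf 299)) (.node (.leaf 555) (.leaf 43))) (.node (.node (.leaf 939) 
    (.leaf 427)) (.node (.leaf 683) (.leaf 171)))) (.node (.node (.node (.leaf 875) (.leaf 363)) 
    (.node (.leaf 619) (.leaf 107))) (.node (.node (.leaf 1003) (.leaf 491)) (.node (.leaf 747) 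
    (.leaf 235)))))) (.node (.node (.node (.node (.node (.leaf 795) (.leaf 283)) (.node (.leaf 539) 
    (.leaf 27))) (.node (.node (.leaf 923) (.leaf 411)) (.node (.leaf 667) (.leaf 155)))) (.node 
    (.node (.node (.leaf 859) (.leaf 347)) (.node (.leaf 603) (.leaf 91))) (.node (.node (.leaf 
    987) (.leaf 475)) (.node (.leaf 731) (.leaf 219))))) (.node (.node (.node (.node (.leaf 827) 
    (.leaf 315)) (.node (.leaf 571) (.leaf 59))) (.node (.node (.leaf 955) (.leaf 443)) (.node 
    (.leaf 699) (.leaf 187)))) (.node (.node (.node (.leaf 891) (.leaf 379)) (.node (.leaf 635) 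
    (.leaf 123))) (.node (.node (.leaf 1019) (.leaf 507)) (.node (.leaf 763) (.leaf 251)))))))) 
    (.node (.node (.node (.node (.node (.node (.node (.leaf 775) (.leaf 263)) (.node (.leaf 519) 
    (.leaf 7))) (.node (.node (.leaf 903) (.leaf 391)) (.node (.leaf 647) (.leaf 135)))) (.node 
    (.node (.node (.leaf 839) (.leaf 327)) (.node (.leaf 583) (.leaf 71))) (.node (.node (.leaf 
    967) (.leaf 455)) (.node (.leaf 711) (.leaf 199))))) (.node (.node (.node (.node (.leaf 807) 
    (.leaf 295)) (.node (.leaf 551) (.leaf 39))) (.node (.node (.leaf 935) (.leaf 423)) (.node 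
    (.leaf 679) (.leaf 167)))) (.node (.node (.node (.leaf 871) (.leaf 359)) (.node (.leaf 615) 
    (.leaf 103))) (.node (.node (.leaf 999) (.leaf 487)) (.node (.leaf 743) (.leaf 231)))))) (.node 
    (.node (.node (.node (.node (.leaf 791) (.leaf 279)) (.node (.leaf 535) (.leaf 23))) (.node 
    (.node (.leaf 919) (.leaf 407)) (.node (.leaf 663) (.leaf 151)))) (.node (.node (.node (.leaf 
    855) (.leaf 343)) (.node (.leaf 599) (.leaf 87))) (.node (.node (.leaf 983) (.leaf 471)) (.node 
    (.leaf 727) (.leaf 215))))) (.node (.node (.node (.node (.leaf 823) (.leaf 311)) (.node (.leaf 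
    567) (.leaf 55))) (.node (.node (.leaf 951) (.leaf 439)) (.node (.leaf 695) (.leaf 183)))) 
    (.node (.node (.node (.leaf 887) (.leaf 375)) (.node (.leaf 631) (.leaf 119))) (.node (.node 
    (.leaf 1015) (.leaf 503)) (.node (.leaf 759) (.leaf 247))))))) (.node (.node (.node (.node 
    (.node (.node (.leaf 783) (.leaf 271)) (.node (.leaf 527) (.leaf 15))) (.node (.node (.leaf 
    911) (.leaf 399)) (.node (.leaf 655) (.leaf 143)))) (.node (.node (.node (.leaf 847) (.leaf 
    335)) (.node (.leaf 591) (.leaf 79))) (.node (.node (.leaf 975) (.leaf 463)) (.node (.leaf 719) 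
    (.leaf 207))))) (.node (.node (.node (.node (.leaf 815) (.leaf 303)) (.node (.leaf 559) (.leaf 
    47))) (.node (.node (.leaf 943) (.leaf 431)) (.node (.leaf 687) (.leaf 175)))) (.node (.node 
    (.node (.leaf 879) (.leaf 367)) (.node (.leaf 623) (.leaf 111))) (.node (.node (.leaf 1007) 
    (.leaf 495)) (.node (.leaf 751) (.leaf 239)))))) (.node (.node (.node (.node (.node (.leaf 799) 
    (.leaf 287)) (.node (.leaf 543) (.leaf 31))) (.node (.node (.leaf 927) (.leaf 415)) (.node 
    (.leaf 671) (.leaf 159)))) (.node (.node (.node (.leaf 863) (.leaf 351)) (.node (.leaf 607) 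
    (.leaf 95))) (.node (.node (.leaf 991) (.leaf 479)) (.node (.leaf 735) (.leaf 223))))) (.node 
    (.node (.node (.node (.leaf 831) (.leaf 319)) (.node (.leaf 575) (.leaf 63))) (.node (.node 
    (.leaf 959) (.leaf 447)) (.node (.leaf 703) (.leaf 191)))) (.node (.node (.node (.leaf 895) 
    (.leaf 383)) (.node (.leaf 639) (.leaf 127))) (.node (.node (.leaf 1023) (.leaf 511)) (.node 
    (.leaf 767) (.leaf 255)))))))))))) (.node (.node (.node (.node (.node (.node (.node (.node 
    (.node (.node (.node (.leaf 16) (.leaf 528)) (.node (.leaf 272) (.leaf 784))) (.node (.node 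
    (.leaf 144) (.leaf 656)) (.node (.leaf 400) (.leaf 912)))) (.node (.node (.node (.leaf 80) 
    (.leaf 592)) (.node (.leaf 336) (.leaf 848))) (.node (.node (.leaf 208) (.leaf 720)) (.node 
    (.leaf 464) (.leaf 976))))) (.node (.node (.node (.node (.leaf 48) (.leaf 560)) (.node (.leaf 
    304) (.leaf 816))) (.node (.node (.leaf 176) (.leaf 688)) (.node (.leaf 432) (.leaf 944)))) 
    (.node (.node (.node (.leaf 112) (.leaf 624)) (.node (.leaf 368) (.leaf 880))) (.node (.node 
    (.leaf 240) (.leaf 752)) (.node (.leaf 496) (.leaf 1008)))))) (.node (.node (.node (.node 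
    (.node (.leaf 0) (.leaf 512)) (.node (.leaf 256) (.leaf 768))) (.node (.node (.leaf 128) (.leaf 
    640)) (.node (.leaf 384) (.leaf 896)))) (.node (.node (.node (.leaf 64) (.leaf 576)) (.node 
    (.leaf 320) (.leaf 832))) (.node (.node (.leaf 192) (.leaf 704)) (.node (.leaf 448) (.leaf 
    960))))) (.node (.node (.node (.node (.leaf 32) (.leaf 544)) (.node (.leaf 288) (.leaf 800))) 
    (.node (.node (.leaf 160) (.leaf 672)) (.node (.leaf 416) (.leaf 928)))) (.node (.node (.node 
    (.leaf 96) (.leaf 608)) (.node (.leaf 352) (.leaf 864))) (.node (.node (.leaf 224) (.leaf 736)) 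
    (.node (.leaf 480) (.leaf 992))))))) (.node (.node (.node (.node (.node (.node (.leaf 152) 
    (.leaf 664)) (.node (.leaf 408) (.leaf 920))) (.node (.node (.leaf 24) (.leaf 536)) (.node 
    (.leaf 280) (.leaf 792)))) (.node (.node (.node (.leaf 216) (.leaf 728)) (.node (.leaf 472) 
    (.leaf 984))) (.node (.node (.leaf 88) (.leaf 600)) (.node (.leaf 344) (.leaf 856))))) (.node 
    (.node (.node (.node (.leaf 184) (.leaf 696)) (.node (.leaf 440) (.leaf 952))) (.node (.node 
    (.leaf 56) (.leaf 568)) (.node (.leaf 312) (.leaf 824)))) (.node (.node (.node (.leaf 248) 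
    (.leaf 760)) (.node (.leaf 504) (.leaf 1016))) (.node (.node (.leaf 120) (.leaf 632)) (.node 
    (.leaf 376) (.leaf 888)))))) (.node (.node (.node (.node (.node (.leaf 136) (.leaf 648)) (.node 
    (.leaf 392) (.leaf 904))) (.node (.node (.leaf 8) (.leaf 520)) (.node (.leaf 264) (.leaf 
    776)))) (.node (.node (.node (.leaf 200) (.leaf 712)) (.node (.leaf 456) (.leaf 968))) (.node 
    (.node (.leaf 72) (.leaf 584)) (.node (.leaf 328) (.leaf 840))))) (.node (.node (.node (.node 
    (.leaf 168) (.leaf 680)) (.node (.leaf 424) (.leaf 936))) (.node (.node (.leaf 40) (.leaf 552)) 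
    (.node (.leaf 296) (.leaf 808)))) (.node (.node (.node (.leaf 232) (.leaf 744)) (.node (.leaf 
    488) (.leaf 1000))) (.node (.node (.leaf 104) (.leaf 616)) (.node (.leaf 360) (.leaf 
    872)))))))) (.node (.node (.node (.node (.node (.node (.node (.leaf 20) (.leaf 532)) (.node 
    (.leaf 276) (.leaf 788))) (.node (.node (.leaf 148) (.leaf 660)) (.node (.leaf 404) (.leaf 
    916)))) (.node (.node (.node (.leaf 84) (.leaf 596)) (.node (.leaf 340) (.leaf 852))) (.node 
    (.node (.leaf 212) (.leaf 724)) (.node (.leaf 468) (.leaf 980))))) (.node (.node (.node (.node 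
    (.leaf 52) (.leaf 564)) (.node (.leaf 308) (.leaf 820))) (.node (.node (.leaf 180) (.leaf 692)) 
    (.node (.leaf 436) (.leaf 948)))) (.node (.node (.node (.leaf 116) (.leaf 628)) (.node (.leaf 
    372) (.leaf 884))) (.node (.node (.leaf 244) (.leaf 756)) (.node (.leaf 500) (.leaf 1012)))))) 
    (.node (.node (.node (.node (.node (.leaf 4) (.leaf 516)) (.node (.leaf 260) (.leaf 772))) 
    (.node (.node (.leaf 132) (.leaf 644)) (.node (.leaf 388) (.leaf 900)))) (.node (.node (.node 
    (.leaf 68) (.leaf 580)) (.node (.leaf 324) (.leaf 836))) (.node (.node (.leaf 196) (.leaf 708)) 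
    (.node (.leaf 452) (.leaf 964))))) (.node (.node (.node (.node (.leaf 36) (.leaf 548)) (.node 
    (.leaf 292) (.leaf 804))) (.node (.node (.leaf 164) (.leaf 676)) (.node (.leaf 420) (.leaf 
    932)))) (.node (.node (.node (.leaf 100) (.leaf 612)) (.node (.leaf 356) (.leaf 868))) (.node 
    (.node (.leaf 228) (.leaf 740)) (.node (.leaf 484) (.leaf 996))))))) (.node (.node (.node 
    (.node (.node (.node (.leaf 156) (.leaf 668)) (.node (.leaf 412) (.leaf 924))) (.node (.node 
    (.leaf 28) (.leaf 540)) (.node (.leaf 284) (.leaf 796)))) (.node (.node (.node (.leaf 220) 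
    (.leaf 732)) (.node (.leaf 476) (.leaf 988))) (.node (.node (.leaf 92) (.leaf 604)) (.node 
    (.leaf 348) (.leaf 860))))) (.node (.node (.node (.node (.leaf 188) (.leaf 700)) (.node (.leaf 
    444) (.leaf 956))) (.node (.node (.leaf 60) (.leaf 572)) (.node (.leaf 316) (.leaf 828)))) 
    (.node (.node (.node (.leaf 252) (.leaf 764)) (.node (.leaf 508) (.leaf 1020))) (.node (.node 
    (.leaf 124) (.leaf 636)) (.node (.leaf 380) (.leaf 892)))))) (.node (.node (.node (.node (.node 
    (.leaf 140) (.leaf 652)) (.node (.leaf 396) (.leaf 908))) (.node (.node (.leaf 12) (.leaf 524)) 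
    (.node (.leaf 268) (.leaf 780)))) (.node (.node (.node (.leaf 204) (.leaf 716)) (.node (.leaf 
    460) (.leaf 972))) (.node (.node (.leaf 76) (.leaf 588)) (.node (.leaf 332) (.leaf 844))))) 
    (.node (.node (.node (.node (.leaf 172) (.leaf 684)) (.node (.leaf 428) (.leaf 940))) (.node 
    (.node (.leaf 44) (.leaf 556)) (.node (.leaf 300) (.leaf 812)))) (.node (.node (.node (.leaf 
    236) (.leaf 748)) (.node (.leaf 492) (.leaf 1004))) (.node (.node (.leaf 108) (.leaf 620)) 
    (.node (.leaf 364) (.leaf 876))))))))) (.node (.node (.node (.node (.node (.node (.node (.node 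
    (.leaf 18) (.leaf 530)) (.node (.leaf 274) (.leaf 786))) (.node (.node (.leaf 146) (.leaf 658)) 
    (.node (.leaf 402) (.leaf 914)))) (.node (.node (.node (.leaf 82) (.leaf 594)) (.node (.leaf 
    338) (.leaf 850))) (.node (.node (.leaf 210) (.leaf 722)) (.node (.leaf 466) (.leaf 978))))) 
    (.node (.node (.node (.node (.leaf 50) (.leaf 562)) (.node (.leaf 306) (.leaf 818))) (.node 
    (.node (.leaf 178) (.leaf 690)) (.node (.leaf 434) (.leaf 946)))) (.node (.node (.node (.leaf 
    114) (.leaf 626)) (.node (.leaf 370) (.leaf 882))) (.node (.node (.leaf 242) (.leaf 754)) 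
    (.node (.leaf 498) (.leaf 1010)))))) (.node (.node (.node (.node (.node (.leaf 2) (.leaf 514)) 
    (.node (.leaf 258) (.leaf 770))) (.node (.node (.leaf 130) (.leaf 642)) (.node (.leaf 386) 
    (.leaf 898)))) (.node (.node (.node (.leaf 66) (.leaf 578)) (.node (.leaf 322) (.leaf 834))) 
    (.node (.node (.leaf 194) (.leaf 706)) (.node (.leaf 450) (.leaf 962))))) (.node (.node (.node 
    (.node (.leaf 34) (.leaf 546)) (.node (.leaf 290) (.leaf 802))) (.node (.node (.leaf 162) 
    (.leaf 674)) (.node (.leaf 418) (.leaf 930)))) (.node (.node (.node (.leaf 98) (.leaf 610)) 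
    (.node (.leaf 354) (.leaf 866))) (.node (.node (.leaf 226) (.leaf 738)) (.node (.leaf 482) 
    (.leaf 994))))))) (.node (.node (.node (.node (.node (.node (.leaf 154) (.leaf 666)) (.node 
    (.leaf 410) (.leaf 922))) (.node (.node (.leaf 26) (.leaf 538)) (.node (.leaf 282) (.leaf 
    794)))) (.node (.node (.node (.leaf 218) (.leaf 730)) (.node (.leaf 474) (.leaf 986))) (.node 
    (.node (.leaf 90) (.leaf 602)) (.node (.leaf 346) (.leaf 858))))) (.node (.node (.node (.node 
    (.leaf 186) (.leaf 698)) (.node (.leaf 442) (.leaf 954))) (.node (.node (.leaf 58) (.leaf 570)) 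
    (.node (.leaf 314) (.leaf 826)))) (.node (.node (.node (.leaf 250) (.leaf 762)) (.node (.leaf 
    506) (.leaf 1018))) (.node (.node (.leaf 122) (.leaf 634)) (.node (.leaf 378) (.leaf 890)))))) 
    (.node (.node (.node (.node (.node (.leaf 138) (.leaf 650)) (.node (.leaf 394) (.leaf 906))) 
    (.node (.node (.leaf 10) (.leaf 522)) (.node (.leaf 266) (.leaf 778)))) (.node (.node (.node 
    (.leaf 202) (.leaf 714)) (.node (.leaf 458) (.leaf 970))) (.node (.node (.leaf 74) (.leaf 586)) 
    (.node (.leaf 330) (.leaf 842))))) (.node (.node (.node (.node (.leaf 170) (.leaf 682)) (.node 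
    (.leaf 426) (.leaf 938))) (.node (.node (.leaf 42) (.leaf 554)) (.node (.leaf 298) (.leaf 
    810)))) (.node (.node (.node (.leaf 234) (.leaf 746)) (.node (.leaf 490) (.leaf 1002))) (.node 
    (.node (.leaf 106) (.leaf 618)) (.node (.leaf 362) (.leaf 874)))))))) (.node (.node (.node 
    (.node (.node (.node (.node (.leaf 22) (.leaf 534)) (.node (.leaf 278) (.leaf 790))) (.node 
    (.node (.leaf 150) (.leaf 662)) (.node (.leaf 406) (.leaf 918)))) (.node (.node (.node (.leaf 
    86) (.leaf 598)) (.node (.leaf 342) (.leaf 854))) (.node (.node (.leaf 214) (.leaf 726)) (.node 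
    (.leaf 470) (.leaf 982))))) (.node (.node (.node (.node (.leaf 54) (.leaf 566)) (.node (.leaf 
    310) (.leaf 822))) (.node (.node (.leaf 182) (.leaf 694)) (.node (.leaf 438) (.leaf 950)))) 
    (.node (.node (.node (.leaf 118) (.leaf 630)) (.node (.leaf 374) (.leaf 886))) (.node (.node 
    (.leaf 246) (.leaf 758)) (.node (.leaf 502) (.leaf 1014)))))) (.node (.node (.node (.node 
    (.node (.leaf 6) (.leaf 518)) (.node (.leaf 262) (.leaf 774))) (.node (.node (.leaf 134) (.leaf 
    646)) (.node (.leaf 390) (.leaf 902)))) (.node (.node (.node (.leaf 70) (.leaf 582)) (.node 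
    (.leaf 326) (.leaf 838))) (.node (.node (.leaf 198) (.leaf 710)) (.node (.leaf 454) (.leaf 
    966))))) (.node (.node (.node (.node (.leaf 38) (.leaf 550)) (.node (.leaf 294) (.leaf 806))) 
    (.node (.node (.leaf 166) (.leaf 678)) (.node (.leaf 422) (.leaf 934)))) (.node (.node (.node 
    (.leaf 102) (.leaf 614)) (.node (.leaf 358) (.leaf 870))) (.node (.node (.leaf 230) (.leaf 
    742)) (.node (.leaf 486) (.leaf 998))))))) (.node (.node (.node (.node (.node (.node (.leaf 
    158) (.leaf 670)) (.node (.leaf 414) (.leaf 926))) (.node (.node (.leaf 30) (.leaf 542)) (.node 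
    (.leaf 286) (.leaf 798)))) (.node (.node (.node (.leaf 222) (.leaf 734)) (.node (.leaf 478) 
    (.leaf 990))) (.node (.node (.leaf 94) (.leaf 606)) (.node (.leaf 350) (.leaf 862))))) (.node 
    (.node (.node (.node (.leaf 190) (.leaf 702)) (.node (.leaf 446) (.leaf 958))) (.node (.node 
    (.leaf 62) (.leaf 574)) (.node (.leaf 318) (.leaf 830)))) (.node (.node (.node (.leaf 254) 
    (.leaf 766)) (.node (.leaf 510) (.leaf 1022))) (.node (.node (.leaf 126) (.leaf 638)) (.node 
    (.leaf 382) (.leaf 894)))))) (.node (.node (.node (.node (.node (.leaf 142) (.leaf 654)) (.node 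
    (.leaf 398) (.leaf 910))) (.node (.node (.leaf 14) (.leaf 526)) (.node (.leaf 270) (.leaf 
    782)))) (.node (.node (.node (.leaf 206) (.leaf 718)) (.node (.leaf 462) (.leaf 974))) (.node 
    (.node (.leaf 78) (.leaf 590)) (.node (.leaf 334) (.leaf 846))))) (.node (.node (.node (.node 
    (.leaf 174) (.leaf 686)) (.node (.leaf 430) (.leaf 942))) (.node (.node (.leaf 46) (.leaf 558)) 
    (.node (.leaf 302) (.leaf 814)))) (.node (.node (.node (.leaf 238) (.leaf 750)) (.node (.leaf 
    494) (.leaf 1006))) (.node (.node (.leaf 110) (.leaf 622)) (.node (.leaf 366) (.leaf 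
    878)))))))))) (.node (.node (.node (.node (.node (.node (.node (.node (.node (.leaf 17) (.leaf 
    529)) (.node (.leaf 273) (.leaf 785))) (.node (.node (.leaf 145) (.leaf 657)) (.node (.leaf 
    401) (.leaf 913)))) (.node (.node (.node (.leaf 81) (.leaf 593)) (.node (.leaf 337) (.leaf 
    849))) (.node (.node (.leaf 209) (.leaf 721)) (.node (.leaf 465) (.leaf 977))))) (.node (.node 
    (.node (.node (.leaf 49) (.leaf 561)) (.node (.leaf 305) (.leaf 817))) (.node (.node (.leaf 
    177) (.leaf 689)) (.node (.leaf 433) (.leaf 945)))) (.node (.node (.node (.leaf 113) (.leaf 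
    625)) (.node (.leaf 369) (.leaf 881))) (.node (.node (.leaf 241) (.leaf 753)) (.node (.leaf 
    497) (.leaf 1009)))))) (.node (.node (.node (.node (.node (.leaf 1) (.leaf 513)) (.node (.leaf 
    257) (.leaf 769))) (.node (.node (.leaf 129) (.leaf 641)) (.node (.leaf 385) (.leaf 897)))) 
    (.node (.node (.node (.leaf 65) (.leaf 577)) (.node (.leaf 321) (.leaf 833))) (.node (.node 
    (.leaf 193) (.leaf 705)) (.node (.leaf 449) (.leaf 961))))) (.node (.node (.node (.node (.leaf 
    33) (.leaf 545)) (.node (.leaf 289) (.leaf 801))) (.node (.node (.leaf 161) (.leaf 673)) (.node 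
    (.leaf 417) (.leaf 929)))) (.node (.node (.node (.leaf 97) (.leaf 609)) (.node (.leaf 353) 
    (.leaf 865))) (.node (.node (.leaf 225) (.leaf 737)) (.node (.leaf 481) (.leaf 993))))))) 
    (.node (.node (.node (.node (.node (.node (.leaf 153) (.leaf 665)) (.node (.leaf 409) (.leaf 
    921))) (.node (.node (.leaf 25) (.leaf 537)) (.node (.leaf 281) (.leaf 793)))) (.node (.node 
    (.node (.leaf 217) (.leaf 729)) (.node (.leaf 473) (.leaf 985))) (.node (.node (.leaf 89) 
    (.leaf 601)) (.node (.leaf 345) (.leaf 857))))) (.node (.node (.node (.node (.leaf 185) (.leaf 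
    697)) (.node (.leaf 441) (.leaf 953))) (.node (.node (.leaf 57) (.leaf 569)) (.node (.leaf 313) 
    (.leaf 825)))) (.node (.node (.node (.leaf 249) (.leaf 761)) (.node (.leaf 505) (.leaf 1017))) 
    (.node (.node (.leaf 121) (.leaf 633)) (.node (.leaf 377) (.leaf 889)))))) (.node (.node (.node 
    (.node (.node (.leaf 137) (.leaf 649)) (.node (.leaf 393) (.leaf 905))) (.node (.node (.leaf 9) 
    (.leaf 521)) (.node (.leaf 265) (.leaf 777)))) (.node (.node (.node (.leaf 201) (.leaf 713)) 
    (.node (.leaf 457) (.leaf 969))) (.node (.node (.leaf 73) (.leaf 585)) (.node (.leaf 329) 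
    (.leaf 841))))) (.node (.node (.node (.node (.leaf 169) (.leaf 681)) (.node (.leaf 425) (.leaf 
    937))) (.node (.node (.leaf 41) (.leaf 553)) (.node (.leaf 297) (.leaf 809)))) (.node (.node 
    (.node (.leaf 233) (.leaf 745)) (.node (.leaf 489) (.leaf 1001))) (.node (.node (.leaf 105) 
    (.leaf 617)) (.node (.leaf 361) (.leaf 873)))))))) (.node (.node (.node (.node (.node (.node 
    (.node (.leaf 21) (.leaf 533)) (.node (.leaf 277) (.leaf 789))) (.node (.node (.leaf 149) 
    (.leaf 661)) (.node (.leaf 405) (.leaf 917)))) (.node (.node (.node (.leaf 85) (.leaf 597)) 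
    (.node (.leaf 341) (.leaf 853))) (.node (.node (.leaf 213) (.leaf 725)) (.node (.leaf 469) 
    (.leaf 981))))) (.node (.node (.node (.node (.leaf 53) (.leaf 565)) (.node (.leaf 309) (.leaf 
    821))) (.node (.node (.leaf 181) (.leaf 693)) (.node (.leaf 437) (.leaf 949)))) (.node (.node 
    (.node (.leaf 117) (.leaf 629)) (.node (.leaf 373) (.leaf 885))) (.node (.node (.leaf 245) 
    (.leaf 757)) (.node (.leaf 501) (.leaf 1013)))))) (.node (.node (.node (.node (.node (.leaf 5) 
    (.leaf 517)) (.node (.leaf 261) (.leaf 773))) (.node (.node (.leaf 133) (.leaf 645)) (.node 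
    (.leaf 389) (.leaf 901)))) (.node (.node (.node (.leaf 69) (.leaf 581)) (.node (.leaf 325) 
    (.leaf 837))) (.node (.node (.leaf 197) (.leaf 709)) (.node (.leaf 453) (.leaf 965))))) (.node 
    (.node (.node (.node (.leaf 37) (.leaf 549)) (.node (.leaf 293) (.leaf 805))) (.node (.node 
    (.leaf 165) (.leaf 677)) (.node (.leaf 421) (.leaf 933)))) (.node (.node (.node (.leaf 101) 
    (.leaf 613)) (.node (.leaf 357) (.leaf 869))) (.node (.node (.leaf 229) (.leaf 741)) (.node 
    (.leaf 485) (.leaf 997))))))) (.node (.node (.node (.node (.node (.node (.leaf 157) (.leaf 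
    669)) (.node (.leaf 413) (.leaf 925))) (.node (.node (.leaf 29) (.leaf 541)) (.node (.leaf 285) 
    (.leaf 797)))) (.node (.node (.node (.leaf 221) (.leaf 733)) (.node (.leaf 477) (.leaf 989))) 
    (.node (.node (.leaf 93) (.leaf 605)) (.node (.leaf 349) (.leaf 861))))) (.node (.node (.node 
    (.node (.leaf 189) (.leaf 701)) (.node (.leaf 445) (.leaf 957))) (.node (.node (.leaf 61) 
    (.leaf 573)) (.node (.leaf 317) (.leaf 829)))) (.node (.node (.node (.leaf 253) (.leaf 765)) 
    (.node (.leaf 509) (.leaf 1021))) (.node (.node (.leaf 125) (.leaf 637)) (.node (.leaf 381) 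
    (.leaf 893)))))) (.node (.node (.node (.node (.node (.leaf 141) (.leaf 653)) (.node (.leaf 397) 
    (.leaf 909))) (.node (.node (.leaf 13) (.leaf 525)) (.node (.leaf 269) (.leaf 781)))) (.node 
    (.node (.node (.leaf 205) (.leaf 717)) (.node (.leaf 461) (.leaf 973))) (.node (.node (.leaf 
    77) (.leaf 589)) (.node (.leaf 333) (.leaf 845))))) (.node (.node (.node (.node (.leaf 173) 
    (.leaf 685)) (.node (.leaf 429) (.leaf 941))) (.node (.node (.leaf 45) (.leaf 557)) (.node 
    (.leaf 301) (.leaf 813)))) (.node (.node (.node (.leaf 237) (.leaf 749)) (.node (.leaf 493) 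
    (.leaf 1005))) (.node (.node (.leaf 109) (.leaf 621)) (.node (.leaf 365) (.leaf 877))))))))) 
    (.node (.node (.node (.node (.node (.node (.node (.node (.leaf 19) (.leaf 531)) (.node (.leaf 
    275) (.leaf 787))) (.node (.node (.leaf 147) (.leaf 659)) (.node (.leaf 403) (.leaf 915)))) 
    (.node (.node (.node (.leaf 83) (.leaf 595)) (.node (.leaf 339) (.leaf 851))) (.node (.node 
    (.leaf 211) (.leaf 723)) (.node (.leaf 467) (.leaf 979))))) (.node (.node (.node (.node (.leaf 
    51) (.leaf 563)) (.node (.leaf 307) (.leaf 819))) (.node (.node (.leaf 179) (.leaf 691)) (.node 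
    (.leaf 435) (.leaf 947)))) (.node (.node (.node (.leaf 115) (.leaf 627)) (.node (.leaf 371) 
    (.leaf 883))) (.node (.node (.leaf 243) (.leaf 755)) (.node (.leaf 499) (.leaf 1011)))))) 
    (.node (.node (.node (.node (.node (.leaf 3) (.leaf 515)) (.node (.leaf 259) (.leaf 771))) 
    (.node (.node (.leaf 131) (.leaf 643)) (.node (.leaf 387) (.leaf 899)))) (.node (.node (.node 
    (.leaf 67) (.leaf 579)) (.node (.leaf 323) (.leaf 835))) (.node (.node (.leaf 195) (.leaf 707)) 
    (.node (.leaf 451) (.leaf 963))))) (.node (.node (.node (.node (.leaf 35) (.leaf 547)) (.node 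
    (.leaf 291) (.leaf 803))) (.node (.node (.leaf 163) (.leaf 675)) (.node (.leaf 419) (.leaf 
    931)))) (.node (.node (.node (.leaf 99) (.leaf 611)) (.node (.leaf 355) (.leaf 867))) (.node 
    (.node (.leaf 227) (.leaf 739)) (.node (.leaf 483) (.leaf 995))))))) (.node (.node (.node 
    (.node (.node (.node (.leaf 155) (.leaf 667)) (.node (.leaf 411) (.leaf 923))) (.node (.node 
    (.leaf 27) (.leaf 539)) (.node (.leaf 283) (.leaf 795)))) (.node (.node (.node (.leaf 219) 
    (.leaf 731)) (.node (.leaf 475) (.leaf 987))) (.node (.node (.leaf 91) (.leaf 603)) (.node 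
    (.leaf 347) (.leaf 859))))) (.node (.node (.node (.node (.leaf 187) (.leaf 699)) (.node (.leaf 
    443) (.leaf 955))) (.node (.node (.leaf 59) (.leaf 571)) (.node (.leaf 315) (.leaf 827)))) 
    (.node (.node (.node (.leaf 251) (.leaf 763)) (.node (.leaf 507) (.leaf 1019))) (.node (.node 
    (.leaf 123) (.leaf 635)) (.node (.leaf 379) (.leaf 891)))))) (.node (.node (.node (.node (.node 
    (.leaf 139) (.leaf 651)) (.node (.leaf 395) (.leaf 907))) (.node (.node (.leaf 11) (.leaf 523)) 
    (.node (.leaf 267) (.leaf 779)))) (.node (.node (.node (.leaf 203) (.leaf 715)) (.node (.leaf 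
    459) (.leaf 971))) (.node (.node (.leaf 75) (.leaf 587)) (.node (.leaf 331) (.leaf 843))))) 
    (.node (.node (.node (.node (.leaf 171) (.leaf 683)) (.node (.leaf 427) (.leaf 939))) (.node 
    (.node (.leaf 43) (.leaf 555)) (.node (.leaf 299) (.leaf 811)))) (.node (.node (.node (.leaf 
    235) (.leaf 747)) (.node (.leaf 491) (.leaf 1003))) (.node (.node (.leaf 107) (.leaf 619)) 
    (.node (.leaf 363) (.leaf 875)))))))) (.node (.node (.node (.node (.node (.node (.node (.leaf 
    23) (.leaf 535)) (.node (.leaf 279) (.leaf 791))) (.node (.node (.leaf 151) (.leaf 663)) (.node 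
    (.leaf 407) (.leaf 919)))) (.node (.node (.node (.leaf 87) (.leaf 599)) (.node (.leaf 343) 
    (.leaf 855))) (.node (.node (.leaf 215) (.leaf 727)) (.node (.leaf 471) (.leaf 983))))) (.node 
    (.node (.node (.node (.leaf 55) (.leaf 567)) (.node (.leaf 311) (.leaf 823))) (.node (.node 
    (.leaf 183) (.leaf 695)) (.node (.leaf 439) (.leaf 951)))) (.node (.node (.node (.leaf 119) 
    (.leaf 631)) (.node (.leaf 375) (.leaf 887))) (.node (.node (.leaf 247) (.leaf 759)) (.node 
    (.leaf 503) (.leaf 1015)))))) (.node (.node (.node (.node (.node (.leaf 7) (.leaf 519)) (.node 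
    (.leaf 263) (.leaf 775))) (.node (.node (.leaf 135) (.leaf 647)) (.node (.leaf 391) (.leaf 
    903)))) (.node (.node (.node (.leaf 71) (.leaf 583)) (.node (.leaf 327) (.leaf 839))) (.node 
    (.node (.leaf 199) (.leaf 711)) (.node (.leaf 455) (.leaf 967))))) (.node (.node (.node (.node 
    (.leaf 39) (.leaf 551)) (.node (.leaf 295) (.leaf 807))) (.node (.node (.leaf 167) (.leaf 679)) 
    (.node (.leaf 423) (.leaf 935)))) (.node (.node (.node (.leaf 103) (.leaf 615)) (.node (.leaf 
    359) (.leaf 871))) (.node (.node (.leaf 231) (.leaf 743)) (.node (.leaf 487) (.leaf 999))))))) 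
    (.node (.node (.node (.node (.node (.node (.leaf 159) (.leaf 671)) (.node (.leaf 415) (.leaf 
    927))) (.node (.node (.leaf 31) (.leaf 543)) (.node (.leaf 287) (.leaf 799)))) (.node (.node 
    (.node (.leaf 223) (.leaf 735)) (.node (.leaf 479) (.leaf 991))) (.node (.node (.leaf 95) 
    (.leaf 607)) (.node (.leaf 351) (.leaf 863))))) (.node (.node (.node (.node (.leaf 191) (.leaf 
    703)) (.node (.leaf 447) (.leaf 959))) (.node (.node (.leaf 63) (.leaf 575)) (.node (.leaf 319) 
    (.leaf 831)))) (.node (.node (.node (.leaf 255) (.leaf 767)) (.node (.leaf 511) (.leaf 1023))) 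
    (.node (.node (.leaf 127) (.leaf 639)) (.node (.leaf 383) (.leaf 895)))))) (.node (.node (.node 
    (.node (.node (.leaf 143) (.leaf 655)) (.node (.leaf 399) (.leaf 911))) (.node (.node (.leaf 
    15) (.leaf 527)) (.node (.leaf 271) (.leaf 783)))) (.node (.node (.node (.leaf 207) (.leaf 
    719)) (.node (.leaf 463) (.leaf 975))) (.node (.node (.leaf 79) (.leaf 591)) (.node (.leaf 335) 
    (.leaf 847))))) (.node (.node (.node (.node (.leaf 175) (.leaf 687)) (.node (.leaf 431) (.leaf 
    943))) (.node (.node (.leaf 47) (.leaf 559)) (.node (.leaf 303) (.leaf 815)))) (.node (.node 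
    (.node (.leaf 239) (.leaf 751)) (.node (.leaf 495) (.leaf 1007))) (.node (.node (.leaf 111) 
    (.leaf 623)) (.node (.leaf 367) (.leaf 879))))))))))) (.leaf 0))) (.node (.node (.node (.node 
    (.node (.node (.node (.node (.node (.node (.node (.node (.leaf 4) (.leaf 516)) (.node (.leaf 
    260) (.leaf 772))) (.node (.node (.leaf 132) (.leaf 644)) (.node (.leaf 388) (.leaf 900)))) 
    (.node (.node (.node (.leaf 68) (.leaf 580)) (.node (.leaf 324) (.leaf 836))) (.node (.node 
    (.leaf 196) (.leaf 708)) (.node (.leaf 452) (.leaf 964))))) (.node (.node (.node (.node (.leaf 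
    36) (.leaf 548)) (.node (.leaf 292) (.leaf 804))) (.node (.node (.leaf 164) (.leaf 676)) (.node 
    (.leaf 420) (.leaf 932)))) (.node (.node (.node (.leaf 100) (.leaf 612)) (.node (.leaf 356) 
    (.leaf 868))) (.node (.node (.leaf 228) (.leaf 740)) (.node (.leaf 484) (.leaf 996)))))) (.node 
    (.node (.node (.node (.node (.leaf 20) (.leaf 532)) (.node (.leaf 276) (.leaf 788))) (.node 
    (.node (.leaf 148) (.leaf 660)) (.node (.leaf 404) (.leaf 916)))) (.node (.node (.node (.leaf 
    84) (.leaf 596)) (.node (.leaf 340) (.leaf 852))) (.node (.node (.leaf 212) (.leaf 724)) (.node 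
    (.leaf 468) (.leaf 980))))) (.node (.node (.node (.node (.leaf 52) (.leaf 564)) (.node (.leaf 
    308) (.leaf 820))) (.node (.node (.leaf 180) (.leaf 692)) (.node (.leaf 436) (.leaf 948)))) 
    (.node (.node (.node (.leaf 116) (.leaf 628)) (.node (.leaf 372) (.leaf 884))) (.node (.node 
    (.leaf 244) (.leaf 756)) (.node (.leaf 500) (.leaf 1012))))))) (.node (.node (.node (.node 
    (.node (.node (.leaf 12) (.leaf 524)) (.node (.leaf 268) (.leaf 780))) (.node (.node (.leaf 
    140) (.leaf 652)) (.node (.leaf 396) (.leaf 908)))) (.node (.node (.node (.leaf 76) (.leaf 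
    588)) (.node (.leaf 332) (.leaf 844))) (.node (.node (.leaf 204) (.leaf 716)) (.node (.leaf 
    460) (.leaf 972))))) (.node (.node (.node (.node (.leaf 44) (.leaf 556)) (.node (.leaf 300) 
    (.leaf 812))) (.node (.node (.leaf 172) (.leaf 684)) (.node (.leaf 428) (.leaf 940)))) (.node 
    (.node (.node (.leaf 108) (.leaf 620)) (.node (.leaf 364) (.leaf 876))) (.node (.node (.leaf 
    236) (.leaf 748)) (.node (.leaf 492) (.leaf 1004)))))) (.node (.node (.node (.node (.node 
    (.leaf 28) (.leaf 540)) (.node (.leaf 284) (.leaf 796))) (.node (.node (.leaf 156) (.leaf 668)) 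
    (.node (.leaf 412) (.leaf 924)))) (.node (.node (.node (.leaf 92) (.leaf 604)) (.node (.leaf 
    348) (.leaf 860))) (.node (.node (.leaf 220) (.leaf 732)) (.node (.leaf 476) (.leaf 988))))) 
    (.node (.node (.node (.node (.leaf 60) (.leaf 572)) (.node (.leaf 316) (.leaf 828))) (.node 
    (.node (.leaf 188) (.leaf 700)) (.node (.leaf 444) (.leaf 956)))) (.node (.node (.node (.leaf 
    124) (.leaf 636)) (.node (.leaf 380) (.leaf 892))) (.node (.node (.leaf 252) (.leaf 764)) 
    (.node (.leaf 508) (.leaf 1020)))))))) (.node (.node (.node (.node (.node (.node (.node (.leaf 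
    16) (.leaf 528)) (.node (.leaf 272) (.leaf 784))) (.node (.node (.leaf 144) (.leaf 656)) (.node 
    (.leaf 400) (.leaf 912)))) (.node (.node (.node (.leaf 80) (.leaf 592)) (.node (.leaf 336) 
    (.leaf 848))) (.node (.node (.leaf 208) (.leaf 720)) (.node (.leaf 464) (.leaf 976))))) (.node 
    (.node (.node (.node (.leaf 48) (.leaf 560)) (.node (.leaf 304) (.leaf 816))) (.node (.node 
    (.leaf 176) (.leaf 688)) (.node (.leaf 432) (.leaf 944)))) (.node (.node (.node (.leaf 112) 
    (.leaf 624)) (.node (.leaf 368) (.leaf 880))) (.node (.node (.leaf 240) (.leaf 752)) (.node 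
    (.leaf 496) (.leaf 1008)))))) (.node (.node (.node (.node (.node (.leaf 0) (.leaf 512)) (.node 
    (.leaf 256) (.leaf 768))) (.node (.node (.leaf 128) (.leaf 640)) (.node (.leaf 384) (.leaf 
    896)))) (.node (.node (.node (.leaf 64) (.leaf 576)) (.node (.leaf 320) (.leaf 832))) (.node 
    (.node (.leaf 192) (.leaf 704)) (.node (.leaf 448) (.leaf 960))))) (.node (.node (.node (.node 
    (.leaf 32) (.leaf 544)) (.node (.leaf 288) (.leaf 800))) (.node (.node (.leaf 160) (.leaf 672)) 
    (.node (.leaf 416) (.leaf 928)))) (.node (.node (.node (.leaf 96) (.leaf 608)) (.node (.leaf 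
    352) (.leaf 864))) (.node (.node (.leaf 224) (.leaf 736)) (.node (.leaf 480) (.leaf 992))))))) 
    (.node (.node (.node (.node (.node (.node (.leaf 152) (.leaf 664)) (.node (.leaf 408) (.leaf 
    920))) (.node (.node (.leaf 24) (.leaf 536)) (.node (.leaf 280) (.leaf 792)))) (.node (.node 
    (.node (.leaf 216) (.leaf 728)) (.node (.leaf 472) (.leaf 984))) (.node (.node (.leaf 88) 
    (.leaf 600)) (.node (.leaf 344) (.leaf 856))))) (.node (.node (.node (.node (.leaf 184) (.leaf 
    696)) (.node (.leaf 440) (.leaf 952))) (.node (.node (.leaf 56) (.leaf 568)) (.node (.leaf 312) 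
    (.leaf 824)))) (.node (.node (.node (.leaf 248) (.leaf 760)) (.node (.leaf 504) (.leaf 1016))) 
    (.node (.node (.leaf 120) (.leaf 632)) (.node (.leaf 376) (.leaf 888)))))) (.node (.node (.node 
    (.node (.node (.leaf 136) (.leaf 648)) (.node (.leaf 392) (.leaf 904))) (.node (.node (.leaf 8) 
    (.leaf 520)) (.node (.leaf 264) (.leaf 776)))) (.node (.node (.node (.leaf 200) (.leaf 712)) 
    (.node (.leaf 456) (.leaf 968))) (.node (.node (.leaf 72) (.leaf 584)) (.node (.leaf 328) 
    (.leaf 840))))) (.node (.node (.node (.node (.leaf 168) (.leaf 680)) (.node (.leaf 424) (.leaf 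
    936))) (.node (.node (.leaf 40) (.leaf 552)) (.node (.leaf 296) (.leaf 808)))) (.node (.node 
    (.node (.leaf 232) (.leaf 744)) (.node (.leaf 488) (.leaf 1000))) (.node (.node (.leaf 104) 
    (.leaf 616)) (.node (.leaf 360) (.leaf 872))))))))) (.node (.node (.node (.node (.node (.node 
    (.node (.node (.leaf 22) (.leaf 534)) (.node (.leaf 278) (.leaf 790))) (.node (.node (.leaf 
    150) (.leaf 662)) (.node (.leaf 406) (.leaf 918)))) (.node (.node (.node (.leaf 86) (.leaf 
    598)) (.node (.leaf 342) (.leaf 854))) (.node (.node (.leaf 214) (.leaf 726)) (.node (.leaf 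
    470) (.leaf 982))))) (.node (.node (.node (.node (.leaf 54) (.leaf 566)) (.node (.leaf 310) 
    (.leaf 822))) (.node (.node (.leaf 182) (.leaf 694)) (.node (.leaf 438) (.leaf 950)))) (.node 
    (.node (.node (.leaf 118) (.leaf 630)) (.node (.leaf 374) (.leaf 886))) (.node (.node (.leaf 
    246) (.leaf 758)) (.node (.leaf 502) (.leaf 1014)))))) (.node (.node (.node (.node (.node 
    (.leaf 6) (.leaf 518)) (.node (.leaf 262) (.leaf 774))) (.node (.node (.leaf 134) (.leaf 646)) 
    (.node (.leaf 390) (.leaf 902)))) (.node (.node (.node (.leaf 70) (.leaf 582)) (.node (.leaf 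
    326) (.leaf 838))) (.node (.node (.leaf 198) (.leaf 710)) (.node (.leaf 454) (.leaf 966))))) 
    (.node (.node (.node (.node (.leaf 38) (.leaf 550)) (.node (.leaf 294) (.leaf 806))) (.node 
    (.node (.leaf 166) (.leaf 678)) (.node (.leaf 422) (.leaf 934)))) (.node (.node (.node (.leaf 
    102) (.leaf 614)) (.node (.leaf 358) (.leaf 870))) (.node (.node (.leaf 230) (.leaf 742)) 
    (.node (.leaf 486) (.leaf 998))))))) (.node (.node (.node (.node (.node (.node (.leaf 158) 
    (.leaf 670)) (.node (.leaf 414) (.leaf 926))) (.node (.node (.leaf 30) (.leaf 542)) (.node 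
    (.leaf 286) (.leaf 798)))) (.node (.node (.node (.leaf 222) (.leaf 734)) (.node (.leaf 478) 
    (.leaf 990))) (.node (.node (.leaf 94) (.leaf 606)) (.node (.leaf 350) (.leaf 862))))) (.node 
    (.node (.node (.node (.leaf 190) (.leaf 702)) (.node (.leaf 446) (.leaf 958))) (.node (.node 
    (.leaf 62) (.leaf 574)) (.node (.leaf 318) (.leaf 830)))) (.node (.node (.node (.leaf 254) 
    (.leaf 766)) (.node (.leaf 510) (.leaf 1022))) (.node (.node (.leaf 126) (.leaf 638)) (.node 
    (.leaf 382) (.leaf 894)))))) (.node (.node (.node (.node (.node (.leaf 142) (.leaf 654)) (.node 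
    (.leaf 398) (.leaf 910))) (.node (.node (.leaf 14) (.leaf 526)) (.node (.leaf 270) (.leaf 
    782)))) (.node (.node (.node (.leaf 206) (.leaf 718)) (.node (.leaf 462) (.leaf 974))) (.node 
    (.node (.leaf 78) (.leaf 590)) (.node (.leaf 334) (.leaf 846))))) (.node (.node (.node (.node 
    (.leaf 174) (.leaf 686)) (.node (.leaf 430) (.leaf 942))) (.node (.node (.leaf 46) (.leaf 558)) 
    (.node (.leaf 302) (.leaf 814)))) (.node (.node (.node (.leaf 238) (.leaf 750)) (.node (.leaf 
    494) (.leaf 1006))) (.node (.node (.leaf 110) (.leaf 622)) (.node (.leaf 366) (.leaf 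
    878)))))))) (.node (.node (.node (.node (.node (.node (.node (.leaf 2) (.leaf 514)) (.node 
    (.leaf 258) (.leaf 770))) (.node (.node (.leaf 130) (.leaf 642)) (.node (.leaf 386) (.leaf 
    898)))) (.node (.node (.node (.leaf 66) (.leaf 578)) (.node (.leaf 322) (.leaf 834))) (.node 
    (.node (.leaf 194) (.leaf 706)) (.node (.leaf 450) (.leaf 962))))) (.node (.node (.node (.node 
    (.leaf 34) (.leaf 546)) (.node (.leaf 290) (.leaf 802))) (.node (.node (.leaf 162) (.leaf 674)) 
    (.node (.leaf 418) (.leaf 930)))) (.node (.node (.node (.leaf 98) (.leaf 610)) (.node (.leaf 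
    354) (.leaf 866))) (.node (.node (.leaf 226) (.leaf 738)) (.node (.leaf 482) (.leaf 994)))))) 
    (.node (.node (.node (.node (.node (.leaf 18) (.leaf 530)) (.node (.leaf 274) (.leaf 786))) 
    (.node (.node (.leaf 146) (.leaf 658)) (.node (.leaf 402) (.leaf 914)))) (.node (.node (.node 
    (.leaf 82) (.leaf 594)) (.node (.leaf 338) (.leaf 850))) (.node (.node (.leaf 210) (.leaf 722)) 
    (.node (.leaf 466) (.leaf 978))))) (.node (.node (.node (.node (.leaf 50) (.leaf 562)) (.node 
    (.leaf 306) (.leaf 818))) (.node (.node (.leaf 178) (.leaf 690)) (.node (.leaf 434) (.leaf 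
    946)))) (.node (.node (.node (.leaf 114) (.leaf 626)) (.node (.leaf 370) (.leaf 882))) (.node 
    (.node (.leaf 242) (.leaf 754)) (.node (.leaf 498) (.leaf 1010))))))) (.node (.node (.node 
    (.node (.node (.node (.leaf 10) (.leaf 522)) (.node (.leaf 266) (.leaf 778))) (.node (.node 
    (.leaf 138) (.leaf 650)) (.node (.leaf 394) (.leaf 906)))) (.node (.node (.node (.leaf 74) 
    (.leaf 586)) (.node (.leaf 330) (.leaf 842))) (.node (.node (.leaf 202) (.leaf 714)) (.node 
    (.leaf 458) (.leaf 970))))) (.node (.node (.node (.node (.leaf 42) (.leaf 554)) (.node (.leaf 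
    298) (.leaf 810))) (.node (.node (.leaf 170) (.leaf 682)) (.node (.leaf 426) (.leaf 938)))) 
    (.node (.node (.node (.leaf 106) (.leaf 618)) (.node (.leaf 362) (.leaf 874))) (.node (.node 
    (.leaf 234) (.leaf 746)) (.node (.leaf 490) (.leaf 1002)))))) (.node (.node (.node (.node 
    (.node (.leaf 26) (.leaf 538)) (.node (.leaf 282) (.leaf 794))) (.node (.node (.leaf 154) 
    (.leaf 666)) (.node (.leaf 410) (.leaf 922)))) (.node (.node (.node (.leaf 90) (.leaf 602)) 
    (.node (.leaf 346) (.leaf 858))) (.node (.node (.leaf 218) (.leaf 730)) (.node (.leaf 474) 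
    (.leaf 986))))) (.node (.node (.node (.node (.leaf 58) (.leaf 570)) (.node (.leaf 314) (.leaf 
    826))) (.node (.node (.leaf 186) (.leaf 698)) (.node (.leaf 442) (.leaf 954)))) (.node (.node 
    (.node (.leaf 122) (.leaf 634)) (.node (.leaf 378) (.leaf 890))) (.node (.node (.leaf 250) 
    (.leaf 762)) (.node (.leaf 506) (.leaf 1018)))))))))) (.node (.node (.node (.node (.node (.node 
    (.node (.node (.node (.leaf 21) (.leaf 533)) (.node (.leaf 277) (.leaf 789))) (.node (.node 
    (.leaf 149) (.leaf 661)) (.node (.leaf 405) (.leaf 917)))) (.node (.node (.node (.leaf 85) 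
    (.leaf 597)) (.node (.leaf 341) (.leaf 853))) (.node (.node (.leaf 213) (.leaf 725)) (.node 
    (.leaf 469) (.leaf 981))))) (.node (.node (.node (.node (.leaf 53) (.leaf 565)) (.node (.leaf 
    309) (.leaf 821))) (.node (.node (.leaf 181) (.leaf 693)) (.node (.leaf 437) (.leaf 949)))) 
    (.node (.node (.node (.leaf 117) (.leaf 629)) (.node (.leaf 373) (.leaf 885))) (.node (.node 
    (.leaf 245) (.leaf 757)) (.node (.leaf 501) (.leaf 1013)))))) (.node (.node (.node (.node 
    (.node (.leaf 5) (.leaf 517)) (.node (.leaf 261) (.leaf 773))) (.node (.node (.leaf 133) (.leaf 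
    645)) (.node (.leaf 389) (.leaf 901)))) (.node (.node (.node (.leaf 69) (.leaf 581)) (.node 
    (.leaf 325) (.leaf 837))) (.node (.node (.leaf 197) (.leaf 709)) (.node (.leaf 453) (.leaf 
    965))))) (.node (.node (.node (.node (.leaf 37) (.leaf 549)) (.node (.leaf 293) (.leaf 805))) 
    (.node (.node (.leaf 165) (.leaf 677)) (.node (.leaf 421) (.leaf 933)))) (.node (.node (.node 
    (.leaf 101) (.leaf 613)) (.node (.leaf 357) (.leaf 869))) (.node (.node (.leaf 229) (.leaf 
    741)) (.node (.leaf 485) (.leaf 997))))))) (.node (.node (.node (.node (.node (.node (.leaf 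
    157) (.leaf 669)) (.node (.leaf 413) (.leaf 925))) (.node (.node (.leaf 29) (.leaf 541)) (.node 
    (.leaf 285) (.leaf 797)))) (.node (.node (.node (.leaf 221) (.leaf 733)) (.node (.leaf 477) 
    (.leaf 989))) (.node (.node (.leaf 93) (.leaf 605)) (.node (.leaf 349) (.leaf 861))))) (.node 
    (.node (.node (.node (.leaf 189) (.leaf 701)) (.node (.leaf 445) (.leaf 957))) (.node (.node 
    (.leaf 61) (.leaf 573)) (.node (.leaf 317) (.leaf 829)))) (.node (.node (.node (.leaf 253) 
    (.leaf 765)) (.node (.leaf 509) (.leaf 1021))) (.node (.node (.leaf 125) (.leaf 637)) (.node 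
    (.leaf 381) (.leaf 893)))))) (.node (.node (.node (.node (.node (.leaf 141) (.leaf 653)) (.node 
    (.leaf 397) (.leaf 909))) (.node (.node (.leaf 13) (.leaf 525)) (.node (.leaf 269) (.leaf 
    781)))) (.node (.node (.node (.leaf 205) (.leaf 717)) (.node (.leaf 461) (.leaf 973))) (.node 
    (.node (.leaf 77) (.leaf 589)) (.node (.leaf 333) (.leaf 845))))) (.node (.node (.node (.node 
    (.leaf 173) (.leaf 685)) (.node (.leaf 429) (.leaf 941))) (.node (.node (.leaf 45) (.leaf 557)) 
    (.node (.leaf 301) (.leaf 813)))) (.node (.node (.node (.leaf 237) (.leaf 749)) (.node (.leaf 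
    493) (.leaf 1005))) (.node (.node (.leaf 109) (.leaf 621)) (.node (.leaf 365) (.leaf 
    877)))))))) (.node (.node (.node (.node (.node (.node (.node (.leaf 1) (.leaf 513)) (.node 
    (.leaf 257) (.leaf 769))) (.node (.node (.leaf 129) (.leaf 641)) (.node (.leaf 385) (.leaf 
    897)))) (.node (.node (.node (.leaf 65) (.leaf 577)) (.node (.leaf 321) (.leaf 833))) (.node 
    (.node (.leaf 193) (.leaf 705)) (.node (.leaf 449) (.leaf 961))))) (.node (.node (.node (.node 
    (.leaf 33) (.leaf 545)) (.node (.leaf 289) (.leaf 801))) (.node (.node (.leaf 161) (.leaf 673)) 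
    (.node (.leaf 417) (.leaf 929)))) (.node (.node (.node (.leaf 97) (.leaf 609)) (.node (.leaf 
    353) (.leaf 865))) (.node (.node (.leaf 225) (.leaf 737)) (.node (.leaf 481) (.leaf 993)))))) 
    (.node (.node (.node (.node (.node (.leaf 17) (.leaf 529)) (.node (.leaf 273) (.leaf 785))) 
    (.node (.node (.leaf 145) (.leaf 657)) (.node (.leaf 401) (.leaf 913)))) (.node (.node (.node 
    (.leaf 81) (.leaf 593)) (.node (.leaf 337) (.leaf 849))) (.node (.node (.leaf 209) (.leaf 721)) 
    (.node (.leaf 465) (.leaf 977))))) (.node (.node (.node (.node (.leaf 49) (.leaf 561)) (.node 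
    (.leaf 305) (.leaf 817))) (.node (.node (.leaf 177) (.leaf 689)) (.node (.leaf 433) (.leaf 
    945)))) (.node (.node (.node (.leaf 113) (.leaf 625)) (.node (.leaf 369) (.leaf 881))) (.node 
    (.node (.leaf 241) (.leaf 753)) (.node (.leaf 497) (.leaf 1009))))))) (.node (.node (.node 
    (.node (.node (.node (.leaf 9) (.leaf 521)) (.node (.leaf 265) (.leaf 777))) (.node (.node 
    (.leaf 137) (.leaf 649)) (.node (.leaf 393) (.leaf 905)))) (.node (.node (.node (.leaf 73) 
    (.leaf 585)) (.node (.leaf 329) (.leaf 841))) (.node (.node (.leaf 201) (.leaf 713)) (.node 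
    (.leaf 457) (.leaf 969))))) (.node (.node (.node (.node (.leaf 41) (.leaf 553)) (.node (.leaf 
    297) (.leaf 809))) (.node (.node (.leaf 169) (.leaf 681)) (.node (.leaf 425) (.leaf 937)))) 
    (.node (.node (.node (.leaf 105) (.leaf 617)) (.node (.leaf 361) (.leaf 873))) (.node (.node 
    (.leaf 233) (.leaf 745)) (.node (.leaf 489) (.leaf 1001)))))) (.node (.node (.node (.node 
    (.node (.leaf 25) (.leaf 537)) (.node (.leaf 281) (.leaf 793))) (.node (.node (.leaf 153) 
    (.leaf 665)) (.node (.leaf 409) (.leaf 921)))) (.node (.node (.node (.leaf 89) (.leaf 601)) 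
    (.node (.leaf 345) (.leaf 857))) (.node (.node (.leaf 217) (.leaf 729)) (.node (.leaf 473) 
    (.leaf 985))))) (.node (.node (.node (.node (.leaf 57) (.leaf 569)) (.node (.leaf 313) (.leaf 
    825))) (.node (.node (.leaf 185) (.leaf 697)) (.node (.leaf 441) (.leaf 953)))) (.node (.node 
    (.node (.leaf 121) (.leaf 633)) (.node (.leaf 377) (.leaf 889))) (.node (.node (.leaf 249) 
    (.leaf 761)) (.node (.leaf 505) (.leaf 1017))))))))) (.node (.node (.node (.node (.node (.node 
    (.node (.node (.leaf 7) (.leaf 519)) (.node (.leaf 263) (.leaf 775))) (.node (.node (.leaf 135) 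
    (.leaf 647)) (.node (.leaf 391) (.leaf 903)))) (.node (.node (.node (.leaf 71) (.leaf 583)) 
    (.node (.leaf 327) (.leaf 839))) (.node (.node (.leaf 199) (.leaf 711)) (.node (.leaf 455) 
    (.leaf 967))))) (.node (.node (.node (.node (.leaf 39) (.leaf 551)) (.node (.leaf 295) (.leaf 
    807))) (.node (.node (.leaf 167) (.leaf 679)) (.node (.leaf 423) (.leaf 935)))) (.node (.node 
    (.node (.leaf 103) (.leaf 615)) (.node (.leaf 359) (.leaf 871))) (.node (.node (.leaf 231) 
    (.leaf 743)) (.node (.leaf 487) (.leaf 999)))))) (.node (.node (.node (.node (.node (.leaf 23) 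
    (.leaf 535)) (.node (.leaf 279) (.leaf 791))) (.node (.node (.leaf 151) (.leaf 663)) (.node 
    (.leaf 407) (.leaf 919)))) (.node (.node (.node (.leaf 87) (.leaf 599)) (.node (.leaf 343) 
    (.leaf 855))) (.node (.node (.leaf 215) (.leaf 727)) (.node (.leaf 471) (.leaf 983))))) (.node 
    (.node (.node (.node (.leaf 55) (.leaf 567)) (.node (.leaf 311) (.leaf 823))) (.node (.node 
    (.leaf 183) (.leaf 695)) (.node (.leaf 439) (.leaf 951)))) (.node (.node (.node (.leaf 119) 
    (.leaf 631)) (.node (.leaf 375) (.leaf 887))) (.node (.node (.leaf 247) (.leaf 759)) (.node 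
    (.leaf 503) (.leaf 1015))))))) (.node (.node (.node (.node (.node (.node (.leaf 15) (.leaf 
    527)) (.node (.leaf 271) (.leaf 783))) (.node (.node (.leaf 143) (.leaf 655)) (.node (.leaf 
    399) (.leaf 911)))) (.node (.node (.node (.leaf 79) (.leaf 591)) (.node (.leaf 335) (.leaf 
    847))) (.node (.node (.leaf 207) (.leaf 719)) (.node (.leaf 463) (.leaf 975))))) (.node (.node 
    (.node (.node (.leaf 47) (.leaf 559)) (.node (.leaf 303) (.leaf 815))) (.node (.node (.leaf 
    175) (.leaf 687)) (.node (.leaf 431) (.leaf 943)))) (.node (.node (.node (.leaf 111) (.leaf 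
    623)) (.node (.leaf 367) (.leaf 879))) (.node (.node (.leaf 239) (.leaf 751)) (.node (.leaf 
    495) (.leaf 1007)))))) (.node (.node (.node (.node (.node (.leaf 31) (.leaf 543)) (.node (.leaf 
    287) (.leaf 799))) (.node (.node (.leaf 159) (.leaf 671)) (.node (.leaf 415) (.leaf 927)))) 
    (.node (.node (.node (.leaf 95) (.leaf 607)) (.node (.leaf 351) (.leaf 863))) (.node (.node 
    (.leaf 223) (.leaf 735)) (.node (.leaf 479) (.leaf 991))))) (.node (.node (.node (.node (.leaf 
    63) (.leaf 575)) (.node (.leaf 319) (.leaf 831))) (.node (.node (.leaf 191) (.leaf 703)) (.node 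
    (.leaf 447) (.leaf 959)))) (.node (.node (.node (.leaf 127) (.leaf 639)) (.node (.leaf 383) 
    (.leaf 895))) (.node (.node (.leaf 255) (.leaf 767)) (.node (.leaf 511) (.leaf 1023)))))))) 
    (.node (.node (.node (.node (.node (.node (.node (.leaf 19) (.leaf 531)) (.node (.leaf 275) 
    (.leaf 787))) (.node (.node (.leaf 147) (.leaf 659)) (.node (.leaf 403) (.leaf 915)))) (.node 
    (.node (.node (.leaf 83) (.leaf 595)) (.node (.leaf 339) (.leaf 851))) (.node (.node (.leaf 
    211) (.leaf 723)) (.node (.leaf 467) (.leaf 979))))) (.node (.node (.node (.node (.leaf 51) 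
    (.leaf 563)) (.node (.leaf 307) (.leaf 819))) (.node (.node (.leaf 179) (.leaf 691)) (.node 
    (.leaf 435) (.leaf 947)))) (.node (.node (.node (.leaf 115) (.leaf 627)) (.node (.leaf 371) 
    (.leaf 883))) (.node (.node (.leaf 243) (.leaf 755)) (.node (.leaf 499) (.leaf 1011)))))) 
    (.node (.node (.node (.node (.node (.leaf 3) (.leaf 515)) (.node (.leaf 259) (.leaf 771))) 
    (.node (.node (.leaf 131) (.leaf 643)) (.node (.leaf 387) (.leaf 899)))) (.node (.node (.node 
    (.leaf 67) (.leaf 579)) (.node (.leaf 323) (.leaf 835))) (.node (.node (.leaf 195) (.leaf 707)) 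
    (.node (.leaf 451) (.leaf 963))))) (.node (.node (.node (.node (.leaf 35) (.leaf 547)) (.node 
    (.leaf 291) (.leaf 803))) (.node (.node (.leaf 163) (.leaf 675)) (.node (.leaf 419) (.leaf 
    931)))) (.node (.node (.node (.leaf 99) (.leaf 611)) (.node (.leaf 355) (.leaf 867))) (.node 
    (.node (.leaf 227) (.leaf 739)) (.node (.leaf 483) (.leaf 995))))))) (.node (.node (.node 
    (.node (.node (.node (.leaf 155) (.leaf 667)) (.node (.leaf 411) (.leaf 923))) (.node (.node 
    (.leaf 27) (.leaf 539)) (.node (.leaf 283) (.leaf 795)))) (.node (.node (.node (.leaf 219) 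
    (.leaf 731)) (.node (.leaf 475) (.leaf 987))) (.node (.node (.leaf 91) (.leaf 603)) (.node 
    (.leaf 347) (.leaf 859))))) (.node (.node (.node (.node (.leaf 187) (.leaf 699)) (.node (.leaf 
    443) (.leaf 955))) (.node (.node (.leaf 59) (.leaf 571)) (.node (.leaf 315) (.leaf 827)))) 
    (.node (.node (.node (.leaf 251) (.leaf 763)) (.node (.leaf 507) (.leaf 1019))) (.node (.node 
    (.leaf 123) (.leaf 635)) (.node (.leaf 379) (.leaf 891)))))) (.node (.node (.node (.node (.node 
    (.leaf 139) (.leaf 651)) (.node (.leaf 395) (.leaf 907))) (.node (.node (.leaf 11) (.leaf 523)) 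
    (.node (.leaf 267) (.leaf 779)))) (.node (.node (.node (.leaf 203) (.leaf 715)) (.node (.leaf 
    459) (.leaf 971))) (.node (.node (.leaf 75) (.leaf 587)) (.node (.leaf 331) (.leaf 843))))) 
    (.node (.node (.node (.node (.leaf 171) (.leaf 683)) (.node (.leaf 427) (.leaf 939))) (.node 
    (.node (.leaf 43) (.leaf 555)) (.node (.leaf 299) (.leaf 811)))) (.node (.node (.node (.leaf 
    235) (.leaf 747)) (.node (.leaf 491) (.leaf 1003))) (.node (.node (.leaf 107) (.leaf 619)) 
    (.node (.leaf 363) (.leaf 875))))))))))) (.leaf 0)) (.node (.node (.node (.node (.node (.node 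
    (.node (.node (.node (.node (.node (.leaf 64) (.leaf 576)) (.node (.leaf 320) (.leaf 832))) 
    (.node (.node (.leaf 192) (.leaf 704)) (.node (.leaf 448) (.leaf 960)))) (.node (.node (.node 
    (.leaf 0) (.leaf 512)) (.node (.leaf 256) (.leaf 768))) (.node (.node (.leaf 128) (.leaf 640)) 
    (.node (.leaf 384) (.leaf 896))))) (.node (.node (.node (.node (.leaf 96) (.leaf 608)) (.node 
    (.leaf 352) (.leaf 864))) (.node (.node (.leaf 224) (.leaf 736)) (.node (.leaf 480) (.leaf 
    992)))) (.node (.node (.node (.leaf 32) (.leaf 544)) (.node (.leaf 288) (.leaf 800))) (.node 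
    (.node (.leaf 160) (.leaf 672)) (.node (.leaf 416) (.leaf 928)))))) (.node (.node (.node (.node 
    (.node (.leaf 80) (.leaf 592)) (.node (.leaf 336) (.leaf 848))) (.node (.node (.leaf 208) 
    (.leaf 720)) (.node (.leaf 464) (.leaf 976)))) (.node (.node (.node (.leaf 16) (.leaf 528)) 
    (.node (.leaf 272) (.leaf 784))) (.node (.node (.leaf 144) (.leaf 656)) (.node (.leaf 400) 
    (.leaf 912))))) (.node (.node (.node (.node (.leaf 112) (.leaf 624)) (.node (.leaf 368) (.leaf 
    880))) (.node (.node (.leaf 240) (.leaf 752)) (.node (.leaf 496) (.leaf 1008)))) (.node (.node 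
    (.node (.leaf 48) (.leaf 560)) (.node (.leaf 304) (.leaf 816))) (.node (.node (.leaf 176) 
    (.leaf 688)) (.node (.leaf 432) (.leaf 944))))))) (.node (.node (.node (.node (.node (.node 
    (.leaf 72) (.leaf 584)) (.node (.leaf 328) (.leaf 840))) (.node (.node (.leaf 200) (.leaf 712)) 
    (.node (.leaf 456) (.leaf 968)))) (.node (.node (.node (.leaf 8) (.leaf 520)) (.node (.leaf 
    264) (.leaf 776))) (.node (.node (.leaf 136) (.leaf 648)) (.node (.leaf 392) (.leaf 904))))) 
    (.node (.node (.node (.node (.leaf 104) (.leaf 616)) (.node (.leaf 360) (.leaf 872))) (.node 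
    (.node (.leaf 232) (.leaf 744)) (.node (.leaf 488) (.leaf 1000)))) (.node (.node (.node (.leaf 
    40) (.leaf 552)) (.node (.leaf 296) (.leaf 808))) (.node (.node (.leaf 168) (.leaf 680)) (.node 
    (.leaf 424) (.leaf 936)))))) (.node (.node (.node (.node (.node (.leaf 88) (.leaf 600)) (.node 
    (.leaf 344) (.leaf 856))) (.node (.node (.leaf 216) (.leaf 728)) (.node (.leaf 472) (.leaf 
    984)))) (.node (.node (.node (.leaf 24) (.leaf 536)) (.node (.leaf 280) (.leaf 792))) (.node 
    (.node (.leaf 152) (.leaf 664)) (.node (.leaf 408) (.leaf 920))))) (.node (.node (.node (.node 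
    (.leaf 120) (.leaf 632)) (.node (.leaf 376) (.leaf 888))) (.node (.node (.leaf 248) (.leaf 
    760)) (.node (.leaf 504) (.leaf 1016)))) (.node (.node (.node (.leaf 56) (.leaf 568)) (.node 
    (.leaf 312) (.leaf 824))) (.node (.node (.leaf 184) (.leaf 696)) (.node (.leaf 440) (.leaf 
    952)))))))) (.node (.node (.node (.node (.node (.node (.node (.leaf 324) (.leaf 836)) (.node 
    (.leaf 68) (.leaf 580))) (.node (.node (.leaf 452) (.leaf 964)) (.node (.leaf 196) (.leaf 
    708)))) (.node (.node (.node (.leaf 260) (.leaf 772)) (.node (.leaf 4) (.leaf 516))) (.node 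
    (.node (.leaf 388) (.leaf 900)) (.node (.leaf 132) (.leaf 644))))) (.node (.node (.node (.node 
    (.leaf 356) (.leaf 868)) (.node (.leaf 100) (.leaf 612))) (.node (.node (.leaf 484) (.leaf 
    996)) (.node (.leaf 228) (.leaf 740)))) (.node (.node (.node (.leaf 292) (.leaf 804)) (.node 
    (.leaf 36) (.leaf 548))) (.node (.node (.leaf 420) (.leaf 932)) (.node (.leaf 164) (.leaf 
    676)))))) (.node (.node (.node (.node (.node (.leaf 340) (.leaf 852)) (.node (.leaf 84) (.leaf 
    596))) (.node (.node (.leaf 468) (.leaf 980)) (.node (.leaf 212) (.leaf 724)))) (.node (.node 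
    (.node (.leaf 276) (.leaf 788)) (.node (.leaf 20) (.leaf 532))) (.node (.node (.leaf 404) 
    (.leaf 916)) (.node (.leaf 148) (.leaf 660))))) (.node (.node (.node (.node (.leaf 372) (.leaf 
    884)) (.node (.leaf 116) (.leaf 628))) (.node (.node (.leaf 500) (.leaf 1012)) (.node (.leaf 
    244) (.leaf 756)))) (.node (.node (.node (.leaf 308) (.leaf 820)) (.node (.leaf 52) (.leaf 
    564))) (.node (.node (.leaf 436) (.leaf 948)) (.node (.leaf 180) (.leaf 692))))))) (.node 
    (.node (.node (.node (.node (.node (.leaf 332) (.leaf 844)) (.node (.leaf 76) (.leaf 588))) 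
    (.node (.node (.leaf 460) (.leaf 972)) (.node (.leaf 204) (.leaf 716)))) (.node (.node (.node 
    (.leaf 268) (.leaf 780)) (.node (.leaf 12) (.leaf 524))) (.node (.node (.leaf 396) (.leaf 908)) 
    (.node (.leaf 140) (.leaf 652))))) (.node (.node (.node (.node (.leaf 364) (.leaf 876)) (.node 
    (.leaf 108) (.leaf 620))) (.node (.node (.leaf 492) (.leaf 1004)) (.node (.leaf 236) (.leaf 
    748)))) (.node (.node (.node (.leaf 300) (.leaf 812)) (.node (.leaf 44) (.leaf 556))) (.node 
    (.node (.leaf 428) (.leaf 940)) (.node (.leaf 172) (.leaf 684)))))) (.node (.node (.node (.node 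
    (.node (.leaf 348) (.leaf 860)) (.node (.leaf 92) (.leaf 604))) (.node (.node (.leaf 476) 
    (.leaf 988)) (.node (.leaf 220) (.leaf 732)))) (.node (.node (.node (.leaf 284) (.leaf 796)) 
    (.node (.leaf 28) (.leaf 540))) (.node (.node (.leaf 412) (.leaf 924)) (.node (.leaf 156) 
    (.leaf 668))))) (.node (.node (.node (.node (.leaf 380) (.leaf 892)) (.node (.leaf 124) (.leaf 
    636))) (.node (.node (.leaf 508) (.leaf 1020)) (.node (.leaf 252) (.leaf 764)))) (.node (.node 
    (.node (.leaf 316) (.leaf 828)) (.node (.leaf 60) (.leaf 572))) (.node (.node (.leaf 444) 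
    (.leaf 956)) (.node (.leaf 188) (.leaf 700))))))))) (.node (.node (.node (.node (.node (.node 
    (.node (.node (.leaf 66) (.leaf 578)) (.node (.leaf 322) (.leaf 834))) (.node (.node (.leaf 
    194) (.leaf 706)) (.node (.leaf 450) (.leaf 962)))) (.node (.node (.node (.leaf 2) (.leaf 514)) 
    (.node (.leaf 258) (.leaf 770))) (.node (.node (.leaf 130) (.leaf 642)) (.node (.leaf 386) 
    (.leaf 898))))) (.node (.node (.node (.node (.leaf 98) (.leaf 610)) (.node (.leaf 354) (.leaf 
    866))) (.node (.node (.leaf 226) (.leaf 738)) (.node (.leaf 482) (.leaf 994)))) (.node (.node 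
    (.node (.leaf 34) (.leaf 546)) (.node (.leaf 290) (.leaf 802))) (.node (.node (.leaf 162) 
    (.leaf 674)) (.node (.leaf 418) (.leaf 930)))))) (.node (.node (.node (.node (.node (.leaf 82) 
    (.leaf 594)) (.node (.leaf 338) (.leaf 850))) (.node (.node (.leaf 210) (.leaf 722)) (.node 
    (.leaf 466) (.leaf 978)))) (.node (.node (.node (.leaf 18) (.leaf 530)) (.node (.leaf 274) 
    (.leaf 786))) (.node (.node (.leaf 146) (.leaf 658)) (.node (.leaf 402) (.leaf 914))))) (.node 
    (.node (.node (.node (.leaf 114) (.leaf 626)) (.node (.leaf 370) (.leaf 882))) (.node (.node 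
    (.leaf 242) (.leaf 754)) (.node (.leaf 498) (.leaf 1010)))) (.node (.node (.node (.leaf 50) 
    (.leaf 562)) (.node (.leaf 306) (.leaf 818))) (.node (.node (.leaf 178) (.leaf 690)) (.node 
    (.leaf 434) (.leaf 946))))))) (.node (.node (.node (.node (.node (.node (.leaf 74) (.leaf 586)) 
    (.node (.leaf 330) (.leaf 842))) (.node (.node (.leaf 202) (.leaf 714)) (.node (.leaf 458) 
    (.leaf 970)))) (.node (.node (.node (.leaf 10) (.leaf 522)) (.node (.leaf 266) (.leaf 778))) 
    (.node (.node (.leaf 138) (.leaf 650)) (.node (.leaf 394) (.leaf 906))))) (.node (.node (.node 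
    (.node (.leaf 106) (.leaf 618)) (.node (.leaf 362) (.leaf 874))) (.node (.node (.leaf 234) 
    (.leaf 746)) (.node (.leaf 490) (.leaf 1002)))) (.node (.node (.node (.leaf 42) (.leaf 554)) 
    (.node (.leaf 298) (.leaf 810))) (.node (.node (.leaf 170) (.leaf 682)) (.node (.leaf 426) 
    (.leaf 938)))))) (.node (.node (.node (.node (.node (.leaf 90) (.leaf 602)) (.node (.leaf 346) 
    (.leaf 858))) (.node (.node (.leaf 218) (.leaf 730)) (.node (.leaf 474) (.leaf 986)))) (.node 
    (.node (.node (.leaf 26) (.leaf 538)) (.node (.leaf 282) (.leaf 794))) (.node (.node (.leaf 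
    154) (.leaf 666)) (.node (.leaf 410) (.leaf 922))))) (.node (.node (.node (.node (.leaf 122) 
    (.leaf 634)) (.node (.leaf 378) (.leaf 890))) (.node (.node (.leaf 250) (.leaf 762)) (.node 
    (.leaf 506) (.leaf 1018)))) (.node (.node (.node (.leaf 58) (.leaf 570)) (.node (.leaf 314) 
    (.leaf 826))) (.node (.node (.leaf 186) (.leaf 698)) (.node (.leaf 442) (.leaf 954)))))))) 
    (.node (.node (.node (.node (.node (.node (.node (.leaf 326) (.leaf 838)) (.node (.leaf 70) 
    (.leaf 582))) (.node (.node (.leaf 454) (.leaf 966)) (.node (.leaf 198) (.leaf 710)))) (.node 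
    (.node (.node (.leaf 262) (.leaf 774)) (.node (.leaf 6) (.leaf 518))) (.node (.node (.leaf 390) 
    (.leaf 902)) (.node (.leaf 134) (.leaf 646))))) (.node (.node (.node (.node (.leaf 358) (.leaf 
    870)) (.node (.leaf 102) (.leaf 614))) (.node (.node (.leaf 486) (.leaf 998)) (.node (.leaf 
    230) (.leaf 742)))) (.node (.node (.node (.leaf 294) (.leaf 806)) (.node (.leaf 38) (.leaf 
    550))) (.node (.node (.leaf 422) (.leaf 934)) (.node (.leaf 166) (.leaf 678)))))) (.node (.node 
    (.node (.node (.node (.leaf 342) (.leaf 854)) (.node (.leaf 86) (.leaf 598))) (.node (.node 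
    (.leaf 470) (.leaf 982)) (.node (.leaf 214) (.leaf 726)))) (.node (.node (.node (.leaf 278) 
    (.leaf 790)) (.node (.leaf 22) (.leaf 534))) (.node (.node (.leaf 406) (.leaf 918)) (.node 
    (.leaf 150) (.leaf 662))))) (.node (.node (.node (.node (.leaf 374) (.leaf 886)) (.node (.leaf 
    118) (.leaf 630))) (.node (.node (.leaf 502) (.leaf 1014)) (.node (.leaf 246) (.leaf 758)))) 
    (.node (.node (.node (.leaf 310) (.leaf 822)) (.node (.leaf 54) (.leaf 566))) (.node (.node 
    (.leaf 438) (.leaf 950)) (.node (.leaf 182) (.leaf 694))))))) (.node (.node (.node (.node 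
    (.node (.node (.leaf 334) (.leaf 846)) (.node (.leaf 78) (.leaf 590))) (.node (.node (.leaf 
    462) (.leaf 974)) (.node (.leaf 206) (.leaf 718)))) (.node (.node (.node (.leaf 270) (.leaf 
    782)) (.node (.leaf 14) (.leaf 526))) (.node (.node (.leaf 398) (.leaf 910)) (.node (.leaf 142) 
    (.leaf 654))))) (.node (.node (.node (.node (.leaf 366) (.leaf 878)) (.node (.leaf 110) (.leaf 
    622))) (.node (.node (.leaf 494) (.leaf 1006)) (.node (.leaf 238) (.leaf 750)))) (.node (.node 
    (.node (.leaf 302) (.leaf 814)) (.node (.leaf 46) (.leaf 558))) (.node (.node (.leaf 430) 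
    (.leaf 942)) (.node (.leaf 174) (.leaf 686)))))) (.node (.node (.node (.node (.node (.leaf 350) 
    (.leaf 862)) (.node (.leaf 94) (.leaf 606))) (.node (.node (.leaf 478) (.leaf 990)) (.node 
    (.leaf 222) (.leaf 734)))) (.node (.node (.node (.leaf 286) (.leaf 798)) (.node (.leaf 30) 
    (.leaf 542))) (.node (.node (.leaf 414) (.leaf 926)) (.node (.leaf 158) (.leaf 670))))) (.node 
    (.node (.node (.node (.leaf 382) (.leaf 894)) (.node (.leaf 126) (.leaf 638))) (.node (.node 
    (.leaf 510) (.leaf 1022)) (.node (.leaf 254) (.leaf 766)))) (.node (.node (.node (.leaf 318) 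
    (.leaf 830)) (.node (.leaf 62) (.leaf 574))) (.node (.node (.leaf 446) (.leaf 958)) (.node 
    (.leaf 190) (.leaf 702)))))))))) (.node (.node (.node (.node (.node (.node (.node (.node (.node 
    (.leaf 193) (.leaf 705)) (.node (.leaf 449) (.leaf 961))) (.node (.node (.leaf 65) (.leaf 577)) 
    (.node (.leaf 321) (.leaf 833)))) (.node (.node (.node (.leaf 129) (.leaf 641)) (.node (.leaf 
    385) (.leaf 897))) (.node (.node (.leaf 1) (.leaf 513)) (.node (.leaf 257) (.leaf 769))))) 
    (.node (.node (.node (.node (.leaf 225) (.leaf 737)) (.node (.leaf 481) (.leaf 993))) (.node 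
    (.node (.leaf 97) (.leaf 609)) (.node (.leaf 353) (.leaf 865)))) (.node (.node (.node (.leaf 
    161) (.leaf 673)) (.node (.leaf 417) (.leaf 929))) (.node (.node (.leaf 33) (.leaf 545)) (.node 
    (.leaf 289) (.leaf 801)))))) (.node (.node (.node (.node (.node (.leaf 209) (.leaf 721)) (.node 
    (.leaf 465) (.leaf 977))) (.node (.node (.leaf 81) (.leaf 593)) (.node (.leaf 337) (.leaf 
    849)))) (.node (.node (.node (.leaf 145) (.leaf 657)) (.node (.leaf 401) (.leaf 913))) (.node 
    (.node (.leaf 17) (.leaf 529)) (.node (.leaf 273) (.leaf 785))))) (.node (.node (.node (.node 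
    (.leaf 241) (.leaf 753)) (.node (.leaf 497) (.leaf 1009))) (.node (.node (.leaf 113) (.leaf 
    625)) (.node (.leaf 369) (.leaf 881)))) (.node (.node (.node (.leaf 177) (.leaf 689)) (.node 
    (.leaf 433) (.leaf 945))) (.node (.node (.leaf 49) (.leaf 561)) (.node (.leaf 305) (.leaf 
    817))))))) (.node (.node (.node (.node (.node (.node (.leaf 201) (.leaf 713)) (.node (.leaf 
    457) (.leaf 969))) (.node (.node (.leaf 73) (.leaf 585)) (.node (.leaf 329) (.leaf 841)))) 
    (.node (.node (.node (.leaf 137) (.leaf 649)) (.node (.leaf 393) (.leaf 905))) (.node (.node 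
    (.leaf 9) (.leaf 521)) (.node (.leaf 265) (.leaf 777))))) (.node (.node (.node (.node (.leaf 
    233) (.leaf 745)) (.node (.leaf 489) (.leaf 1001))) (.node (.node (.leaf 105) (.leaf 617)) 
    (.node (.leaf 361) (.leaf 873)))) (.node (.node (.node (.leaf 169) (.leaf 681)) (.node (.leaf 
    425) (.leaf 937))) (.node (.node (.leaf 41) (.leaf 553)) (.node (.leaf 297) (.leaf 809)))))) 
    (.node (.node (.node (.node (.node (.leaf 217) (.leaf 729)) (.node (.leaf 473) (.leaf 985))) 
    (.node (.node (.leaf 89) (.leaf 601)) (.node (.leaf 345) (.leaf 857)))) (.node (.node (.node 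
    (.leaf 153) (.leaf 665)) (.node (.leaf 409) (.leaf 921))) (.node (.node (.leaf 25) (.leaf 537)) 
    (.node (.leaf 281) (.leaf 793))))) (.node (.node (.node (.node (.leaf 249) (.leaf 761)) (.node 
    (.leaf 505) (.leaf 1017))) (.node (.node (.leaf 121) (.leaf 633)) (.node (.leaf 377) (.leaf 
    889)))) (.node (.node (.node (.leaf 185) (.leaf 697)) (.node (.leaf 441) (.leaf 953))) (.node 
    (.node (.leaf 57) (.leaf 569)) (.node (.leaf 313) (.leaf 825)))))))) (.node (.node (.node 
    (.node (.node (.node (.node (.leaf 965) (.leaf 453)) (.node (.leaf 709) (.leaf 197))) (.node 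
    (.node (.leaf 837) (.leaf 325)) (.node (.leaf 581) (.leaf 69)))) (.node (.node (.node (.leaf 
    901) (.leaf 389)) (.node (.leaf 645) (.leaf 133))) (.node (.node (.leaf 773) (.leaf 261)) 
    (.node (.leaf 517) (.leaf 5))))) (.node (.node (.node (.node (.leaf 997) (.leaf 485)) (.node 
    (.leaf 741) (.leaf 229))) (.node (.node (.leaf 869) (.leaf 357)) (.node (.leaf 613) (.leaf 
    101)))) (.node (.node (.node (.leaf 933) (.leaf 421)) (.node (.leaf 677) (.leaf 165))) (.node 
    (.node (.leaf 805) (.leaf 293)) (.node (.leaf 549) (.leaf 37)))))) (.node (.node (.node (.node 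
    (.node (.leaf 981) (.leaf 469)) (.node (.leaf 725) (.leaf 213))) (.node (.node (.leaf 853) 
    (.leaf 341)) (.node (.leaf 597) (.leaf 85)))) (.node (.node (.node (.leaf 917) (.leaf 405)) 
    (.node (.leaf 661) (.leaf 149))) (.node (.node (.leaf 789) (.leaf 277)) (.node (.leaf 533) 
    (.leaf 21))))) (.node (.node (.node (.node (.leaf 1013) (.leaf 501)) (.node (.leaf 757) (.leaf 
    245))) (.node (.node (.leaf 885) (.leaf 373)) (.node (.leaf 629) (.leaf 117)))) (.node (.node 
    (.node (.leaf 949) (.leaf 437)) (.node (.leaf 693) (.leaf 181))) (.node (.node (.leaf 821) 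
    (.leaf 309)) (.node (.leaf 565) (.leaf 53))))))) (.node (.node (.node (.node (.node (.node 
    (.leaf 973) (.leaf 461)) (.node (.leaf 717) (.leaf 205))) (.node (.node (.leaf 845) (.leaf 
    333)) (.node (.leaf 589) (.leaf 77)))) (.node (.node (.node (.leaf 909) (.leaf 397)) (.node 
    (.leaf 653) (.leaf 141))) (.node (.node (.leaf 781) (.leaf 269)) (.node (.leaf 525) (.leaf 
    13))))) (.node (.node (.node (.node (.leaf 1005) (.leaf 493)) (.node (.leaf 749) (.leaf 237))) 
    (.node (.node (.leaf 877) (.leaf 365)) (.node (.leaf 621) (.leaf 109)))) (.node (.node (.node 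
    (.leaf 941) (.leaf 429)) (.node (.leaf 685) (.leaf 173))) (.node (.node (.leaf 813) (.leaf 
    301)) (.node (.leaf 557) (.leaf 45)))))) (.node (.node (.node (.node (.node (.leaf 989) (.leaf 
    477)) (.node (.leaf 733) (.leaf 221))) (.node (.node (.leaf 861) (.leaf 349)) (.node (.leaf 
    605) (.leaf 93)))) (.node (.node (.node (.leaf 925) (.leaf 413)) (.node (.leaf 669) (.leaf 
    157))) (.node (.node (.leaf 797) (.leaf 285)) (.node (.leaf 541) (.leaf 29))))) (.node (.node 
    (.node (.node (.leaf 1021) (.leaf 509)) (.node (.leaf 765) (.leaf 253))) (.node (.node (.leaf 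
    893) (.leaf 381)) (.node (.leaf 637) (.leaf 125)))) (.node (.node (.node (.leaf 957) (.leaf 
    445)) (.node (.leaf 701) (.leaf 189))) (.node (.node (.leaf 829) (.leaf 317)) (.node (.leaf 
    573) (.leaf 61))))))))) (.node (.node (.node (.node (.node (.node (.node (.node (.leaf 195) 
    (.leaf 707)) (.node (.leaf 451) (.leaf 963))) (.node (.node (.leaf 67) (.leaf 579)) (.node 
    (.leaf 323) (.leaf 835)))) (.node (.node (.node (.leaf 131) (.leaf 643)) (.node (.leaf 387) 
    (.leaf 899))) (.node (.node (.leaf 3) (.leaf 515)) (.node (.leaf 259) (.leaf 771))))) (.node 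
    (.node (.node (.node (.leaf 227) (.leaf 739)) (.node (.leaf 483) (.leaf 995))) (.node (.node 
    (.leaf 99) (.leaf 611)) (.node (.leaf 355) (.leaf 867)))) (.node (.node (.node (.leaf 163) 
    (.leaf 675)) (.node (.leaf 419) (.leaf 931))) (.node (.node (.leaf 35) (.leaf 547)) (.node 
    (.leaf 291) (.leaf 803)))))) (.node (.node (.node (.node (.node (.leaf 211) (.leaf 723)) (.node 
    (.leaf 467) (.leaf 979))) (.node (.node (.leaf 83) (.leaf 595)) (.node (.leaf 339) (.leaf 
    851)))) (.node (.node (.node (.leaf 147) (.leaf 659)) (.node (.leaf 403) (.leaf 915))) (.node 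
    (.node (.leaf 19) (.leaf 531)) (.node (.leaf 275) (.leaf 787))))) (.node (.node (.node (.node 
    (.leaf 243) (.leaf 755)) (.node (.leaf 499) (.leaf 1011))) (.node (.node (.leaf 115) (.leaf 
    627)) (.node (.leaf 371) (.leaf 883)))) (.node (.node (.node (.leaf 179) (.leaf 691)) (.node 
    (.leaf 435) (.leaf 947))) (.node (.node (.leaf 51) (.leaf 563)) (.node (.leaf 307) (.leaf 
    819))))))) (.node (.node (.node (.node (.node (.node (.leaf 203) (.leaf 715)) (.node (.leaf 
    459) (.leaf 971))) (.node (.node (.leaf 75) (.leaf 587)) (.node (.leaf 331) (.leaf 843)))) 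
    (.node (.node (.node (.leaf 139) (.leaf 651)) (.node (.leaf 395) (.leaf 907))) (.node (.node 
    (.leaf 11) (.leaf 523)) (.node (.leaf 267) (.leaf 779))))) (.node (.node (.node (.node (.leaf 
    235) (.leaf 747)) (.node (.leaf 491) (.leaf 1003))) (.node (.node (.leaf 107) (.leaf 619)) 
    (.node (.leaf 363) (.leaf 875)))) (.node (.node (.node (.leaf 171) (.leaf 683)) (.node (.leaf 
    427) (.leaf 939))) (.node (.node (.leaf 43) (.leaf 555)) (.node (.leaf 299) (.leaf 811)))))) 
    (.node (.node (.node (.node (.node (.leaf 219) (.leaf 731)) (.node (.leaf 475) (.leaf 987))) 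
    (.node (.node (.leaf 91) (.leaf 603)) (.node (.leaf 347) (.leaf 859)))) (.node (.node (.node 
    (.leaf 155) (.leaf 667)) (.node (.leaf 411) (.leaf 923))) (.node (.node (.leaf 27) (.leaf 539)) 
    (.node (.leaf 283) (.leaf 795))))) (.node (.node (.node (.node (.leaf 251) (.leaf 763)) (.node 
    (.leaf 507) (.leaf 1019))) (.node (.node (.leaf 123) (.leaf 635)) (.node (.leaf 379) (.leaf 
    891)))) (.node (.node (.node (.leaf 187) (.leaf 699)) (.node (.leaf 443) (.leaf 955))) (.node 
    (.node (.leaf 59) (.leaf 571)) (.node (.leaf 315) (.leaf 827)))))))) (.node (.node (.node 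
    (.node (.node (.node (.node (.leaf 967) (.leaf 455)) (.node (.leaf 711) (.leaf 199))) (.node 
    (.node (.leaf 839) (.leaf 327)) (.node (.leaf 583) (.leaf 71)))) (.node (.node (.node (.leaf 
    903) (.leaf 391)) (.node (.leaf 647) (.leaf 135))) (.node (.node (.leaf 775) (.leaf 263)) 
    (.node (.leaf 519) (.leaf 7))))) (.node (.node (.node (.node (.leaf 999) (.leaf 487)) (.node 
    (.leaf 743) (.leaf 231))) (.node (.node (.leaf 871) (.leaf 359)) (.node (.leaf 615) (.leaf 
    103)))) (.node (.node (.node (.leaf 935) (.leaf 423)) (.node (.leaf 679) (.leaf 167))) (.node 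
    (.node (.leaf 807) (.leaf 295)) (.node (.leaf 551) (.leaf 39)))))) (.node (.node (.node (.node 
    (.node (.leaf 983) (.leaf 471)) (.node (.leaf 727) (.leaf 215))) (.node (.node (.leaf 855) 
    (.leaf 343)) (.node (.leaf 599) (.leaf 87)))) (.node (.node (.node (.leaf 919) (.leaf 407)) 
    (.node (.leaf 663) (.leaf 151))) (.node (.node (.leaf 791) (.leaf 279)) (.node (.leaf 535) 
    (.leaf 23))))) (.node (.node (.node (.node (.leaf 1015) (.leaf 503)) (.node (.leaf 759) (.leaf 
    247))) (.node (.node (.leaf 887) (.leaf 375)) (.node (.leaf 631) (.leaf 119)))) (.node (.node 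
    (.node (.leaf 951) (.leaf 439)) (.node (.leaf 695) (.leaf 183))) (.node (.node (.leaf 823) 
    (.leaf 311)) (.node (.leaf 567) (.leaf 55))))))) (.node (.node (.node (.node (.node (.node 
    (.leaf 975) (.leaf 463)) (.node (.leaf 719) (.leaf 207))) (.node (.node (.leaf 847) (.leaf 
    335)) (.node (.leaf 591) (.leaf 79)))) (.node (.node (.node (.leaf 911) (.leaf 399)) (.node 
    (.leaf 655) (.leaf 143))) (.node (.node (.leaf 783) (.leaf 271)) (.node (.leaf 527) (.leaf 
    15))))) (.node (.node (.node (.node (.leaf 1007) (.leaf 495)) (.node (.leaf 751) (.leaf 239))) 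
    (.node (.node (.leaf 879) (.leaf 367)) (.node (.leaf 623) (.leaf 111)))) (.node (.node (.node 
    (.leaf 943) (.leaf 431)) (.node (.leaf 687) (.leaf 175))) (.node (.node (.leaf 815) (.leaf 
    303)) (.node (.leaf 559) (.leaf 47)))))) (.node (.node (.node (.node (.node (.leaf 991) (.leaf 
    479)) (.node (.leaf 735) (.leaf 223))) (.node (.node (.leaf 863) (.leaf 351)) (.node (.leaf 
    607) (.leaf 95)))) (.node (.node (.node (.leaf 927) (.leaf 415)) (.node (.leaf 671) (.leaf 
    159))) (.node (.node (.leaf 799) (.leaf 287)) (.node (.leaf 543) (.leaf 31))))) (.node (.node 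
    (.node (.node (.leaf 1023) (.leaf 511)) (.node (.leaf 767) (.leaf 255))) (.node (.node (.leaf 
    895) (.leaf 383)) (.node (.leaf 639) (.leaf 127)))) (.node (.node (.node (.leaf 959) (.leaf 
    447)) (.node (.leaf 703) (.leaf 191))) (.node (.node (.leaf 831) (.leaf 319)) (.node (.leaf 
    575) (.leaf 63))))))))))) (.leaf 0)))) (.node (.node (.node (.node (.node (.node (.node (.node 
    (.node (.node (.node (.node (.node (.leaf 2) (.leaf 514)) (.node (.leaf 258) (.leaf 770))) 
    (.node (.node (.leaf 130) (.leaf 642)) (.node (.leaf 386) (.leaf 898)))) (.node (.node (.node 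
    (.leaf 66) (.leaf 578)) (.node (.leaf 322) (.leaf 834))) (.node (.node (.leaf 194) (.leaf 706)) 
    (.node (.leaf 450) (.leaf 962))))) (.node (.node (.node (.node (.leaf 34) (.leaf 546)) (.node 
    (.leaf 290) (.leaf 802))) (.node (.node (.leaf 162) (.leaf 674)) (.node (.leaf 418) (.leaf 
    930)))) (.node (.node (.node (.leaf 98) (.leaf 610)) (.node (.leaf 354) (.leaf 866))) (.node 
    (.node (.leaf 226) (.leaf 738)) (.node (.leaf 482) (.leaf 994)))))) (.node (.node (.node (.node 
    (.node (.leaf 18) (.leaf 530)) (.node (.leaf 274) (.leaf 786))) (.node (.node (.leaf 146) 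
    (.leaf 658)) (.node (.leaf 402) (.leaf 914)))) (.node (.node (.node (.leaf 82) (.leaf 594)) 
    (.node (.leaf 338) (.leaf 850))) (.node (.node (.leaf 210) (.leaf 722)) (.node (.leaf 466) 
    (.leaf 978))))) (.node (.node (.node (.node (.leaf 50) (.leaf 562)) (.node (.leaf 306) (.leaf 
    818))) (.node (.node (.leaf 178) (.leaf 690)) (.node (.leaf 434) (.leaf 946)))) (.node (.node 
    (.node (.leaf 114) (.leaf 626)) (.node (.leaf 370) (.leaf 882))) (.node (.node (.leaf 242) 
    (.leaf 754)) (.node (.leaf 498) (.leaf 1010))))))) (.node (.node (.node (.node (.node (.node 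
    (.leaf 10) (.leaf 522)) (.node (.leaf 266) (.leaf 778))) (.node (.node (.leaf 138) (.leaf 650)) 
    (.node (.leaf 394) (.leaf 906)))) (.node (.node (.node (.leaf 74) (.leaf 586)) (.node (.leaf 
    330) (.leaf 842))) (.node (.node (.leaf 202) (.leaf 714)) (.node (.leaf 458) (.leaf 970))))) 
    (.node (.node (.node (.node (.leaf 42) (.leaf 554)) (.node (.leaf 298) (.leaf 810))) (.node 
    (.node (.leaf 170) (.leaf 682)) (.node (.leaf 426) (.leaf 938)))) (.node (.node (.node (.leaf 
    106) (.leaf 618)) (.node (.leaf 362) (.leaf 874))) (.node (.node (.leaf 234) (.leaf 746)) 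
    (.node (.leaf 490) (.leaf 1002)))))) (.node (.node (.node (.node (.node (.leaf 26) (.leaf 538)) 
    (.node (.leaf 282) (.leaf 794))) (.node (.node (.leaf 154) (.leaf 666)) (.node (.leaf 410) 
    (.leaf 922)))) (.node (.node (.node (.leaf 90) (.leaf 602)) (.node (.leaf 346) (.leaf 858))) 
    (.node (.node (.leaf 218) (.leaf 730)) (.node (.leaf 474) (.leaf 986))))) (.node (.node (.node 
    (.node (.leaf 58) (.leaf 570)) (.node (.leaf 314) (.leaf 826))) (.node (.node (.leaf 186) 
    (.leaf 698)) (.node (.leaf 442) (.leaf 954)))) (.node (.node (.node (.leaf 122) (.leaf 634)) 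
    (.node (.leaf 378) (.leaf 890))) (.node (.node (.leaf 250) (.leaf 762)) (.node (.leaf 506) 
    (.leaf 1018)))))))) (.node (.node (.node (.node (.node (.node (.node (.leaf 6) (.leaf 518)) 
    (.node (.leaf 262) (.leaf 774))) (.node (.node (.leaf 134) (.leaf 646)) (.node (.leaf 390) 
    (.leaf 902)))) (.node (.node (.node (.leaf 70) (.leaf 582)) (.node (.leaf 326) (.leaf 838))) 
    (.node (.node (.leaf 198) (.leaf 710)) (.node (.leaf 454) (.leaf 966))))) (.node (.node (.node 
    (.node (.leaf 38) (.leaf 550)) (.node (.leaf 294) (.leaf 806))) (.node (.node (.leaf 166) 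
    (.leaf 678)) (.node (.leaf 422) (.leaf 934)))) (.node (.node (.node (.leaf 102) (.leaf 614)) 
    (.node (.leaf 358) (.leaf 870))) (.node (.node (.leaf 230) (.leaf 742)) (.node (.leaf 486) 
    (.leaf 998)))))) (.node (.node (.node (.node (.node (.leaf 22) (.leaf 534)) (.node (.leaf 278) 
    (.leaf 790))) (.node (.node (.leaf 150) (.leaf 662)) (.node (.leaf 406) (.leaf 918)))) (.node 
    (.node (.node (.leaf 86) (.leaf 598)) (.node (.leaf 342) (.leaf 854))) (.node (.node (.leaf 
    214) (.leaf 726)) (.node (.leaf 470) (.leaf 982))))) (.node (.node (.node (.node (.leaf 54) 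
    (.leaf 566)) (.node (.leaf 310) (.leaf 822))) (.node (.node (.leaf 182) (.leaf 694)) (.node 
    (.leaf 438) (.leaf 950)))) (.node (.node (.node (.leaf 118) (.leaf 630)) (.node (.leaf 374) 
    (.leaf 886))) (.node (.node (.leaf 246) (.leaf 758)) (.node (.leaf 502) (.leaf 1014))))))) 
    (.node (.node (.node (.node (.node (.node (.leaf 14) (.leaf 526)) (.node (.leaf 270) (.leaf 
    782))) (.node (.node (.leaf 142) (.leaf 654)) (.node (.leaf 398) (.leaf 910)))) (.node (.node 
    (.node (.leaf 78) (.leaf 590)) (.node (.leaf 334) (.leaf 846))) (.node (.node (.leaf 206) 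
    (.leaf 718)) (.node (.leaf 462) (.leaf 974))))) (.node (.node (.node (.node (.leaf 46) (.leaf 
    558)) (.node (.leaf 302) (.leaf 814))) (.node (.node (.leaf 174) (.leaf 686)) (.node (.leaf 
    430) (.leaf 942)))) (.node (.node (.node (.leaf 110) (.leaf 622)) (.node (.leaf 366) (.leaf 
    878))) (.node (.node (.leaf 238) (.leaf 750)) (.node (.leaf 494) (.leaf 1006)))))) (.node 
    (.node (.node (.node (.node (.leaf 30) (.leaf 542)) (.node (.leaf 286) (.leaf 798))) (.node 
    (.node (.leaf 158) (.leaf 670)) (.node (.leaf 414) (.leaf 926)))) (.node (.node (.node (.leaf 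
    94) (.leaf 606)) (.node (.leaf 350) (.leaf 862))) (.node (.node (.leaf 222) (.leaf 734)) (.node 
    (.leaf 478) (.leaf 990))))) (.node (.node (.node (.node (.leaf 62) (.leaf 574)) (.node (.leaf 
    318) (.leaf 830))) (.node (.node (.leaf 190) (.leaf 702)) (.node (.leaf 446) (.leaf 958)))) 
    (.node (.node (.node (.leaf 126) (.leaf 638)) (.node (.leaf 382) (.leaf 894))) (.node (.node 
    (.leaf 254) (.leaf 766)) (.node (.leaf 510) (.leaf 1022))))))))) (.node (.node (.node (.node 
    (.node (.node (.node (.node (.leaf 0) (.leaf 512)) (.node (.leaf 256) (.leaf 768))) (.node 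
    (.node (.leaf 128) (.leaf 640)) (.node (.leaf 384) (.leaf 896)))) (.node (.node (.node (.leaf 
    64) (.leaf 576)) (.node (.leaf 320) (.leaf 832))) (.node (.node (.leaf 192) (.leaf 704)) (.node 
    (.leaf 448) (.leaf 960))))) (.node (.node (.node (.node (.leaf 32) (.leaf 544)) (.node (.leaf 
    288) (.leaf 800))) (.node (.node (.leaf 160) (.leaf 672)) (.node (.leaf 416) (.leaf 928)))) 
    (.node (.node (.node (.leaf 96) (.leaf 608)) (.node (.leaf 352) (.leaf 864))) (.node (.node 
    (.leaf 224) (.leaf 736)) (.node (.leaf 480) (.leaf 992)))))) (.node (.node (.node (.node (.node 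
    (.leaf 16) (.leaf 528)) (.node (.leaf 272) (.leaf 784))) (.node (.node (.leaf 144) (.leaf 656)) 
    (.node (.leaf 400) (.leaf 912)))) (.node (.node (.node (.leaf 80) (.leaf 592)) (.node (.leaf 
    336) (.leaf 848))) (.node (.node (.leaf 208) (.leaf 720)) (.node (.leaf 464) (.leaf 976))))) 
    (.node (.node (.node (.node (.leaf 48) (.leaf 560)) (.node (.leaf 304) (.leaf 816))) (.node 
    (.node (.leaf 176) (.leaf 688)) (.node (.leaf 432) (.leaf 944)))) (.node (.node (.node (.leaf 
    112) (.leaf 624)) (.node (.leaf 368) (.leaf 880))) (.node (.node (.leaf 240) (.leaf 752)) 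
    (.node (.leaf 496) (.leaf 1008))))))) (.node (.node (.node (.node (.node (.node (.leaf 8) 
    (.leaf 520)) (.node (.leaf 264) (.leaf 776))) (.node (.node (.leaf 136) (.leaf 648)) (.node 
    (.leaf 392) (.leaf 904)))) (.node (.node (.node (.leaf 72) (.leaf 584)) (.node (.leaf 328) 
    (.leaf 840))) (.node (.node (.leaf 200) (.leaf 712)) (.node (.leaf 456) (.leaf 968))))) (.node 
    (.node (.node (.node (.leaf 40) (.leaf 552)) (.node (.leaf 296) (.leaf 808))) (.node (.node 
    (.leaf 168) (.leaf 680)) (.node (.leaf 424) (.leaf 936)))) (.node (.node (.node (.leaf 104) 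
    (.leaf 616)) (.node (.leaf 360) (.leaf 872))) (.node (.node (.leaf 232) (.leaf 744)) (.node 
    (.leaf 488) (.leaf 1000)))))) (.node (.node (.node (.node (.node (.leaf 24) (.leaf 536)) (.node 
    (.leaf 280) (.leaf 792))) (.node (.node (.leaf 152) (.leaf 664)) (.node (.leaf 408) (.leaf 
    920)))) (.node (.node (.node (.leaf 88) (.leaf 600)) (.node (.leaf 344) (.leaf 856))) (.node 
    (.node (.leaf 216) (.leaf 728)) (.node (.leaf 472) (.leaf 984))))) (.node (.node (.node (.node 
    (.leaf 56) (.leaf 568)) (.node (.leaf 312) (.leaf 824))) (.node (.node (.leaf 184) (.leaf 696)) 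
    (.node (.leaf 440) (.leaf 952)))) (.node (.node (.node (.leaf 120) (.leaf 632)) (.node (.leaf 
    376) (.leaf 888))) (.node (.node (.leaf 248) (.leaf 760)) (.node (.leaf 504) (.leaf 
    1016)))))))) (.node (.node (.node (.node (.node (.node (.node (.leaf 4) (.leaf 516)) (.node 
    (.leaf 260) (.leaf 772))) (.node (.node (.leaf 132) (.leaf 644)) (.node (.leaf 388) (.leaf 
    900)))) (.node (.node (.node (.leaf 68) (.leaf 580)) (.node (.leaf 324) (.leaf 836))) (.node 
    (.node (.leaf 196) (.leaf 708)) (.node (.leaf 452) (.leaf 964))))) (.node (.node (.node (.node 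
    (.leaf 36) (.leaf 548)) (.node (.leaf 292) (.leaf 804))) (.node (.node (.leaf 164) (.leaf 676)) 
    (.node (.leaf 420) (.leaf 932)))) (.node (.node (.node (.leaf 100) (.leaf 612)) (.node (.leaf 
    356) (.leaf 868))) (.node (.node (.leaf 228) (.leaf 740)) (.node (.leaf 484) (.leaf 996)))))) 
    (.node (.node (.node (.node (.node (.leaf 20) (.leaf 532)) (.node (.leaf 276) (.leaf 788))) 
    (.node (.node (.leaf 148) (.leaf 660)) (.node (.leaf 404) (.leaf 916)))) (.node (.node (.node 
    (.leaf 84) (.leaf 596)) (.node (.leaf 340) (.leaf 852))) (.node (.node (.leaf 212) (.leaf 724)) 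
    (.node (.leaf 468) (.leaf 980))))) (.node (.node (.node (.node (.leaf 52) (.leaf 564)) (.node 
    (.leaf 308) (.leaf 820))) (.node (.node (.leaf 180) (.leaf 692)) (.node (.leaf 436) (.leaf 
    948)))) (.node (.node (.node (.leaf 116) (.leaf 628)) (.node (.leaf 372) (.leaf 884))) (.node 
    (.node (.leaf 244) (.leaf 756)) (.node (.leaf 500) (.leaf 1012))))))) (.node (.node (.node 
    (.node (.node (.node (.leaf 12) (.leaf 524)) (.node (.leaf 268) (.leaf 780))) (.node (.node 
    (.leaf 140) (.leaf 652)) (.node (.leaf 396) (.leaf 908)))) (.node (.node (.node (.leaf 76) 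
    (.leaf 588)) (.node (.leaf 332) (.leaf 844))) (.node (.node (.leaf 204) (.leaf 716)) (.node 
    (.leaf 460) (.leaf 972))))) (.node (.node (.node (.node (.leaf 44) (.leaf 556)) (.node (.leaf 
    300) (.leaf 812))) (.node (.node (.leaf 172) (.leaf 684)) (.node (.leaf 428) (.leaf 940)))) 
    (.node (.node (.node (.leaf 108) (.leaf 620)) (.node (.leaf 364) (.leaf 876))) (.node (.node 
    (.leaf 236) (.leaf 748)) (.node (.leaf 492) (.leaf 1004)))))) (.node (.node (.node (.node 
    (.node (.leaf 28) (.leaf 540)) (.node (.leaf 284) (.leaf 796))) (.node (.node (.leaf 156) 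
    (.leaf 668)) (.node (.leaf 412) (.leaf 924)))) (.node (.node (.node (.leaf 92) (.leaf 604)) 
    (.node (.leaf 348) (.leaf 860))) (.node (.node (.leaf 220) (.leaf 732)) (.node (.leaf 476) 
    (.leaf 988))))) (.node (.node (.node (.node (.leaf 60) (.leaf 572)) (.node (.leaf 316) (.leaf 
    828))) (.node (.node (.leaf 188) (.leaf 700)) (.node (.leaf 444) (.leaf 956)))) (.node (.node 
    (.node (.leaf 124) (.leaf 636)) (.node (.leaf 380) (.leaf 892))) (.node (.node (.leaf 252) 
    (.leaf 764)) (.node (.leaf 508) (.leaf 1020)))))))))) (.node (.node (.node (.node (.node (.node 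
    (.node (.node (.node (.leaf 19) (.leaf 531)) (.node (.leaf 275) (.leaf 787))) (.node (.node 
    (.leaf 147) (.leaf 659)) (.node (.leaf 403) (.leaf 915)))) (.node (.node (.node (.leaf 83) 
    (.leaf 595)) (.node (.leaf 339) (.leaf 851))) (.node (.node (.leaf 211) (.leaf 723)) (.node 
    (.leaf 467) (.leaf 979))))) (.node (.node (.node (.node (.leaf 51) (.leaf 563)) (.node (.leaf 
    307) (.leaf 819))) (.node (.node (.leaf 179) (.leaf 691)) (.node (.leaf 435) (.leaf 947)))) 
    (.node (.node (.node (.leaf 115) (.leaf 627)) (.node (.leaf 371) (.leaf 883))) (.node (.node 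
    (.leaf 243) (.leaf 755)) (.node (.leaf 499) (.leaf 1011)))))) (.node (.node (.node (.node 
    (.node (.leaf 3) (.leaf 515)) (.node (.leaf 259) (.leaf 771))) (.node (.node (.leaf 131) (.leaf 
    643)) (.node (.leaf 387) (.leaf 899)))) (.node (.node (.node (.leaf 67) (.leaf 579)) (.node 
    (.leaf 323) (.leaf 835))) (.node (.node (.leaf 195) (.leaf 707)) (.node (.leaf 451) (.leaf 
    963))))) (.node (.node (.node (.node (.leaf 35) (.leaf 547)) (.node (.leaf 291) (.leaf 803))) 
    (.node (.node (.leaf 163) (.leaf 675)) (.node (.leaf 419) (.leaf 931)))) (.node (.node (.node 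
    (.leaf 99) (.leaf 611)) (.node (.leaf 355) (.leaf 867))) (.node (.node (.leaf 227) (.leaf 739)) 
    (.node (.leaf 483) (.leaf 995))))))) (.node (.node (.node (.node (.node (.node (.leaf 155) 
    (.leaf 667)) (.node (.leaf 411) (.leaf 923))) (.node (.node (.leaf 27) (.leaf 539)) (.node 
    (.leaf 283) (.leaf 795)))) (.node (.node (.node (.leaf 219) (.leaf 731)) (.node (.leaf 475) 
    (.leaf 987))) (.node (.node (.leaf 91) (.leaf 603)) (.node (.leaf 347) (.leaf 859))))) (.node 
    (.node (.node (.node (.leaf 187) (.leaf 699)) (.node (.leaf 443) (.leaf 955))) (.node (.node 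
    (.leaf 59) (.leaf 571)) (.node (.leaf 315) (.leaf 827)))) (.node (.node (.node (.leaf 251) 
    (.leaf 763)) (.node (.leaf 507) (.leaf 1019))) (.node (.node (.leaf 123) (.leaf 635)) (.node 
    (.leaf 379) (.leaf 891)))))) (.node (.node (.node (.node (.node (.leaf 139) (.leaf 651)) (.node 
    (.leaf 395) (.leaf 907))) (.node (.node (.leaf 11) (.leaf 523)) (.node (.leaf 267) (.leaf 
    779)))) (.node (.node (.node (.leaf 203) (.leaf 715)) (.node (.leaf 459) (.leaf 971))) (.node 
    (.node (.leaf 75) (.leaf 587)) (.node (.leaf 331) (.leaf 843))))) (.node (.node (.node (.node 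
    (.leaf 171) (.leaf 683)) (.node (.leaf 427) (.leaf 939))) (.node (.node (.leaf 43) (.leaf 555)) 
    (.node (.leaf 299) (.leaf 811)))) (.node (.node (.node (.leaf 235) (.leaf 747)) (.node (.leaf 
    491) (.leaf 1003))) (.node (.node (.leaf 107) (.leaf 619)) (.node (.leaf 363) (.leaf 
    875)))))))) (.node (.node (.node (.node (.node (.node (.node (.leaf 23) (.leaf 535)) (.node 
    (.leaf 279) (.leaf 791))) (.node (.node (.leaf 151) (.leaf 663)) (.node (.leaf 407) (.leaf 
    919)))) (.node (.node (.node (.leaf 87) (.leaf 599)) (.node (.leaf 343) (.leaf 855))) (.node 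
    (.node (.leaf 215) (.leaf 727)) (.node (.leaf 471) (.leaf 983))))) (.node (.node (.node (.node 
    (.leaf 55) (.leaf 567)) (.node (.leaf 311) (.leaf 823))) (.node (.node (.leaf 183) (.leaf 695)) 
    (.node (.leaf 439) (.leaf 951)))) (.node (.node (.node (.leaf 119) (.leaf 631)) (.node (.leaf 
    375) (.leaf 887))) (.node (.node (.leaf 247) (.leaf 759)) (.node (.leaf 503) (.leaf 1015)))))) 
    (.node (.node (.node (.node (.node (.leaf 7) (.leaf 519)) (.node (.leaf 263) (.leaf 775))) 
    (.node (.node (.leaf 135) (.leaf 647)) (.node (.leaf 391) (.leaf 903)))) (.node (.node (.node 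
    (.leaf 71) (.leaf 583)) (.node (.leaf 327) (.leaf 839))) (.node (.node (.leaf 199) (.leaf 711)) 
    (.node (.leaf 455) (.leaf 967))))) (.node (.node (.node (.node (.leaf 39) (.leaf 551)) (.node 
    (.leaf 295) (.leaf 807))) (.node (.node (.leaf 167) (.leaf 679)) (.node (.leaf 423) (.leaf 
    935)))) (.node (.node (.node (.leaf 103) (.leaf 615)) (.node (.leaf 359) (.leaf 871))) (.node 
    (.node (.leaf 231) (.leaf 743)) (.node (.leaf 487) (.leaf 999))))))) (.node (.node (.node 
    (.node (.node (.node (.leaf 159) (.leaf 671)) (.node (.leaf 415) (.leaf 927))) (.node (.node 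
    (.leaf 31) (.leaf 543)) (.node (.leaf 287) (.leaf 799)))) (.node (.node (.node (.leaf 223) 
    (.leaf 735)) (.node (.leaf 479) (.leaf 991))) (.node (.node (.leaf 95) (.leaf 607)) (.node 
    (.leaf 351) (.leaf 863))))) (.node (.node (.node (.node (.leaf 191) (.leaf 703)) (.node (.leaf 
    447) (.leaf 959))) (.node (.node (.leaf 63) (.leaf 575)) (.node (.leaf 319) (.leaf 831)))) 
    (.node (.node (.node (.leaf 255) (.leaf 767)) (.node (.leaf 511) (.leaf 1023))) (.node (.node 
    (.leaf 127) (.leaf 639)) (.node (.leaf 383) (.leaf 895)))))) (.node (.node (.node (.node (.node 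
    (.leaf 143) (.leaf 655)) (.node (.leaf 399) (.leaf 911))) (.node (.node (.leaf 15) (.leaf 527)) 
    (.node (.leaf 271) (.leaf 783)))) (.node (.node (.node (.leaf 207) (.leaf 719)) (.node (.leaf 
    463) (.leaf 975))) (.node (.node (.leaf 79) (.leaf 591)) (.node (.leaf 335) (.leaf 847))))) 
    (.node (.node (.node (.node (.leaf 175) (.leaf 687)) (.node (.leaf 431) (.leaf 943))) (.node 
    (.node (.leaf 47) (.leaf 559)) (.node (.leaf 303) (.leaf 815)))) (.node (.node (.node (.leaf 
    239) (.leaf 751)) (.node (.leaf 495) (.leaf 1007))) (.node (.node (.leaf 111) (.leaf 623)) 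
    (.node (.leaf 367) (.leaf 879))))))))) (.node (.node (.node (.node (.node (.node (.node (.node 
    (.leaf 17) (.leaf 529)) (.node (.leaf 273) (.leaf 785))) (.node (.node (.leaf 145) (.leaf 657)) 
    (.node (.leaf 401) (.leaf 913)))) (.node (.node (.node (.leaf 81) (.leaf 593)) (.node (.leaf 
    337) (.leaf 849))) (.node (.node (.leaf 209) (.leaf 721)) (.node (.leaf 465) (.leaf 977))))) 
    (.node (.node (.node (.node (.leaf 49) (.leaf 561)) (.node (.leaf 305) (.leaf 817))) (.node 
    (.node (.leaf 177) (.leaf 689)) (.node (.leaf 433) (.leaf 945)))) (.node (.node (.node (.leaf 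
    113) (.leaf 625)) (.node (.leaf 369) (.leaf 881))) (.node (.node (.leaf 241) (.leaf 753)) 
    (.node (.leaf 497) (.leaf 1009)))))) (.node (.node (.node (.node (.node (.leaf 1) (.leaf 513)) 
    (.node (.leaf 257) (.leaf 769))) (.node (.node (.leaf 129) (.leaf 641)) (.node (.leaf 385) 
    (.leaf 897)))) (.node (.node (.node (.leaf 65) (.leaf 577)) (.node (.leaf 321) (.leaf 833))) 
    (.node (.node (.leaf 193) (.leaf 705)) (.node (.leaf 449) (.leaf 961))))) (.node (.node (.node 
    (.node (.leaf 33) (.leaf 545)) (.node (.leaf 289) (.leaf 801))) (.node (.node (.leaf 161) 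
    (.leaf 673)) (.node (.leaf 417) (.leaf 929)))) (.node (.node (.node (.leaf 97) (.leaf 609)) 
    (.node (.leaf 353) (.leaf 865))) (.node (.node (.leaf 225) (.leaf 737)) (.node (.leaf 481) 
    (.leaf 993))))))) (.node (.node (.node (.node (.node (.node (.leaf 153) (.leaf 665)) (.node 
    (.leaf 409) (.leaf 921))) (.node (.node (.leaf 25) (.leaf 537)) (.node (.leaf 281) (.leaf 
    793)))) (.node (.node (.node (.leaf 217) (.leaf 729)) (.node (.leaf 473) (.leaf 985))) (.node 
    (.node (.leaf 89) (.leaf 601)) (.node (.leaf 345) (.leaf 857))))) (.node (.node (.node (.node 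
    (.leaf 185) (.leaf 697)) (.node (.leaf 441) (.leaf 953))) (.node (.node (.leaf 57) (.leaf 569)) 
    (.node (.leaf 313) (.leaf 825)))) (.node (.node (.node (.leaf 249) (.leaf 761)) (.node (.leaf 
    505) (.leaf 1017))) (.node (.node (.leaf 121) (.leaf 633)) (.node (.leaf 377) (.leaf 889)))))) 
    (.node (.node (.node (.node (.node (.leaf 137) (.leaf 649)) (.node (.leaf 393) (.leaf 905))) 
    (.node (.node (.leaf 9) (.leaf 521)) (.node (.leaf 265) (.leaf 777)))) (.node (.node (.node 
    (.leaf 201) (.leaf 713)) (.node (.leaf 457) (.leaf 969))) (.node (.node (.leaf 73) (.leaf 585)) 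
    (.node (.leaf 329) (.leaf 841))))) (.node (.node (.node (.node (.leaf 169) (.leaf 681)) (.node 
    (.leaf 425) (.leaf 937))) (.node (.node (.leaf 41) (.leaf 553)) (.node (.leaf 297) (.leaf 
    809)))) (.node (.node (.node (.leaf 233) (.leaf 745)) (.node (.leaf 489) (.leaf 1001))) (.node 
    (.node (.leaf 105) (.leaf 617)) (.node (.leaf 361) (.leaf 873)))))))) (.node (.node (.node 
    (.node (.node (.node (.node (.leaf 21) (.leaf 533)) (.node (.leaf 277) (.leaf 789))) (.node 
    (.node (.leaf 149) (.leaf 661)) (.node (.leaf 405) (.leaf 917)))) (.node (.node (.node (.leaf 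
    85) (.leaf 597)) (.node (.leaf 341) (.leaf 853))) (.node (.node (.leaf 213) (.leaf 725)) (.node 
    (.leaf 469) (.leaf 981))))) (.node (.node (.node (.node (.leaf 53) (.leaf 565)) (.node (.leaf 
    309) (.leaf 821))) (.node (.node (.leaf 181) (.leaf 693)) (.node (.leaf 437) (.leaf 949)))) 
    (.node (.node (.node (.leaf 117) (.leaf 629)) (.node (.leaf 373) (.leaf 885))) (.node (.node 
    (.leaf 245) (.leaf 757)) (.node (.leaf 501) (.leaf 1013)))))) (.node (.node (.node (.node 
    (.node (.leaf 5) (.leaf 517)) (.node (.leaf 261) (.leaf 773))) (.node (.node (.leaf 133) (.leaf 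
    645)) (.node (.leaf 389) (.leaf 901)))) (.node (.node (.node (.leaf 69) (.leaf 581)) (.node 
    (.leaf 325) (.leaf 837))) (.node (.node (.leaf 197) (.leaf 709)) (.node (.leaf 453) (.leaf 
    965))))) (.node (.node (.node (.node (.leaf 37) (.leaf 549)) (.node (.leaf 293) (.leaf 805))) 
    (.node (.node (.leaf 165) (.leaf 677)) (.node (.leaf 421) (.leaf 933)))) (.node (.node (.node 
    (.leaf 101) (.leaf 613)) (.node (.leaf 357) (.leaf 869))) (.node (.node (.leaf 229) (.leaf 
    741)) (.node (.leaf 485) (.leaf 997))))))) (.node (.node (.node (.node (.node (.node (.leaf 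
    157) (.leaf 669)) (.node (.leaf 413) (.leaf 925))) (.node (.node (.leaf 29) (.leaf 541)) (.node 
    (.leaf 285) (.leaf 797)))) (.node (.node (.node (.leaf 221) (.leaf 733)) (.node (.leaf 477) 
    (.leaf 989))) (.node (.node (.leaf 93) (.leaf 605)) (.node (.leaf 349) (.leaf 861))))) (.node 
    (.node (.node (.node (.leaf 189) (.leaf 701)) (.node (.leaf 445) (.leaf 957))) (.node (.node 
    (.leaf 61) (.leaf 573)) (.node (.leaf 317) (.leaf 829)))) (.node (.node (.node (.leaf 253) 
    (.leaf 765)) (.node (.leaf 509) (.leaf 1021))) (.node (.node (.leaf 125) (.leaf 637)) (.node 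
    (.leaf 381) (.leaf 893)))))) (.node (.node (.node (.node (.node (.leaf 141) (.leaf 653)) (.node 
    (.leaf 397) (.leaf 909))) (.node (.node (.leaf 13) (.leaf 525)) (.node (.leaf 269) (.leaf 
    781)))) (.node (.node (.node (.leaf 205) (.leaf 717)) (.node (.leaf 461) (.leaf 973))) (.node 
    (.node (.leaf 77) (.leaf 589)) (.node (.leaf 333) (.leaf 845))))) (.node (.node (.node (.node 
    (.leaf 173) (.leaf 685)) (.node (.leaf 429) (.leaf 941))) (.node (.node (.leaf 45) (.leaf 557)) 
    (.node (.leaf 301) (.leaf 813)))) (.node (.node (.node (.leaf 237) (.leaf 749)) (.node (.leaf 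
    493) (.leaf 1005))) (.node (.node (.leaf 109) (.leaf 621)) (.node (.leaf 365) (.leaf 
    877))))))))))) (.node (.node (.node (.node (.node (.node (.node (.node (.node (.node (.leaf 
    512) (.leaf 0)) (.node (.leaf 768) (.leaf 256))) (.node (.node (.leaf 640) (.leaf 128)) (.node 
    (.leaf 896) (.leaf 384)))) (.node (.node (.node (.leaf 576) (.leaf 64)) (.node (.leaf 832) 
    (.leaf 320))) (.node (.node (.leaf 704) (.leaf 192)) (.node (.leaf 960) (.leaf 448))))) (.node 
    (.node (.node (.node (.leaf 544) (.leaf 32)) (.node (.leaf 800) (.leaf 288))) (.node (.node 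
    (.leaf 672) (.leaf 160)) (.node (.leaf 928) (.leaf 416)))) (.node (.node (.node (.leaf 608) 
    (.leaf 96)) (.node (.leaf 864) (.leaf 352))) (.node (.node (.leaf 736) (.leaf 224)) (.node 
    (.leaf 992) (.leaf 480)))))) (.node (.node (.node (.node (.node (.leaf 528) (.leaf 16)) (.node 
    (.leaf 784) (.leaf 272))) (.node (.node (.leaf 656) (.leaf 144)) (.node (.leaf 912) (.leaf 
    400)))) (.node (.node (.node (.leaf 592) (.leaf 80)) (.node (.leaf 848) (.leaf 336))) (.node 
    (.node (.leaf 720) (.leaf 208)) (.node (.leaf 976) (.leaf 464))))) (.node (.node (.node (.node 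
    (.leaf 560) (.leaf 48)) (.node (.leaf 816) (.leaf 304))) (.node (.node (.leaf 688) (.leaf 176)) 
    (.node (.leaf 944) (.leaf 432)))) (.node (.node (.node (.leaf 624) (.leaf 112)) (.node (.leaf 
    880) (.leaf 368))) (.node (.node (.leaf 752) (.leaf 240)) (.node (.leaf 1008) (.leaf 496))))))) 
    (.node (.node (.node (.node (.node (.node (.leaf 520) (.leaf 8)) (.node (.leaf 776) (.leaf 
    264))) (.node (.node (.leaf 648) (.leaf 136)) (.node (.leaf 904) (.leaf 392)))) (.node (.node 
    (.node (.leaf 584) (.leaf 72)) (.node (.leaf 840) (.leaf 328))) (.node (.node (.leaf 712) 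
    (.leaf 200)) (.node (.leaf 968) (.leaf 456))))) (.node (.node (.node (.node (.leaf 552) (.leaf 
    40)) (.node (.leaf 808) (.leaf 296))) (.node (.node (.leaf 680) (.leaf 168)) (.node (.leaf 936) 
    (.leaf 424)))) (.node (.node (.node (.leaf 616) (.leaf 104)) (.node (.leaf 872) (.leaf 360))) 
    (.node (.node (.leaf 744) (.leaf 232)) (.node (.leaf 1000) (.leaf 488)))))) (.node (.node 
    (.node (.node (.node (.leaf 536) (.leaf 24)) (.node (.leaf 792) (.leaf 280))) (.node (.node 
    (.leaf 664) (.leaf 152)) (.node (.leaf 920) (.leaf 408)))) (.node (.node (.node (.leaf 600) 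
    (.leaf 88)) (.node (.leaf 856) (.leaf 344))) (.node (.node (.leaf 728) (.leaf 216)) (.node 
    (.leaf 984) (.leaf 472))))) (.node (.node (.node (.node (.leaf 568) (.leaf 56)) (.node (.leaf 
    824) (.leaf 312))) (.node (.node (.leaf 696) (.leaf 184)) (.node (.leaf 952) (.leaf 440)))) 
    (.node (.node (.node (.leaf 632) (.leaf 120)) (.node (.leaf 888) (.leaf 376))) (.node (.node 
    (.leaf 760) (.leaf 248)) (.node (.leaf 1016) (.leaf 504)))))))) (.node (.node (.node (.node 
    (.node (.node (.node (.leaf 516) (.leaf 4)) (.node (.leaf 772) (.leaf 260))) (.node (.node 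
    (.leaf 644) (.leaf 132)) (.node (.leaf 900) (.leaf 388)))) (.node (.node (.node (.leaf 580) 
    (.leaf 68)) (.node (.leaf 836) (.leaf 324))) (.node (.node (.leaf 708) (.leaf 196)) (.node 
    (.leaf 964) (.leaf 452))))) (.node (.node (.node (.node (.leaf 548) (.leaf 36)) (.node (.leaf 
    804) (.leaf 292))) (.node (.node (.leaf 676) (.leaf 164)) (.node (.leaf 932) (.leaf 420)))) 
    (.node (.node (.node (.leaf 612) (.leaf 100)) (.node (.leaf 868) (.leaf 356))) (.node (.node 
    (.leaf 740) (.leaf 228)) (.node (.leaf 996) (.leaf 484)))))) (.node (.node (.node (.node (.node 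
    (.leaf 532) (.leaf 20)) (.node (.leaf 788) (.leaf 276))) (.node (.node (.leaf 660) (.leaf 148)) 
    (.node (.leaf 916) (.leaf 404)))) (.node (.node (.node (.leaf 596) (.leaf 84)) (.node (.leaf 
    852) (.leaf 340))) (.node (.node (.leaf 724) (.leaf 212)) (.node (.leaf 980) (.leaf 468))))) 
    (.node (.node (.node (.node (.leaf 564) (.leaf 52)) (.node (.leaf 820) (.leaf 308))) (.node 
    (.node (.leaf 692) (.leaf 180)) (.node (.leaf 948) (.leaf 436)))) (.node (.node (.node (.leaf 
    628) (.leaf 116)) (.node (.leaf 884) (.leaf 372))) (.node (.node (.leaf 756) (.leaf 244)) 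
    (.node (.leaf 1012) (.leaf 500))))))) (.node (.node (.node (.node (.node (.node (.leaf 524) 
    (.leaf 12)) (.node (.leaf 780) (.leaf 268))) (.node (.node (.leaf 652) (.leaf 140)) (.node 
    (.leaf 908) (.leaf 396)))) (.node (.node (.node (.leaf 588) (.leaf 76)) (.node (.leaf 844) 
    (.leaf 332))) (.node (.node (.leaf 716) (.leaf 204)) (.node (.leaf 972) (.leaf 460))))) (.node 
    (.node (.node (.node (.leaf 556) (.leaf 44)) (.node (.leaf 812) (.leaf 300))) (.node (.node 
    (.leaf 684) (.leaf 172)) (.node (.leaf 940) (.leaf 428)))) (.node (.node (.node (.leaf 620) 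
    (.leaf 108)) (.node (.leaf 876) (.leaf 364))) (.node (.node (.leaf 748) (.leaf 236)) (.node 
    (.leaf 1004) (.leaf 492)))))) (.node (.node (.node (.node (.node (.leaf 540) (.leaf 28)) (.node 
    (.leaf 796) (.leaf 284))) (.node (.node (.leaf 668) (.leaf 156)) (.node (.leaf 924) (.leaf 
    412)))) (.node (.node (.node (.leaf 604) (.leaf 92)) (.node (.leaf 860) (.leaf 348))) (.node 
    (.node (.leaf 732) (.leaf 220)) (.node (.leaf 988) (.leaf 476))))) (.node (.node (.node (.node 
    (.leaf 572) (.leaf 60)) (.node (.leaf 828) (.leaf 316))) (.node (.node (.leaf 700) (.leaf 188)) 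
    (.node (.leaf 956) (.leaf 444)))) (.node (.node (.node (.leaf 636) (.leaf 124)) (.node (.leaf 
    892) (.leaf 380))) (.node (.node (.leaf 764) (.leaf 252)) (.node (.leaf 1020) (.leaf 
    508))))))))) (.node (.node (.node (.node (.node (.node (.node (.node (.leaf 514) (.leaf 2)) 
    (.node (.leaf 770) (.leaf 258))) (.node (.node (.leaf 642) (.leaf 130)) (.node (.leaf 898) 
    (.leaf 386)))) (.node (.node (.node (.leaf 578) (.leaf 66)) (.node (.leaf 834) (.leaf 322))) 
    (.node (.node (.leaf 706) (.leaf 194)) (.node (.leaf 962) (.leaf 450))))) (.node (.node (.node 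
    (.node (.leaf 546) (.leaf 34)) (.node (.leaf 802) (.leaf 290))) (.node (.node (.leaf 674) 
    (.leaf 162)) (.node (.leaf 930) (.leaf 418)))) (.node (.node (.node (.leaf 610) (.leaf 98)) 
    (.node (.leaf 866) (.leaf 354))) (.node (.node (.leaf 738) (.leaf 226)) (.node (.leaf 994) 
    (.leaf 482)))))) (.node (.node (.node (.node (.node (.leaf 530) (.leaf 18)) (.node (.leaf 786) 
    (.leaf 274))) (.node (.node (.leaf 658) (.leaf 146)) (.node (.leaf 914) (.leaf 402)))) (.node 
    (.node (.node (.leaf 594) (.leaf 82)) (.node (.leaf 850) (.leaf 338))) (.node (.node (.leaf 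
    722) (.leaf 210)) (.node (.leaf 978) (.leaf 466))))) (.node (.node (.node (.node (.leaf 562) 
    (.leaf 50)) (.node (.leaf 818) (.leaf 306))) (.node (.node (.leaf 690) (.leaf 178)) (.node 
    (.leaf 946) (.leaf 434)))) (.node (.node (.node (.leaf 626) (.leaf 114)) (.node (.leaf 882) 
    (.leaf 370))) (.node (.node (.leaf 754) (.leaf 242)) (.node (.leaf 1010) (.leaf 498))))))) 
    (.node (.node (.node (.node (.node (.node (.leaf 522) (.leaf 10)) (.node (.leaf 778) (.leaf 
    266))) (.node (.node (.leaf 650) (.leaf 138)) (.node (.leaf 906) (.leaf 394)))) (.node (.node 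
    (.node (.leaf 586) (.leaf 74)) (.node (.leaf 842) (.leaf 330))) (.node (.node (.leaf 714) 
    (.leaf 202)) (.node (.leaf 970) (.leaf 458))))) (.node (.node (.node (.node (.leaf 554) (.leaf 
    42)) (.node (.leaf 810) (.leaf 298))) (.node (.node (.leaf 682) (.leaf 170)) (.node (.leaf 938) 
    (.leaf 426)))) (.node (.node (.node (.leaf 618) (.leaf 106)) (.node (.leaf 874) (.leaf 362))) 
    (.node (.node (.leaf 746) (.leaf 234)) (.node (.leaf 1002) (.leaf 490)))))) (.node (.node 
    (.node (.node (.node (.leaf 538) (.leaf 26)) (.node (.leaf 794) (.leaf 282))) (.node (.node 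
    (.leaf 666) (.leaf 154)) (.node (.leaf 922) (.leaf 410)))) (.node (.node (.node (.leaf 602) 
    (.leaf 90)) (.node (.leaf 858) (.leaf 346))) (.node (.node (.leaf 730) (.leaf 218)) (.node 
    (.leaf 986) (.leaf 474))))) (.node (.node (.node (.node (.leaf 570) (.leaf 58)) (.node (.leaf 
    826) (.leaf 314))) (.node (.node (.leaf 698) (.leaf 186)) (.node (.leaf 954) (.leaf 442)))) 
    (.node (.node (.node (.leaf 634) (.leaf 122)) (.node (.leaf 890) (.leaf 378))) (.node (.node 
    (.leaf 762) (.leaf 250)) (.node (.leaf 1018) (.leaf 506)))))))) (.node (.node (.node (.node 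
    (.node (.node (.node (.leaf 518) (.leaf 6)) (.node (.leaf 774) (.leaf 262))) (.node (.node 
    (.leaf 646) (.leaf 134)) (.node (.leaf 902) (.leaf 390)))) (.node (.node (.node (.leaf 582) 
    (.leaf 70)) (.node (.leaf 838) (.leaf 326))) (.node (.node (.leaf 710) (.leaf 198)) (.node 
    (.leaf 966) (.leaf 454))))) (.node (.node (.node (.node (.leaf 550) (.leaf 38)) (.node (.leaf 
    806) (.leaf 294))) (.node (.node (.leaf 678) (.leaf 166)) (.node (.leaf 934) (.leaf 422)))) 
    (.node (.node (.node (.leaf 614) (.leaf 102)) (.node (.leaf 870) (.leaf 358))) (.node (.node 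
    (.leaf 742) (.leaf 230)) (.node (.leaf 998) (.leaf 486)))))) (.node (.node (.node (.node (.node 
    (.leaf 534) (.leaf 22)) (.node (.leaf 790) (.leaf 278))) (.node (.node (.leaf 662) (.leaf 150)) 
    (.node (.leaf 918) (.leaf 406)))) (.node (.node (.node (.leaf 598) (.leaf 86)) (.node (.leaf 
    854) (.leaf 342))) (.node (.node (.leaf 726) (.leaf 214)) (.node (.leaf 982) (.leaf 470))))) 
    (.node (.node (.node (.node (.leaf 566) (.leaf 54)) (.node (.leaf 822) (.leaf 310))) (.node 
    (.node (.leaf 694) (.leaf 182)) (.node (.leaf 950) (.leaf 438)))) (.node (.node (.node (.leaf 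
    630) (.leaf 118)) (.node (.leaf 886) (.leaf 374))) (.node (.node (.leaf 758) (.leaf 246)) 
    (.node (.leaf 1014) (.leaf 502))))))) (.node (.node (.node (.node (.node (.node (.leaf 526) 
    (.leaf 14)) (.node (.leaf 782) (.leaf 270))) (.node (.node (.leaf 654) (.leaf 142)) (.node 
    (.leaf 910) (.leaf 398)))) (.node (.node (.node (.leaf 590) (.leaf 78)) (.node (.leaf 846) 
    (.leaf 334))) (.node (.node (.leaf 718) (.leaf 206)) (.node (.leaf 974) (.leaf 462))))) (.node 
    (.node (.node (.node (.leaf 558) (.leaf 46)) (.node (.leaf 814) (.leaf 302))) (.node (.node 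
    (.leaf 686) (.leaf 174)) (.node (.leaf 942) (.leaf 430)))) (.node (.node (.node (.leaf 622) 
    (.leaf 110)) (.node (.leaf 878) (.leaf 366))) (.node (.node (.leaf 750) (.leaf 238)) (.node 
    (.leaf 1006) (.leaf 494)))))) (.node (.node (.node (.node (.node (.leaf 542) (.leaf 30)) (.node 
    (.leaf 798) (.leaf 286))) (.node (.node (.leaf 670) (.leaf 158)) (.node (.leaf 926) (.leaf 
    414)))) (.node (.node (.node (.leaf 606) (.leaf 94)) (.node (.leaf 862) (.leaf 350))) (.node 
    (.node (.leaf 734) (.leaf 222)) (.node (.leaf 990) (.leaf 478))))) (.node (.node (.node (.node 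
    (.leaf 574) (.leaf 62)) (.node (.leaf 830) (.leaf 318))) (.node (.node (.leaf 702) (.leaf 190)) 
    (.node (.leaf 958) (.leaf 446)))) (.node (.node (.node (.leaf 638) (.leaf 126)) (.node (.leaf 
    894) (.leaf 382))) (.node (.node (.leaf 766) (.leaf 254)) (.node (.leaf 1022) (.leaf 
    510)))))))))) (.node (.node (.node (.node (.node (.node (.node (.node (.node (.leaf 513) (.leaf 
    1)) (.node (.leaf 769) (.leaf 257))) (.node (.node (.leaf 641) (.leaf 129)) (.node (.leaf 897) 
    (.leaf 385)))) (.node (.node (.node (.leaf 577) (.leaf 65)) (.node (.leaf 833) (.leaf 321))) 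
    (.node (.node (.leaf 705) (.leaf 193)) (.node (.leaf 961) (.leaf 449))))) (.node (.node (.node 
    (.node (.leaf 545) (.leaf 33)) (.node (.leaf 801) (.leaf 289))) (.node (.node (.leaf 673) 
    (.leaf 161)) (.node (.leaf 929) (.leaf 417)))) (.node (.node (.node (.leaf 609) (.leaf 97)) 
    (.node (.leaf 865) (.leaf 353))) (.node (.node (.leaf 737) (.leaf 225)) (.node (.leaf 993) 
    (.leaf 481)))))) (.node (.node (.node (.node (.node (.leaf 529) (.leaf 17)) (.node (.leaf 785) 
    (.leaf 273))) (.node (.node (.leaf 657) (.leaf 145)) (.node (.leaf 913) (.leaf 401)))) (.node 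
    (.node (.node (.leaf 593) (.leaf 81)) (.node (.leaf 849) (.leaf 337))) (.node (.node (.leaf 
    721) (.leaf 209)) (.node (.leaf 977) (.leaf 465))))) (.node (.node (.node (.node (.leaf 561) 
    (.leaf 49)) (.node (.leaf 817) (.leaf 305))) (.node (.node (.leaf 689) (.leaf 177)) (.node 
    (.leaf 945) (.leaf 433)))) (.node (.node (.node (.leaf 625) (.leaf 113)) (.node (.leaf 881) 
    (.leaf 369))) (.node (.node (.leaf 753) (.leaf 241)) (.node (.leaf 1009) (.leaf 497))))))) 
    (.node (.node (.node (.node (.node (.node (.leaf 521) (.leaf 9)) (.node (.leaf 777) (.leaf 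
    265))) (.node (.node (.leaf 649) (.leaf 137)) (.node (.leaf 905) (.leaf 393)))) (.node (.node 
    (.node (.leaf 585) (.leaf 73)) (.node (.leaf 841) (.leaf 329))) (.node (.node (.leaf 713) 
    (.leaf 201)) (.node (.leaf 969) (.leaf 457))))) (.node (.node (.node (.node (.leaf 553) (.leaf 
    41)) (.node (.leaf 809) (.leaf 297))) (.node (.node (.leaf 681) (.leaf 169)) (.node (.leaf 937) 
    (.leaf 425)))) (.node (.node (.node (.leaf 617) (.leaf 105)) (.node (.leaf 873) (.leaf 361))) 
    (.node (.node (.leaf 745) (.leaf 233)) (.node (.leaf 1001) (.leaf 489)))))) (.node (.node 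
    (.node (.node (.node (.leaf 537) (.leaf 25)) (.node (.leaf 793) (.leaf 281))) (.node (.node 
    (.leaf 665) (.leaf 153)) (.node (.leaf 921) (.leaf 409)))) (.node (.node (.node (.leaf 601) 
    (.leaf 89)) (.node (.leaf 857) (.leaf 345))) (.node (.node (.leaf 729) (.leaf 217)) (.node 
    (.leaf 985) (.leaf 473))))) (.node (.node (.node (.node (.leaf 569) (.leaf 57)) (.node (.leaf 
    825) (.leaf 313))) (.node (.node (.leaf 697) (.leaf 185)) (.node (.leaf 953) (.leaf 441)))) 
    (.node (.node (.node (.leaf 633) (.leaf 121)) (.node (.leaf 889) (.leaf 377))) (.node (.node 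
    (.leaf 761) (.leaf 249)) (.node (.leaf 1017) (.leaf 505)))))))) (.node (.node (.node (.node 
    (.node (.node (.node (.leaf 517) (.leaf 5)) (.node (.leaf 773) (.leaf 261))) (.node (.node 
    (.leaf 645) (.leaf 133)) (.node (.leaf 901) (.leaf 389)))) (.node (.node (.node (.leaf 581) 
    (.leaf 69)) (.node (.leaf 837) (.leaf 325))) (.node (.node (.leaf 709) (.leaf 197)) (.node 
    (.leaf 965) (.leaf 453))))) (.node (.node (.node (.node (.leaf 549) (.leaf 37)) (.node (.leaf 
    805) (.leaf 293))) (.node (.node (.leaf 677) (.leaf 165)) (.node (.leaf 933) (.leaf 421)))) 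
    (.node (.node (.node (.leaf 613) (.leaf 101)) (.node (.leaf 869) (.leaf 357))) (.node (.node 
    (.leaf 741) (.leaf 229)) (.node (.leaf 997) (.leaf 485)))))) (.node (.node (.node (.node (.node 
    (.leaf 533) (.leaf 21)) (.node (.leaf 789) (.leaf 277))) (.node (.node (.leaf 661) (.leaf 149)) 
    (.node (.leaf 917) (.leaf 405)))) (.node (.node (.node (.leaf 597) (.leaf 85)) (.node (.leaf 
    853) (.leaf 341))) (.node (.node (.leaf 725) (.leaf 213)) (.node (.leaf 981) (.leaf 469))))) 
    (.node (.node (.node (.node (.leaf 565) (.leaf 53)) (.node (.leaf 821) (.leaf 309))) (.node 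
    (.node (.leaf 693) (.leaf 181)) (.node (.leaf 949) (.leaf 437)))) (.node (.node (.node (.leaf 
    629) (.leaf 117)) (.node (.leaf 885) (.leaf 373))) (.node (.node (.leaf 757) (.leaf 245)) 
    (.node (.leaf 1013) (.leaf 501))))))) (.node (.node (.node (.node (.node (.node (.leaf 525) 
    (.leaf 13)) (.node (.leaf 781) (.leaf 269))) (.node (.node (.leaf 653) (.leaf 141)) (.node 
    (.leaf 909) (.leaf 397)))) (.node (.node (.node (.leaf 589) (.leaf 77)) (.node (.leaf 845) 
    (.leaf 333))) (.node (.node (.leaf 717) (.leaf 205)) (.node (.leaf 973) (.leaf 461))))) (.node 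
    (.node (.node (.node (.leaf 557) (.leaf 45)) (.node (.leaf 813) (.leaf 301))) (.node (.node 
    (.leaf 685) (.leaf 173)) (.node (.leaf 941) (.leaf 429)))) (.node (.node (.node (.leaf 621) 
    (.leaf 109)) (.node (.leaf 877) (.leaf 365))) (.node (.node (.leaf 749) (.leaf 237)) (.node 
    (.leaf 1005) (.leaf 493)))))) (.node (.node (.node (.node (.node (.leaf 541) (.leaf 29)) (.node 
    (.leaf 797) (.leaf 285))) (.node (.node (.leaf 669) (.leaf 157)) (.node (.leaf 925) (.leaf 
    413)))) (.node (.node (.node (.leaf 605) (.leaf 93)) (.node (.leaf 861) (.leaf 349))) (.node 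
    (.node (.leaf 733) (.leaf 221)) (.node (.leaf 989) (.leaf 477))))) (.node (.node (.node (.node 
    (.leaf 573) (.leaf 61)) (.node (.leaf 829) (.leaf 317))) (.node (.node (.leaf 701) (.leaf 189)) 
    (.node (.leaf 957) (.leaf 445)))) (.node (.node (.node (.leaf 637) (.leaf 125)) (.node (.leaf 
    893) (.leaf 381))) (.node (.node (.leaf 765) (.leaf 253)) (.node (.leaf 1021) (.leaf 
    509))))))))) (.node (.node (.node (.node (.node (.node (.node (.node (.leaf 515) (.leaf 3)) 
    (.node (.leaf 771) (.leaf 259))) (.node (.node (.leaf 643) (.leaf 131)) (.node (.leaf 899) 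
    (.leaf 387)))) (.node (.node (.node (.leaf 579) (.leaf 67)) (.node (.leaf 835) (.leaf 323))) 
    (.node (.node (.leaf 707) (.leaf 195)) (.node (.leaf 963) (.leaf 451))))) (.node (.node (.node 
    (.node (.leaf 547) (.leaf 35)) (.node (.leaf 803) (.leaf 291))) (.node (.node (.leaf 675) 
    (.leaf 163)) (.node (.leaf 931) (.leaf 419)))) (.node (.node (.node (.leaf 611) (.leaf 99)) 
    (.node (.leaf 867) (.leaf 355))) (.node (.node (.leaf 739) (.leaf 227)) (.node (.leaf 995) 
    (.leaf 483)))))) (.node (.node (.node (.node (.node (.leaf 531) (.leaf 19)) (.node (.leaf 787) 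
    (.leaf 275))) (.node (.node (.leaf 659) (.leaf 147)) (.node (.leaf 915) (.leaf 403)))) (.node 
    (.node (.node (.leaf 595) (.leaf 83)) (.node (.leaf 851) (.leaf 339))) (.node (.node (.leaf 
    723) (.leaf 211)) (.node (.leaf 979) (.leaf 467))))) (.node (.node (.node (.node (.leaf 563) 
    (.leaf 51)) (.node (.leaf 819) (.leaf 307))) (.node (.node (.leaf 691) (.leaf 179)) (.node 
    (.leaf 947) (.leaf 435)))) (.node (.node (.node (.leaf 627) (.leaf 115)) (.node (.leaf 883) 
    (.leaf 371))) (.node (.node (.leaf 755) (.leaf 243)) (.node (.leaf 1011) (.leaf 499))))))) 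
    (.node (.node (.node (.node (.node (.node (.leaf 523) (.leaf 11)) (.node (.leaf 779) (.leaf 
    267))) (.node (.node (.leaf 651) (.leaf 139)) (.node (.leaf 907) (.leaf 395)))) (.node (.node 
    (.node (.leaf 587) (.leaf 75)) (.node (.leaf 843) (.leaf 331))) (.node (.node (.leaf 715) 
    (.leaf 203)) (.node (.leaf 971) (.leaf 459))))) (.node (.node (.node (.node (.leaf 555) (.leaf 
    43)) (.node (.leaf 811) (.leaf 299))) (.node (.node (.leaf 683) (.leaf 171)) (.node (.leaf 939) 
    (.leaf 427)))) (.node (.node (.node (.leaf 619) (.leaf 107)) (.node (.leaf 875) (.leaf 363))) 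
    (.node (.node (.leaf 747) (.leaf 235)) (.node (.leaf 1003) (.leaf 491)))))) (.node (.node 
    (.node (.node (.node (.leaf 539) (.leaf 27)) (.node (.leaf 795) (.leaf 283))) (.node (.node 
    (.leaf 667) (.leaf 155)) (.node (.leaf 923) (.leaf 411)))) (.node (.node (.node (.leaf 603) 
    (.leaf 91)) (.node (.leaf 859) (.leaf 347))) (.node (.node (.leaf 731) (.leaf 219)) (.node 
    (.leaf 987) (.leaf 475))))) (.node (.node (.node (.node (.leaf 571) (.leaf 59)) (.node (.leaf 
    827) (.leaf 315))) (.node (.node (.leaf 699) (.leaf 187)) (.node (.leaf 955) (.leaf 443)))) 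
    (.node (.node (.node (.leaf 635) (.leaf 123)) (.node (.leaf 891) (.leaf 379))) (.node (.node 
    (.leaf 763) (.leaf 251)) (.node (.leaf 1019) (.leaf 507)))))))) (.node (.node (.node (.node 
    (.node (.node (.node (.leaf 519) (.leaf 7)) (.node (.leaf 775) (.leaf 263))) (.node (.node 
    (.leaf 647) (.leaf 135)) (.node (.leaf 903) (.leaf 391)))) (.node (.node (.node (.leaf 583) 
    (.leaf 71)) (.node (.leaf 839) (.leaf 327))) (.node (.node (.leaf 711) (.leaf 199)) (.node 
    (.leaf 967) (.leaf 455))))) (.node (.node (.node (.node (.leaf 551) (.leaf 39)) (.node (.leaf 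
    807) (.leaf 295))) (.node (.node (.leaf 679) (.leaf 167)) (.node (.leaf 935) (.leaf 423)))) 
    (.node (.node (.node (.leaf 615) (.leaf 103)) (.node (.leaf 871) (.leaf 359))) (.node (.node 
    (.leaf 743) (.leaf 231)) (.node (.leaf 999) (.leaf 487)))))) (.node (.node (.node (.node (.node 
    (.leaf 535) (.leaf 23)) (.node (.leaf 791) (.leaf 279))) (.node (.node (.leaf 663) (.leaf 151)) 
    (.node (.leaf 919) (.leaf 407)))) (.node (.node (.node (.leaf 599) (.leaf 87)) (.node (.leaf 
    855) (.leaf 343))) (.node (.node (.leaf 727) (.leaf 215)) (.node (.leaf 983) (.leaf 471))))) 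
    (.node (.node (.node (.node (.leaf 567) (.leaf 55)) (.node (.leaf 823) (.leaf 311))) (.node 
    (.node (.leaf 695) (.leaf 183)) (.node (.leaf 951) (.leaf 439)))) (.node (.node (.node (.leaf 
    631) (.leaf 119)) (.node (.leaf 887) (.leaf 375))) (.node (.node (.leaf 759) (.leaf 247)) 
    (.node (.leaf 1015) (.leaf 503))))))) (.node (.node (.node (.node (.node (.node (.leaf 527) 
    (.leaf 15)) (.node (.leaf 783) (.leaf 271))) (.node (.node (.leaf 655) (.leaf 143)) (.node 
    (.leaf 911) (.leaf 399)))) (.node (.node (.node (.leaf 591) (.leaf 79)) (.node (.leaf 847) 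
    (.leaf 335))) (.node (.node (.leaf 719) (.leaf 207)) (.node (.leaf 975) (.leaf 463))))) (.node 
    (.node (.node (.node (.leaf 559) (.leaf 47)) (.node (.leaf 815) (.leaf 303))) (.node (.node 
    (.leaf 687) (.leaf 175)) (.node (.leaf 943) (.leaf 431)))) (.node (.node (.node (.leaf 623) 
    (.leaf 111)) (.node (.leaf 879) (.leaf 367))) (.node (.node (.leaf 751) (.leaf 239)) (.node 
    (.leaf 1007) (.leaf 495)))))) (.node (.node (.node (.node (.node (.leaf 543) (.leaf 31)) (.node 
    (.leaf 799) (.leaf 287))) (.node (.node (.leaf 671) (.leaf 159)) (.node (.leaf 927) (.leaf 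
    415)))) (.node (.node (.node (.leaf 607) (.leaf 95)) (.node (.leaf 863) (.leaf 351))) (.node 
    (.node (.leaf 735) (.leaf 223)) (.node (.leaf 991) (.leaf 479))))) (.node (.node (.node (.node 
    (.leaf 575) (.leaf 63)) (.node (.leaf 831) (.leaf 319))) (.node (.node (.leaf 703) (.leaf 191)) 
    (.node (.leaf 959) (.leaf 447)))) (.node (.node (.node (.leaf 639) (.leaf 127)) (.node (.leaf 
    895) (.leaf 383))) (.node (.node (.leaf 767) (.leaf 255)) (.node (.leaf 1023) (.leaf 
    511)))))))))))) (.node (.node (.node (.node (.node (.node (.node (.node (.node (.node (.node 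
    (.leaf 32) (.leaf 544)) (.node (.leaf 288) (.leaf 800))) (.node (.node (.leaf 160) (.leaf 672)) 
    (.node (.leaf 416) (.leaf 928)))) (.node (.node (.node (.leaf 96) (.leaf 608)) (.node (.leaf 
    352) (.leaf 864))) (.node (.node (.leaf 224) (.leaf 736)) (.node (.leaf 480) (.leaf 992))))) 
    (.node (.node (.node (.node (.leaf 512) (.leaf 0)) (.node (.leaf 768) (.leaf 256))) (.node 
    (.node (.leaf 640) (.leaf 128)) (.node (.leaf 896) (.leaf 384)))) (.node (.node (.node (.leaf 
    576) (.leaf 64)) (.node (.leaf 832) (.leaf 320))) (.node (.node (.leaf 704) (.leaf 192)) (.node 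
    (.leaf 960) (.leaf 448)))))) (.node (.node (.node (.node (.node (.leaf 560) (.leaf 48)) (.node 
    (.leaf 816) (.leaf 304))) (.node (.node (.leaf 688) (.leaf 176)) (.node (.leaf 944) (.leaf 
    432)))) (.node (.node (.node (.leaf 624) (.leaf 112)) (.node (.leaf 880) (.leaf 368))) (.node 
    (.node (.leaf 752) (.leaf 240)) (.node (.leaf 1008) (.leaf 496))))) (.node (.node (.node (.node 
    (.leaf 16) (.leaf 528)) (.node (.leaf 272) (.leaf 784))) (.node (.node (.leaf 144) (.leaf 656)) 
    (.node (.leaf 400) (.leaf 912)))) (.node (.node (.node (.leaf 80) (.leaf 592)) (.node (.leaf 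
    336) (.leaf 848))) (.node (.node (.leaf 208) (.leaf 720)) (.node (.leaf 464) (.leaf 976))))))) 
    (.node (.node (.node (.node (.node (.node (.leaf 168) (.leaf 680)) (.node (.leaf 424) (.leaf 
    936))) (.node (.node (.leaf 40) (.leaf 552)) (.node (.leaf 296) (.leaf 808)))) (.node (.node 
    (.node (.leaf 232) (.leaf 744)) (.node (.leaf 488) (.leaf 1000))) (.node (.node (.leaf 104) 
    (.leaf 616)) (.node (.leaf 360) (.leaf 872))))) (.node (.node (.node (.node (.leaf 648) (.leaf 
    136)) (.node (.leaf 904) (.leaf 392))) (.node (.node (.leaf 520) (.leaf 8)) (.node (.leaf 776) 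
    (.leaf 264)))) (.node (.node (.node (.leaf 712) (.leaf 200)) (.node (.leaf 968) (.leaf 456))) 
    (.node (.node (.leaf 584) (.leaf 72)) (.node (.leaf 840) (.leaf 328)))))) (.node (.node (.node 
    (.node (.node (.leaf 696) (.leaf 184)) (.node (.leaf 952) (.leaf 440))) (.node (.node (.leaf 
    568) (.leaf 56)) (.node (.leaf 824) (.leaf 312)))) (.node (.node (.node (.leaf 760) (.leaf 
    248)) (.node (.leaf 1016) (.leaf 504))) (.node (.node (.leaf 632) (.leaf 120)) (.node (.leaf 
    888) (.leaf 376))))) (.node (.node (.node (.node (.leaf 152) (.leaf 664)) (.node (.leaf 408) 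
    (.leaf 920))) (.node (.node (.leaf 24) (.leaf 536)) (.node (.leaf 280) (.leaf 792)))) (.node 
    (.node (.node (.leaf 216) (.leaf 728)) (.node (.leaf 472) (.leaf 984))) (.node (.node (.leaf 
    88) (.leaf 600)) (.node (.leaf 344) (.leaf 856)))))))) (.node (.node (.node (.node (.node 
    (.node (.node (.leaf 676) (.leaf 164)) (.node (.leaf 932) (.leaf 420))) (.node (.node (.leaf 
    548) (.leaf 36)) (.node (.leaf 804) (.leaf 292)))) (.node (.node (.node (.leaf 740) (.leaf 
    228)) (.node (.leaf 996) (.leaf 484))) (.node (.node (.leaf 612) (.leaf 100)) (.node (.leaf 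
    868) (.leaf 356))))) (.node (.node (.node (.node (.leaf 132) (.leaf 644)) (.node (.leaf 388) 
    (.leaf 900))) (.node (.node (.leaf 4) (.leaf 516)) (.node (.leaf 260) (.leaf 772)))) (.node 
    (.node (.node (.leaf 196) (.leaf 708)) (.node (.leaf 452) (.leaf 964))) (.node (.node (.leaf 
    68) (.leaf 580)) (.node (.leaf 324) (.leaf 836)))))) (.node (.node (.node (.node (.node (.leaf 
    180) (.leaf 692)) (.node (.leaf 436) (.leaf 948))) (.node (.node (.leaf 52) (.leaf 564)) (.node 
    (.leaf 308) (.leaf 820)))) (.node (.node (.node (.leaf 244) (.leaf 756)) (.node (.leaf 500) 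
    (.leaf 1012))) (.node (.node (.leaf 116) (.leaf 628)) (.node (.leaf 372) (.leaf 884))))) (.node 
    (.node (.node (.node (.leaf 660) (.leaf 148)) (.node (.leaf 916) (.leaf 404))) (.node (.node 
    (.leaf 532) (.leaf 20)) (.node (.leaf 788) (.leaf 276)))) (.node (.node (.node (.leaf 724) 
    (.leaf 212)) (.node (.leaf 980) (.leaf 468))) (.node (.node (.leaf 596) (.leaf 84)) (.node 
    (.leaf 852) (.leaf 340))))))) (.node (.node (.node (.node (.node (.node (.leaf 556) (.leaf 44)) 
    (.node (.leaf 812) (.leaf 300))) (.node (.node (.leaf 684) (.leaf 172)) (.node (.leaf 940) 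
    (.leaf 428)))) (.node (.node (.node (.leaf 620) (.leaf 108)) (.node (.leaf 876) (.leaf 364))) 
    (.node (.node (.leaf 748) (.leaf 236)) (.node (.leaf 1004) (.leaf 492))))) (.node (.node (.node 
    (.node (.leaf 12) (.leaf 524)) (.node (.leaf 268) (.leaf 780))) (.node (.node (.leaf 140) 
    (.leaf 652)) (.node (.leaf 396) (.leaf 908)))) (.node (.node (.node (.leaf 76) (.leaf 588)) 
    (.node (.leaf 332) (.leaf 844))) (.node (.node (.leaf 204) (.leaf 716)) (.node (.leaf 460) 
    (.leaf 972)))))) (.node (.node (.node (.node (.node (.leaf 60) (.leaf 572)) (.node (.leaf 316) 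
    (.leaf 828))) (.node (.node (.leaf 188) (.leaf 700)) (.node (.leaf 444) (.leaf 956)))) (.node 
    (.node (.node (.leaf 124) (.leaf 636)) (.node (.leaf 380) (.leaf 892))) (.node (.node (.leaf 
    252) (.leaf 764)) (.node (.leaf 508) (.leaf 1020))))) (.node (.node (.node (.node (.leaf 540) 
    (.leaf 28)) (.node (.leaf 796) (.leaf 284))) (.node (.node (.leaf 668) (.leaf 156)) (.node 
    (.leaf 924) (.leaf 412)))) (.node (.node (.node (.leaf 604) (.leaf 92)) (.node (.leaf 860) 
    (.leaf 348))) (.node (.node (.leaf 732) (.leaf 220)) (.node (.leaf 988) (.leaf 476))))))))) 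
    (.node (.node (.node (.node (.node (.node (.node (.node (.leaf 418) (.leaf 930)) (.node (.leaf 
    162) (.leaf 674))) (.node (.node (.leaf 290) (.leaf 802)) (.node (.leaf 34) (.leaf 546)))) 
    (.node (.node (.node (.leaf 482) (.leaf 994)) (.node (.leaf 226) (.leaf 738))) (.node (.node 
    (.leaf 354) (.leaf 866)) (.node (.leaf 98) (.leaf 610))))) (.node (.node (.node (.node (.leaf 
    898) (.leaf 386)) (.node (.leaf 642) (.leaf 130))) (.node (.node (.leaf 770) (.leaf 258)) 
    (.node (.leaf 514) (.leaf 2)))) (.node (.node (.node (.leaf 962) (.leaf 450)) (.node (.leaf 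
    706) (.leaf 194))) (.node (.node (.leaf 834) (.leaf 322)) (.node (.leaf 578) (.leaf 66)))))) 
    (.node (.node (.node (.node (.node (.leaf 946) (.leaf 434)) (.node (.leaf 690) (.leaf 178))) 
    (.node (.node (.leaf 818) (.leaf 306)) (.node (.leaf 562) (.leaf 50)))) (.node (.node (.node 
    (.leaf 1010) (.leaf 498)) (.node (.leaf 754) (.leaf 242))) (.node (.node (.leaf 882) (.leaf 
    370)) (.node (.leaf 626) (.leaf 114))))) (.node (.node (.node (.node (.leaf 402) (.leaf 914)) 
    (.node (.leaf 146) (.leaf 658))) (.node (.node (.leaf 274) (.leaf 786)) (.node (.leaf 18) 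
    (.leaf 530)))) (.node (.node (.node (.leaf 466) (.leaf 978)) (.node (.leaf 210) (.leaf 722))) 
    (.node (.node (.leaf 338) (.leaf 850)) (.node (.leaf 82) (.leaf 594))))))) (.node (.node (.node 
    (.node (.node (.node (.leaf 298) (.leaf 810)) (.node (.leaf 42) (.leaf 554))) (.node (.node 
    (.leaf 426) (.leaf 938)) (.node (.leaf 170) (.leaf 682)))) (.node (.node (.node (.leaf 362) 
    (.leaf 874)) (.node (.leaf 106) (.leaf 618))) (.node (.node (.leaf 490) (.leaf 1002)) (.node 
    (.leaf 234) (.leaf 746))))) (.node (.node (.node (.node (.leaf 778) (.leaf 266)) (.node (.leaf 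
    522) (.leaf 10))) (.node (.node (.leaf 906) (.leaf 394)) (.node (.leaf 650) (.leaf 138)))) 
    (.node (.node (.node (.leaf 842) (.leaf 330)) (.node (.leaf 586) (.leaf 74))) (.node (.node 
    (.leaf 970) (.leaf 458)) (.node (.leaf 714) (.leaf 202)))))) (.node (.node (.node (.node (.node 
    (.leaf 826) (.leaf 314)) (.node (.leaf 570) (.leaf 58))) (.node (.node (.leaf 954) (.leaf 442)) 
    (.node (.leaf 698) (.leaf 186)))) (.node (.node (.node (.leaf 890) (.leaf 378)) (.node (.leaf 
    634) (.leaf 122))) (.node (.node (.leaf 1018) (.leaf 506)) (.node (.leaf 762) (.leaf 250))))) 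
    (.node (.node (.node (.node (.leaf 282) (.leaf 794)) (.node (.leaf 26) (.leaf 538))) (.node 
    (.node (.leaf 410) (.leaf 922)) (.node (.leaf 154) (.leaf 666)))) (.node (.node (.node (.leaf 
    346) (.leaf 858)) (.node (.leaf 90) (.leaf 602))) (.node (.node (.leaf 474) (.leaf 986)) (.node 
    (.leaf 218) (.leaf 730)))))))) (.node (.node (.node (.node (.node (.node (.node (.leaf 294) 
    (.leaf 806)) (.node (.leaf 38) (.leaf 550))) (.node (.node (.leaf 422) (.leaf 934)) (.node 
    (.leaf 166) (.leaf 678)))) (.node (.node (.node (.leaf 358) (.leaf 870)) (.node (.leaf 102) 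
    (.leaf 614))) (.node (.node (.leaf 486) (.leaf 998)) (.node (.leaf 230) (.leaf 742))))) (.node 
    (.node (.node (.node (.leaf 774) (.leaf 262)) (.node (.leaf 518) (.leaf 6))) (.node (.node 
    (.leaf 902) (.leaf 390)) (.node (.leaf 646) (.leaf 134)))) (.node (.node (.node (.leaf 838) 
    (.leaf 326)) (.node (.leaf 582) (.leaf 70))) (.node (.node (.leaf 966) (.leaf 454)) (.node 
    (.leaf 710) (.leaf 198)))))) (.node (.node (.node (.node (.node (.leaf 822) (.leaf 310)) (.node 
    (.leaf 566) (.leaf 54))) (.node (.node (.leaf 950) (.leaf 438)) (.node (.leaf 694) (.leaf 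
    182)))) (.node (.node (.node (.leaf 886) (.leaf 374)) (.node (.leaf 630) (.leaf 118))) (.node 
    (.node (.leaf 1014) (.leaf 502)) (.node (.leaf 758) (.leaf 246))))) (.node (.node (.node (.node 
    (.leaf 278) (.leaf 790)) (.node (.leaf 22) (.leaf 534))) (.node (.node (.leaf 406) (.leaf 918)) 
    (.node (.leaf 150) (.leaf 662)))) (.node (.node (.node (.leaf 342) (.leaf 854)) (.node (.leaf 
    86) (.leaf 598))) (.node (.node (.leaf 470) (.leaf 982)) (.node (.leaf 214) (.leaf 726))))))) 
    (.node (.node (.node (.node (.node (.node (.leaf 430) (.leaf 942)) (.node (.leaf 174) (.leaf 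
    686))) (.node (.node (.leaf 302) (.leaf 814)) (.node (.leaf 46) (.leaf 558)))) (.node (.node 
    (.node (.leaf 494) (.leaf 1006)) (.node (.leaf 238) (.leaf 750))) (.node (.node (.leaf 366) 
    (.leaf 878)) (.node (.leaf 110) (.leaf 622))))) (.node (.node (.node (.node (.leaf 910) (.leaf 
    398)) (.node (.leaf 654) (.leaf 142))) (.node (.node (.leaf 782) (.leaf 270)) (.node (.leaf 
    526) (.leaf 14)))) (.node (.node (.node (.leaf 974) (.leaf 462)) (.node (.leaf 718) (.leaf 
    206))) (.node (.node (.leaf 846) (.leaf 334)) (.node (.leaf 590) (.leaf 78)))))) (.node (.node 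
    (.node (.node (.node (.leaf 958) (.leaf 446)) (.node (.leaf 702) (.leaf 190))) (.node (.node 
    (.leaf 830) (.leaf 318)) (.node (.leaf 574) (.leaf 62)))) (.node (.node (.node (.leaf 1022) 
    (.leaf 510)) (.node (.leaf 766) (.leaf 254))) (.node (.node (.leaf 894) (.leaf 382)) (.node 
    (.leaf 638) (.leaf 126))))) (.node (.node (.node (.node (.leaf 414) (.leaf 926)) (.node (.leaf 
    158) (.leaf 670))) (.node (.node (.leaf 286) (.leaf 798)) (.node (.leaf 30) (.leaf 542)))) 
    (.node (.node (.node (.leaf 478) (.leaf 990)) (.node (.leaf 222) (.leaf 734))) (.node (.node 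
    (.leaf 350) (.leaf 862)) (.node (.leaf 94) (.leaf 606)))))))))) (.node (.node (.node (.node 
    (.node (.node (.node (.node (.node (.leaf 161) (.leaf 673)) (.node (.leaf 417) (.leaf 929))) 
    (.node (.node (.leaf 33) (.leaf 545)) (.node (.leaf 289) (.leaf 801)))) (.node (.node (.node 
    (.leaf 225) (.leaf 737)) (.node (.leaf 481) (.leaf 993))) (.node (.node (.leaf 97) (.leaf 609)) 
    (.node (.leaf 353) (.leaf 865))))) (.node (.node (.node (.node (.leaf 641) (.leaf 129)) (.node 
    (.leaf 897) (.leaf 385))) (.node (.node (.leaf 513) (.leaf 1)) (.node (.leaf 769) (.leaf 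
    257)))) (.node (.node (.node (.leaf 705) (.leaf 193)) (.node (.leaf 961) (.leaf 449))) (.node 
    (.node (.leaf 577) (.leaf 65)) (.node (.leaf 833) (.leaf 321)))))) (.node (.node (.node (.node 
    (.node (.leaf 689) (.leaf 177)) (.node (.leaf 945) (.leaf 433))) (.node (.node (.leaf 561) 
    (.leaf 49)) (.node (.leaf 817) (.leaf 305)))) (.node (.node (.node (.leaf 753) (.leaf 241)) 
    (.node (.leaf 1009) (.leaf 497))) (.node (.node (.leaf 625) (.leaf 113)) (.node (.leaf 881) 
    (.leaf 369))))) (.node (.node (.node (.node (.leaf 145) (.leaf 657)) (.node (.leaf 401) (.leaf 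
    913))) (.node (.node (.leaf 17) (.leaf 529)) (.node (.leaf 273) (.leaf 785)))) (.node (.node 
    (.node (.leaf 209) (.leaf 721)) (.node (.leaf 465) (.leaf 977))) (.node (.node (.leaf 81) 
    (.leaf 593)) (.node (.leaf 337) (.leaf 849))))))) (.node (.node (.node (.node (.node (.node 
    (.leaf 41) (.leaf 553)) (.node (.leaf 297) (.leaf 809))) (.node (.node (.leaf 169) (.leaf 681)) 
    (.node (.leaf 425) (.leaf 937)))) (.node (.node (.node (.leaf 105) (.leaf 617)) (.node (.leaf 
    361) (.leaf 873))) (.node (.node (.leaf 233) (.leaf 745)) (.node (.leaf 489) (.leaf 1001))))) 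
    (.node (.node (.node (.node (.leaf 521) (.leaf 9)) (.node (.leaf 777) (.leaf 265))) (.node 
    (.node (.leaf 649) (.leaf 137)) (.node (.leaf 905) (.leaf 393)))) (.node (.node (.node (.leaf 
    585) (.leaf 73)) (.node (.leaf 841) (.leaf 329))) (.node (.node (.leaf 713) (.leaf 201)) (.node 
    (.leaf 969) (.leaf 457)))))) (.node (.node (.node (.node (.node (.leaf 569) (.leaf 57)) (.node 
    (.leaf 825) (.leaf 313))) (.node (.node (.leaf 697) (.leaf 185)) (.node (.leaf 953) (.leaf 
    441)))) (.node (.node (.node (.leaf 633) (.leaf 121)) (.node (.leaf 889) (.leaf 377))) (.node 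
    (.node (.leaf 761) (.leaf 249)) (.node (.leaf 1017) (.leaf 505))))) (.node (.node (.node (.node 
    (.leaf 25) (.leaf 537)) (.node (.leaf 281) (.leaf 793))) (.node (.node (.leaf 153) (.leaf 665)) 
    (.node (.leaf 409) (.leaf 921)))) (.node (.node (.node (.leaf 89) (.leaf 601)) (.node (.leaf 
    345) (.leaf 857))) (.node (.node (.leaf 217) (.leaf 729)) (.node (.leaf 473) (.leaf 985)))))))) 
    (.node (.node (.node (.node (.node (.node (.node (.leaf 37) (.leaf 549)) (.node (.leaf 293) 
    (.leaf 805))) (.node (.node (.leaf 165) (.leaf 677)) (.node (.leaf 421) (.leaf 933)))) (.node 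
    (.node (.node (.leaf 101) (.leaf 613)) (.node (.leaf 357) (.leaf 869))) (.node (.node (.leaf 
    229) (.leaf 741)) (.node (.leaf 485) (.leaf 997))))) (.node (.node (.node (.node (.leaf 517) 
    (.leaf 5)) (.node (.leaf 773) (.leaf 261))) (.node (.node (.leaf 645) (.leaf 133)) (.node 
    (.leaf 901) (.leaf 389)))) (.node (.node (.node (.leaf 581) (.leaf 69)) (.node (.leaf 837) 
    (.leaf 325))) (.node (.node (.leaf 709) (.leaf 197)) (.node (.leaf 965) (.leaf 453)))))) (.node 
    (.node (.node (.node (.node (.leaf 565) (.leaf 53)) (.node (.leaf 821) (.leaf 309))) (.node 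
    (.node (.leaf 693) (.leaf 181)) (.node (.leaf 949) (.leaf 437)))) (.node (.node (.node (.leaf 
    629) (.leaf 117)) (.node (.leaf 885) (.leaf 373))) (.node (.node (.leaf 757) (.leaf 245)) 
    (.node (.leaf 1013) (.leaf 501))))) (.node (.node (.node (.node (.leaf 21) (.leaf 533)) (.node 
    (.leaf 277) (.leaf 789))) (.node (.node (.leaf 149) (.leaf 661)) (.node (.leaf 405) (.leaf 
    917)))) (.node (.node (.node (.leaf 85) (.leaf 597)) (.node (.leaf 341) (.leaf 853))) (.node 
    (.node (.leaf 213) (.leaf 725)) (.node (.leaf 469) (.leaf 981))))))) (.node (.node (.node 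
    (.node (.node (.node (.leaf 173) (.leaf 685)) (.node (.leaf 429) (.leaf 941))) (.node (.node 
    (.leaf 45) (.leaf 557)) (.node (.leaf 301) (.leaf 813)))) (.node (.node (.node (.leaf 237) 
    (.leaf 749)) (.node (.leaf 493) (.leaf 1005))) (.node (.node (.leaf 109) (.leaf 621)) (.node 
    (.leaf 365) (.leaf 877))))) (.node (.node (.node (.node (.leaf 653) (.leaf 141)) (.node (.leaf 
    909) (.leaf 397))) (.node (.node (.leaf 525) (.leaf 13)) (.node (.leaf 781) (.leaf 269)))) 
    (.node (.node (.node (.leaf 717) (.leaf 205)) (.node (.leaf 973) (.leaf 461))) (.node (.node 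
    (.leaf 589) (.leaf 77)) (.node (.leaf 845) (.leaf 333)))))) (.node (.node (.node (.node (.node 
    (.leaf 701) (.leaf 189)) (.node (.leaf 957) (.leaf 445))) (.node (.node (.leaf 573) (.leaf 61)) 
    (.node (.leaf 829) (.leaf 317)))) (.node (.node (.node (.leaf 765) (.leaf 253)) (.node (.leaf 
    1021) (.leaf 509))) (.node (.node (.leaf 637) (.leaf 125)) (.node (.leaf 893) (.leaf 381))))) 
    (.node (.node (.node (.node (.leaf 157) (.leaf 669)) (.node (.leaf 413) (.leaf 925))) (.node 
    (.node (.leaf 29) (.leaf 541)) (.node (.leaf 285) (.leaf 797)))) (.node (.node (.node (.leaf 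
    221) (.leaf 733)) (.node (.leaf 477) (.leaf 989))) (.node (.node (.leaf 93) (.leaf 605)) (.node 
    (.leaf 349) (.leaf 861))))))))) (.node (.node (.node (.node (.node (.node (.node (.node (.leaf 
    291) (.leaf 803)) (.node (.leaf 35) (.leaf 547))) (.node (.node (.leaf 419) (.leaf 931)) (.node 
    (.leaf 163) (.leaf 675)))) (.node (.node (.node (.leaf 355) (.leaf 867)) (.node (.leaf 99) 
    (.leaf 611))) (.node (.node (.leaf 483) (.leaf 995)) (.node (.leaf 227) (.leaf 739))))) (.node 
    (.node (.node (.node (.leaf 771) (.leaf 259)) (.node (.leaf 515) (.leaf 3))) (.node (.node 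
    (.leaf 899) (.leaf 387)) (.node (.leaf 643) (.leaf 131)))) (.node (.node (.node (.leaf 835) 
    (.leaf 323)) (.node (.leaf 579) (.leaf 67))) (.node (.node (.leaf 963) (.leaf 451)) (.node 
    (.leaf 707) (.leaf 195)))))) (.node (.node (.node (.node (.node (.leaf 819) (.leaf 307)) (.node 
    (.leaf 563) (.leaf 51))) (.node (.node (.leaf 947) (.leaf 435)) (.node (.leaf 691) (.leaf 
    179)))) (.node (.node (.node (.leaf 883) (.leaf 371)) (.node (.leaf 627) (.leaf 115))) (.node 
    (.node (.leaf 1011) (.leaf 499)) (.node (.leaf 755) (.leaf 243))))) (.node (.node (.node (.node 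
    (.leaf 275) (.leaf 787)) (.node (.leaf 19) (.leaf 531))) (.node (.node (.leaf 403) (.leaf 915)) 
    (.node (.leaf 147) (.leaf 659)))) (.node (.node (.node (.leaf 339) (.leaf 851)) (.node (.leaf 
    83) (.leaf 595))) (.node (.node (.leaf 467) (.leaf 979)) (.node (.leaf 211) (.leaf 723))))))) 
    (.node (.node (.node (.node (.node (.node (.leaf 427) (.leaf 939)) (.node (.leaf 171) (.leaf 
    683))) (.node (.node (.leaf 299) (.leaf 811)) (.node (.leaf 43) (.leaf 555)))) (.node (.node 
    (.node (.leaf 491) (.leaf 1003)) (.node (.leaf 235) (.leaf 747))) (.node (.node (.leaf 363) 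
    (.leaf 875)) (.node (.leaf 107) (.leaf 619))))) (.node (.node (.node (.node (.leaf 907) (.leaf 
    395)) (.node (.leaf 651) (.leaf 139))) (.node (.node (.leaf 779) (.leaf 267)) (.node (.leaf 
    523) (.leaf 11)))) (.node (.node (.node (.leaf 971) (.leaf 459)) (.node (.leaf 715) (.leaf 
    203))) (.node (.node (.leaf 843) (.leaf 331)) (.node (.leaf 587) (.leaf 75)))))) (.node (.node 
    (.node (.node (.node (.leaf 955) (.leaf 443)) (.node (.leaf 699) (.leaf 187))) (.node (.node 
    (.leaf 827) (.leaf 315)) (.node (.leaf 571) (.leaf 59)))) (.node (.node (.node (.leaf 1019) 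
    (.leaf 507)) (.node (.leaf 763) (.leaf 251))) (.node (.node (.leaf 891) (.leaf 379)) (.node 
    (.leaf 635) (.leaf 123))))) (.node (.node (.node (.node (.leaf 411) (.leaf 923)) (.node (.leaf 
    155) (.leaf 667))) (.node (.node (.leaf 283) (.leaf 795)) (.node (.leaf 27) (.leaf 539)))) 
    (.node (.node (.node (.leaf 475) (.leaf 987)) (.node (.leaf 219) (.leaf 731))) (.node (.node 
    (.leaf 347) (.leaf 859)) (.node (.leaf 91) (.leaf 603)))))))) (.node (.node (.node (.node 
    (.node (.node (.node (.leaf 935) (.leaf 423)) (.node (.leaf 679) (.leaf 167))) (.node (.node 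
    (.leaf 807) (.leaf 295)) (.node (.leaf 551) (.leaf 39)))) (.node (.node (.node (.leaf 999) 
    (.leaf 487)) (.node (.leaf 743) (.leaf 231))) (.node (.node (.leaf 871) (.leaf 359)) (.node 
    (.leaf 615) (.leaf 103))))) (.node (.node (.node (.node (.leaf 391) (.leaf 903)) (.node (.leaf 
    135) (.leaf 647))) (.node (.node (.leaf 263) (.leaf 775)) (.node (.leaf 7) (.leaf 519)))) 
    (.node (.node (.node (.leaf 455) (.leaf 967)) (.node (.leaf 199) (.leaf 711))) (.node (.node 
    (.leaf 327) (.leaf 839)) (.node (.leaf 71) (.leaf 583)))))) (.node (.node (.node (.node (.node 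
    (.leaf 439) (.leaf 951)) (.node (.leaf 183) (.leaf 695))) (.node (.node (.leaf 311) (.leaf 
    823)) (.node (.leaf 55) (.leaf 567)))) (.node (.node (.node (.leaf 503) (.leaf 1015)) (.node 
    (.leaf 247) (.leaf 759))) (.node (.node (.leaf 375) (.leaf 887)) (.node (.leaf 119) (.leaf 
    631))))) (.node (.node (.node (.node (.leaf 919) (.leaf 407)) (.node (.leaf 663) (.leaf 151))) 
    (.node (.node (.leaf 791) (.leaf 279)) (.node (.leaf 535) (.leaf 23)))) (.node (.node (.node 
    (.leaf 983) (.leaf 471)) (.node (.leaf 727) (.leaf 215))) (.node (.node (.leaf 855) (.leaf 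
    343)) (.node (.leaf 599) (.leaf 87))))))) (.node (.node (.node (.node (.node (.node (.leaf 815) 
    (.leaf 303)) (.node (.leaf 559) (.leaf 47))) (.node (.node (.leaf 943) (.leaf 431)) (.node 
    (.leaf 687) (.leaf 175)))) (.node (.node (.node (.leaf 879) (.leaf 367)) (.node (.leaf 623) 
    (.leaf 111))) (.node (.node (.leaf 1007) (.leaf 495)) (.node (.leaf 751) (.leaf 239))))) (.node 
    (.node (.node (.node (.leaf 271) (.leaf 783)) (.node (.leaf 15) (.leaf 527))) (.node (.node 
    (.leaf 399) (.leaf 911)) (.node (.leaf 143) (.leaf 655)))) (.node (.node (.node (.leaf 335) 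
    (.leaf 847)) (.node (.leaf 79) (.leaf 591))) (.node (.node (.leaf 463) (.leaf 975)) (.node 
    (.leaf 207) (.leaf 719)))))) (.node (.node (.node (.node (.node (.leaf 319) (.leaf 831)) (.node 
    (.leaf 63) (.leaf 575))) (.node (.node (.leaf 447) (.leaf 959)) (.node (.leaf 191) (.leaf 
    703)))) (.node (.node (.node (.leaf 383) (.leaf 895)) (.node (.leaf 127) (.leaf 639))) (.node 
    (.node (.leaf 511) (.leaf 1023)) (.node (.leaf 255) (.leaf 767))))) (.node (.node (.node (.node 
    (.leaf 799) (.leaf 287)) (.node (.leaf 543) (.leaf 31))) (.node (.node (.leaf 927) (.leaf 415)) 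
    (.node (.leaf 671) (.leaf 159)))) (.node (.node (.node (.leaf 863) (.leaf 351)) (.node (.leaf 
    607) (.leaf 95))) (.node (.node (.leaf 991) (.leaf 479)) (.node (.leaf 735) (.leaf 
    223))))))))))) (.leaf 0))) (.node (.node (.node (.node (.node (.node (.node (.node (.node 
    (.node (.node (.node (.leaf 8) (.leaf 520)) (.node (.leaf 264) (.leaf 776))) (.node (.node 
    (.leaf 136) (.leaf 648)) (.node (.leaf 392) (.leaf 904)))) (.node (.node (.node (.leaf 72) 
    (.leaf 584)) (.node (.leaf 328) (.leaf 840))) (.node (.node (.leaf 200) (.leaf 712)) (.node 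
    (.leaf 456) (.leaf 968))))) (.node (.node (.node (.node (.leaf 40) (.leaf 552)) (.node (.leaf 
    296) (.leaf 808))) (.node (.node (.leaf 168) (.leaf 680)) (.node (.leaf 424) (.leaf 936)))) 
    (.node (.node (.node (.leaf 104) (.leaf 616)) (.node (.leaf 360) (.leaf 872))) (.node (.node 
    (.leaf 232) (.leaf 744)) (.node (.leaf 488) (.leaf 1000)))))) (.node (.node (.node (.node 
    (.node (.leaf 24) (.leaf 536)) (.node (.leaf 280) (.leaf 792))) (.node (.node (.leaf 152) 
    (.leaf 664)) (.node (.leaf 408) (.leaf 920)))) (.node (.node (.node (.leaf 88) (.leaf 600)) 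
    (.node (.leaf 344) (.leaf 856))) (.node (.node (.leaf 216) (.leaf 728)) (.node (.leaf 472) 
    (.leaf 984))))) (.node (.node (.node (.node (.leaf 56) (.leaf 568)) (.node (.leaf 312) (.leaf 
    824))) (.node (.node (.leaf 184) (.leaf 696)) (.node (.leaf 440) (.leaf 952)))) (.node (.node 
    (.node (.leaf 120) (.leaf 632)) (.node (.leaf 376) (.leaf 888))) (.node (.node (.leaf 248) 
    (.leaf 760)) (.node (.leaf 504) (.leaf 1016))))))) (.node (.node (.node (.node (.node (.node 
    (.leaf 0) (.leaf 512)) (.node (.leaf 256) (.leaf 768))) (.node (.node (.leaf 128) (.leaf 640)) 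
    (.node (.leaf 384) (.leaf 896)))) (.node (.node (.node (.leaf 64) (.leaf 576)) (.node (.leaf 
    320) (.leaf 832))) (.node (.node (.leaf 192) (.leaf 704)) (.node (.leaf 448) (.leaf 960))))) 
    (.node (.node (.node (.node (.leaf 32) (.leaf 544)) (.node (.leaf 288) (.leaf 800))) (.node 
    (.node (.leaf 160) (.leaf 672)) (.node (.leaf 416) (.leaf 928)))) (.node (.node (.node (.leaf 
    96) (.leaf 608)) (.node (.leaf 352) (.leaf 864))) (.node (.node (.leaf 224) (.leaf 736)) (.node 
    (.leaf 480) (.leaf 992)))))) (.node (.node (.node (.node (.node (.leaf 16) (.leaf 528)) (.node 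
    (.leaf 272) (.leaf 784))) (.node (.node (.leaf 144) (.leaf 656)) (.node (.leaf 400) (.leaf 
    912)))) (.node (.node (.node (.leaf 80) (.leaf 592)) (.node (.leaf 336) (.leaf 848))) (.node 
    (.node (.leaf 208) (.leaf 720)) (.node (.leaf 464) (.leaf 976))))) (.node (.node (.node (.node 
    (.leaf 48) (.leaf 560)) (.node (.leaf 304) (.leaf 816))) (.node (.node (.leaf 176) (.leaf 688)) 
    (.node (.leaf 432) (.leaf 944)))) (.node (.node (.node (.leaf 112) (.leaf 624)) (.node (.leaf 
    368) (.leaf 880))) (.node (.node (.leaf 240) (.leaf 752)) (.node (.leaf 496) (.leaf 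
    1008)))))))) (.node (.node (.node (.node (.node (.node (.node (.leaf 700) (.leaf 188)) (.node 
    (.leaf 956) (.leaf 444))) (.node (.node (.leaf 572) (.leaf 60)) (.node (.leaf 828) (.leaf 
    316)))) (.node (.node (.node (.leaf 764) (.leaf 252)) (.node (.leaf 1020) (.leaf 508))) (.node 
    (.node (.leaf 636) (.leaf 124)) (.node (.leaf 892) (.leaf 380))))) (.node (.node (.node (.node 
    (.leaf 156) (.leaf 668)) (.node (.leaf 412) (.leaf 924))) (.node (.node (.leaf 28) (.leaf 540)) 
    (.node (.leaf 284) (.leaf 796)))) (.node (.node (.node (.leaf 220) (.leaf 732)) (.node (.leaf 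
    476) (.leaf 988))) (.node (.node (.leaf 92) (.leaf 604)) (.node (.leaf 348) (.leaf 860)))))) 
    (.node (.node (.node (.node (.node (.leaf 172) (.leaf 684)) (.node (.leaf 428) (.leaf 940))) 
    (.node (.node (.leaf 44) (.leaf 556)) (.node (.leaf 300) (.leaf 812)))) (.node (.node (.node 
    (.leaf 236) (.leaf 748)) (.node (.leaf 492) (.leaf 1004))) (.node (.node (.leaf 108) (.leaf 
    620)) (.node (.leaf 364) (.leaf 876))))) (.node (.node (.node (.node (.leaf 652) (.leaf 140)) 
    (.node (.leaf 908) (.leaf 396))) (.node (.node (.leaf 524) (.leaf 12)) (.node (.leaf 780) 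
    (.leaf 268)))) (.node (.node (.node (.leaf 716) (.leaf 204)) (.node (.leaf 972) (.leaf 460))) 
    (.node (.node (.leaf 588) (.leaf 76)) (.node (.leaf 844) (.leaf 332))))))) (.node (.node (.node 
    (.node (.node (.node (.leaf 692) (.leaf 180)) (.node (.leaf 948) (.leaf 436))) (.node (.node 
    (.leaf 564) (.leaf 52)) (.node (.leaf 820) (.leaf 308)))) (.node (.node (.node (.leaf 756) 
    (.leaf 244)) (.node (.leaf 1012) (.leaf 500))) (.node (.node (.leaf 628) (.leaf 116)) (.node 
    (.leaf 884) (.leaf 372))))) (.node (.node (.node (.node (.leaf 148) (.leaf 660)) (.node (.leaf 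
    404) (.leaf 916))) (.node (.node (.leaf 20) (.leaf 532)) (.node (.leaf 276) (.leaf 788)))) 
    (.node (.node (.node (.leaf 212) (.leaf 724)) (.node (.leaf 468) (.leaf 980))) (.node (.node 
    (.leaf 84) (.leaf 596)) (.node (.leaf 340) (.leaf 852)))))) (.node (.node (.node (.node (.node 
    (.leaf 164) (.leaf 676)) (.node (.leaf 420) (.leaf 932))) (.node (.node (.leaf 36) (.leaf 548)) 
    (.node (.leaf 292) (.leaf 804)))) (.node (.node (.node (.leaf 228) (.leaf 740)) (.node (.leaf 
    484) (.leaf 996))) (.node (.node (.leaf 100) (.leaf 612)) (.node (.leaf 356) (.leaf 868))))) 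
    (.node (.node (.node (.node (.leaf 644) (.leaf 132)) (.node (.leaf 900) (.leaf 388))) (.node 
    (.node (.leaf 516) (.leaf 4)) (.node (.leaf 772) (.leaf 260)))) (.node (.node (.node (.leaf 
    708) (.leaf 196)) (.node (.leaf 964) (.leaf 452))) (.node (.node (.leaf 580) (.leaf 68)) (.node 
    (.leaf 836) (.leaf 324))))))))) (.node (.node (.node (.node (.node (.node (.node (.node (.leaf 
    202) (.leaf 714)) (.node (.leaf 458) (.leaf 970))) (.node (.node (.leaf 74) (.leaf 586)) (.node 
    (.leaf 330) (.leaf 842)))) (.node (.node (.node (.leaf 138) (.leaf 650)) (.node (.leaf 394) 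
    (.leaf 906))) (.node (.node (.leaf 10) (.leaf 522)) (.node (.leaf 266) (.leaf 778))))) (.node 
    (.node (.node (.node (.leaf 234) (.leaf 746)) (.node (.leaf 490) (.leaf 1002))) (.node (.node 
    (.leaf 106) (.leaf 618)) (.node (.leaf 362) (.leaf 874)))) (.node (.node (.node (.leaf 170) 
    (.leaf 682)) (.node (.leaf 426) (.leaf 938))) (.node (.node (.leaf 42) (.leaf 554)) (.node 
    (.leaf 298) (.leaf 810)))))) (.node (.node (.node (.node (.node (.leaf 218) (.leaf 730)) (.node 
    (.leaf 474) (.leaf 986))) (.node (.node (.leaf 90) (.leaf 602)) (.node (.leaf 346) (.leaf 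
    858)))) (.node (.node (.node (.leaf 154) (.leaf 666)) (.node (.leaf 410) (.leaf 922))) (.node 
    (.node (.leaf 26) (.leaf 538)) (.node (.leaf 282) (.leaf 794))))) (.node (.node (.node (.node 
    (.leaf 250) (.leaf 762)) (.node (.leaf 506) (.leaf 1018))) (.node (.node (.leaf 122) (.leaf 
    634)) (.node (.leaf 378) (.leaf 890)))) (.node (.node (.node (.leaf 186) (.leaf 698)) (.node 
    (.leaf 442) (.leaf 954))) (.node (.node (.leaf 58) (.leaf 570)) (.node (.leaf 314) (.leaf 
    826))))))) (.node (.node (.node (.node (.node (.node (.leaf 194) (.leaf 706)) (.node (.leaf 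
    450) (.leaf 962))) (.node (.node (.leaf 66) (.leaf 578)) (.node (.leaf 322) (.leaf 834)))) 
    (.node (.node (.node (.leaf 130) (.leaf 642)) (.node (.leaf 386) (.leaf 898))) (.node (.node 
    (.leaf 2) (.leaf 514)) (.node (.leaf 258) (.leaf 770))))) (.node (.node (.node (.node (.leaf 
    226) (.leaf 738)) (.node (.leaf 482) (.leaf 994))) (.node (.node (.leaf 98) (.leaf 610)) (.node 
    (.leaf 354) (.leaf 866)))) (.node (.node (.node (.leaf 162) (.leaf 674)) (.node (.leaf 418) 
    (.leaf 930))) (.node (.node (.leaf 34) (.leaf 546)) (.node (.leaf 290) (.leaf 802)))))) (.node 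
    (.node (.node (.node (.node (.leaf 210) (.leaf 722)) (.node (.leaf 466) (.leaf 978))) (.node 
    (.node (.leaf 82) (.leaf 594)) (.node (.leaf 338) (.leaf 850)))) (.node (.node (.node (.leaf 
    146) (.leaf 658)) (.node (.leaf 402) (.leaf 914))) (.node (.node (.leaf 18) (.leaf 530)) (.node 
    (.leaf 274) (.leaf 786))))) (.node (.node (.node (.node (.leaf 242) (.leaf 754)) (.node (.leaf 
    498) (.leaf 1010))) (.node (.node (.leaf 114) (.leaf 626)) (.node (.leaf 370) (.leaf 882)))) 
    (.node (.node (.node (.leaf 178) (.leaf 690)) (.node (.leaf 434) (.leaf 946))) (.node (.node 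
    (.leaf 50) (.leaf 562)) (.node (.leaf 306) (.leaf 818)))))))) (.node (.node (.node (.node 
    (.node (.node (.node (.leaf 382) (.leaf 894)) (.node (.leaf 126) (.leaf 638))) (.node (.node 
    (.leaf 510) (.leaf 1022)) (.node (.leaf 254) (.leaf 766)))) (.node (.node (.node (.leaf 318) 
    (.leaf 830)) (.node (.leaf 62) (.leaf 574))) (.node (.node (.leaf 446) (.leaf 958)) (.node 
    (.leaf 190) (.leaf 702))))) (.node (.node (.node (.node (.leaf 862) (.leaf 350)) (.node (.leaf 
    606) (.leaf 94))) (.node (.node (.leaf 990) (.leaf 478)) (.node (.leaf 734) (.leaf 222)))) 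
    (.node (.node (.node (.leaf 798) (.leaf 286)) (.node (.leaf 542) (.leaf 30))) (.node (.node 
    (.leaf 926) (.leaf 414)) (.node (.leaf 670) (.leaf 158)))))) (.node (.node (.node (.node (.node 
    (.leaf 878) (.leaf 366)) (.node (.leaf 622) (.leaf 110))) (.node (.node (.leaf 1006) (.leaf 
    494)) (.node (.leaf 750) (.leaf 238)))) (.node (.node (.node (.leaf 814) (.leaf 302)) (.node 
    (.leaf 558) (.leaf 46))) (.node (.node (.leaf 942) (.leaf 430)) (.node (.leaf 686) (.leaf 
    174))))) (.node (.node (.node (.node (.leaf 334) (.leaf 846)) (.node (.leaf 78) (.leaf 590))) 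
    (.node (.node (.leaf 462) (.leaf 974)) (.node (.leaf 206) (.leaf 718)))) (.node (.node (.node 
    (.leaf 270) (.leaf 782)) (.node (.leaf 14) (.leaf 526))) (.node (.node (.leaf 398) (.leaf 910)) 
    (.node (.leaf 142) (.leaf 654))))))) (.node (.node (.node (.node (.node (.node (.leaf 374) 
    (.leaf 886)) (.node (.leaf 118) (.leaf 630))) (.node (.node (.leaf 502) (.leaf 1014)) (.node 
    (.leaf 246) (.leaf 758)))) (.node (.node (.node (.leaf 310) (.leaf 822)) (.node (.leaf 54) 
    (.leaf 566))) (.node (.node (.leaf 438) (.leaf 950)) (.node (.leaf 182) (.leaf 694))))) (.node 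
    (.node (.node (.node (.leaf 854) (.leaf 342)) (.node (.leaf 598) (.leaf 86))) (.node (.node 
    (.leaf 982) (.leaf 470)) (.node (.leaf 726) (.leaf 214)))) (.node (.node (.node (.leaf 790) 
    (.leaf 278)) (.node (.leaf 534) (.leaf 22))) (.node (.node (.leaf 918) (.leaf 406)) (.node 
    (.leaf 662) (.leaf 150)))))) (.node (.node (.node (.node (.node (.leaf 870) (.leaf 358)) (.node 
    (.leaf 614) (.leaf 102))) (.node (.node (.leaf 998) (.leaf 486)) (.node (.leaf 742) (.leaf 
    230)))) (.node (.node (.node (.leaf 806) (.leaf 294)) (.node (.leaf 550) (.leaf 38))) (.node 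
    (.node (.leaf 934) (.leaf 422)) (.node (.leaf 678) (.leaf 166))))) (.node (.node (.node (.node 
    (.leaf 326) (.leaf 838)) (.node (.leaf 70) (.leaf 582))) (.node (.node (.leaf 454) (.leaf 966)) 
    (.node (.leaf 198) (.leaf 710)))) (.node (.node (.node (.leaf 262) (.leaf 774)) (.node (.leaf 
    6) (.leaf 518))) (.node (.node (.leaf 390) (.leaf 902)) (.node (.leaf 134) (.leaf 646)))))))))) 
    (.node (.node (.node (.node (.node (.node (.node (.node (.node (.leaf 137) (.leaf 649)) (.node 
    (.leaf 393) (.leaf 905))) (.node (.node (.leaf 9) (.leaf 521)) (.node (.leaf 265) (.leaf 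
    777)))) (.node (.node (.node (.leaf 201) (.leaf 713)) (.node (.leaf 457) (.leaf 969))) (.node 
    (.node (.leaf 73) (.leaf 585)) (.node (.leaf 329) (.leaf 841))))) (.node (.node (.node (.node 
    (.leaf 169) (.leaf 681)) (.node (.leaf 425) (.leaf 937))) (.node (.node (.leaf 41) (.leaf 553)) 
    (.node (.leaf 297) (.leaf 809)))) (.node (.node (.node (.leaf 233) (.leaf 745)) (.node (.leaf 
    489) (.leaf 1001))) (.node (.node (.leaf 105) (.leaf 617)) (.node (.leaf 361) (.leaf 873)))))) 
    (.node (.node (.node (.node (.node (.leaf 153) (.leaf 665)) (.node (.leaf 409) (.leaf 921))) 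
    (.node (.node (.leaf 25) (.leaf 537)) (.node (.leaf 281) (.leaf 793)))) (.node (.node (.node 
    (.leaf 217) (.leaf 729)) (.node (.leaf 473) (.leaf 985))) (.node (.node (.leaf 89) (.leaf 601)) 
    (.node (.leaf 345) (.leaf 857))))) (.node (.node (.node (.node (.leaf 185) (.leaf 697)) (.node 
    (.leaf 441) (.leaf 953))) (.node (.node (.leaf 57) (.leaf 569)) (.node (.leaf 313) (.leaf 
    825)))) (.node (.node (.node (.leaf 249) (.leaf 761)) (.node (.leaf 505) (.leaf 1017))) (.node 
    (.node (.leaf 121) (.leaf 633)) (.node (.leaf 377) (.leaf 889))))))) (.node (.node (.node 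
    (.node (.node (.node (.leaf 129) (.leaf 641)) (.node (.leaf 385) (.leaf 897))) (.node (.node 
    (.leaf 1) (.leaf 513)) (.node (.leaf 257) (.leaf 769)))) (.node (.node (.node (.leaf 193) 
    (.leaf 705)) (.node (.leaf 449) (.leaf 961))) (.node (.node (.leaf 65) (.leaf 577)) (.node 
    (.leaf 321) (.leaf 833))))) (.node (.node (.node (.node (.leaf 161) (.leaf 673)) (.node (.leaf 
    417) (.leaf 929))) (.node (.node (.leaf 33) (.leaf 545)) (.node (.leaf 289) (.leaf 801)))) 
    (.node (.node (.node (.leaf 225) (.leaf 737)) (.node (.leaf 481) (.leaf 993))) (.node (.node 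
    (.leaf 97) (.leaf 609)) (.node (.leaf 353) (.leaf 865)))))) (.node (.node (.node (.node (.node 
    (.leaf 145) (.leaf 657)) (.node (.leaf 401) (.leaf 913))) (.node (.node (.leaf 17) (.leaf 529)) 
    (.node (.leaf 273) (.leaf 785)))) (.node (.node (.node (.leaf 209) (.leaf 721)) (.node (.leaf 
    465) (.leaf 977))) (.node (.node (.leaf 81) (.leaf 593)) (.node (.leaf 337) (.leaf 849))))) 
    (.node (.node (.node (.node (.leaf 177) (.leaf 689)) (.node (.leaf 433) (.leaf 945))) (.node 
    (.node (.leaf 49) (.leaf 561)) (.node (.leaf 305) (.leaf 817)))) (.node (.node (.node (.leaf 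
    241) (.leaf 753)) (.node (.leaf 497) (.leaf 1009))) (.node (.node (.leaf 113) (.leaf 625)) 
    (.node (.leaf 369) (.leaf 881)))))))) (.node (.node (.node (.node (.node (.node (.node (.leaf 
    61) (.leaf 573)) (.node (.leaf 317) (.leaf 829))) (.node (.node (.leaf 189) (.leaf 701)) (.node 
    (.leaf 445) (.leaf 957)))) (.node (.node (.node (.leaf 125) (.leaf 637)) (.node (.leaf 381) 
    (.leaf 893))) (.node (.node (.leaf 253) (.leaf 765)) (.node (.leaf 509) (.leaf 1021))))) (.node 
    (.node (.node (.node (.leaf 541) (.leaf 29)) (.node (.leaf 797) (.leaf 285))) (.node (.node 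
    (.leaf 669) (.leaf 157)) (.node (.leaf 925) (.leaf 413)))) (.node (.node (.node (.leaf 605) 
    (.leaf 93)) (.node (.leaf 861) (.leaf 349))) (.node (.node (.leaf 733) (.leaf 221)) (.node 
    (.leaf 989) (.leaf 477)))))) (.node (.node (.node (.node (.node (.leaf 557) (.leaf 45)) (.node 
    (.leaf 813) (.leaf 301))) (.node (.node (.leaf 685) (.leaf 173)) (.node (.leaf 941) (.leaf 
    429)))) (.node (.node (.node (.leaf 621) (.leaf 109)) (.node (.leaf 877) (.leaf 365))) (.node 
    (.node (.leaf 749) (.leaf 237)) (.node (.leaf 1005) (.leaf 493))))) (.node (.node (.node (.node 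
    (.leaf 13) (.leaf 525)) (.node (.leaf 269) (.leaf 781))) (.node (.node (.leaf 141) (.leaf 653)) 
    (.node (.leaf 397) (.leaf 909)))) (.node (.node (.node (.leaf 77) (.leaf 589)) (.node (.leaf 
    333) (.leaf 845))) (.node (.node (.leaf 205) (.leaf 717)) (.node (.leaf 461) (.leaf 973))))))) 
    (.node (.node (.node (.node (.node (.node (.leaf 53) (.leaf 565)) (.node (.leaf 309) (.leaf 
    821))) (.node (.node (.leaf 181) (.leaf 693)) (.node (.leaf 437) (.leaf 949)))) (.node (.node 
    (.node (.leaf 117) (.leaf 629)) (.node (.leaf 373) (.leaf 885))) (.node (.node (.leaf 245) 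
    (.leaf 757)) (.node (.leaf 501) (.leaf 1013))))) (.node (.node (.node (.node (.leaf 533) (.leaf 
    21)) (.node (.leaf 789) (.leaf 277))) (.node (.node (.leaf 661) (.leaf 149)) (.node (.leaf 917) 
    (.leaf 405)))) (.node (.node (.node (.leaf 597) (.leaf 85)) (.node (.leaf 853) (.leaf 341))) 
    (.node (.node (.leaf 725) (.leaf 213)) (.node (.leaf 981) (.leaf 469)))))) (.node (.node (.node 
    (.node (.node (.leaf 549) (.leaf 37)) (.node (.leaf 805) (.leaf 293))) (.node (.node (.leaf 
    677) (.leaf 165)) (.node (.leaf 933) (.leaf 421)))) (.node (.node (.node (.leaf 613) (.leaf 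
    101)) (.node (.leaf 869) (.leaf 357))) (.node (.node (.leaf 741) (.leaf 229)) (.node (.leaf 
    997) (.leaf 485))))) (.node (.node (.node (.node (.leaf 5) (.leaf 517)) (.node (.leaf 261) 
    (.leaf 773))) (.node (.node (.leaf 133) (.leaf 645)) (.node (.leaf 389) (.leaf 901)))) (.node 
    (.node (.node (.leaf 69) (.leaf 581)) (.node (.leaf 325) (.leaf 837))) (.node (.node (.leaf 
    197) (.leaf 709)) (.node (.leaf 453) (.leaf 965))))))))) (.node (.node (.node (.node (.node 
    (.node (.node (.node (.leaf 75) (.leaf 587)) (.node (.leaf 331) (.leaf 843))) (.node (.node 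
    (.leaf 203) (.leaf 715)) (.node (.leaf 459) (.leaf 971)))) (.node (.node (.node (.leaf 11) 
    (.leaf 523)) (.node (.leaf 267) (.leaf 779))) (.node (.node (.leaf 139) (.leaf 651)) (.node 
    (.leaf 395) (.leaf 907))))) (.node (.node (.node (.node (.leaf 107) (.leaf 619)) (.node (.leaf 
    363) (.leaf 875))) (.node (.node (.leaf 235) (.leaf 747)) (.node (.leaf 491) (.leaf 1003)))) 
    (.node (.node (.node (.leaf 43) (.leaf 555)) (.node (.leaf 299) (.leaf 811))) (.node (.node 
    (.leaf 171) (.leaf 683)) (.node (.leaf 427) (.leaf 939)))))) (.node (.node (.node (.node (.node 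
    (.leaf 91) (.leaf 603)) (.node (.leaf 347) (.leaf 859))) (.node (.node (.leaf 219) (.leaf 731)) 
    (.node (.leaf 475) (.leaf 987)))) (.node (.node (.node (.leaf 27) (.leaf 539)) (.node (.leaf 
    283) (.leaf 795))) (.node (.node (.leaf 155) (.leaf 667)) (.node (.leaf 411) (.leaf 923))))) 
    (.node (.node (.node (.node (.leaf 123) (.leaf 635)) (.node (.leaf 379) (.leaf 891))) (.node 
    (.node (.leaf 251) (.leaf 763)) (.node (.leaf 507) (.leaf 1019)))) (.node (.node (.node (.leaf 
    59) (.leaf 571)) (.node (.leaf 315) (.leaf 827))) (.node (.node (.leaf 187) (.leaf 699)) (.node 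
    (.leaf 443) (.leaf 955))))))) (.node (.node (.node (.node (.node (.node (.leaf 67) (.leaf 579)) 
    (.node (.leaf 323) (.leaf 835))) (.node (.node (.leaf 195) (.leaf 707)) (.node (.leaf 451) 
    (.leaf 963)))) (.node (.node (.node (.leaf 3) (.leaf 515)) (.node (.leaf 259) (.leaf 771))) 
    (.node (.node (.leaf 131) (.leaf 643)) (.node (.leaf 387) (.leaf 899))))) (.node (.node (.node 
    (.node (.leaf 99) (.leaf 611)) (.node (.leaf 355) (.leaf 867))) (.node (.node (.leaf 227) 
    (.leaf 739)) (.node (.leaf 483) (.leaf 995)))) (.node (.node (.node (.leaf 35) (.leaf 547)) 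
    (.node (.leaf 291) (.leaf 803))) (.node (.node (.leaf 163) (.leaf 675)) (.node (.leaf 419) 
    (.leaf 931)))))) (.node (.node (.node (.node (.node (.leaf 83) (.leaf 595)) (.node (.leaf 339) 
    (.leaf 851))) (.node (.node (.leaf 211) (.leaf 723)) (.node (.leaf 467) (.leaf 979)))) (.node 
    (.node (.node (.leaf 19) (.leaf 531)) (.node (.leaf 275) (.leaf 787))) (.node (.node (.leaf 
    147) (.leaf 659)) (.node (.leaf 403) (.leaf 915))))) (.node (.node (.node (.node (.leaf 115) 
    (.leaf 627)) (.node (.leaf 371) (.leaf 883))) (.node (.node (.leaf 243) (.leaf 755)) (.node 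
    (.leaf 499) (.leaf 1011)))) (.node (.node (.node (.leaf 51) (.leaf 563)) (.node (.leaf 307) 
    (.leaf 819))) (.node (.node (.leaf 179) (.leaf 691)) (.node (.leaf 435) (.leaf 947)))))))) 
    (.node (.node (.node (.node (.node (.node (.node (.leaf 1023) (.leaf 511)) (.node (.leaf 767) 
    (.leaf 255))) (.node (.node (.leaf 895) (.leaf 383)) (.node (.leaf 639) (.leaf 127)))) (.node 
    (.node (.node (.leaf 959) (.leaf 447)) (.node (.leaf 703) (.leaf 191))) (.node (.node (.leaf 
    831) (.leaf 319)) (.node (.leaf 575) (.leaf 63))))) (.node (.node (.node (.node (.leaf 479) 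
    (.leaf 991)) (.node (.leaf 223) (.leaf 735))) (.node (.node (.leaf 351) (.leaf 863)) (.node 
    (.leaf 95) (.leaf 607)))) (.node (.node (.node (.leaf 415) (.leaf 927)) (.node (.leaf 159) 
    (.leaf 671))) (.node (.node (.leaf 287) (.leaf 799)) (.node (.leaf 31) (.leaf 543)))))) (.node 
    (.node (.node (.node (.node (.leaf 495) (.leaf 1007)) (.node (.leaf 239) (.leaf 751))) (.node 
    (.node (.leaf 367) (.leaf 879)) (.node (.leaf 111) (.leaf 623)))) (.node (.node (.node (.leaf 
    431) (.leaf 943)) (.node (.leaf 175) (.leaf 687))) (.node (.node (.leaf 303) (.leaf 815)) 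
    (.node (.leaf 47) (.leaf 559))))) (.node (.node (.node (.node (.leaf 975) (.leaf 463)) (.node 
    (.leaf 719) (.leaf 207))) (.node (.node (.leaf 847) (.leaf 335)) (.node (.leaf 591) (.leaf 
    79)))) (.node (.node (.node (.leaf 911) (.leaf 399)) (.node (.leaf 655) (.leaf 143))) (.node 
    (.node (.leaf 783) (.leaf 271)) (.node (.leaf 527) (.leaf 15))))))) (.node (.node (.node (.node 
    (.node (.node (.leaf 1015) (.leaf 503)) (.node (.leaf 759) (.leaf 247))) (.node (.node (.leaf 
    887) (.leaf 375)) (.node (.leaf 631) (.leaf 119)))) (.node (.node (.node (.leaf 951) (.leaf 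
    439)) (.node (.leaf 695) (.leaf 183))) (.node (.node (.leaf 823) (.leaf 311)) (.node (.leaf 
    567) (.leaf 55))))) (.node (.node (.node (.node (.leaf 471) (.leaf 983)) (.node (.leaf 215) 
    (.leaf 727))) (.node (.node (.leaf 343) (.leaf 855)) (.node (.leaf 87) (.leaf 599)))) (.node 
    (.node (.node (.leaf 407) (.leaf 919)) (.node (.leaf 151) (.leaf 663))) (.node (.node (.leaf 
    279) (.leaf 791)) (.node (.leaf 23) (.leaf 535)))))) (.node (.node (.node (.node (.node (.leaf 
    487) (.leaf 999)) (.node (.leaf 231) (.leaf 743))) (.node (.node (.leaf 359) (.leaf 871)) 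
    (.node (.leaf 103) (.leaf 615)))) (.node (.node (.node (.leaf 423) (.leaf 935)) (.node (.leaf 
    167) (.leaf 679))) (.node (.node (.leaf 295) (.leaf 807)) (.node (.leaf 39) (.leaf 551))))) 
    (.node (.node (.node (.node (.leaf 967) (.leaf 455)) (.node (.leaf 711) (.leaf 199))) (.node 
    (.node (.leaf 839) (.leaf 327)) (.node (.leaf 583) (.leaf 71)))) (.node (.node (.node (.leaf 
    903) (.leaf 391)) (.node (.leaf 647) (.leaf 135))) (.node (.node (.leaf 775) (.leaf 263)) 
    (.node (.leaf 519) (.leaf 7))))))))))) (.leaf 0)) (.node (.node (.node (.node (.node (.node 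
    (.node (.node (.node (.node (.node (.leaf 128) (.leaf 640)) (.node (.leaf 384) (.leaf 896))) 
    (.node (.node (.leaf 0) (.leaf 512)) (.node (.leaf 256) (.leaf 768)))) (.node (.node (.node 
    (.leaf 192) (.leaf 704)) (.node (.leaf 448) (.leaf 960))) (.node (.node (.leaf 64) (.leaf 576)) 
    (.node (.leaf 320) (.leaf 832))))) (.node (.node (.node (.node (.leaf 160) (.leaf 672)) (.node 
    (.leaf 416) (.leaf 928))) (.node (.node (.leaf 32) (.leaf 544)) (.node (.leaf 288) (.leaf 
    800)))) (.node (.node (.node (.leaf 224) (.leaf 736)) (.node (.leaf 480) (.leaf 992))) (.node 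
    (.node (.leaf 96) (.leaf 608)) (.node (.leaf 352) (.leaf 864)))))) (.node (.node (.node (.node 
    (.node (.leaf 144) (.leaf 656)) (.node (.leaf 400) (.leaf 912))) (.node (.node (.leaf 16) 
    (.leaf 528)) (.node (.leaf 272) (.leaf 784)))) (.node (.node (.node (.leaf 208) (.leaf 720)) 
    (.node (.leaf 464) (.leaf 976))) (.node (.node (.leaf 80) (.leaf 592)) (.node (.leaf 336) 
    (.leaf 848))))) (.node (.node (.node (.node (.leaf 176) (.leaf 688)) (.node (.leaf 432) (.leaf 
    944))) (.node (.node (.leaf 48) (.leaf 560)) (.node (.leaf 304) (.leaf 816)))) (.node (.node 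
    (.node (.leaf 240) (.leaf 752)) (.node (.leaf 496) (.leaf 1008))) (.node (.node (.leaf 112) 
    (.leaf 624)) (.node (.leaf 368) (.leaf 880))))))) (.node (.node (.node (.node (.node (.node 
    (.leaf 136) (.leaf 648)) (.node (.leaf 392) (.leaf 904))) (.node (.node (.leaf 8) (.leaf 520)) 
    (.node (.leaf 264) (.leaf 776)))) (.node (.node (.node (.leaf 200) (.leaf 712)) (.node (.leaf 
    456) (.leaf 968))) (.node (.node (.leaf 72) (.leaf 584)) (.node (.leaf 328) (.leaf 840))))) 
    (.node (.node (.node (.node (.leaf 168) (.leaf 680)) (.node (.leaf 424) (.leaf 936))) (.node 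
    (.node (.leaf 40) (.leaf 552)) (.node (.leaf 296) (.leaf 808)))) (.node (.node (.node (.leaf 
    232) (.leaf 744)) (.node (.leaf 488) (.leaf 1000))) (.node (.node (.leaf 104) (.leaf 616)) 
    (.node (.leaf 360) (.leaf 872)))))) (.node (.node (.node (.node (.node (.leaf 152) (.leaf 664)) 
    (.node (.leaf 408) (.leaf 920))) (.node (.node (.leaf 24) (.leaf 536)) (.node (.leaf 280) 
    (.leaf 792)))) (.node (.node (.node (.leaf 216) (.leaf 728)) (.node (.leaf 472) (.leaf 984))) 
    (.node (.node (.leaf 88) (.leaf 600)) (.node (.leaf 344) (.leaf 856))))) (.node (.node (.node 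
    (.node (.leaf 184) (.leaf 696)) (.node (.leaf 440) (.leaf 952))) (.node (.node (.leaf 56) 
    (.leaf 568)) (.node (.leaf 312) (.leaf 824)))) (.node (.node (.node (.leaf 248) (.leaf 760)) 
    (.node (.leaf 504) (.leaf 1016))) (.node (.node (.leaf 120) (.leaf 632)) (.node (.leaf 376) 
    (.leaf 888)))))))) (.node (.node (.node (.node (.node (.node (.node (.leaf 644) (.leaf 132)) 
    (.node (.leaf 900) (.leaf 388))) (.node (.node (.leaf 516) (.leaf 4)) (.node (.leaf 772) (.leaf 
    260)))) (.node (.node (.node (.leaf 708) (.leaf 196)) (.node (.leaf 964) (.leaf 452))) (.node 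
    (.node (.leaf 580) (.leaf 68)) (.node (.leaf 836) (.leaf 324))))) (.node (.node (.node (.node 
    (.leaf 676) (.leaf 164)) (.node (.leaf 932) (.leaf 420))) (.node (.node (.leaf 548) (.leaf 36)) 
    (.node (.leaf 804) (.leaf 292)))) (.node (.node (.node (.leaf 740) (.leaf 228)) (.node (.leaf 
    996) (.leaf 484))) (.node (.node (.leaf 612) (.leaf 100)) (.node (.leaf 868) (.leaf 356)))))) 
    (.node (.node (.node (.node (.node (.leaf 660) (.leaf 148)) (.node (.leaf 916) (.leaf 404))) 
    (.node (.node (.leaf 532) (.leaf 20)) (.node (.leaf 788) (.leaf 276)))) (.node (.node (.node 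
    (.leaf 724) (.leaf 212)) (.node (.leaf 980) (.leaf 468))) (.node (.node (.leaf 596) (.leaf 84)) 
    (.node (.leaf 852) (.leaf 340))))) (.node (.node (.node (.node (.leaf 692) (.leaf 180)) (.node 
    (.leaf 948) (.leaf 436))) (.node (.node (.leaf 564) (.leaf 52)) (.node (.leaf 820) (.leaf 
    308)))) (.node (.node (.node (.leaf 756) (.leaf 244)) (.node (.leaf 1012) (.leaf 500))) (.node 
    (.node (.leaf 628) (.leaf 116)) (.node (.leaf 884) (.leaf 372))))))) (.node (.node (.node 
    (.node (.node (.node (.leaf 652) (.leaf 140)) (.node (.leaf 908) (.leaf 396))) (.node (.node 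
    (.leaf 524) (.leaf 12)) (.node (.leaf 780) (.leaf 268)))) (.node (.node (.node (.leaf 716) 
    (.leaf 204)) (.node (.leaf 972) (.leaf 460))) (.node (.node (.leaf 588) (.leaf 76)) (.node 
    (.leaf 844) (.leaf 332))))) (.node (.node (.node (.node (.leaf 684) (.leaf 172)) (.node (.leaf 
    940) (.leaf 428))) (.node (.node (.leaf 556) (.leaf 44)) (.node (.leaf 812) (.leaf 300)))) 
    (.node (.node (.node (.leaf 748) (.leaf 236)) (.node (.leaf 1004) (.leaf 492))) (.node (.node 
    (.leaf 620) (.leaf 108)) (.node (.leaf 876) (.leaf 364)))))) (.node (.node (.node (.node (.node 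
    (.leaf 668) (.leaf 156)) (.node (.leaf 924) (.leaf 412))) (.node (.node (.leaf 540) (.leaf 28)) 
    (.node (.leaf 796) (.leaf 284)))) (.node (.node (.node (.leaf 732) (.leaf 220)) (.node (.leaf 
    988) (.leaf 476))) (.node (.node (.leaf 604) (.leaf 92)) (.node (.leaf 860) (.leaf 348))))) 
    (.node (.node (.node (.node (.leaf 700) (.leaf 188)) (.node (.leaf 956) (.leaf 444))) (.node 
    (.node (.leaf 572) (.leaf 60)) (.node (.leaf 828) (.leaf 316)))) (.node (.node (.node (.leaf 
    764) (.leaf 252)) (.node (.leaf 1020) (.leaf 508))) (.node (.node (.leaf 636) (.leaf 124)) 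
    (.node (.leaf 892) (.leaf 380))))))))) (.node (.node (.node (.node (.node (.node (.node (.node 
    (.leaf 130) (.leaf 642)) (.node (.leaf 386) (.leaf 898))) (.node (.node (.leaf 2) (.leaf 514)) 
    (.node (.leaf 258) (.leaf 770)))) (.node (.node (.node (.leaf 194) (.leaf 706)) (.node (.leaf 
    450) (.leaf 962))) (.node (.node (.leaf 66) (.leaf 578)) (.node (.leaf 322) (.leaf 834))))) 
    (.node (.node (.node (.node (.leaf 162) (.leaf 674)) (.node (.leaf 418) (.leaf 930))) (.node 
    (.node (.leaf 34) (.leaf 546)) (.node (.leaf 290) (.leaf 802)))) (.node (.node (.node (.leaf 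
    226) (.leaf 738)) (.node (.leaf 482) (.leaf 994))) (.node (.node (.leaf 98) (.leaf 610)) (.node 
    (.leaf 354) (.leaf 866)))))) (.node (.node (.node (.node (.node (.leaf 146) (.leaf 658)) (.node 
    (.leaf 402) (.leaf 914))) (.node (.node (.leaf 18) (.leaf 530)) (.node (.leaf 274) (.leaf 
    786)))) (.node (.node (.node (.leaf 210) (.leaf 722)) (.node (.leaf 466) (.leaf 978))) (.node 
    (.node (.leaf 82) (.leaf 594)) (.node (.leaf 338) (.leaf 850))))) (.node (.node (.node (.node 
    (.leaf 178) (.leaf 690)) (.node (.leaf 434) (.leaf 946))) (.node (.node (.leaf 50) (.leaf 562)) 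
    (.node (.leaf 306) (.leaf 818)))) (.node (.node (.node (.leaf 242) (.leaf 754)) (.node (.leaf 
    498) (.leaf 1010))) (.node (.node (.leaf 114) (.leaf 626)) (.node (.leaf 370) (.leaf 882))))))) 
    (.node (.node (.node (.node (.node (.node (.leaf 138) (.leaf 650)) (.node (.leaf 394) (.leaf 
    906))) (.node (.node (.leaf 10) (.leaf 522)) (.node (.leaf 266) (.leaf 778)))) (.node (.node 
    (.node (.leaf 202) (.leaf 714)) (.node (.leaf 458) (.leaf 970))) (.node (.node (.leaf 74) 
    (.leaf 586)) (.node (.leaf 330) (.leaf 842))))) (.node (.node (.node (.node (.leaf 170) (.leaf 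
    682)) (.node (.leaf 426) (.leaf 938))) (.node (.node (.leaf 42) (.leaf 554)) (.node (.leaf 298) 
    (.leaf 810)))) (.node (.node (.node (.leaf 234) (.leaf 746)) (.node (.leaf 490) (.leaf 1002))) 
    (.node (.node (.leaf 106) (.leaf 618)) (.node (.leaf 362) (.leaf 874)))))) (.node (.node (.node 
    (.node (.node (.leaf 154) (.leaf 666)) (.node (.leaf 410) (.leaf 922))) (.node (.node (.leaf 
    26) (.leaf 538)) (.node (.leaf 282) (.leaf 794)))) (.node (.node (.node (.leaf 218) (.leaf 
    730)) (.node (.leaf 474) (.leaf 986))) (.node (.node (.leaf 90) (.leaf 602)) (.node (.leaf 346) 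
    (.leaf 858))))) (.node (.node (.node (.node (.leaf 186) (.leaf 698)) (.node (.leaf 442) (.leaf 
    954))) (.node (.node (.leaf 58) (.leaf 570)) (.node (.leaf 314) (.leaf 826)))) (.node (.node 
    (.node (.leaf 250) (.leaf 762)) (.node (.leaf 506) (.leaf 1018))) (.node (.node (.leaf 122) 
    (.leaf 634)) (.node (.leaf 378) (.leaf 890)))))))) (.node (.node (.node (.node (.node (.node 
    (.node (.leaf 646) (.leaf 134)) (.node (.leaf 902) (.leaf 390))) (.node (.node (.leaf 518) 
    (.leaf 6)) (.node (.leaf 774) (.leaf 262)))) (.node (.node (.node (.leaf 710) (.leaf 198)) 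
    (.node (.leaf 966) (.leaf 454))) (.node (.node (.leaf 582) (.leaf 70)) (.node (.leaf 838) 
    (.leaf 326))))) (.node (.node (.node (.node (.leaf 678) (.leaf 166)) (.node (.leaf 934) (.leaf 
    422))) (.node (.node (.leaf 550) (.leaf 38)) (.node (.leaf 806) (.leaf 294)))) (.node (.node 
    (.node (.leaf 742) (.leaf 230)) (.node (.leaf 998) (.leaf 486))) (.node (.node (.leaf 614) 
    (.leaf 102)) (.node (.leaf 870) (.leaf 358)))))) (.node (.node (.node (.node (.node (.leaf 662) 
    (.leaf 150)) (.node (.leaf 918) (.leaf 406))) (.node (.node (.leaf 534) (.leaf 22)) (.node 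
    (.leaf 790) (.leaf 278)))) (.node (.node (.node (.leaf 726) (.leaf 214)) (.node (.leaf 982) 
    (.leaf 470))) (.node (.node (.leaf 598) (.leaf 86)) (.node (.leaf 854) (.leaf 342))))) (.node 
    (.node (.node (.node (.leaf 694) (.leaf 182)) (.node (.leaf 950) (.leaf 438))) (.node (.node 
    (.leaf 566) (.leaf 54)) (.node (.leaf 822) (.leaf 310)))) (.node (.node (.node (.leaf 758) 
    (.leaf 246)) (.node (.leaf 1014) (.leaf 502))) (.node (.node (.leaf 630) (.leaf 118)) (.node 
    (.leaf 886) (.leaf 374))))))) (.node (.node (.node (.node (.node (.node (.leaf 654) (.leaf 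
    142)) (.node (.leaf 910) (.leaf 398))) (.node (.node (.leaf 526) (.leaf 14)) (.node (.leaf 782) 
    (.leaf 270)))) (.node (.node (.node (.leaf 718) (.leaf 206)) (.node (.leaf 974) (.leaf 462))) 
    (.node (.node (.leaf 590) (.leaf 78)) (.node (.leaf 846) (.leaf 334))))) (.node (.node (.node 
    (.node (.leaf 686) (.leaf 174)) (.node (.leaf 942) (.leaf 430))) (.node (.node (.leaf 558) 
    (.leaf 46)) (.node (.leaf 814) (.leaf 302)))) (.node (.node (.node (.leaf 750) (.leaf 238)) 
    (.node (.leaf 1006) (.leaf 494))) (.node (.node (.leaf 622) (.leaf 110)) (.node (.leaf 878) 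
    (.leaf 366)))))) (.node (.node (.node (.node (.node (.leaf 670) (.leaf 158)) (.node (.leaf 926) 
    (.leaf 414))) (.node (.node (.leaf 542) (.leaf 30)) (.node (.leaf 798) (.leaf 286)))) (.node 
    (.node (.node (.leaf 734) (.leaf 222)) (.node (.leaf 990) (.leaf 478))) (.node (.node (.leaf 
    606) (.leaf 94)) (.node (.leaf 862) (.leaf 350))))) (.node (.node (.node (.node (.leaf 702) 
    (.leaf 190)) (.node (.leaf 958) (.leaf 446))) (.node (.node (.leaf 574) (.leaf 62)) (.node 
    (.leaf 830) (.leaf 318)))) (.node (.node (.node (.leaf 766) (.leaf 254)) (.node (.leaf 1022) 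
    (.leaf 510))) (.node (.node (.leaf 638) (.leaf 126)) (.node (.leaf 894) (.leaf 382)))))))))) 
    (.node (.node (.node (.node (.node (.node (.node (.node (.node (.leaf 129) (.leaf 641)) (.node 
    (.leaf 385) (.leaf 897))) (.node (.node (.leaf 1) (.leaf 513)) (.node (.leaf 257) (.leaf 
    769)))) (.node (.node (.node (.leaf 193) (.leaf 705)) (.node (.leaf 449) (.leaf 961))) (.node 
    (.node (.leaf 65) (.leaf 577)) (.node (.leaf 321) (.leaf 833))))) (.node (.node (.node (.node 
    (.leaf 161) (.leaf 673)) (.node (.leaf 417) (.leaf 929))) (.node (.node (.leaf 33) (.leaf 545)) 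
    (.node (.leaf 289) (.leaf 801)))) (.node (.node (.node (.leaf 225) (.leaf 737)) (.node (.leaf 
    481) (.leaf 993))) (.node (.node (.leaf 97) (.leaf 609)) (.node (.leaf 353) (.leaf 865)))))) 
    (.node (.node (.node (.node (.node (.leaf 145) (.leaf 657)) (.node (.leaf 401) (.leaf 913))) 
    (.node (.node (.leaf 17) (.leaf 529)) (.node (.leaf 273) (.leaf 785)))) (.node (.node (.node 
    (.leaf 209) (.leaf 721)) (.node (.leaf 465) (.leaf 977))) (.node (.node (.leaf 81) (.leaf 593)) 
    (.node (.leaf 337) (.leaf 849))))) (.node (.node (.node (.node (.leaf 177) (.leaf 689)) (.node 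
    (.leaf 433) (.leaf 945))) (.node (.node (.leaf 49) (.leaf 561)) (.node (.leaf 305) (.leaf 
    817)))) (.node (.node (.node (.leaf 241) (.leaf 753)) (.node (.leaf 497) (.leaf 1009))) (.node 
    (.node (.leaf 113) (.leaf 625)) (.node (.leaf 369) (.leaf 881))))))) (.node (.node (.node 
    (.node (.node (.node (.leaf 137) (.leaf 649)) (.node (.leaf 393) (.leaf 905))) (.node (.node 
    (.leaf 9) (.leaf 521)) (.node (.leaf 265) (.leaf 777)))) (.node (.node (.node (.leaf 201) 
    (.leaf 713)) (.node (.leaf 457) (.leaf 969))) (.node (.node (.leaf 73) (.leaf 585)) (.node 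
    (.leaf 329) (.leaf 841))))) (.node (.node (.node (.node (.leaf 169) (.leaf 681)) (.node (.leaf 
    425) (.leaf 937))) (.node (.node (.leaf 41) (.leaf 553)) (.node (.leaf 297) (.leaf 809)))) 
    (.node (.node (.node (.leaf 233) (.leaf 745)) (.node (.leaf 489) (.leaf 1001))) (.node (.node 
    (.leaf 105) (.leaf 617)) (.node (.leaf 361) (.leaf 873)))))) (.node (.node (.node (.node (.node 
    (.leaf 153) (.leaf 665)) (.node (.leaf 409) (.leaf 921))) (.node (.node (.leaf 25) (.leaf 537)) 
    (.node (.leaf 281) (.leaf 793)))) (.node (.node (.node (.leaf 217) (.leaf 729)) (.node (.leaf 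
    473) (.leaf 985))) (.node (.node (.leaf 89) (.leaf 601)) (.node (.leaf 345) (.leaf 857))))) 
    (.node (.node (.node (.node (.leaf 185) (.leaf 697)) (.node (.leaf 441) (.leaf 953))) (.node 
    (.node (.leaf 57) (.leaf 569)) (.node (.leaf 313) (.leaf 825)))) (.node (.node (.node (.leaf 
    249) (.leaf 761)) (.node (.leaf 505) (.leaf 1017))) (.node (.node (.leaf 121) (.leaf 633)) 
    (.node (.leaf 377) (.leaf 889)))))))) (.node (.node (.node (.node (.node (.node (.node (.leaf 
    645) (.leaf 133)) (.node (.leaf 901) (.leaf 389))) (.node (.node (.leaf 517) (.leaf 5)) (.node 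
    (.leaf 773) (.leaf 261)))) (.node (.node (.node (.leaf 709) (.leaf 197)) (.node (.leaf 965) 
    (.leaf 453))) (.node (.node (.leaf 581) (.leaf 69)) (.node (.leaf 837) (.leaf 325))))) (.node 
    (.node (.node (.node (.leaf 677) (.leaf 165)) (.node (.leaf 933) (.leaf 421))) (.node (.node 
    (.leaf 549) (.leaf 37)) (.node (.leaf 805) (.leaf 293)))) (.node (.node (.node (.leaf 741) 
    (.leaf 229)) (.node (.leaf 997) (.leaf 485))) (.node (.node (.leaf 613) (.leaf 101)) (.node 
    (.leaf 869) (.leaf 357)))))) (.node (.node (.node (.node (.node (.leaf 661) (.leaf 149)) (.node 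
    (.leaf 917) (.leaf 405))) (.node (.node (.leaf 533) (.leaf 21)) (.node (.leaf 789) (.leaf 
    277)))) (.node (.node (.node (.leaf 725) (.leaf 213)) (.node (.leaf 981) (.leaf 469))) (.node 
    (.node (.leaf 597) (.leaf 85)) (.node (.leaf 853) (.leaf 341))))) (.node (.node (.node (.node 
    (.leaf 693) (.leaf 181)) (.node (.leaf 949) (.leaf 437))) (.node (.node (.leaf 565) (.leaf 53)) 
    (.node (.leaf 821) (.leaf 309)))) (.node (.node (.node (.leaf 757) (.leaf 245)) (.node (.leaf 
    1013) (.leaf 501))) (.node (.node (.leaf 629) (.leaf 117)) (.node (.leaf 885) (.leaf 373))))))) 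
    (.node (.node (.node (.node (.node (.node (.leaf 653) (.leaf 141)) (.node (.leaf 909) (.leaf 
    397))) (.node (.node (.leaf 525) (.leaf 13)) (.node (.leaf 781) (.leaf 269)))) (.node (.node 
    (.node (.leaf 717) (.leaf 205)) (.node (.leaf 973) (.leaf 461))) (.node (.node (.leaf 589) 
    (.leaf 77)) (.node (.leaf 845) (.leaf 333))))) (.node (.node (.node (.node (.leaf 685) (.leaf 
    173)) (.node (.leaf 941) (.leaf 429))) (.node (.node (.leaf 557) (.leaf 45)) (.node (.leaf 813) 
    (.leaf 301)))) (.node (.node (.node (.leaf 749) (.leaf 237)) (.node (.leaf 1005) (.leaf 493))) 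
    (.node (.node (.leaf 621) (.leaf 109)) (.node (.leaf 877) (.leaf 365)))))) (.node (.node (.node 
    (.node (.node (.leaf 669) (.leaf 157)) (.node (.leaf 925) (.leaf 413))) (.node (.node (.leaf 
    541) (.leaf 29)) (.node (.leaf 797) (.leaf 285)))) (.node (.node (.node (.leaf 733) (.leaf 
    221)) (.node (.leaf 989) (.leaf 477))) (.node (.node (.leaf 605) (.leaf 93)) (.node (.leaf 861) 
    (.leaf 349))))) (.node (.node (.node (.node (.leaf 701) (.leaf 189)) (.node (.leaf 957) (.leaf 
    445))) (.node (.node (.leaf 573) (.leaf 61)) (.node (.leaf 829) (.leaf 317)))) (.node (.node 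
    (.node (.leaf 765) (.leaf 253)) (.node (.leaf 1021) (.leaf 509))) (.node (.node (.leaf 637) 
    (.leaf 125)) (.node (.leaf 893) (.leaf 381))))))))) (.node (.node (.node (.node (.node (.node 
    (.node (.node (.leaf 131) (.leaf 643)) (.node (.leaf 387) (.leaf 899))) (.node (.node (.leaf 3) 
    (.leaf 515)) (.node (.leaf 259) (.leaf 771)))) (.node (.node (.node (.leaf 195) (.leaf 707)) 
    (.node (.leaf 451) (.leaf 963))) (.node (.node (.leaf 67) (.leaf 579)) (.node (.leaf 323) 
    (.leaf 835))))) (.node (.node (.node (.node (.leaf 163) (.leaf 675)) (.node (.leaf 419) (.leaf 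
    931))) (.node (.node (.leaf 35) (.leaf 547)) (.node (.leaf 291) (.leaf 803)))) (.node (.node 
    (.node (.leaf 227) (.leaf 739)) (.node (.leaf 483) (.leaf 995))) (.node (.node (.leaf 99) 
    (.leaf 611)) (.node (.leaf 355) (.leaf 867)))))) (.node (.node (.node (.node (.node (.leaf 147) 
    (.leaf 659)) (.node (.leaf 403) (.leaf 915))) (.node (.node (.leaf 19) (.leaf 531)) (.node 
    (.leaf 275) (.leaf 787)))) (.node (.node (.node (.leaf 211) (.leaf 723)) (.node (.leaf 467) 
    (.leaf 979))) (.node (.node (.leaf 83) (.leaf 595)) (.node (.leaf 339) (.leaf 851))))) (.node 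
    (.node (.node (.node (.leaf 179) (.leaf 691)) (.node (.leaf 435) (.leaf 947))) (.node (.node 
    (.leaf 51) (.leaf 563)) (.node (.leaf 307) (.leaf 819)))) (.node (.node (.node (.leaf 243) 
    (.leaf 755)) (.node (.leaf 499) (.leaf 1011))) (.node (.node (.leaf 115) (.leaf 627)) (.node 
    (.leaf 371) (.leaf 883))))))) (.node (.node (.node (.node (.node (.node (.leaf 139) (.leaf 
    651)) (.node (.leaf 395) (.leaf 907))) (.node (.node (.leaf 11) (.leaf 523)) (.node (.leaf 267) 
    (.leaf 779)))) (.node (.node (.node (.leaf 203) (.leaf 715)) (.node (.leaf 459) (.leaf 971))) 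
    (.node (.node (.leaf 75) (.leaf 587)) (.node (.leaf 331) (.leaf 843))))) (.node (.node (.node 
    (.node (.leaf 171) (.leaf 683)) (.node (.leaf 427) (.leaf 939))) (.node (.node (.leaf 43) 
    (.leaf 555)) (.node (.leaf 299) (.leaf 811)))) (.node (.node (.node (.leaf 235) (.leaf 747)) 
    (.node (.leaf 491) (.leaf 1003))) (.node (.node (.leaf 107) (.leaf 619)) (.node (.leaf 363) 
    (.leaf 875)))))) (.node (.node (.node (.node (.node (.leaf 155) (.leaf 667)) (.node (.leaf 411) 
    (.leaf 923))) (.node (.node (.leaf 27) (.leaf 539)) (.node (.leaf 283) (.leaf 795)))) (.node 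
    (.node (.node (.leaf 219) (.leaf 731)) (.node (.leaf 475) (.leaf 987))) (.node (.node (.leaf 
    91) (.leaf 603)) (.node (.leaf 347) (.leaf 859))))) (.node (.node (.node (.node (.leaf 187) 
    (.leaf 699)) (.node (.leaf 443) (.leaf 955))) (.node (.node (.leaf 59) (.leaf 571)) (.node 
    (.leaf 315) (.leaf 827)))) (.node (.node (.node (.leaf 251) (.leaf 763)) (.node (.leaf 507) 
    (.leaf 1019))) (.node (.node (.leaf 123) (.leaf 635)) (.node (.leaf 379) (.leaf 891)))))))) 
    (.node (.node (.node (.node (.node (.node (.node (.leaf 647) (.leaf 135)) (.node (.leaf 903) 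
    (.leaf 391))) (.node (.node (.leaf 519) (.leaf 7)) (.node (.leaf 775) (.leaf 263)))) (.node 
    (.node (.node (.leaf 711) (.leaf 199)) (.node (.leaf 967) (.leaf 455))) (.node (.node (.leaf 
    583) (.leaf 71)) (.node (.leaf 839) (.leaf 327))))) (.node (.node (.node (.node (.leaf 679) 
    (.leaf 167)) (.node (.leaf 935) (.leaf 423))) (.node (.node (.leaf 551) (.leaf 39)) (.node 
    (.leaf 807) (.leaf 295)))) (.node (.node (.node (.leaf 743) (.leaf 231)) (.node (.leaf 999) 
    (.leaf 487))) (.node (.node (.leaf 615) (.leaf 103)) (.node (.leaf 871) (.leaf 359)))))) (.node 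
    (.node (.node (.node (.node (.leaf 663) (.leaf 151)) (.node (.leaf 919) (.leaf 407))) (.node 
    (.node (.leaf 535) (.leaf 23)) (.node (.leaf 791) (.leaf 279)))) (.node (.node (.node (.leaf 
    727) (.leaf 215)) (.node (.leaf 983) (.leaf 471))) (.node (.node (.leaf 599) (.leaf 87)) (.node 
    (.leaf 855) (.leaf 343))))) (.node (.node (.node (.node (.leaf 695) (.leaf 183)) (.node (.leaf 
    951) (.leaf 439))) (.node (.node (.leaf 567) (.leaf 55)) (.node (.leaf 823) (.leaf 311)))) 
    (.node (.node (.node (.leaf 759) (.leaf 247)) (.node (.leaf 1015) (.leaf 503))) (.node (.node 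
    (.leaf 631) (.leaf 119)) (.node (.leaf 887) (.leaf 375))))))) (.node (.node (.node (.node 
    (.node (.node (.leaf 655) (.leaf 143)) (.node (.leaf 911) (.leaf 399))) (.node (.node (.leaf 
    527) (.leaf 15)) (.node (.leaf 783) (.leaf 271)))) (.node (.node (.node (.leaf 719) (.leaf 
    207)) (.node (.leaf 975) (.leaf 463))) (.node (.node (.leaf 591) (.leaf 79)) (.node (.leaf 847) 
    (.leaf 335))))) (.node (.node (.node (.node (.leaf 687) (.leaf 175)) (.node (.leaf 943) (.leaf 
    431))) (.node (.node (.leaf 559) (.leaf 47)) (.node (.leaf 815) (.leaf 303)))) (.node (.node 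
    (.node (.leaf 751) (.leaf 239)) (.node (.leaf 1007) (.leaf 495))) (.node (.node (.leaf 623) 
    (.leaf 111)) (.node (.leaf 879) (.leaf 367)))))) (.node (.node (.node (.node (.node (.leaf 671) 
    (.leaf 159)) (.node (.leaf 927) (.leaf 415))) (.node (.node (.leaf 543) (.leaf 31)) (.node 
    (.leaf 799) (.leaf 287)))) (.node (.node (.node (.leaf 735) (.leaf 223)) (.node (.leaf 991) 
    (.leaf 479))) (.node (.node (.leaf 607) (.leaf 95)) (.node (.leaf 863) (.leaf 351))))) (.node 
    (.node (.node (.node (.leaf 703) (.leaf 191)) (.node (.leaf 959) (.leaf 447))) (.node (.node 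
    (.leaf 575) (.leaf 63)) (.node (.leaf 831) (.leaf 319)))) (.node (.node (.node (.leaf 767) 
    (.leaf 255)) (.node (.leaf 1023) (.leaf 511))) (.node (.node (.leaf 639) (.leaf 127)) (.node 
    (.leaf 895) (.leaf 383))))))))))) (.leaf 0)))))

/-- Certificate data. -/
def sq : CTree :=
  (.node (.node (.node (.node (.node (.node (.leaf 0) (.leaf 512)) (.leaf 0)) (.node (.node 
    (.leaf 0) (.leaf 640)) (.node (.leaf 128) (.leaf 0)))) (.node (.node (.node (.node (.node 
    (.leaf 16) (.leaf 528)) (.node (.leaf 272) (.leaf 784))) (.node (.node (.leaf 144) (.leaf 656)) 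
    (.node (.leaf 400) (.leaf 912)))) (.node (.node (.node (.leaf 16) (.leaf 528)) (.node (.leaf 
    272) (.leaf 784))) (.node (.node (.leaf 656) (.leaf 144)) (.node (.leaf 912) (.leaf 400))))) 
    (.node (.node (.node (.node (.leaf 672) (.leaf 160)) (.node (.leaf 928) (.leaf 416))) (.node 
    (.node (.leaf 672) (.leaf 160)) (.node (.leaf 928) (.leaf 416)))) (.node (.node (.node (.leaf 
    544) (.leaf 32)) (.node (.leaf 800) (.leaf 288))) (.node (.node (.leaf 32) (.leaf 544)) (.node 
    (.leaf 288) (.leaf 800))))))) (.node (.node (.node (.node (.leaf 0) (.leaf 896)) (.node (.leaf 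
    0) (.leaf 384))) (.node (.node (.leaf 192) (.leaf 960)) (.node (.leaf 64) (.leaf 320)))) (.node 
    (.node (.node (.node (.node (.leaf 0) (.leaf 512)) (.node (.leaf 256) (.leaf 768))) (.node 
    (.node (.leaf 768) (.leaf 256)) (.node (.leaf 512) (.leaf 0)))) (.node (.node (.node (.leaf 0) 
    (.leaf 512)) (.node (.leaf 256) (.leaf 768))) (.node (.node (.leaf 256) (.leaf 768)) (.node 
    (.leaf 0) (.leaf 512))))) (.node (.node (.node (.node (.leaf 368) (.leaf 880)) (.node (.leaf 
    112) (.leaf 624))) (.node (.node (.leaf 752) (.leaf 240)) (.node (.leaf 1008) (.leaf 496)))) 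
    (.node (.node (.node (.leaf 496) (.leaf 1008)) (.node (.leaf 240) (.leaf 752))) (.node (.node 
    (.leaf 112) (.leaf 624)) (.node (.leaf 368) (.leaf 880)))))))) (.node (.node (.node (.node 
    (.node (.node (.node (.node (.leaf 0) (.leaf 512)) (.node (.leaf 0) (.leaf 512))) (.node (.node 
    (.leaf 128) (.leaf 640)) (.node (.leaf 128) (.leaf 640)))) (.node (.node (.node (.leaf 640) 
    (.leaf 128)) (.node (.leaf 640) (.leaf 128))) (.node (.node (.leaf 512) (.leaf 0)) (.node 
    (.leaf 512) (.leaf 0))))) (.node (.node (.node (.node (.leaf 0) (.leaf 512)) (.node (.leaf 0) 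
    (.leaf 512))) (.node (.node (.leaf 128) (.leaf 640)) (.node (.leaf 128) (.leaf 640)))) (.node 
    (.node (.node (.leaf 128) (.leaf 640)) (.node (.leaf 128) (.leaf 640))) (.node (.node (.leaf 0) 
    (.leaf 512)) (.node (.leaf 0) (.leaf 512)))))) (.node (.node (.node (.node (.node (.leaf 128) 
    (.leaf 640)) (.node (.leaf 128) (.leaf 640))) (.node (.node (.leaf 0) (.leaf 512)) (.node 
    (.leaf 0) (.leaf 512)))) (.node (.node (.node (.leaf 640) (.leaf 128)) (.node (.leaf 640) 
    (.leaf 128))) (.node (.node (.leaf 512) (.leaf 0)) (.node (.leaf 512) (.leaf 0))))) (.node 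
    (.node (.node (.node (.leaf 0) (.leaf 512)) (.node (.leaf 0) (.leaf 512))) (.node (.node (.leaf 
    128) (.leaf 640)) (.node (.leaf 128) (.leaf 640)))) (.node (.node (.node (.leaf 0) (.leaf 512)) 
    (.node (.leaf 0) (.leaf 512))) (.node (.node (.leaf 128) (.leaf 640)) (.node (.leaf 128) (.leaf 
    640))))))) (.node (.node (.node (.node (.node (.node (.leaf 0) (.leaf 512)) (.node (.leaf 512) 
    (.leaf 0))) (.node (.node (.leaf 896) (.leaf 384)) (.node (.leaf 384) (.leaf 896)))) (.node 
    (.node (.node (.leaf 512) (.leaf 0)) (.node (.leaf 0) (.leaf 512))) (.node (.node (.leaf 384) 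
    (.leaf 896)) (.node (.leaf 896) (.leaf 384))))) (.node (.node (.node (.node (.leaf 0) (.leaf 
    512)) (.node (.leaf 512) (.leaf 0))) (.node (.node (.leaf 896) (.leaf 384)) (.node (.leaf 384) 
    (.leaf 896)))) (.node (.node (.node (.leaf 0) (.leaf 512)) (.node (.leaf 512) (.leaf 0))) 
    (.node (.node (.leaf 896) (.leaf 384)) (.node (.leaf 384) (.leaf 896)))))) (.node (.node (.node 
    (.node (.node (.leaf 48) (.leaf 560)) (.node (.leaf 560) (.leaf 48))) (.node (.node (.leaf 944) 
    (.leaf 432)) (.node (.leaf 432) (.leaf 944)))) (.node (.node (.node (.leaf 688) (.leaf 176)) 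
    (.node (.leaf 176) (.leaf 688))) (.node (.node (.leaf 304) (.leaf 816)) (.node (.leaf 816) 
    (.leaf 304))))) (.node (.node (.node (.node (.leaf 176) (.leaf 688)) (.node (.leaf 688) (.leaf 
    176))) (.node (.node (.leaf 816) (.leaf 304)) (.node (.leaf 304) (.leaf 816)))) (.node (.node 
    (.node (.leaf 48) (.leaf 560)) (.node (.leaf 560) (.leaf 48))) (.node (.node (.leaf 944) (.leaf 
    432)) (.node (.leaf 432) (.leaf 944)))))))) (.node (.node (.node (.node (.node (.node (.node 
    (.leaf 16) (.leaf 528)) (.node (.leaf 16) (.leaf 528))) (.node (.node (.leaf 144) (.leaf 656)) 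
    (.node (.leaf 144) (.leaf 656)))) (.node (.node (.node (.leaf 784) (.leaf 272)) (.node (.leaf 
    784) (.leaf 272))) (.node (.node (.leaf 912) (.leaf 400)) (.node (.leaf 912) (.leaf 400))))) 
    (.node (.node (.node (.node (.leaf 16) (.leaf 528)) (.node (.leaf 16) (.leaf 528))) (.node 
    (.node (.leaf 144) (.leaf 656)) (.node (.leaf 144) (.leaf 656)))) (.node (.node (.node (.leaf 
    272) (.leaf 784)) (.node (.leaf 272) (.leaf 784))) (.node (.node (.leaf 400) (.leaf 912)) 
    (.node (.leaf 400) (.leaf 912)))))) (.node (.node (.node (.node (.node (.leaf 80) (.leaf 592)) 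
    (.node (.leaf 80) (.leaf 592))) (.node (.node (.leaf 208) (.leaf 720)) (.node (.leaf 208) 
    (.leaf 720)))) (.node (.node (.node (.leaf 976) (.leaf 464)) (.node (.leaf 976) (.leaf 464))) 
    (.node (.node (.leaf 848) (.leaf 336)) (.node (.leaf 848) (.leaf 336))))) (.node (.node (.node 
    (.node (.leaf 208) (.leaf 720)) (.node (.leaf 208) (.leaf 720))) (.node (.node (.leaf 80) 
    (.leaf 592)) (.node (.leaf 80) (.leaf 592)))) (.node (.node (.node (.leaf 336) (.leaf 848)) 
    (.node (.leaf 336) (.leaf 848))) (.node (.node (.leaf 464) (.leaf 976)) (.node (.leaf 464) 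
    (.leaf 976))))))) (.node (.node (.node (.node (.node (.node (.leaf 0) (.leaf 512)) (.node 
    (.leaf 512) (.leaf 0))) (.node (.node (.leaf 896) (.leaf 384)) (.node (.leaf 384) (.leaf 
    896)))) (.node (.node (.node (.leaf 384) (.leaf 896)) (.node (.leaf 896) (.leaf 384))) (.node 
    (.node (.leaf 512) (.leaf 0)) (.node (.leaf 0) (.leaf 512))))) (.node (.node (.node (.node 
    (.leaf 0) (.leaf 512)) (.node (.leaf 512) (.leaf 0))) (.node (.node (.leaf 896) (.leaf 384)) 
    (.node (.leaf 384) (.leaf 896)))) (.node (.node (.node (.leaf 896) (.leaf 384)) (.node (.leaf 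
    384) (.leaf 896))) (.node (.node (.leaf 0) (.leaf 512)) (.node (.leaf 512) (.leaf 0)))))) 
    (.node (.node (.node (.node (.node (.leaf 1008) (.leaf 496)) (.node (.leaf 496) (.leaf 1008))) 
    (.node (.node (.leaf 112) (.leaf 624)) (.node (.leaf 624) (.leaf 112)))) (.node (.node (.node 
    (.leaf 752) (.leaf 240)) (.node (.leaf 240) (.leaf 752))) (.node (.node (.leaf 368) (.leaf 
    880)) (.node (.leaf 880) (.leaf 368))))) (.node (.node (.node (.node (.leaf 880) (.leaf 368)) 
    (.node (.leaf 368) (.leaf 880))) (.node (.node (.leaf 240) (.leaf 752)) (.node (.leaf 752) 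
    (.leaf 240)))) (.node (.node (.node (.leaf 112) (.leaf 624)) (.node (.leaf 624) (.leaf 112))) 
    (.node (.node (.leaf 1008) (.leaf 496)) (.node (.leaf 496) (.leaf 1008))))))))))

/-- Certificate data. -/
def k0 : CTree :=
  (.node (.node (.node (.node (.node (.node (.node (.node (.node (.node (.leaf 6) (.leaf 5)) 
    (.leaf 4)) (.leaf 5)) (.node (.node (.node (.leaf 5) (.leaf 4)) (.node (.leaf 5) (.leaf 4))) 
    (.node (.node (.leaf 5) (.leaf 4)) (.node (.leaf 4) (.leaf 5))))) (.node (.leaf 3) (.leaf 2))) 
    (.node (.node (.node (.node (.leaf 5) (.leaf 4)) (.node (.leaf 5) (.leaf 4))) (.leaf 5)) (.node 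
    (.leaf 4) (.node (.node (.leaf 5) (.leaf 4)) (.node (.leaf 4) (.leaf 5)))))) (.node (.node 
    (.node (.node (.node (.node (.leaf 5) (.leaf 4)) (.leaf 4)) (.node (.node (.leaf 5) (.leaf 4)) 
    (.leaf 4))) (.node (.node (.node (.leaf 5) (.leaf 4)) (.leaf 4)) (.node (.node (.leaf 5) (.leaf 
    4)) (.leaf 4)))) (.node (.node (.node (.leaf 3) (.leaf 2)) (.node (.leaf 3) (.leaf 2))) (.node 
    (.node (.leaf 2) (.leaf 3)) (.node (.leaf 2) (.leaf 3))))) (.node (.node (.node (.node (.leaf 
    3) (.leaf 2)) (.node (.leaf 3) (.leaf 2))) (.node (.node (.leaf 3) (.leaf 2)) (.node (.leaf 3) 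
    (.leaf 2)))) (.node (.node (.node (.node (.leaf 5) (.leaf 4)) (.leaf 4)) (.node (.node (.leaf 
    4) (.leaf 5)) (.leaf 4))) (.node (.node (.leaf 4) (.node (.leaf 5) (.leaf 4))) (.node (.leaf 4) 
    (.node (.leaf 4) (.leaf 5)))))))) (.node (.node (.node (.node (.leaf 2) (.leaf 1)) (.node 
    (.leaf 2) (.leaf 1))) (.node (.node (.leaf 2) (.leaf 1)) (.node (.leaf 2) (.leaf 1)))) (.leaf 
    0))) (.node (.node (.node (.node (.node (.node (.node (.node (.leaf 5) (.leaf 4)) (.leaf 5)) 
    (.node (.leaf 5) (.node (.leaf 5) (.leaf 4)))) (.node (.node (.leaf 5) (.node (.leaf 5) (.leaf 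
    4))) (.node (.node (.leaf 5) (.leaf 4)) (.leaf 5)))) (.node (.node (.node (.leaf 2) (.leaf 3)) 
    (.node (.leaf 3) (.leaf 2))) (.node (.node (.leaf 2) (.leaf 3)) (.node (.leaf 3) (.leaf 2))))) 
    (.node (.node (.node (.node (.node (.leaf 5) (.leaf 4)) (.leaf 5)) (.node (.leaf 5) (.node 
    (.leaf 4) (.leaf 5)))) (.node (.node (.node (.leaf 5) (.leaf 4)) (.leaf 5)) (.node (.leaf 5) 
    (.node (.leaf 4) (.leaf 5))))) (.node (.node (.node (.leaf 3) (.leaf 2)) (.node (.leaf 2) 
    (.leaf 3))) (.node (.node (.leaf 2) (.leaf 3)) (.node (.leaf 3) (.leaf 2)))))) (.node (.node 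
    (.node (.node (.node (.node (.leaf 3) (.leaf 2)) (.node (.leaf 3) (.leaf 2))) (.node (.node 
    (.leaf 3) (.leaf 2)) (.node (.leaf 3) (.leaf 2)))) (.node (.node (.node (.leaf 3) (.leaf 2)) 
    (.node (.leaf 3) (.leaf 2))) (.node (.node (.leaf 3) (.leaf 2)) (.node (.leaf 3) (.leaf 2))))) 
    (.node (.node (.node (.node (.leaf 2) (.leaf 3)) (.node (.leaf 2) (.leaf 3))) (.node (.node 
    (.leaf 3) (.leaf 2)) (.node (.leaf 3) (.leaf 2)))) (.node (.node (.node (.leaf 2) (.leaf 3)) 
    (.node (.leaf 2) (.leaf 3))) (.node (.node (.leaf 3) (.leaf 2)) (.node (.leaf 3) (.leaf 2)))))) 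
    (.node (.node (.node (.node (.node (.leaf 3) (.leaf 2)) (.node (.leaf 2) (.leaf 3))) (.node 
    (.node (.leaf 3) (.leaf 2)) (.node (.leaf 2) (.leaf 3)))) (.node (.node (.node (.leaf 3) (.leaf 
    2)) (.node (.leaf 2) (.leaf 3))) (.node (.node (.leaf 3) (.leaf 2)) (.node (.leaf 2) (.leaf 
    3))))) (.node (.node (.node (.node (.leaf 3) (.leaf 2)) (.node (.leaf 2) (.leaf 3))) (.node 
    (.node (.leaf 2) (.leaf 3)) (.node (.leaf 3) (.leaf 2)))) (.node (.node (.node (.leaf 2) (.leaf 
    3)) (.node (.leaf 3) (.leaf 2))) (.node (.node (.leaf 3) (.leaf 2)) (.node (.leaf 2) (.leaf 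
    3)))))))) (.node (.node (.node (.node (.node (.leaf 4) (.leaf 2)) (.leaf 1)) (.node (.leaf 1) 
    (.node (.leaf 2) (.leaf 4)))) (.node (.node (.node (.leaf 4) (.leaf 2)) (.leaf 1)) (.node 
    (.leaf 1) (.node (.leaf 4) (.leaf 2))))) (.node (.node (.node (.leaf 1) (.leaf 3)) (.node 
    (.leaf 1) (.leaf 3))) (.node (.node (.leaf 3) (.leaf 1)) (.node (.leaf 3) (.leaf 1))))))) 
    (.node (.node (.node (.node (.node (.node (.node (.node (.leaf 5) (.leaf 2)) (.node (.leaf 5) 
    (.leaf 2))) (.leaf 3)) (.node (.leaf 2) (.node (.node (.leaf 2) (.leaf 4)) (.node (.leaf 2) 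
    (.leaf 4))))) (.node (.node (.node (.node (.leaf 5) (.leaf 2)) (.node (.leaf 5) (.leaf 2))) 
    (.leaf 3)) (.node (.leaf 2) (.node (.node (.leaf 4) (.leaf 2)) (.node (.leaf 4) (.leaf 2)))))) 
    (.node (.node (.node (.node (.node (.leaf 3) (.leaf 2)) (.node (.leaf 3) (.leaf 2))) (.node 
    (.node (.leaf 5) (.leaf 3)) (.node (.leaf 5) (.leaf 3)))) (.node (.node (.node (.leaf 3) (.leaf 
    2)) (.node (.leaf 3) (.leaf 2))) (.node (.node (.leaf 3) (.leaf 5)) (.node (.leaf 3) (.leaf 
    5))))) (.node (.node (.node (.node (.leaf 5) (.leaf 3)) (.node (.leaf 5) (.leaf 3))) (.node 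
    (.node (.leaf 3) (.leaf 2)) (.node (.leaf 3) (.leaf 2)))) (.node (.node (.node (.leaf 5) (.leaf 
    3)) (.node (.leaf 5) (.leaf 3))) (.node (.node (.leaf 2) (.leaf 3)) (.node (.leaf 2) (.leaf 
    3))))))) (.node (.node (.node (.node (.node (.node (.leaf 4) (.leaf 3)) (.node (.leaf 3) (.leaf 
    4))) (.node (.node (.leaf 2) (.leaf 3)) (.node (.leaf 3) (.leaf 2)))) (.node (.node (.node 
    (.leaf 3) (.leaf 4)) (.node (.leaf 4) (.leaf 3))) (.node (.node (.leaf 2) (.leaf 3)) (.node 
    (.leaf 3) (.leaf 2))))) (.node (.node (.node (.node (.leaf 4) (.leaf 3)) (.node (.leaf 3) 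
    (.leaf 4))) (.node (.node (.leaf 3) (.leaf 2)) (.node (.leaf 2) (.leaf 3)))) (.node (.node 
    (.node (.leaf 4) (.leaf 3)) (.node (.leaf 3) (.leaf 4))) (.node (.node (.leaf 2) (.leaf 3)) 
    (.node (.leaf 3) (.leaf 2)))))) (.leaf 1))) (.node (.node (.node (.node (.leaf 3) (.leaf 1)) 
    (.node (.leaf 3) (.leaf 1))) (.leaf 3)) (.node (.node (.node (.node (.node (.node (.leaf 5) 
    (.leaf 2)) (.node (.leaf 2) (.leaf 5))) (.leaf 2)) (.node (.leaf 3) (.node (.node (.leaf 2) 
    (.leaf 4)) (.node (.leaf 4) (.leaf 2))))) (.node (.node (.node (.node (.leaf 4) (.leaf 2)) 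
    (.node (.leaf 2) (.leaf 4))) (.leaf 3)) (.node (.leaf 2) (.node (.node (.leaf 5) (.leaf 2)) 
    (.node (.leaf 2) (.leaf 5)))))) (.node (.node (.leaf 2) (.leaf 1)) (.node (.leaf 1) (.leaf 
    2)))))))

/-- Certificate data. -/
def k0dict : BTree :=
  (.node 15204 3 (.node 15000 1 (.node 5102 0 .nil .nil) (.node 15200 2 .nil .nil)) (.node 15608 
    5 (.node 15600 4 .nil .nil) (.node 15624 6 .nil .nil)))

/-- Certificate data. -/
def tab0 : CTree :=
  (.node (.node (.node (.node (.node (.node (.node (.node (.node (.node (.leaf 10) (.leaf 11)) 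
    (.leaf 6)) (.leaf 9)) (.node (.node (.node (.leaf 7) (.leaf 8)) (.node (.leaf 7) (.leaf 8))) 
    (.node (.node (.leaf 7) (.leaf 8)) (.node (.leaf 8) (.leaf 7))))) (.node (.leaf 5) (.leaf 2))) 
    (.node (.node (.node (.node (.leaf 9) (.leaf 6)) (.node (.leaf 9) (.leaf 6))) (.leaf 9)) (.node 
    (.leaf 6) (.node (.node (.leaf 9) (.leaf 6)) (.node (.leaf 6) (.leaf 9)))))) (.node (.node 
    (.node (.node (.node (.node (.leaf 7) (.leaf 8)) (.leaf 6)) (.node (.node (.leaf 7) (.leaf 8)) 
    (.leaf 6))) (.node (.node (.node (.leaf 7) (.leaf 8)) (.leaf 6)) (.node (.node (.leaf 7) (.leaf 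
    8)) (.leaf 6)))) (.node (.node (.node (.leaf 5) (.leaf 2)) (.node (.leaf 5) (.leaf 2))) (.node 
    (.node (.leaf 2) (.leaf 5)) (.node (.leaf 2) (.leaf 5))))) (.node (.node (.node (.node (.leaf 
    5) (.leaf 2)) (.node (.leaf 5) (.leaf 2))) (.node (.node (.leaf 5) (.leaf 2)) (.node (.leaf 5) 
    (.leaf 2)))) (.node (.node (.node (.node (.leaf 7) (.leaf 8)) (.leaf 6)) (.node (.node (.leaf 
    8) (.leaf 7)) (.leaf 6))) (.node (.node (.leaf 6) (.node (.leaf 7) (.leaf 8))) (.node (.leaf 6) 
    (.node (.leaf 8) (.leaf 7)))))))) (.node (.node (.node (.node (.leaf 2) (.leaf 1)) (.node 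
    (.leaf 2) (.leaf 1))) (.node (.node (.leaf 2) (.leaf 1)) (.node (.leaf 2) (.leaf 1)))) (.leaf 
    0))) (.node (.node (.node (.node (.node (.node (.node (.node (.leaf 7) (.leaf 8)) (.leaf 9)) 
    (.node (.leaf 9) (.node (.leaf 7) (.leaf 8)))) (.node (.node (.leaf 9) (.node (.leaf 7) (.leaf 
    8))) (.node (.node (.leaf 7) (.leaf 8)) (.leaf 9)))) (.node (.node (.node (.leaf 2) (.leaf 5)) 
    (.node (.leaf 5) (.leaf 2))) (.node (.node (.leaf 2) (.leaf 5)) (.node (.leaf 5) (.leaf 2))))) 
    (.node (.node (.node (.node (.node (.leaf 7) (.leaf 8)) (.leaf 9)) (.node (.leaf 9) (.node 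
    (.leaf 8) (.leaf 7)))) (.node (.node (.node (.leaf 7) (.leaf 8)) (.leaf 9)) (.node (.leaf 9) 
    (.node (.leaf 8) (.leaf 7))))) (.node (.node (.node (.leaf 5) (.leaf 2)) (.node (.leaf 2) 
    (.leaf 5))) (.node (.node (.leaf 2) (.leaf 5)) (.node (.leaf 5) (.leaf 2)))))) (.node (.node 
    (.node (.node (.node (.node (.leaf 3) (.leaf 4)) (.node (.leaf 3) (.leaf 4))) (.node (.node 
    (.leaf 3) (.leaf 4)) (.node (.leaf 3) (.leaf 4)))) (.node (.node (.node (.leaf 3) (.leaf 4)) 
    (.node (.leaf 3) (.leaf 4))) (.node (.node (.leaf 3) (.leaf 4)) (.node (.leaf 3) (.leaf 4))))) 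
    (.node (.node (.node (.node (.leaf 4) (.leaf 3)) (.node (.leaf 4) (.leaf 3))) (.node (.node 
    (.leaf 3) (.leaf 4)) (.node (.leaf 3) (.leaf 4)))) (.node (.node (.node (.leaf 4) (.leaf 3)) 
    (.node (.leaf 4) (.leaf 3))) (.node (.node (.leaf 3) (.leaf 4)) (.node (.leaf 3) (.leaf 4)))))) 
    (.node (.node (.node (.node (.node (.leaf 3) (.leaf 4)) (.node (.leaf 4) (.leaf 3))) (.node 
    (.node (.leaf 3) (.leaf 4)) (.node (.leaf 4) (.leaf 3)))) (.node (.node (.node (.leaf 3) (.leaf 
    4)) (.node (.leaf 4) (.leaf 3))) (.node (.node (.leaf 3) (.leaf 4)) (.node (.leaf 4) (.leaf 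
    3))))) (.node (.node (.node (.node (.leaf 3) (.leaf 4)) (.node (.leaf 4) (.leaf 3))) (.node 
    (.node (.leaf 4) (.leaf 3)) (.node (.leaf 3) (.leaf 4)))) (.node (.node (.node (.leaf 4) (.leaf 
    3)) (.node (.leaf 3) (.leaf 4))) (.node (.node (.leaf 3) (.leaf 4)) (.node (.leaf 4) (.leaf 
    3)))))))) (.node (.node (.node (.node (.node (.leaf 6) (.leaf 2)) (.leaf 1)) (.node (.leaf 1) 
    (.node (.leaf 2) (.leaf 6)))) (.node (.node (.node (.leaf 6) (.leaf 2)) (.leaf 1)) (.node 
    (.leaf 1) (.node (.leaf 6) (.leaf 2))))) (.node (.node (.node (.leaf 1) (.leaf 5)) (.node 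
    (.leaf 1) (.leaf 5))) (.node (.node (.leaf 5) (.leaf 1)) (.node (.leaf 5) (.leaf 1))))))) 
    (.node (.node (.node (.node (.node (.node (.node (.node (.leaf 9) (.leaf 2)) (.node (.leaf 9) 
    (.leaf 2))) (.leaf 5)) (.node (.leaf 2) (.node (.node (.leaf 2) (.leaf 6)) (.node (.leaf 2) 
    (.leaf 6))))) (.node (.node (.node (.node (.leaf 9) (.leaf 2)) (.node (.leaf 9) (.leaf 2))) 
    (.leaf 5)) (.node (.leaf 2) (.node (.node (.leaf 6) (.leaf 2)) (.node (.leaf 6) (.leaf 2)))))) 
    (.node (.node (.node (.node (.node (.leaf 5) (.leaf 2)) (.node (.leaf 5) (.leaf 2))) (.node 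
    (.node (.leaf 9) (.leaf 5)) (.node (.leaf 9) (.leaf 5)))) (.node (.node (.node (.leaf 5) (.leaf 
    2)) (.node (.leaf 5) (.leaf 2))) (.node (.node (.leaf 5) (.leaf 9)) (.node (.leaf 5) (.leaf 
    9))))) (.node (.node (.node (.node (.leaf 9) (.leaf 5)) (.node (.leaf 9) (.leaf 5))) (.node 
    (.node (.leaf 5) (.leaf 2)) (.node (.leaf 5) (.leaf 2)))) (.node (.node (.node (.leaf 9) (.leaf 
    5)) (.node (.leaf 9) (.leaf 5))) (.node (.node (.leaf 2) (.leaf 5)) (.node (.leaf 2) (.leaf 
    5))))))) (.node (.node (.node (.node (.node (.node (.leaf 6) (.leaf 5)) (.node (.leaf 5) (.leaf 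
    6))) (.node (.node (.leaf 2) (.leaf 5)) (.node (.leaf 5) (.leaf 2)))) (.node (.node (.node 
    (.leaf 5) (.leaf 6)) (.node (.leaf 6) (.leaf 5))) (.node (.node (.leaf 2) (.leaf 5)) (.node 
    (.leaf 5) (.leaf 2))))) (.node (.node (.node (.node (.leaf 6) (.leaf 5)) (.node (.leaf 5) 
    (.leaf 6))) (.node (.node (.leaf 5) (.leaf 2)) (.node (.leaf 2) (.leaf 5)))) (.node (.node 
    (.node (.leaf 6) (.leaf 5)) (.node (.leaf 5) (.leaf 6))) (.node (.node (.leaf 2) (.leaf 5)) 
    (.node (.leaf 5) (.leaf 2)))))) (.leaf 1))) (.node (.node (.node (.node (.leaf 5) (.leaf 1)) 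
    (.node (.leaf 5) (.leaf 1))) (.leaf 5)) (.node (.node (.node (.node (.node (.node (.leaf 9) 
    (.leaf 2)) (.node (.leaf 2) (.leaf 9))) (.leaf 2)) (.node (.leaf 5) (.node (.node (.leaf 2) 
    (.leaf 6)) (.node (.leaf 6) (.leaf 2))))) (.node (.node (.node (.node (.leaf 6) (.leaf 2)) 
    (.node (.leaf 2) (.leaf 6))) (.leaf 5)) (.node (.leaf 2) (.node (.node (.leaf 9) (.leaf 2)) 
    (.node (.leaf 2) (.leaf 9)))))) (.node (.node (.leaf 2) (.leaf 1)) (.node (.leaf 1) (.leaf 
    2)))))))

/-- Certificate data. -/
def dict0 : BTree :=
  (.node 67133444 6 (.node 33574915 3 (.node 16793601 1 (.node 12288 0 .nil .nil) (.node 33574914 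
    2 .nil .nil)) (.node 50352131 5 (.node 50352130 4 .nil .nil) .nil)) (.node 83910661 9 (.node 
    83910660 8 (.node 67133445 7 .nil .nil) .nil) (.node 100687877 11 (.node 83910662 10 .nil .nil) 
    .nil)))

/-- Certificate data. -/
def tab1 : CTree :=
  (.node (.node (.node (.node (.node (.node (.node (.node (.node (.node (.leaf 13) (.leaf 12)) 
    (.leaf 8)) (.leaf 11)) (.node (.node (.node (.leaf 10) (.leaf 9)) (.node (.leaf 10) (.leaf 9))) 
    (.node (.node (.leaf 10) (.leaf 9)) (.node (.leaf 9) (.leaf 10))))) (.node (.leaf 7) (.leaf 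
    3))) (.node (.node (.node (.node (.leaf 11) (.leaf 8)) (.node (.leaf 11) (.leaf 8))) (.leaf 
    11)) (.node (.leaf 8) (.node (.node (.leaf 11) (.leaf 8)) (.node (.leaf 8) (.leaf 11)))))) 
    (.node (.node (.node (.node (.node (.node (.leaf 10) (.leaf 9)) (.leaf 8)) (.node (.node (.leaf 
    10) (.leaf 9)) (.leaf 8))) (.node (.node (.node (.leaf 10) (.leaf 9)) (.leaf 8)) (.node (.node 
    (.leaf 10) (.leaf 9)) (.leaf 8)))) (.node (.node (.node (.leaf 6) (.leaf 2)) (.node (.leaf 6) 
    (.leaf 2))) (.node (.node (.leaf 2) (.leaf 6)) (.node (.leaf 2) (.leaf 6))))) (.node (.node 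
    (.node (.node (.leaf 6) (.leaf 2)) (.node (.leaf 6) (.leaf 2))) (.node (.node (.leaf 6) (.leaf 
    2)) (.node (.leaf 6) (.leaf 2)))) (.node (.node (.node (.node (.leaf 10) (.leaf 9)) (.leaf 8)) 
    (.node (.node (.leaf 9) (.leaf 10)) (.leaf 8))) (.node (.node (.leaf 8) (.node (.leaf 10) 
    (.leaf 9))) (.node (.leaf 8) (.node (.leaf 9) (.leaf 10)))))))) (.node (.node (.node (.node 
    (.leaf 2) (.leaf 1)) (.node (.leaf 2) (.leaf 1))) (.node (.node (.leaf 2) (.leaf 1)) (.node 
    (.leaf 2) (.leaf 1)))) (.leaf 0))) (.node (.node (.node (.node (.node (.node (.node (.node 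
    (.leaf 10) (.leaf 9)) (.leaf 11)) (.node (.leaf 11) (.node (.leaf 10) (.leaf 9)))) (.node 
    (.node (.leaf 11) (.node (.leaf 10) (.leaf 9))) (.node (.node (.leaf 10) (.leaf 9)) (.leaf 
    11)))) (.node (.node (.node (.leaf 2) (.leaf 6)) (.node (.leaf 6) (.leaf 2))) (.node (.node 
    (.leaf 2) (.leaf 6)) (.node (.leaf 6) (.leaf 2))))) (.node (.node (.node (.node (.node (.leaf 
    10) (.leaf 9)) (.leaf 11)) (.node (.leaf 11) (.node (.leaf 9) (.leaf 10)))) (.node (.node 
    (.node (.leaf 10) (.leaf 9)) (.leaf 11)) (.node (.leaf 11) (.node (.leaf 9) (.leaf 10))))) 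
    (.node (.node (.node (.leaf 6) (.leaf 2)) (.node (.leaf 2) (.leaf 6))) (.node (.node (.leaf 2) 
    (.leaf 6)) (.node (.leaf 6) (.leaf 2)))))) (.node (.node (.node (.node (.node (.node (.leaf 5) 
    (.leaf 4)) (.node (.leaf 5) (.leaf 4))) (.node (.node (.leaf 5) (.leaf 4)) (.node (.leaf 5) 
    (.leaf 4)))) (.node (.node (.node (.leaf 5) (.leaf 4)) (.node (.leaf 5) (.leaf 4))) (.node 
    (.node (.leaf 5) (.leaf 4)) (.node (.leaf 5) (.leaf 4))))) (.node (.node (.node (.node (.leaf 
    4) (.leaf 5)) (.node (.leaf 4) (.leaf 5))) (.node (.node (.leaf 5) (.leaf 4)) (.node (.leaf 5) 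
    (.leaf 4)))) (.node (.node (.node (.leaf 4) (.leaf 5)) (.node (.leaf 4) (.leaf 5))) (.node 
    (.node (.leaf 5) (.leaf 4)) (.node (.leaf 5) (.leaf 4)))))) (.node (.node (.node (.node (.node 
    (.leaf 5) (.leaf 4)) (.node (.leaf 4) (.leaf 5))) (.node (.node (.leaf 5) (.leaf 4)) (.node 
    (.leaf 4) (.leaf 5)))) (.node (.node (.node (.leaf 5) (.leaf 4)) (.node (.leaf 4) (.leaf 5))) 
    (.node (.node (.leaf 5) (.leaf 4)) (.node (.leaf 4) (.leaf 5))))) (.node (.node (.node (.node 
    (.leaf 5) (.leaf 4)) (.node (.leaf 4) (.leaf 5))) (.node (.node (.leaf 4) (.leaf 5)) (.node 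
    (.leaf 5) (.leaf 4)))) (.node (.node (.node (.leaf 4) (.leaf 5)) (.node (.leaf 5) (.leaf 4))) 
    (.node (.node (.leaf 5) (.leaf 4)) (.node (.leaf 4) (.leaf 5)))))))) (.node (.node (.node 
    (.node (.node (.leaf 8) (.leaf 3)) (.leaf 1)) (.node (.leaf 1) (.node (.leaf 3) (.leaf 8)))) 
    (.node (.node (.node (.leaf 8) (.leaf 3)) (.leaf 1)) (.node (.leaf 1) (.node (.leaf 8) (.leaf 
    3))))) (.node (.node (.node (.leaf 1) (.leaf 6)) (.node (.leaf 1) (.leaf 6))) (.node (.node 
    (.leaf 6) (.leaf 1)) (.node (.leaf 6) (.leaf 1))))))) (.node (.node (.node (.node (.node (.node 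
    (.node (.node (.leaf 11) (.leaf 3)) (.node (.leaf 11) (.leaf 3))) (.leaf 6)) (.node (.leaf 2) 
    (.node (.node (.leaf 3) (.leaf 8)) (.node (.leaf 3) (.leaf 8))))) (.node (.node (.node (.node 
    (.leaf 11) (.leaf 3)) (.node (.leaf 11) (.leaf 3))) (.leaf 6)) (.node (.leaf 2) (.node (.node 
    (.leaf 8) (.leaf 3)) (.node (.leaf 8) (.leaf 3)))))) (.node (.node (.node (.node (.node (.leaf 
    6) (.leaf 2)) (.node (.leaf 6) (.leaf 2))) (.node (.node (.leaf 11) (.leaf 7)) (.node (.leaf 
    11) (.leaf 7)))) (.node (.node (.node (.leaf 6) (.leaf 2)) (.node (.leaf 6) (.leaf 2))) (.node 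
    (.node (.leaf 7) (.leaf 11)) (.node (.leaf 7) (.leaf 11))))) (.node (.node (.node (.node (.leaf 
    11) (.leaf 7)) (.node (.leaf 11) (.leaf 7))) (.node (.node (.leaf 6) (.leaf 2)) (.node (.leaf 
    6) (.leaf 2)))) (.node (.node (.node (.leaf 11) (.leaf 7)) (.node (.leaf 11) (.leaf 7))) (.node 
    (.node (.leaf 2) (.leaf 6)) (.node (.leaf 2) (.leaf 6))))))) (.node (.node (.node (.node (.node 
    (.node (.leaf 8) (.leaf 7)) (.node (.leaf 7) (.leaf 8))) (.node (.node (.leaf 2) (.leaf 6)) 
    (.node (.leaf 6) (.leaf 2)))) (.node (.node (.node (.leaf 7) (.leaf 8)) (.node (.leaf 8) (.leaf 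
    7))) (.node (.node (.leaf 2) (.leaf 6)) (.node (.leaf 6) (.leaf 2))))) (.node (.node (.node 
    (.node (.leaf 8) (.leaf 7)) (.node (.leaf 7) (.leaf 8))) (.node (.node (.leaf 6) (.leaf 2)) 
    (.node (.leaf 2) (.leaf 6)))) (.node (.node (.node (.leaf 8) (.leaf 7)) (.node (.leaf 7) (.leaf 
    8))) (.node (.node (.leaf 2) (.leaf 6)) (.node (.leaf 6) (.leaf 2)))))) (.leaf 1))) (.node 
    (.node (.node (.node (.leaf 6) (.leaf 1)) (.node (.leaf 6) (.leaf 1))) (.leaf 6)) (.node (.node 
    (.node (.node (.node (.node (.leaf 11) (.leaf 3)) (.node (.leaf 3) (.leaf 11))) (.leaf 2)) 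
    (.node (.leaf 6) (.node (.node (.leaf 3) (.leaf 8)) (.node (.leaf 8) (.leaf 3))))) (.node 
    (.node (.node (.node (.leaf 8) (.leaf 3)) (.node (.leaf 3) (.leaf 8))) (.leaf 6)) (.node (.leaf 
    2) (.node (.node (.leaf 11) (.leaf 3)) (.node (.leaf 3) (.leaf 11)))))) (.node (.node (.leaf 2) 
    (.leaf 1)) (.node (.leaf 1) (.leaf 2)))))))

/-- Certificate data. -/
def dict1 : BTree :=
  (.node 83931141 7 (.node 33599490 3 (.node 16801793 1 (.node 20480 0 .nil .nil) (.node 33591298 
    2 .nil .nil)) (.node 67137539 5 (.node 50360324 4 .nil .nil) (.node 83922949 6 .nil .nil))) 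
    (.node 151035913 11 (.node 117481480 9 (.node 100704262 8 .nil .nil) (.node 134258695 10 .nil 
    .nil)) (.node 184590346 13 (.node 167813131 12 .nil .nil) .nil)))

/-- Certificate data. -/
def tab2 : CTree :=
  (.node (.node (.node (.node (.node (.node (.node (.node (.node (.node (.leaf 23) (.leaf 22)) 
    (.leaf 18)) (.leaf 21)) (.node (.node (.node (.leaf 20) (.leaf 19)) (.node (.leaf 20) (.leaf 
    19))) (.node (.node (.leaf 20) (.leaf 19)) (.node (.leaf 19) (.leaf 20))))) (.node (.leaf 11) 
    (.leaf 7))) (.node (.node (.node (.node (.leaf 17) (.leaf 14)) (.node (.leaf 17) (.leaf 14))) 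
    (.leaf 17)) (.node (.leaf 14) (.node (.node (.leaf 17) (.leaf 14)) (.node (.leaf 14) (.leaf 
    17)))))) (.node (.node (.node (.node (.node (.node (.leaf 16) (.leaf 15)) (.leaf 14)) (.node 
    (.node (.leaf 16) (.leaf 15)) (.leaf 14))) (.node (.node (.node (.leaf 16) (.leaf 15)) (.leaf 
    14)) (.node (.node (.leaf 16) (.leaf 15)) (.leaf 14)))) (.node (.node (.node (.leaf 10) (.leaf 
    6)) (.node (.leaf 10) (.leaf 6))) (.node (.node (.leaf 6) (.leaf 10)) (.node (.leaf 6) (.leaf 
    10))))) (.node (.node (.node (.node (.leaf 10) (.leaf 6)) (.node (.leaf 10) (.leaf 6))) (.node 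
    (.node (.leaf 10) (.leaf 6)) (.node (.leaf 10) (.leaf 6)))) (.node (.node (.node (.node (.leaf 
    16) (.leaf 15)) (.leaf 14)) (.node (.node (.leaf 15) (.leaf 16)) (.leaf 14))) (.node (.node 
    (.leaf 14) (.node (.leaf 16) (.leaf 15))) (.node (.leaf 14) (.node (.leaf 15) (.leaf 16)))))))) 
    (.node (.node (.node (.node (.leaf 2) (.leaf 1)) (.node (.leaf 2) (.leaf 1))) (.node (.node 
    (.leaf 2) (.leaf 1)) (.node (.leaf 2) (.leaf 1)))) (.leaf 0))) (.node (.node (.node (.node 
    (.node (.node (.node (.node (.leaf 16) (.leaf 15)) (.leaf 17)) (.node (.leaf 17) (.node (.leaf 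
    16) (.leaf 15)))) (.node (.node (.leaf 17) (.node (.leaf 16) (.leaf 15))) (.node (.node (.leaf 
    16) (.leaf 15)) (.leaf 17)))) (.node (.node (.node (.leaf 6) (.leaf 10)) (.node (.leaf 10) 
    (.leaf 6))) (.node (.node (.leaf 6) (.leaf 10)) (.node (.leaf 10) (.leaf 6))))) (.node (.node 
    (.node (.node (.node (.leaf 16) (.leaf 15)) (.leaf 17)) (.node (.leaf 17) (.node (.leaf 15) 
    (.leaf 16)))) (.node (.node (.node (.leaf 16) (.leaf 15)) (.leaf 17)) (.node (.leaf 17) (.node 
    (.leaf 15) (.leaf 16))))) (.node (.node (.node (.leaf 10) (.leaf 6)) (.node (.leaf 6) (.leaf 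
    10))) (.node (.node (.leaf 6) (.leaf 10)) (.node (.leaf 10) (.leaf 6)))))) (.node (.node (.node 
    (.node (.node (.node (.leaf 9) (.leaf 8)) (.node (.leaf 9) (.leaf 8))) (.node (.node (.leaf 9) 
    (.leaf 8)) (.node (.leaf 9) (.leaf 8)))) (.node (.node (.node (.leaf 9) (.leaf 8)) (.node 
    (.leaf 9) (.leaf 8))) (.node (.node (.leaf 9) (.leaf 8)) (.node (.leaf 9) (.leaf 8))))) (.node 
    (.node (.node (.node (.leaf 8) (.leaf 9)) (.node (.leaf 8) (.leaf 9))) (.node (.node (.leaf 9) 
    (.leaf 8)) (.node (.leaf 9) (.leaf 8)))) (.node (.node (.node (.leaf 8) (.leaf 9)) (.node 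
    (.leaf 8) (.leaf 9))) (.node (.node (.leaf 9) (.leaf 8)) (.node (.leaf 9) (.leaf 8)))))) (.node 
    (.node (.node (.node (.node (.leaf 9) (.leaf 8)) (.node (.leaf 8) (.leaf 9))) (.node (.node 
    (.leaf 9) (.leaf 8)) (.node (.leaf 8) (.leaf 9)))) (.node (.node (.node (.leaf 9) (.leaf 8)) 
    (.node (.leaf 8) (.leaf 9))) (.node (.node (.leaf 9) (.leaf 8)) (.node (.leaf 8) (.leaf 9))))) 
    (.node (.node (.node (.node (.leaf 9) (.leaf 8)) (.node (.leaf 8) (.leaf 9))) (.node (.node 
    (.leaf 8) (.leaf 9)) (.node (.leaf 9) (.leaf 8)))) (.node (.node (.node (.leaf 8) (.leaf 9)) 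
    (.node (.leaf 9) (.leaf 8))) (.node (.node (.leaf 9) (.leaf 8)) (.node (.leaf 8) (.leaf 
    9)))))))) (.node (.node (.node (.node (.node (.leaf 5) (.leaf 3)) (.leaf 1)) (.node (.leaf 1) 
    (.node (.leaf 3) (.leaf 5)))) (.node (.node (.node (.leaf 5) (.leaf 3)) (.leaf 1)) (.node 
    (.leaf 1) (.node (.leaf 5) (.leaf 3))))) (.node (.node (.node (.leaf 1) (.leaf 4)) (.node 
    (.leaf 1) (.leaf 4))) (.node (.node (.leaf 4) (.leaf 1)) (.node (.leaf 4) (.leaf 1))))))) 
    (.node (.node (.node (.node (.node (.node (.node (.node (.leaf 13) (.leaf 7)) (.node (.leaf 13) 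
    (.leaf 7))) (.leaf 10)) (.node (.leaf 6) (.node (.node (.leaf 7) (.leaf 12)) (.node (.leaf 7) 
    (.leaf 12))))) (.node (.node (.node (.node (.leaf 13) (.leaf 7)) (.node (.leaf 13) (.leaf 7))) 
    (.leaf 10)) (.node (.leaf 6) (.node (.node (.leaf 12) (.leaf 7)) (.node (.leaf 12) (.leaf 
    7)))))) (.node (.node (.node (.node (.node (.leaf 10) (.leaf 6)) (.node (.leaf 10) (.leaf 6))) 
    (.node (.node (.leaf 13) (.leaf 11)) (.node (.leaf 13) (.leaf 11)))) (.node (.node (.node 
    (.leaf 10) (.leaf 6)) (.node (.leaf 10) (.leaf 6))) (.node (.node (.leaf 11) (.leaf 13)) (.node 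
    (.leaf 11) (.leaf 13))))) (.node (.node (.node (.node (.leaf 13) (.leaf 11)) (.node (.leaf 13) 
    (.leaf 11))) (.node (.node (.leaf 10) (.leaf 6)) (.node (.leaf 10) (.leaf 6)))) (.node (.node 
    (.node (.leaf 13) (.leaf 11)) (.node (.leaf 13) (.leaf 11))) (.node (.node (.leaf 6) (.leaf 
    10)) (.node (.leaf 6) (.leaf 10))))))) (.node (.node (.node (.node (.node (.node (.leaf 12) 
    (.leaf 11)) (.node (.leaf 11) (.leaf 12))) (.node (.node (.leaf 6) (.leaf 10)) (.node (.leaf 
    10) (.leaf 6)))) (.node (.node (.node (.leaf 11) (.leaf 12)) (.node (.leaf 12) (.leaf 11))) 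
    (.node (.node (.leaf 6) (.leaf 10)) (.node (.leaf 10) (.leaf 6))))) (.node (.node (.node (.node 
    (.leaf 12) (.leaf 11)) (.node (.leaf 11) (.leaf 12))) (.node (.node (.leaf 10) (.leaf 6)) 
    (.node (.leaf 6) (.leaf 10)))) (.node (.node (.node (.leaf 12) (.leaf 11)) (.node (.leaf 11) 
    (.leaf 12))) (.node (.node (.leaf 6) (.leaf 10)) (.node (.leaf 10) (.leaf 6)))))) (.leaf 1))) 
    (.node (.node (.node (.node (.leaf 4) (.leaf 1)) (.node (.leaf 4) (.leaf 1))) (.leaf 4)) (.node 
    (.node (.node (.node (.node (.node (.leaf 13) (.leaf 7)) (.node (.leaf 7) (.leaf 13))) (.leaf 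
    6)) (.node (.leaf 10) (.node (.node (.leaf 7) (.leaf 12)) (.node (.leaf 12) (.leaf 7))))) 
    (.node (.node (.node (.node (.leaf 12) (.leaf 7)) (.node (.leaf 7) (.leaf 12))) (.leaf 10)) 
    (.node (.leaf 6) (.node (.node (.leaf 13) (.leaf 7)) (.node (.leaf 7) (.leaf 13)))))) (.node 
    (.node (.leaf 2) (.leaf 1)) (.node (.leaf 1) (.leaf 2)))))))

/-- Certificate data. -/
def dict2 : BTree :=
  (.node 16392 12 (.node 16386 6 (.node 3 3 (.node 1 1 (.node 0 0 .nil .nil) (.node 2 2 .nil 
    .nil)) (.node 8 5 (.node 6 4 .nil .nil) .nil)) (.node 16389 9 (.node 16388 8 (.node 16387 7 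
    .nil .nil) .nil) (.node 16391 11 (.node 16390 10 .nil .nil) .nil))) (.node 81928 18 (.node 
    49161 15 (.node 49160 14 (.node 16395 13 .nil .nil) .nil) (.node 49163 17 (.node 49162 16 .nil 
    .nil) .nil)) (.node 81931 21 (.node 81930 20 (.node 81929 19 .nil .nil) .nil) (.node 81933 23 
    (.node 81932 22 .nil .nil) .nil))))

/-- Certificate data. -/
def class2 : List ℕ :=
  [2, 8, 18, 56, 64, 72, 82, 136, 192, 194, 200, 320, 322, 376, 386, 696, 914, 960, 978, 1016]

/-- Certificate data. -/
def tab3 : CTree :=
  (.node (.node (.node (.node (.node (.node (.node (.node (.node (.node (.leaf 23) (.leaf 24)) 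
    (.leaf 19)) (.leaf 22)) (.node (.node (.node (.leaf 20) (.leaf 21)) (.node (.leaf 20) (.leaf 
    21))) (.node (.node (.leaf 20) (.leaf 21)) (.node (.leaf 21) (.leaf 20))))) (.node (.leaf 12) 
    (.leaf 8))) (.node (.node (.node (.node (.leaf 18) (.leaf 15)) (.node (.leaf 18) (.leaf 15))) 
    (.leaf 18)) (.node (.leaf 15) (.node (.node (.leaf 18) (.leaf 15)) (.node (.leaf 15) (.leaf 
    18)))))) (.node (.node (.node (.node (.node (.node (.leaf 16) (.leaf 17)) (.leaf 15)) (.node 
    (.node (.leaf 16) (.leaf 17)) (.leaf 15))) (.node (.node (.node (.leaf 16) (.leaf 17)) (.leaf 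
    15)) (.node (.node (.leaf 16) (.leaf 17)) (.leaf 15)))) (.node (.node (.node (.leaf 11) (.leaf 
    7)) (.node (.leaf 11) (.leaf 7))) (.node (.node (.leaf 7) (.leaf 11)) (.node (.leaf 7) (.leaf 
    11))))) (.node (.node (.node (.node (.leaf 11) (.leaf 7)) (.node (.leaf 11) (.leaf 7))) (.node 
    (.node (.leaf 11) (.leaf 7)) (.node (.leaf 11) (.leaf 7)))) (.node (.node (.node (.node (.leaf 
    16) (.leaf 17)) (.leaf 15)) (.node (.node (.leaf 17) (.leaf 16)) (.leaf 15))) (.node (.node 
    (.leaf 15) (.node (.leaf 16) (.leaf 17))) (.node (.leaf 15) (.node (.leaf 17) (.leaf 16)))))))) 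
    (.node (.node (.node (.node (.leaf 3) (.leaf 1)) (.node (.leaf 3) (.leaf 1))) (.node (.node 
    (.leaf 3) (.leaf 1)) (.node (.leaf 3) (.leaf 1)))) (.leaf 0))) (.node (.node (.node (.node 
    (.node (.node (.node (.node (.leaf 16) (.leaf 17)) (.leaf 18)) (.node (.leaf 18) (.node (.leaf 
    16) (.leaf 17)))) (.node (.node (.leaf 18) (.node (.leaf 16) (.leaf 17))) (.node (.node (.leaf 
    16) (.leaf 17)) (.leaf 18)))) (.node (.node (.node (.leaf 7) (.leaf 11)) (.node (.leaf 11) 
    (.leaf 7))) (.node (.node (.leaf 7) (.leaf 11)) (.node (.leaf 11) (.leaf 7))))) (.node (.node 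
    (.node (.node (.node (.leaf 16) (.leaf 17)) (.leaf 18)) (.node (.leaf 18) (.node (.leaf 17) 
    (.leaf 16)))) (.node (.node (.node (.leaf 16) (.leaf 17)) (.leaf 18)) (.node (.leaf 18) (.node 
    (.leaf 17) (.leaf 16))))) (.node (.node (.node (.leaf 11) (.leaf 7)) (.node (.leaf 7) (.leaf 
    11))) (.node (.node (.leaf 7) (.leaf 11)) (.node (.leaf 11) (.leaf 7)))))) (.node (.node (.node 
    (.node (.node (.node (.leaf 9) (.leaf 10)) (.node (.leaf 9) (.leaf 10))) (.node (.node (.leaf 
    9) (.leaf 10)) (.node (.leaf 9) (.leaf 10)))) (.node (.node (.node (.leaf 9) (.leaf 10)) (.node 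
    (.leaf 9) (.leaf 10))) (.node (.node (.leaf 9) (.leaf 10)) (.node (.leaf 9) (.leaf 10))))) 
    (.node (.node (.node (.node (.leaf 10) (.leaf 9)) (.node (.leaf 10) (.leaf 9))) (.node (.node 
    (.leaf 9) (.leaf 10)) (.node (.leaf 9) (.leaf 10)))) (.node (.node (.node (.leaf 10) (.leaf 9)) 
    (.node (.leaf 10) (.leaf 9))) (.node (.node (.leaf 9) (.leaf 10)) (.node (.leaf 9) (.leaf 
    10)))))) (.node (.node (.node (.node (.node (.leaf 9) (.leaf 10)) (.node (.leaf 10) (.leaf 9))) 
    (.node (.node (.leaf 9) (.leaf 10)) (.node (.leaf 10) (.leaf 9)))) (.node (.node (.node (.leaf 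
    9) (.leaf 10)) (.node (.leaf 10) (.leaf 9))) (.node (.node (.leaf 9) (.leaf 10)) (.node (.leaf 
    10) (.leaf 9))))) (.node (.node (.node (.node (.leaf 9) (.leaf 10)) (.node (.leaf 10) (.leaf 
    9))) (.node (.node (.leaf 10) (.leaf 9)) (.node (.leaf 9) (.leaf 10)))) (.node (.node (.node 
    (.leaf 10) (.leaf 9)) (.node (.leaf 9) (.leaf 10))) (.node (.node (.leaf 9) (.leaf 10)) (.node 
    (.leaf 10) (.leaf 9)))))))) (.node (.node (.node (.node (.node (.leaf 6) (.leaf 4)) (.leaf 2)) 
    (.node (.leaf 2) (.node (.leaf 4) (.leaf 6)))) (.node (.node (.node (.leaf 6) (.leaf 4)) (.leaf 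
    2)) (.node (.leaf 2) (.node (.leaf 6) (.leaf 4))))) (.node (.node (.node (.leaf 1) (.leaf 5)) 
    (.node (.leaf 1) (.leaf 5))) (.node (.node (.leaf 5) (.leaf 1)) (.node (.leaf 5) (.leaf 
    1))))))) (.node (.node (.node (.node (.node (.node (.node (.node (.leaf 14) (.leaf 8)) (.node 
    (.leaf 14) (.leaf 8))) (.leaf 11)) (.node (.leaf 7) (.node (.node (.leaf 8) (.leaf 13)) (.node 
    (.leaf 8) (.leaf 13))))) (.node (.node (.node (.node (.leaf 14) (.leaf 8)) (.node (.leaf 14) 
    (.leaf 8))) (.leaf 11)) (.node (.leaf 7) (.node (.node (.leaf 13) (.leaf 8)) (.node (.leaf 13) 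
    (.leaf 8)))))) (.node (.node (.node (.node (.node (.leaf 11) (.leaf 7)) (.node (.leaf 11) 
    (.leaf 7))) (.node (.node (.leaf 14) (.leaf 12)) (.node (.leaf 14) (.leaf 12)))) (.node (.node 
    (.node (.leaf 11) (.leaf 7)) (.node (.leaf 11) (.leaf 7))) (.node (.node (.leaf 12) (.leaf 14)) 
    (.node (.leaf 12) (.leaf 14))))) (.node (.node (.node (.node (.leaf 14) (.leaf 12)) (.node 
    (.leaf 14) (.leaf 12))) (.node (.node (.leaf 11) (.leaf 7)) (.node (.leaf 11) (.leaf 7)))) 
    (.node (.node (.node (.leaf 14) (.leaf 12)) (.node (.leaf 14) (.leaf 12))) (.node (.node (.leaf 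
    7) (.leaf 11)) (.node (.leaf 7) (.leaf 11))))))) (.node (.node (.node (.node (.node (.node 
    (.leaf 13) (.leaf 12)) (.node (.leaf 12) (.leaf 13))) (.node (.node (.leaf 7) (.leaf 11)) 
    (.node (.leaf 11) (.leaf 7)))) (.node (.node (.node (.leaf 12) (.leaf 13)) (.node (.leaf 13) 
    (.leaf 12))) (.node (.node (.leaf 7) (.leaf 11)) (.node (.leaf 11) (.leaf 7))))) (.node (.node 
    (.node (.node (.leaf 13) (.leaf 12)) (.node (.leaf 12) (.leaf 13))) (.node (.node (.leaf 11) 
    (.leaf 7)) (.node (.leaf 7) (.leaf 11)))) (.node (.node (.node (.leaf 13) (.leaf 12)) (.node 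
    (.leaf 12) (.leaf 13))) (.node (.node (.leaf 7) (.leaf 11)) (.node (.leaf 11) (.leaf 7)))))) 
    (.leaf 1))) (.node (.node (.node (.node (.leaf 5) (.leaf 1)) (.node (.leaf 5) (.leaf 1))) 
    (.leaf 5)) (.node (.node (.node (.node (.node (.node (.leaf 14) (.leaf 8)) (.node (.leaf 8) 
    (.leaf 14))) (.leaf 7)) (.node (.leaf 11) (.node (.node (.leaf 8) (.leaf 13)) (.node (.leaf 13) 
    (.leaf 8))))) (.node (.node (.node (.node (.leaf 13) (.leaf 8)) (.node (.leaf 8) (.leaf 13))) 
    (.leaf 11)) (.node (.leaf 7) (.node (.node (.leaf 14) (.leaf 8)) (.node (.leaf 8) (.leaf 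
    14)))))) (.node (.node (.leaf 3) (.leaf 1)) (.node (.leaf 1) (.leaf 3)))))))

/-- Certificate data. -/
def dict3 : BTree :=
  (.node 184639499 12 (.node 83980293 6 (.node 33624066 3 (.node 16834561 1 (.node 45056 0 .nil 
    .nil) (.node 16850945 2 .nil .nil)) (.node 67178500 5 (.node 50421763 4 .nil .nil) .nil)) 
    (.node 134299657 9 (.node 117530631 8 (.node 100749318 7 .nil .nil) .nil) (.node 167858186 11 
    (.node 151076872 10 .nil .nil) .nil))) (.node 302084114 19 (.node 251752464 16 (.node 218198029 
    14 (.node 201420812 13 .nil .nil) (.node 234975246 15 .nil .nil)) (.node 285306897 18 (.node 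
    268529679 17 .nil .nil) .nil)) (.node 352415765 22 (.node 335638547 21 (.node 318861332 20 .nil 
    .nil) .nil) (.node 385970198 24 (.node 369192983 23 .nil .nil) .nil))))

/-- Certificate data. -/
def tab4 : CTree :=
  (.node (.node (.node (.node (.node (.node (.node (.node (.node (.node (.leaf 27) (.leaf 28)) 
    (.leaf 26)) (.leaf 18)) (.node (.node (.node (.leaf 16) (.leaf 17)) (.node (.leaf 16) (.leaf 
    17))) (.node (.node (.leaf 16) (.leaf 17)) (.node (.leaf 17) (.leaf 16))))) (.node (.leaf 9) 
    (.leaf 20))) (.node (.node (.node (.node (.leaf 24) (.leaf 23)) (.node (.leaf 24) (.leaf 23))) 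
    (.leaf 15)) (.node (.leaf 12) (.node (.node (.leaf 24) (.leaf 23)) (.node (.leaf 23) (.leaf 
    24)))))) (.node (.node (.node (.node (.node (.node (.leaf 13) (.leaf 14)) (.leaf 12)) (.node 
    (.node (.leaf 13) (.leaf 14)) (.leaf 12))) (.node (.node (.node (.leaf 13) (.leaf 14)) (.leaf 
    12)) (.node (.node (.leaf 13) (.leaf 14)) (.leaf 12)))) (.node (.node (.node (.leaf 8) (.leaf 
    5)) (.node (.leaf 8) (.leaf 5))) (.node (.node (.leaf 5) (.leaf 8)) (.node (.leaf 5) (.leaf 
    8))))) (.node (.node (.node (.node (.leaf 8) (.leaf 5)) (.node (.leaf 8) (.leaf 5))) (.node 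
    (.node (.leaf 8) (.leaf 5)) (.node (.leaf 8) (.leaf 5)))) (.node (.node (.node (.node (.leaf 
    13) (.leaf 14)) (.leaf 12)) (.node (.node (.leaf 14) (.leaf 13)) (.leaf 12))) (.node (.node 
    (.leaf 12) (.node (.leaf 13) (.leaf 14))) (.node (.leaf 12) (.node (.leaf 14) (.leaf 13)))))))) 
    (.node (.node (.node (.node (.leaf 3) (.leaf 1)) (.node (.leaf 3) (.leaf 1))) (.node (.node 
    (.leaf 3) (.leaf 1)) (.node (.leaf 3) (.leaf 1)))) (.leaf 0))) (.node (.node (.node (.node 
    (.node (.node (.node (.node (.leaf 13) (.leaf 14)) (.leaf 15)) (.node (.leaf 15) (.node (.leaf 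
    13) (.leaf 14)))) (.node (.node (.leaf 15) (.node (.leaf 13) (.leaf 14))) (.node (.node (.leaf 
    13) (.leaf 14)) (.leaf 15)))) (.node (.node (.node (.leaf 5) (.leaf 8)) (.node (.leaf 8) (.leaf 
    5))) (.node (.node (.leaf 5) (.leaf 8)) (.node (.leaf 8) (.leaf 5))))) (.node (.node (.node 
    (.node (.node (.leaf 13) (.leaf 14)) (.leaf 15)) (.node (.leaf 15) (.node (.leaf 14) (.leaf 
    13)))) (.node (.node (.node (.leaf 13) (.leaf 14)) (.leaf 15)) (.node (.leaf 15) (.node (.leaf 
    14) (.leaf 13))))) (.node (.node (.node (.leaf 8) (.leaf 5)) (.node (.leaf 5) (.leaf 8))) 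
    (.node (.node (.leaf 5) (.leaf 8)) (.node (.leaf 8) (.leaf 5)))))) (.node (.node (.node (.node 
    (.node (.node (.leaf 6) (.leaf 7)) (.node (.leaf 6) (.leaf 7))) (.node (.node (.leaf 6) (.leaf 
    7)) (.node (.leaf 6) (.leaf 7)))) (.node (.node (.node (.leaf 6) (.leaf 7)) (.node (.leaf 6) 
    (.leaf 7))) (.node (.node (.leaf 6) (.leaf 7)) (.node (.leaf 6) (.leaf 7))))) (.node (.node 
    (.node (.node (.leaf 7) (.leaf 6)) (.node (.leaf 7) (.leaf 6))) (.node (.node (.leaf 6) (.leaf 
    7)) (.node (.leaf 6) (.leaf 7)))) (.node (.node (.node (.leaf 7) (.leaf 6)) (.node (.leaf 7) 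
    (.leaf 6))) (.node (.node (.leaf 6) (.leaf 7)) (.node (.leaf 6) (.leaf 7)))))) (.node (.node 
    (.node (.node (.node (.leaf 6) (.leaf 7)) (.node (.leaf 7) (.leaf 6))) (.node (.node (.leaf 6) 
    (.leaf 7)) (.node (.leaf 7) (.leaf 6)))) (.node (.node (.node (.leaf 6) (.leaf 7)) (.node 
    (.leaf 7) (.leaf 6))) (.node (.node (.leaf 6) (.leaf 7)) (.node (.leaf 7) (.leaf 6))))) (.node 
    (.node (.node (.node (.leaf 6) (.leaf 7)) (.node (.leaf 7) (.leaf 6))) (.node (.node (.leaf 7) 
    (.leaf 6)) (.node (.leaf 6) (.leaf 7)))) (.node (.node (.node (.leaf 7) (.leaf 6)) (.node 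
    (.leaf 6) (.leaf 7))) (.node (.node (.leaf 6) (.leaf 7)) (.node (.leaf 7) (.leaf 6)))))))) 
    (.node (.node (.node (.node (.node (.leaf 25) (.leaf 19)) (.leaf 2)) (.node (.leaf 2) (.node 
    (.leaf 19) (.leaf 25)))) (.node (.node (.node (.leaf 25) (.leaf 19)) (.leaf 2)) (.node (.leaf 
    2) (.node (.leaf 25) (.leaf 19))))) (.node (.node (.node (.leaf 1) (.leaf 4)) (.node (.leaf 1) 
    (.leaf 4))) (.node (.node (.leaf 4) (.leaf 1)) (.node (.leaf 4) (.leaf 1))))))) (.node (.node 
    (.node (.node (.node (.node (.node (.node (.leaf 22) (.leaf 20)) (.node (.leaf 22) (.leaf 20))) 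
    (.leaf 8)) (.node (.leaf 5) (.node (.node (.leaf 20) (.leaf 21)) (.node (.leaf 20) (.leaf 
    21))))) (.node (.node (.node (.node (.leaf 22) (.leaf 20)) (.node (.leaf 22) (.leaf 20))) 
    (.leaf 8)) (.node (.leaf 5) (.node (.node (.leaf 21) (.leaf 20)) (.node (.leaf 21) (.leaf 
    20)))))) (.node (.node (.node (.node (.node (.leaf 8) (.leaf 5)) (.node (.leaf 8) (.leaf 5))) 
    (.node (.node (.leaf 11) (.leaf 9)) (.node (.leaf 11) (.leaf 9)))) (.node (.node (.node (.leaf 
    8) (.leaf 5)) (.node (.leaf 8) (.leaf 5))) (.node (.node (.leaf 9) (.leaf 11)) (.node (.leaf 9) 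
    (.leaf 11))))) (.node (.node (.node (.node (.leaf 11) (.leaf 9)) (.node (.leaf 11) (.leaf 9))) 
    (.node (.node (.leaf 8) (.leaf 5)) (.node (.leaf 8) (.leaf 5)))) (.node (.node (.node (.leaf 
    11) (.leaf 9)) (.node (.leaf 11) (.leaf 9))) (.node (.node (.leaf 5) (.leaf 8)) (.node (.leaf 
    5) (.leaf 8))))))) (.node (.node (.node (.node (.node (.node (.leaf 10) (.leaf 9)) (.node 
    (.leaf 9) (.leaf 10))) (.node (.node (.leaf 5) (.leaf 8)) (.node (.leaf 8) (.leaf 5)))) (.node 
    (.node (.node (.leaf 9) (.leaf 10)) (.node (.leaf 10) (.leaf 9))) (.node (.node (.leaf 5) 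
    (.leaf 8)) (.node (.leaf 8) (.leaf 5))))) (.node (.node (.node (.node (.leaf 10) (.leaf 9)) 
    (.node (.leaf 9) (.leaf 10))) (.node (.node (.leaf 8) (.leaf 5)) (.node (.leaf 5) (.leaf 8)))) 
    (.node (.node (.node (.leaf 10) (.leaf 9)) (.node (.leaf 9) (.leaf 10))) (.node (.node (.leaf 
    5) (.leaf 8)) (.node (.leaf 8) (.leaf 5)))))) (.leaf 1))) (.node (.node (.node (.node (.leaf 4) 
    (.leaf 1)) (.node (.leaf 4) (.leaf 1))) (.leaf 4)) (.node (.node (.node (.node (.node (.node 
    (.leaf 22) (.leaf 20)) (.node (.leaf 20) (.leaf 22))) (.leaf 5)) (.node (.leaf 8) (.node (.node 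
    (.leaf 20) (.leaf 21)) (.node (.leaf 21) (.leaf 20))))) (.node (.node (.node (.node (.leaf 21) 
    (.leaf 20)) (.node (.leaf 20) (.leaf 21))) (.leaf 8)) (.node (.leaf 5) (.node (.node (.leaf 22) 
    (.leaf 20)) (.node (.leaf 20) (.leaf 22)))))) (.node (.node (.leaf 3) (.leaf 1)) (.node (.leaf 
    1) (.leaf 3)))))))

/-- Certificate data. -/
def dict4 : BTree :=
  (.node 17 14 (.node 10 7 (.node 3 3 (.node 1 1 (.node 0 0 .nil .nil) (.node 2 2 .nil .nil)) 
    (.node 7 5 (.node 5 4 .nil .nil) (.node 9 6 .nil .nil))) (.node 14 11 (.node 12 9 (.node 11 8 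
    .nil .nil) (.node 13 10 .nil .nil)) (.node 16 13 (.node 15 12 .nil .nil) .nil))) (.node 32782 
    22 (.node 22 18 (.node 20 16 (.node 18 15 .nil .nil) (.node 21 17 .nil .nil)) (.node 32776 20 
    (.node 16388 19 .nil .nil) (.node 32781 21 .nil .nil))) (.node 65555 26 (.node 32786 24 (.node 
    32783 23 .nil .nil) (.node 49158 25 .nil .nil)) (.node 65560 28 (.node 65559 27 .nil .nil) 
    .nil))))

/-- Certificate data. -/
def class4 : List ℕ :=
  [6, 22, 118, 230, 262, 278, 374, 486, 518, 534, 630, 742, 774, 790, 886, 998]

/-- Certificate data. -/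
def tab5 : CTree :=
  (.node (.node (.node (.node (.node (.node (.node (.node (.node (.node (.leaf 30) (.leaf 29)) 
    (.leaf 28)) (.leaf 20)) (.node (.node (.node (.leaf 19) (.leaf 18)) (.node (.leaf 19) (.leaf 
    18))) (.node (.node (.leaf 19) (.leaf 18)) (.node (.leaf 18) (.leaf 19))))) (.node (.leaf 11) 
    (.leaf 22))) (.node (.node (.node (.node (.leaf 26) (.leaf 25)) (.node (.leaf 26) (.leaf 25))) 
    (.leaf 17)) (.node (.leaf 14) (.node (.node (.leaf 26) (.leaf 25)) (.node (.leaf 25) (.leaf 
    26)))))) (.node (.node (.node (.node (.node (.node (.leaf 16) (.leaf 15)) (.leaf 14)) (.node 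
    (.node (.leaf 16) (.leaf 15)) (.leaf 14))) (.node (.node (.node (.leaf 16) (.leaf 15)) (.leaf 
    14)) (.node (.node (.leaf 16) (.leaf 15)) (.leaf 14)))) (.node (.node (.node (.leaf 10) (.leaf 
    7)) (.node (.leaf 10) (.leaf 7))) (.node (.node (.leaf 7) (.leaf 10)) (.node (.leaf 7) (.leaf 
    10))))) (.node (.node (.node (.node (.leaf 10) (.leaf 7)) (.node (.leaf 10) (.leaf 7))) (.node 
    (.node (.leaf 10) (.leaf 7)) (.node (.leaf 10) (.leaf 7)))) (.node (.node (.node (.node (.leaf 
    16) (.leaf 15)) (.leaf 14)) (.node (.node (.leaf 15) (.leaf 16)) (.leaf 14))) (.node (.node 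
    (.leaf 14) (.node (.leaf 16) (.leaf 15))) (.node (.leaf 14) (.node (.leaf 15) (.leaf 16)))))))) 
    (.node (.node (.node (.node (.leaf 4) (.leaf 2)) (.node (.leaf 4) (.leaf 2))) (.node (.node 
    (.leaf 4) (.leaf 2)) (.node (.leaf 4) (.leaf 2)))) (.leaf 0))) (.node (.node (.node (.node 
    (.node (.node (.node (.node (.leaf 16) (.leaf 15)) (.leaf 17)) (.node (.leaf 17) (.node (.leaf 
    16) (.leaf 15)))) (.node (.node (.leaf 17) (.node (.leaf 16) (.leaf 15))) (.node (.node (.leaf 
    16) (.leaf 15)) (.leaf 17)))) (.node (.node (.node (.leaf 7) (.leaf 10)) (.node (.leaf 10) 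
    (.leaf 7))) (.node (.node (.leaf 7) (.leaf 10)) (.node (.leaf 10) (.leaf 7))))) (.node (.node 
    (.node (.node (.node (.leaf 16) (.leaf 15)) (.leaf 17)) (.node (.leaf 17) (.node (.leaf 15) 
    (.leaf 16)))) (.node (.node (.node (.leaf 16) (.leaf 15)) (.leaf 17)) (.node (.leaf 17) (.node 
    (.leaf 15) (.leaf 16))))) (.node (.node (.node (.leaf 10) (.leaf 7)) (.node (.leaf 7) (.leaf 
    10))) (.node (.node (.leaf 7) (.leaf 10)) (.node (.leaf 10) (.leaf 7)))))) (.node (.node (.node 
    (.node (.node (.node (.leaf 9) (.leaf 8)) (.node (.leaf 9) (.leaf 8))) (.node (.node (.leaf 9) 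
    (.leaf 8)) (.node (.leaf 9) (.leaf 8)))) (.node (.node (.node (.leaf 9) (.leaf 8)) (.node 
    (.leaf 9) (.leaf 8))) (.node (.node (.leaf 9) (.leaf 8)) (.node (.leaf 9) (.leaf 8))))) (.node 
    (.node (.node (.node (.leaf 8) (.leaf 9)) (.node (.leaf 8) (.leaf 9))) (.node (.node (.leaf 9) 
    (.leaf 8)) (.node (.leaf 9) (.leaf 8)))) (.node (.node (.node (.leaf 8) (.leaf 9)) (.node 
    (.leaf 8) (.leaf 9))) (.node (.node (.leaf 9) (.leaf 8)) (.node (.leaf 9) (.leaf 8)))))) (.node 
    (.node (.node (.node (.node (.leaf 9) (.leaf 8)) (.node (.leaf 8) (.leaf 9))) (.node (.node 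
    (.leaf 9) (.leaf 8)) (.node (.leaf 8) (.leaf 9)))) (.node (.node (.node (.leaf 9) (.leaf 8)) 
    (.node (.leaf 8) (.leaf 9))) (.node (.node (.leaf 9) (.leaf 8)) (.node (.leaf 8) (.leaf 9))))) 
    (.node (.node (.node (.node (.leaf 9) (.leaf 8)) (.node (.leaf 8) (.leaf 9))) (.node (.node 
    (.leaf 8) (.leaf 9)) (.node (.leaf 9) (.leaf 8)))) (.node (.node (.node (.leaf 8) (.leaf 9)) 
    (.node (.leaf 9) (.leaf 8))) (.node (.node (.leaf 9) (.leaf 8)) (.node (.leaf 8) (.leaf 
    9)))))))) (.node (.node (.node (.node (.node (.leaf 27) (.leaf 21)) (.leaf 3)) (.node (.leaf 3) 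
    (.node (.leaf 21) (.leaf 27)))) (.node (.node (.node (.leaf 27) (.leaf 21)) (.leaf 3)) (.node 
    (.leaf 3) (.node (.leaf 27) (.leaf 21))))) (.node (.node (.node (.leaf 2) (.leaf 6)) (.node 
    (.leaf 2) (.leaf 6))) (.node (.node (.leaf 6) (.leaf 2)) (.node (.leaf 6) (.leaf 2))))))) 
    (.node (.node (.node (.node (.node (.node (.node (.node (.leaf 24) (.leaf 22)) (.node (.leaf 
    24) (.leaf 22))) (.leaf 10)) (.node (.leaf 7) (.node (.node (.leaf 22) (.leaf 23)) (.node 
    (.leaf 22) (.leaf 23))))) (.node (.node (.node (.node (.leaf 24) (.leaf 22)) (.node (.leaf 24) 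
    (.leaf 22))) (.leaf 10)) (.node (.leaf 7) (.node (.node (.leaf 23) (.leaf 22)) (.node (.leaf 
    23) (.leaf 22)))))) (.node (.node (.node (.node (.node (.leaf 10) (.leaf 7)) (.node (.leaf 10) 
    (.leaf 7))) (.node (.node (.leaf 13) (.leaf 11)) (.node (.leaf 13) (.leaf 11)))) (.node (.node 
    (.node (.leaf 10) (.leaf 7)) (.node (.leaf 10) (.leaf 7))) (.node (.node (.leaf 11) (.leaf 13)) 
    (.node (.leaf 11) (.leaf 13))))) (.node (.node (.node (.node (.leaf 13) (.leaf 11)) (.node 
    (.leaf 13) (.leaf 11))) (.node (.node (.leaf 10) (.leaf 7)) (.node (.leaf 10) (.leaf 7)))) 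
    (.node (.node (.node (.leaf 13) (.leaf 11)) (.node (.leaf 13) (.leaf 11))) (.node (.node (.leaf 
    7) (.leaf 10)) (.node (.leaf 7) (.leaf 10))))))) (.node (.node (.node (.node (.node (.node 
    (.leaf 12) (.leaf 11)) (.node (.leaf 11) (.leaf 12))) (.node (.node (.leaf 7) (.leaf 10)) 
    (.node (.leaf 10) (.leaf 7)))) (.node (.node (.node (.leaf 11) (.leaf 12)) (.node (.leaf 12) 
    (.leaf 11))) (.node (.node (.leaf 7) (.leaf 10)) (.node (.leaf 10) (.leaf 7))))) (.node (.node 
    (.node (.node (.leaf 12) (.leaf 11)) (.node (.leaf 11) (.leaf 12))) (.node (.node (.leaf 10) 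
    (.leaf 7)) (.node (.leaf 7) (.leaf 10)))) (.node (.node (.node (.leaf 12) (.leaf 11)) (.node 
    (.leaf 11) (.leaf 12))) (.node (.node (.leaf 7) (.leaf 10)) (.node (.leaf 10) (.leaf 7)))))) 
    (.leaf 1))) (.node (.node (.node (.node (.leaf 6) (.leaf 2)) (.node (.leaf 6) (.leaf 2))) 
    (.leaf 5)) (.node (.node (.node (.node (.node (.node (.leaf 24) (.leaf 22)) (.node (.leaf 22) 
    (.leaf 24))) (.leaf 7)) (.node (.leaf 10) (.node (.node (.leaf 22) (.leaf 23)) (.node (.leaf 
    23) (.leaf 22))))) (.node (.node (.node (.node (.leaf 23) (.leaf 22)) (.node (.leaf 22) (.leaf 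
    23))) (.leaf 10)) (.node (.leaf 7) (.node (.node (.leaf 24) (.leaf 22)) (.node (.leaf 22) 
    (.leaf 24)))))) (.node (.node (.leaf 4) (.leaf 2)) (.node (.leaf 2) (.leaf 4)))))))

/-- Certificate data. -/
def dict5 : BTree :=
  (.node 218214414 15 (.node 83959813 7 (.node 33660930 3 (.node 16826369 1 (.node 36864 0 .nil 
    .nil) (.node 16871425 2 .nil .nil)) (.node 67170308 5 (.node 50429955 4 .nil .nil) (.node 
    67207172 6 .nil .nil))) (.node 151109641 11 (.node 117506054 9 (.node 100728839 8 .nil .nil) 
    (.node 134291464 10 .nil .nil)) (.node 184659979 13 (.node 167882762 12 .nil .nil) (.node 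
    201437196 14 .nil .nil)))) (.node 352432149 23 (.node 285323280 19 (.node 251768847 17 (.node 
    234991629 16 .nil .nil) (.node 268546065 18 .nil .nil)) (.node 318881811 21 (.node 302100498 20 
    .nil .nil) (.node 335659028 22 .nil .nil))) (.node 419541017 27 (.node 385986583 25 (.node 
    369209366 24 .nil .nil) (.node 402763800 26 .nil .nil)) (.node 453095452 29 (.node 436318234 28 
    .nil .nil) (.node 469872667 30 .nil .nil)))))

/-- Certificate data. -/
def tab6 : CTree :=
  (.node (.node (.node (.node (.node (.node (.node (.node (.node (.node (.leaf 37) (.leaf 36)) 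
    (.leaf 35)) (.leaf 29)) (.node (.node (.node (.leaf 28) (.leaf 27)) (.node (.leaf 28) (.leaf 
    27))) (.node (.node (.leaf 28) (.leaf 27)) (.node (.leaf 27) (.leaf 28))))) (.node (.leaf 22) 
    (.leaf 31))) (.node (.node (.node (.node (.leaf 33) (.leaf 32)) (.node (.leaf 33) (.leaf 32))) 
    (.leaf 26)) (.node (.leaf 23) (.node (.node (.leaf 33) (.leaf 32)) (.node (.leaf 32) (.leaf 
    33)))))) (.node (.node (.node (.node (.node (.node (.leaf 25) (.leaf 24)) (.leaf 23)) (.node 
    (.node (.leaf 25) (.leaf 24)) (.leaf 23))) (.node (.node (.node (.leaf 25) (.leaf 24)) (.leaf 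
    23)) (.node (.node (.leaf 25) (.leaf 24)) (.leaf 23)))) (.node (.node (.node (.leaf 21) (.leaf 
    18)) (.node (.leaf 21) (.leaf 18))) (.node (.node (.leaf 18) (.leaf 21)) (.node (.leaf 18) 
    (.leaf 21))))) (.node (.node (.node (.node (.leaf 21) (.leaf 18)) (.node (.leaf 21) (.leaf 
    18))) (.node (.node (.leaf 21) (.leaf 18)) (.node (.leaf 21) (.leaf 18)))) (.node (.node (.node 
    (.node (.leaf 25) (.leaf 24)) (.leaf 23)) (.node (.node (.leaf 24) (.leaf 25)) (.leaf 23))) 
    (.node (.node (.leaf 23) (.node (.leaf 25) (.leaf 24))) (.node (.leaf 23) (.node (.leaf 24) 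
    (.leaf 25)))))))) (.node (.node (.node (.node (.leaf 16) (.leaf 14)) (.node (.leaf 16) (.leaf 
    14))) (.node (.node (.leaf 16) (.leaf 14)) (.node (.leaf 16) (.leaf 14)))) (.leaf 13))) (.node 
    (.node (.node (.node (.node (.node (.node (.node (.leaf 25) (.leaf 24)) (.leaf 26)) (.node 
    (.leaf 26) (.node (.leaf 25) (.leaf 24)))) (.node (.node (.leaf 26) (.node (.leaf 25) (.leaf 
    24))) (.node (.node (.leaf 25) (.leaf 24)) (.leaf 26)))) (.node (.node (.node (.leaf 18) (.leaf 
    21)) (.node (.leaf 21) (.leaf 18))) (.node (.node (.leaf 18) (.leaf 21)) (.node (.leaf 21) 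
    (.leaf 18))))) (.node (.node (.node (.node (.node (.leaf 25) (.leaf 24)) (.leaf 26)) (.node 
    (.leaf 26) (.node (.leaf 24) (.leaf 25)))) (.node (.node (.node (.leaf 25) (.leaf 24)) (.leaf 
    26)) (.node (.leaf 26) (.node (.leaf 24) (.leaf 25))))) (.node (.node (.node (.leaf 21) (.leaf 
    18)) (.node (.leaf 18) (.leaf 21))) (.node (.node (.leaf 18) (.leaf 21)) (.node (.leaf 21) 
    (.leaf 18)))))) (.node (.node (.node (.node (.node (.node (.leaf 20) (.leaf 19)) (.node (.leaf 
    20) (.leaf 19))) (.node (.node (.leaf 20) (.leaf 19)) (.node (.leaf 20) (.leaf 19)))) (.node 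
    (.node (.node (.leaf 20) (.leaf 19)) (.node (.leaf 20) (.leaf 19))) (.node (.node (.leaf 20) 
    (.leaf 19)) (.node (.leaf 20) (.leaf 19))))) (.node (.node (.node (.node (.leaf 19) (.leaf 20)) 
    (.node (.leaf 19) (.leaf 20))) (.node (.node (.leaf 20) (.leaf 19)) (.node (.leaf 20) (.leaf 
    19)))) (.node (.node (.node (.leaf 19) (.leaf 20)) (.node (.leaf 19) (.leaf 20))) (.node (.node 
    (.leaf 20) (.leaf 19)) (.node (.leaf 20) (.leaf 19)))))) (.node (.node (.node (.node (.node 
    (.leaf 20) (.leaf 19)) (.node (.leaf 19) (.leaf 20))) (.node (.node (.leaf 20) (.leaf 19)) 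
    (.node (.leaf 19) (.leaf 20)))) (.node (.node (.node (.leaf 20) (.leaf 19)) (.node (.leaf 19) 
    (.leaf 20))) (.node (.node (.leaf 20) (.leaf 19)) (.node (.leaf 19) (.leaf 20))))) (.node 
    (.node (.node (.node (.leaf 20) (.leaf 19)) (.node (.leaf 19) (.leaf 20))) (.node (.node (.leaf 
    19) (.leaf 20)) (.node (.leaf 20) (.leaf 19)))) (.node (.node (.node (.leaf 19) (.leaf 20)) 
    (.node (.leaf 20) (.leaf 19))) (.node (.node (.leaf 20) (.leaf 19)) (.node (.leaf 19) (.leaf 
    20)))))))) (.node (.node (.node (.node (.node (.leaf 34) (.leaf 30)) (.leaf 15)) (.node (.leaf 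
    15) (.node (.leaf 30) (.leaf 34)))) (.node (.node (.node (.leaf 34) (.leaf 30)) (.leaf 15)) 
    (.node (.leaf 15) (.node (.leaf 34) (.leaf 30))))) (.node (.node (.node (.leaf 14) (.leaf 17)) 
    (.node (.leaf 14) (.leaf 17))) (.node (.node (.leaf 17) (.leaf 14)) (.node (.leaf 17) (.leaf 
    14))))))) (.node (.node (.node (.node (.node (.node (.node (.node (.leaf 12) (.leaf 10)) (.node 
    (.leaf 12) (.leaf 10))) (.leaf 6)) (.node (.leaf 5) (.node (.node (.leaf 10) (.leaf 11)) (.node 
    (.leaf 10) (.leaf 11))))) (.node (.node (.node (.node (.leaf 12) (.leaf 10)) (.node (.leaf 12) 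
    (.leaf 10))) (.leaf 6)) (.node (.leaf 5) (.node (.node (.leaf 11) (.leaf 10)) (.node (.leaf 11) 
    (.leaf 10)))))) (.node (.node (.node (.node (.node (.leaf 6) (.leaf 5)) (.node (.leaf 6) (.leaf 
    5))) (.node (.node (.leaf 9) (.leaf 7)) (.node (.leaf 9) (.leaf 7)))) (.node (.node (.node 
    (.leaf 6) (.leaf 5)) (.node (.leaf 6) (.leaf 5))) (.node (.node (.leaf 7) (.leaf 9)) (.node 
    (.leaf 7) (.leaf 9))))) (.node (.node (.node (.node (.leaf 9) (.leaf 7)) (.node (.leaf 9) 
    (.leaf 7))) (.node (.node (.leaf 6) (.leaf 5)) (.node (.leaf 6) (.leaf 5)))) (.node (.node 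
    (.node (.leaf 9) (.leaf 7)) (.node (.leaf 9) (.leaf 7))) (.node (.node (.leaf 5) (.leaf 6)) 
    (.node (.leaf 5) (.leaf 6))))))) (.node (.node (.node (.node (.node (.node (.leaf 8) (.leaf 7)) 
    (.node (.leaf 7) (.leaf 8))) (.node (.node (.leaf 5) (.leaf 6)) (.node (.leaf 6) (.leaf 5)))) 
    (.node (.node (.node (.leaf 7) (.leaf 8)) (.node (.leaf 8) (.leaf 7))) (.node (.node (.leaf 5) 
    (.leaf 6)) (.node (.leaf 6) (.leaf 5))))) (.node (.node (.node (.node (.leaf 8) (.leaf 7)) 
    (.node (.leaf 7) (.leaf 8))) (.node (.node (.leaf 6) (.leaf 5)) (.node (.leaf 5) (.leaf 6)))) 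
    (.node (.node (.node (.leaf 8) (.leaf 7)) (.node (.leaf 7) (.leaf 8))) (.node (.node (.leaf 5) 
    (.leaf 6)) (.node (.leaf 6) (.leaf 5)))))) (.leaf 0))) (.node (.node (.node (.node (.leaf 4) 
    (.leaf 1)) (.node (.leaf 4) (.leaf 1))) (.leaf 3)) (.node (.node (.node (.node (.node (.node 
    (.leaf 12) (.leaf 10)) (.node (.leaf 10) (.leaf 12))) (.leaf 5)) (.node (.leaf 6) (.node (.node 
    (.leaf 10) (.leaf 11)) (.node (.leaf 11) (.leaf 10))))) (.node (.node (.node (.node (.leaf 11) 
    (.leaf 10)) (.node (.leaf 10) (.leaf 11))) (.leaf 6)) (.node (.leaf 5) (.node (.node (.leaf 12) 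
    (.leaf 10)) (.node (.leaf 10) (.leaf 12)))))) (.node (.node (.leaf 2) (.leaf 1)) (.node (.leaf 
    1) (.leaf 2)))))))

/-- Certificate data. -/
def dict6 : BTree :=
  (.node 8200 19 (.node 13 9 (.node 6 4 (.node 4 2 (.node 2 1 (.node 1 0 .nil .nil) .nil) (.node 
    5 3 .nil .nil)) (.node 11 7 (.node 10 6 (.node 7 5 .nil .nil) .nil) (.node 12 8 .nil .nil))) 
    (.node 8194 14 (.node 24 12 (.node 23 11 (.node 22 10 .nil .nil) .nil) (.node 8192 13 .nil 
    .nil)) (.node 8198 17 (.node 8196 16 (.node 8195 15 .nil .nil) .nil) (.node 8199 18 .nil 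
    .nil)))) (.node 8212 29 (.node 8207 24 (.node 8203 22 (.node 8202 21 (.node 8201 20 .nil .nil) 
    .nil) (.node 8206 23 .nil .nil)) (.node 8210 27 (.node 8209 26 (.node 8208 25 .nil .nil) .nil) 
    (.node 8211 28 .nil .nil))) (.node 8219 34 (.node 8217 32 (.node 8214 31 (.node 8213 30 .nil 
    .nil) .nil) (.node 8218 33 .nil .nil)) (.node 8221 36 (.node 8220 35 .nil .nil) (.node 8222 37 
    .nil .nil)))))

/-- Certificate data. -/
def class6 : List ℕ :=
  [256, 768]

/-- Certificate data. -/
def classes : List (List ℕ) :=
  [[0, 1, 2, 3, 4, 5, 6, 7, 8, 9, 10, 11, 12, 13, 14, 15, 16, 17, 18, 19, 20, 21, 22, 23, 24, 25, 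
    26, 27, 28, 29, 30, 31, 32, 33, 34, 35, 36, 37], [13, 14, 15, 16, 17, 18, 19, 20, 21, 22, 23, 
    24, 25, 26, 27, 28, 29, 30, 31, 32, 33, 34, 35, 36, 37], [13, 16, 22, 23, 27, 28, 29, 31, 32, 
    33, 35, 36, 37], [22, 23, 27, 28, 29, 31, 32, 33, 35, 36, 37], [22, 27, 28, 29, 31, 32, 33, 35, 
    36, 37], [22, 27, 28, 29, 31, 35, 36, 37], [27, 28, 29, 35, 36, 37], [29, 35, 36, 37], [35, 36, 
    37], [36, 37]]

/-- Certificate data. -/
def words : List (List (List ℕ)) :=
  [[[1], [2], [4], [8], [16], [8, 56, 16], [8, 72], [200, 72], [8, 72, 2, 322], [8, 16, 8, 56, 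
    16, 56]], [[], [2], [4], [8], [16], [8, 56, 16], [8, 72], [200, 72], [8, 72, 2, 322], [8, 16, 
    8, 56, 16, 56]], [[], [], [4], [320, 328], [16], [48, 16], [64], [128], [64, 320], [16, 48, 16, 
    48]], [[], [], [], [320, 328], [16], [48, 16], [64], [128], [64, 320], [16, 48, 16, 48]], [[], 
    [], [], [], [16], [128, 64, 240, 16], [64], [128], [64, 320], [16, 240, 16, 240]], [[], [], [], 
    [], [], [32], [64], [128], [64, 320], [32, 32]], [[], [], [], [], [], [], [64], [128], [64, 
    320], [128, 320, 960]], [[], [], [], [], [], [], [], [128], [256], [128, 256, 896]], [[], [], 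
    [], [], [], [], [], [], [256], [256, 768]], [[], [], [], [], [], [], [], [], [], [512]]]

/-- Certificate data. -/
def sep : List (List ℕ) :=
  [[0, 1, 2, 8, 1, 1, 2, 1, 1, 1, 2, 1, 1, 1, 2, 0, 1, 1, 1, 1, 1, 8, 1, 1], [1, 0, 1, 1, 2, 2, 
    1, 2, 2, 2, 1, 2, 0, 2, 1, 1, 2, 2, 2, 2, 2, 1, 8, 8], [2, 1, 0, 2, 1, 1, 0, 1, 1, 1, 8, 1, 1, 
    1, 8, 2, 1, 1, 1, 1, 1, 2, 1, 1], [8, 1, 2, 0, 1, 1, 2, 1, 1, 1, 2, 1, 1, 1, 2, 8, 1, 1, 1, 1, 
    1, 0, 1, 1], [1, 2, 1, 1, 0, 7, 1, 12, 7, 12, 1, 11, 2, 7, 1, 1, 0, 7, 12, 11, 12, 1, 2, 2], 
    [1, 2, 1, 1, 7, 0, 1, 7, 8, 7, 1, 7, 2, 0, 1, 1, 7, 8, 7, 7, 7, 1, 2, 2], [2, 1, 0, 2, 1, 1, 0, 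
    1, 1, 1, 8, 1, 1, 1, 8, 2, 1, 1, 1, 1, 1, 2, 1, 1], [1, 2, 1, 1, 12, 7, 1, 0, 7, 0, 1, 11, 2, 
    7, 1, 1, 12, 7, 27, 11, 27, 1, 2, 2], [1, 2, 1, 1, 7, 8, 1, 7, 0, 7, 1, 7, 2, 8, 1, 1, 7, 0, 7, 
    7, 7, 1, 2, 2], [1, 2, 1, 1, 12, 7, 1, 0, 7, 0, 1, 11, 2, 7, 1, 1, 12, 7, 27, 11, 27, 1, 2, 2], 
    [2, 1, 8, 2, 1, 1, 8, 1, 1, 1, 0, 1, 1, 1, 0, 2, 1, 1, 1, 1, 1, 2, 1, 1], [1, 2, 1, 1, 11, 7, 
    1, 11, 7, 11, 1, 0, 2, 7, 1, 1, 11, 7, 11, 0, 11, 1, 2, 2], [1, 0, 1, 1, 2, 2, 1, 2, 2, 2, 1, 
    2, 0, 2, 1, 1, 2, 2, 2, 2, 2, 1, 8, 8], [1, 2, 1, 1, 7, 0, 1, 7, 8, 7, 1, 7, 2, 0, 1, 1, 7, 8, 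
    7, 7, 7, 1, 2, 2], [2, 1, 8, 2, 1, 1, 8, 1, 1, 1, 0, 1, 1, 1, 0, 2, 1, 1, 1, 1, 1, 2, 1, 1], 
    [0, 1, 2, 8, 1, 1, 2, 1, 1, 1, 2, 1, 1, 1, 2, 0, 1, 1, 1, 1, 1, 8, 1, 1], [1, 2, 1, 1, 0, 7, 1, 
    12, 7, 12, 1, 11, 2, 7, 1, 1, 0, 7, 12, 11, 12, 1, 2, 2], [1, 2, 1, 1, 7, 8, 1, 7, 0, 7, 1, 7, 
    2, 8, 1, 1, 7, 0, 7, 7, 7, 1, 2, 2], [1, 2, 1, 1, 12, 7, 1, 27, 7, 27, 1, 11, 2, 7, 1, 1, 12, 
    7, 0, 11, 0, 1, 2, 2], [1, 2, 1, 1, 11, 7, 1, 11, 7, 11, 1, 0, 2, 7, 1, 1, 11, 7, 11, 0, 11, 1, 
    2, 2], [1, 2, 1, 1, 12, 7, 1, 27, 7, 27, 1, 11, 2, 7, 1, 1, 12, 7, 0, 11, 0, 1, 2, 2], [8, 1, 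
    2, 0, 1, 1, 2, 1, 1, 1, 2, 1, 1, 1, 2, 8, 1, 1, 1, 1, 1, 0, 1, 1], [1, 8, 1, 1, 2, 2, 1, 2, 2, 
    2, 1, 2, 8, 2, 1, 1, 2, 2, 2, 2, 2, 1, 0, 0], [1, 8, 1, 1, 2, 2, 1, 2, 2, 2, 1, 2, 8, 2, 1, 1, 
    2, 2, 2, 2, 2, 1, 0, 0]]

/-- Certificate data. -/
def moves : List (List ℕ × ℕ × ℕ) :=
  [([512], 559943402807254403402916837400773651, 376),
    ([512], 315477329847088573281159054226367940, 322),
    ([376], 970448817328905624464272422223482538, 569),
    ([376, 322, 569, 376, 569], 186993224176636287682131531715295459, 66),
    ([376, 322, 66], 692336832700920371244289134528338562, 648),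
    ([322, 648, 66], 638661571648355929635430756214136530, 118),
    ([512, 322, 376, 322, 569], 984818244535754528103549039458486304, 1),
    ([376, 322, 376], 984818244535754528103549039458486304, 2),
    ([376, 118, 66, 376], 984818244535754528103549039458486304, 4),
    ([118, 376, 118], 984818244535754528103549039458486304, 8),
    ([376, 322, 376, 569, 322, 569], 984818244535754528103549039458486304, 16),
    ([376, 569, 66, 569, 66, 648], 984818244535754528103549039458486304, 32),
    ([376, 322, 376, 66], 984818244535754528103549039458486304, 64),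
    ([376, 118, 648, 118], 984818244535754528103549039458486304, 128),
    ([322, 66], 984818244535754528103549039458486304, 256)]

/-- The certificate. -/
def cert : Cert :=
  { m := 10, els := els, idx := idxTree, nxt := nxt, sq := sq, k0 := k0, k0dict := k0dict,
    steps := [.sqz tab0 dict0, .sqz tab1 dict1, .comm class2 10 tab2 dict2, .sqz tab3 dict3, .comm class4 6 tab4 dict4, .sqz tab5 dict5, .comm class6 28 tab6 dict6],
    classes := classes, words := words, partner := [15, 12, 6, 21, 16, 13, 2, 9, 17, 7, 14, 19, 1, 5, 10, 0, 4, 8, 20, 11, 18, 3, 23, 22],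
    sep := sep, moves := moves }

theorem els_ok : okEls cert ([] : List ℕ) = true := by decide +kernel

theorem nxt_ok : okNxt cert = true := by decide +kernel

theorem pred_ok : okPred cert = true := by decide +kernel

theorem sq_ok : okSq cert = true := by decide +kernel

theorem labels_ok : okLabels cert = true := by decide +kernel

theorem series_ok : okSeries cert = true := by decide +kernel

theorem sep_ok : okSep cert ([] : List ℕ) = true := by decide +kernel

theorem moves_ok : movesOK cert ([] : List ℕ) cert.moves [2 ^ (cert.m - 1)] = true := by decide +kernel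

end CfsgLib.Fusion.MathieuCert.M24
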