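import Cfsg.Agent.Lib.Fusion.MathieuCertEmbed
import Cfsg.Agent.Lib.Fusion.MathieuCertM22
import Cfsg.Agent.Lib.Golay.Co0McLSimple

/-!
The 2-fusion system of the McLaughlin group is simple: a Sylow 2-subgroup lies in `M₂₂`, and the
only lattice vector of the right shape fixed by it is the one defining `M₂₂`.
-/

set_option autoImplicit false
set_option maxRecDepth 100000
set_option linter.style.haveILetI false

namespace CfsgLib.Fusion.MathieuCert.M22

open Cfsg CfsgLib.Golay
open scoped Pointwise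

theorem fix_pt {σ : Equiv.Perm GolayPt} (hσ : σ ∈ fixMasks X22) :
    σ (pt 23) = pt 23 ∧ σ (pt 0) = pt 0 := by
  rw [show X22 = Nat.shiftLeft 1 0 :: X23 from rfl, mem_fixMasks_bit (by norm_num : 0 < 24),
    show X23 = [Nat.shiftLeft 1 23] from rfl, mem_fixMasks_bit (by norm_num : 23 < 24)] at hσ
  exact ⟨hσ.1.2, hσ.2⟩

theorem le_M24 : fixMasks X22 ≤ M24 := fun _ h => (mem_fixMasks.1 h).1

/-- The points. -/
noncomputable def toPts : fixMasks X22 →* mclPts :=
  (Subgroup.inclusion le_M24).codRestrict mclPts fun σ => ⟨(fix_pt σ.2).1, (fix_pt σ.2).2⟩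

/-- The monomial embedding. -/
noncomputable def toMcl : fixMasks X22 →* mclGroup := mclHom.comp toPts

theorem toMcl_injective : Function.Injective toMcl := fun σ τ h =>
  Subtype.ext (congrArg (fun z : mclPts => ((z : M24) : Equiv.Perm GolayPt)) (mclHom_injective h))

theorem toMcl_w11 (σ : fixMasks X22) : (toMcl σ : Co0) • w11 = w11 := by
  refine Subtype.ext (funext fun i => ?_)
  obtain ⟨j, rfl⟩ := (σ.1 : Equiv.Perm GolayPt).surjective i
  refine (perm_apply ⟨σ.1, σ.2.1⟩ w11 j).trans ?_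
  have hfix : (σ.1 : Equiv.Perm GolayPt) (pt 23) = pt 23 := (fix_pt σ.2).1
  have hval : ∀ k, (w11 : GolayPt → ℤ) k = if k = pinf then 3 else -1 := by decide +kernel
  have hiff : (σ.1 : Equiv.Perm GolayPt) j = pinf ↔ j = pinf :=
    ⟨fun h => (σ.1 : Equiv.Perm GolayPt).injective (h.trans hfix.symm), fun h => by rw [h]; exact hfix⟩
  rw [hval, hval]
  exact if_congr hiff.symm rfl rfl

theorem sum_pt (f : GolayPt → ℤ) : ∑ i, f i = ∑ k ∈ Finset.range 24, f (pt k) := by
  classical
  rw [show (Finset.univ : Finset GolayPt) = (Finset.range 24).image pt by decide +kernel]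
  refine Finset.sum_image fun a ha b hb h => ?_
  have := congrArg idx h
  rwa [idx_pt (Finset.mem_range.1 ha), idx_pt (Finset.mem_range.1 hb)] at this

set_option maxHeartbeats 1000000 in
/-- The only fixed vector of the shape of `w11`. -/
theorem fixed_eq_w11 {w : leechLattice} (w1 : sqNorm (w : GolayPt → ℤ) = 32)
    (w2 : dotInt (fiveV : GolayPt → ℤ) w = -8) (w3 : dotInt (min44 : GolayPt → ℤ) w = 8)
    (hfix : ∀ σ ∈ (H cert 0).subgroupOf (fixMasks X22), (toMcl σ : Co0) • w = w) : w = w11 := by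
  set x : GolayPt → ℤ := (w : GolayPt → ℤ) with hx
  have hstep : ∀ k j z : ℕ, (decide (k < cert.m) && Nat.beq (Golay.img (el cert (2 ^ k)) j) z &&
      decide (j < 24)) = true → x (pt z) = x (pt j) := by
    intro k j z h
    simp only [Bool.and_eq_true, decide_eq_true_eq] at h
    obtain ⟨⟨hk, hz⟩, hj⟩ := h
    have hmem := gen_mem (C := cert) k hk
    have hle := H_le_fix els_ok (C := cert) 0 hmem
    have h1 := hfix ⟨_, hle⟩ hmem
    have h2 := congrArg (fun v : leechLattice =>
      (v : GolayPt → ℤ) (P cert (2 ^ k) (pt j))) h1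
    have h3 : x (P cert (2 ^ k) (pt j)) = x (pt j) :=
      h2.symm.trans (perm_apply ⟨_, hle.1⟩ w (pt j))
    have hv : valid (el cert (2 ^ k)) = true :=
      el_valid els_ok (C := cert) (Nat.pow_lt_pow_right one_lt_two hk)
    rwa [P, permOf_pt hv hj, Nat.eq_of_beq_eq_true hz] at h3
  have e1 : x (pt 1) = x (pt 1) := rfl
  have e2 : x (pt 2) = x (pt 1) := (hstep 1 1 2 (by decide +kernel)).trans e1
  have e5 : x (pt 5) = x (pt 1) := (hstep 4 1 5 (by decide +kernel)).trans e1
  have e3 : x (pt 3) = x (pt 1) := (hstep 5 1 3 (by decide +kernel)).trans e1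
  have e19 : x (pt 19) = x (pt 1) := (hstep 6 1 19 (by decide +kernel)).trans e1
  have e8 : x (pt 8) = x (pt 1) := (hstep 0 2 8 (by decide +kernel)).trans e2
  have e4 : x (pt 4) = x (pt 1) := (hstep 1 2 4 (by decide +kernel)).trans e2
  have e6 : x (pt 6) = x (pt 1) := (hstep 2 2 6 (by decide +kernel)).trans e2
  have e21 : x (pt 21) = x (pt 1) := (hstep 3 2 21 (by decide +kernel)).trans e2
  have e9 : x (pt 9) = x (pt 1) := (hstep 4 2 9 (by decide +kernel)).trans e2
  have e14 : x (pt 14) = x (pt 1) := (hstep 6 2 14 (by decide +kernel)).trans e2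
  have e15 : x (pt 15) = x (pt 1) := (hstep 0 5 15 (by decide +kernel)).trans e5
  have e12 : x (pt 12) = x (pt 1) := (hstep 2 5 12 (by decide +kernel)).trans e5
  have e22 : x (pt 22) = x (pt 1) := (hstep 2 8 22 (by decide +kernel)).trans e8
  have e7 : x (pt 7) = x (pt 1) := (hstep 6 8 7 (by decide +kernel)).trans e8
  have e17 : x (pt 17) = x (pt 1) := (hstep 4 4 17 (by decide +kernel)).trans e4
  have e10 : x (pt 10) = x (pt 10) := rfl
  have e18 : x (pt 18) = x (pt 10) := (hstep 0 10 18 (by decide +kernel)).trans e10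
  have e16 : x (pt 16) = x (pt 10) := (hstep 2 10 16 (by decide +kernel)).trans e10
  have e13 : x (pt 13) = x (pt 10) := (hstep 3 18 13 (by decide +kernel)).trans e18
  have e11 : x (pt 11) = x (pt 11) := rfl
  have e20 : x (pt 20) = x (pt 11) := (hstep 0 11 20 (by decide +kernel)).trans e11
  have hsum : ∀ φ : ℤ → ℤ, ∑ i, φ (x i) = φ (x (pt 23)) + φ (x (pt 0)) + 2 * φ (x (pt 11)) +
      4 * φ (x (pt 10)) + 16 * φ (x (pt 1)) := by
    intro φ
    rw [sum_pt]
    simp only [Finset.sum_range_succ, Finset.sum_range_zero, e2, e3, e4, e5, e6, e7, e8, e9, e12,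
      e13, e14, e15, e16, e17, e18, e19, e20, e21, e22]
    ring
  have hs := hsum id
  have hq := hsum fun t => t ^ 2
  rw [show ∑ i, x i ^ 2 = 32 from w1] at hq
  rw [dot_five] at w2
  rw [dot_min44] at w3
  simp only [id] at hs
  rw [show pinf = pt 23 from rfl] at w2 w3
  rw [show pz = pt 0 from rfl] at w3
  change (∑ i, x i) + 4 * x (pt 23) = -8 at w2
  change 4 * x (pt 23) + 4 * x (pt 0) = 8 at w3
  have e : x (pt 23) = 3 ∧ x (pt 0) = -1 ∧ x (pt 11) = -1 ∧ x (pt 10) = -1 ∧ x (pt 1) = -1 := by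
    generalize ∑ i, x i = Sm at hs w2
    generalize x (pt 23) = a at hs hq w2 w3
    generalize x (pt 0) = b at hs hq w2 w3
    generalize x (pt 11) = c at hs hq
    generalize x (pt 10) = d at hs hq
    generalize x (pt 1) = e at hs hq
    have he : -1 ≤ e ∧ e ≤ 1 := by
      have h : e ^ 2 ≤ 2 := by linarith [sq_nonneg a, sq_nonneg b, sq_nonneg c, sq_nonneg d]
      constructor <;> nlinarith only [h]
    have hd : -2 ≤ d ∧ d ≤ 2 := by
      have h : d ^ 2 ≤ 8 := by linarith [sq_nonneg a, sq_nonneg b, sq_nonneg c, sq_nonneg e]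
      constructor <;> nlinarith only [h]
    have ha : -5 ≤ a ∧ a ≤ 5 := by
      have h : a ^ 2 ≤ 32 := by linarith [sq_nonneg d, sq_nonneg b, sq_nonneg c, sq_nonneg e]
      constructor <;> nlinarith only [h]
    have hb : b = 2 - a := by omega
    have hc : c = -5 - 2 * a - 2 * d - 8 * e := by omega
    subst hb hc
    obtain ⟨he1, he2⟩ := he
    obtain ⟨hd1, hd2⟩ := hd
    obtain ⟨ha1, ha2⟩ := ha
    interval_cases e <;> interval_cases d <;> interval_cases a <;> first | (norm_num; done) | (norm_num at hq)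
  obtain ⟨a1, a2, a3, a4, a5⟩ := e
  refine Subtype.ext (funext fun i => ?_)
  rw [← hx]
  have hi : i = pt (idx i) := (pt_idx i).symm
  have hlt := idx_lt i
  rw [hi]
  have hval : ∀ k < 24, (w11 : GolayPt → ℤ) (pt k) = if k = 23 then 3 else -1 := by decide +kernel
  rw [hval _ hlt]
  interval_cases (idx i) <;>
    simp [e2, e3, e4, e5, e6, e7, e8, e9, e12, e13, e14, e15, e16, e17, e18, e19, e20, e21, e22,
      a1, a2, a3, a4, a5]

theorem normalizer_le_range : ∀ g ∈ Subgroup.normalizer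
    ((((H cert 0).subgroupOf (fixMasks X22)).map toMcl : Subgroup mclGroup) : Set mclGroup),
    g ∈ toMcl.range := by
  intro g hg
  obtain ⟨f1, f2, f3⟩ := w11_facts
  have hw : (g : Co0) • w11 = w11 := by
    refine fixed_eq_w11 ((co0_sq _ _).trans f1) ?_ ?_ fun σ hσ => ?_
    · conv_lhs => rw [← (show (g : Co0) • fiveV = fiveV from g.2.1)]
      rw [co0_dot, f2]
    · conv_lhs => rw [← (show (g : Co0) • min44 = min44 from g.2.2)]
      rw [co0_dot, f3]
    · obtain ⟨τ, -, hτ⟩ := (Subgroup.mem_normalizer_iff''.1 hg _).1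
        (Subgroup.mem_map_of_mem toMcl hσ)
      have hτ' : (toMcl τ : Co0) = (g : Co0)⁻¹ * (toMcl σ : Co0) * g := congrArg Subtype.val hτ
      have h := toMcl_w11 τ
      rw [hτ', mul_smul, mul_smul, inv_smul_eq_iff] at h
      exact h
  obtain ⟨τ, hτ⟩ := mem_range_mclHom hw
  refine ⟨⟨(τ : M24), ?_⟩, ?_⟩
  · rw [show X22 = Nat.shiftLeft 1 0 :: X23 from rfl, mem_fixMasks_bit (by norm_num : 0 < 24),
      show X23 = [Nat.shiftLeft 1 23] from rfl, mem_fixMasks_bit (by norm_num : 23 < 24),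
      fixMasks_nil]
    exact ⟨⟨τ.1.2, τ.2.1⟩, τ.2.2⟩
  · exact hτ

theorem mclGroup_isSimple_fusion (S : Sylow 2 mclGroup) :
    (groupFusionSystem (S : Subgroup mclGroup)).IsSimple 2 :=
  isSimple_of_cert_embed cert X22 toMcl toMcl_injective 898128000 card_mclGroup
    (by decide +kernel) els_ok nxt_ok pred_ok sq_ok labels_ok series_ok sep_ok moves_ok
    normalizer_le_range S

theorem leechV_eq : Spor.leechV = -fiveV :=
  Subtype.ext (funext (by decide +kernel : ∀ i, Spor.vecV i = -five i))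

theorem leechU_eq : Spor.leechU = min44 :=
  Subtype.ext (funext (by decide +kernel : ∀ i, Spor.vecU i = (min44 : GolayPt → ℤ) i))

theorem mem_sporMcL_iff {g : Equiv.Perm leechLattice} :
    g ∈ Spor.McL ↔ ∃ h : g ∈ Co0, (⟨g, h⟩ : Co0) ∈ mclGroup := by
  constructor
  · rintro ⟨⟨h0, hV⟩, hU⟩
    refine ⟨h0, ?_, ?_⟩
    · have hV' : (⟨g, h0⟩ : Co0) • Spor.leechV = Spor.leechV := hV
      rw [leechV_eq, co0_neg, neg_inj] at hV'
      exact hV'
    · have hU' : (⟨g, h0⟩ : Co0) • Spor.leechU = Spor.leechU := hU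
      rwa [leechU_eq] at hU'
  · rintro ⟨h0, h1, h2⟩
    refine ⟨⟨h0, ?_⟩, ?_⟩
    · show (⟨g, h0⟩ : Co0) • Spor.leechV = Spor.leechV
      rw [leechV_eq, co0_neg, h1]
    · show (⟨g, h0⟩ : Co0) • Spor.leechU = Spor.leechU
      rw [leechU_eq]
      exact h2

/-- The identification with the official group. -/
noncomputable def mclEquiv : mclGroup ≃* Spor.McL where
  toFun g := ⟨g.1.1, mem_sporMcL_iff.2 ⟨g.1.2, g.2⟩⟩
  invFun g := ⟨⟨g.1, (mem_sporMcL_iff.1 g.2).choose⟩, (mem_sporMcL_iff.1 g.2).choose_spec⟩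
  left_inv g := rfl
  right_inv g := rfl
  map_mul' g h := rfl

/-- The 2-fusion system of a group isomorphic to the McLaughlin group is simple. -/
theorem isoMcL_isSimple_fusion {G : Type*} [Group G] [Finite G] (hG : Spor.IsoMcL G)
    (S : Sylow 2 G) : (groupFusionSystem (S : Subgroup G)).IsSimple 2 := by
  obtain ⟨e₀⟩ := hG
  set e : mclGroup ≃* G := mclEquiv.trans e₀.symm with he
  refine isSimple_of_cert_embed cert X22 (e.toMonoidHom.comp toMcl)
    (e.injective.comp toMcl_injective) 898128000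
    (by rw [← card_mclGroup]; exact Nat.card_congr e.symm.toEquiv)
    (by decide +kernel) els_ok nxt_ok pred_ok sq_ok labels_ok series_ok sep_ok moves_ok
    (fun g hg => ?_) S
  rw [← Subgroup.map_map] at hg
  have hg' : e.symm g ∈ Subgroup.normalizer
      ((((H cert 0).subgroupOf (fixMasks X22)).map toMcl : Subgroup mclGroup) : Set mclGroup) := by
    rw [Subgroup.mem_normalizer_iff] at hg ⊢
    intro x
    have h := hg (e x)
    have hmem : ∀ (K : Subgroup mclGroup) (y : G), y ∈ K.map e.toMonoidHom ↔ e.symm y ∈ K :=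
      fun K y => Subgroup.mem_map_equiv
    simp only [hmem, map_mul, map_inv, MulEquiv.symm_apply_apply] at h
    exact h
  obtain ⟨τ, hτ⟩ := normalizer_le_range _ hg'
  exact ⟨τ, by rw [MonoidHom.comp_apply, hτ]; exact e.apply_symm_apply g⟩

end CfsgLib.Fusion.MathieuCert.M22
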