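import Cfsg.Agent.Lib.Fusion.ModelTransfer
import Mathlib.GroupTheory.GroupAction.Basic

/-!
Models, the construction: admissible monomial representations of subgroups of `N_S(Q)` exist and
are unique up to conjugation by central families.
-/

set_option autoImplicit false
set_option linter.style.haveILetI false
set_option linter.unusedVariables false
set_option linter.unusedSectionVars false

namespace CfsgLib.Fusion.Model

open Cfsg Cfsg.FusionSystem Subgroup CfsgLib.Fusion

universe u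

variable {Ω : Type u} [Group Ω] {S : Subgroup Ω} [Finite S] (F : FusionSystem S) {Q : Subgroup Ω}
  (hQ : Q ≤ S)

/-- The action of a subgroup of `N_S(Q)` on `Q`. -/
def rhoOn {P : Subgroup Ω} (hP : P ≤ normalizerIn S Q) : P →* F.autGroup Q :=
  (rho F hQ).comp (Subgroup.inclusion hP)

theorem rhoOn_apply {P : Subgroup Ω} (hP : P ≤ normalizerIn S Q) (u : P) (x : Q) :
    ((((rhoOn F hQ hP u : F.autGroup Q) : MulAut Q) x : Q) : Ω) = (u : Ω) * x * (u : Ω)⁻¹ := rfl

/-- The stabilizer of a coset in a subgroup of `N_S(Q)`. -/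
def stab {P : Subgroup Ω} (hP : P ≤ normalizerIn S Q) (c : Cos F hQ) : Subgroup Ω :=
  ((MulAction.stabilizer (F.autGroup Q) c).comap (rhoOn F hQ hP)).map P.subtype

theorem mem_stab {P : Subgroup Ω} (hP : P ≤ normalizerIn S Q) (c : Cos F hQ) (u : P) :
    (u : Ω) ∈ stab F hQ hP c ↔ rhoOn F hQ hP u • c = c := by
  constructor
  · rintro ⟨v, hv, hvu⟩
    obtain rfl : v = u := Subtype.ext hvu
    exact hv
  · exact fun h => ⟨u, h, rfl⟩

theorem stab_le {P : Subgroup Ω} (hP : P ≤ normalizerIn S Q) (c : Cos F hQ) :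
    stab F hQ hP c ≤ P := Subgroup.map_subtype_le _

theorem le_stab {P : Subgroup Ω} (hP : P ≤ normalizerIn S Q) (hQP : Q ≤ P) (c : Cos F hQ) :
    Q ≤ stab F hQ hP c := fun x hx =>
  (mem_stab F hQ hP c ⟨x, hQP hx⟩).2 (rho_smul_fix F hQ ⟨x, hx⟩ c)

/-- A monomial representation of `P` all of whose stabilizer coordinates are maps of `F`. -/
structure IsAdm {P : Subgroup Ω} (hP : P ≤ normalizerIn S Q) (hQP : Q ≤ P)
    (θ : P →* Lift F hQ) : Prop where
  aut_eq : ∀ u, (θ u).aut = rhoOn F hQ hP u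
  map_q : ∀ q : Q, θ ⟨q, hQP q.2⟩ = diag F hQ q
  is_map : ∀ c, ∃ f, IsMap F (stab F hQ hP c) f ∧
    ∀ u : P, rhoOn F hQ hP u • c = c → f u = ((θ u).coord c : Ω)

section Hyp

variable {p : ℕ} [Fact p.Prime] (hS : IsPGroup p S) (hsat : F.IsSaturated p)
  (hcen : F.IsCentric Q) (hn : F.IsFullyNormalized Q)

include hS hsat hcen in
/-- Admissible representations are unique up to conjugation by a family of central elements. -/
theorem IsAdm.exists_conj {P : Subgroup Ω} {hP : P ≤ normalizerIn S Q} {hQP : Q ≤ P}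
    {θ θ' : P →* Lift F hQ} (h : IsAdm F hQ hP hQP θ) (h' : IsAdm F hQ hP hQP θ') :
    ∃ r, ∀ u, θ' u = kerLift F hQ r * θ u * (kerLift F hQ r)⁻¹ := by
  letI : MulAction P (Cos F hQ) := MulAction.compHom _ (rhoOn F hQ hP)
  have hsm : ∀ (u : P) (c : Cos F hQ), u • c = rhoOn F hQ hP u • c := fun _ _ => rfl
  have hz₀ : ∀ b, ∃ z : cen Q, ∀ u : P, u • b = b →
      ((θ' u).coord b : Ω) = ((z : Q) : Ω) * (θ u).coord b * ((z : Q) : Ω)⁻¹ := fun b => by
    obtain ⟨f, hf, hfu⟩ := h.is_map b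
    obtain ⟨f', hf', hfu'⟩ := h'.is_map b
    have hval : ∀ x (hx : x ∈ Q), f x = (pull F hQ ⟨x, hx⟩ b : Ω) ∧
        f' x = (pull F hQ ⟨x, hx⟩ b : Ω) := fun x hx => by
      have hfix : rhoOn F hQ hP ⟨x, hQP hx⟩ • b = b := rho_smul_fix F hQ ⟨x, hx⟩ b
      rw [hfu ⟨x, hQP hx⟩ hfix, hfu' ⟨x, hQP hx⟩ hfix, h.map_q ⟨x, hx⟩, h'.map_q ⟨x, hx⟩]
      exact ⟨rfl, rfl⟩
    have himg : img Q f = Q := by
      haveI := finite_of_le hQ
      refine eq_of_le_of_card_le (fun y hy => ?_) (hf.mono (le_stab F hQ hP hQP b)).card_img.ge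
      obtain ⟨x, hx, rfl⟩ := (hf.mono (le_stab F hQ hP hQP b)).mem_img.1 hy
      rw [(hval x hx).1]
      exact SetLike.coe_mem _
    obtain ⟨z, hzQ, hzc, hzy⟩ := exists_conj_of_agree_left hS hsat hcen (le_stab F hQ hP hQP b)
      hf hf' fun x hx => ((hval x hx).1).trans ((hval x hx).2).symm
    rw [himg] at hzQ hzc
    refine ⟨⟨⟨z, hzQ⟩, Subgroup.mem_center_iff.2 fun x => Subtype.ext (hzc x x.2)⟩, fun u hu => ?_⟩
    rw [← hfu u hu, ← hfu' u hu]
    exact hzy u ((mem_stab F hQ hP b u).2 hu)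
  choose z₀ hz₀ using hz₀
  let base : Cos F hQ → Cos F hQ := fun c =>
    (Quotient.mk (MulAction.orbitRel P (Cos F hQ)) c).out
  have hbase : ∀ c, ∃ w : P, w • base c = c := fun c => by
    obtain ⟨w, hw⟩ := MulAction.orbitRel_apply.1 (Quotient.mk_out (s := MulAction.orbitRel P _) c)
    refine ⟨w⁻¹, ?_⟩
    show w⁻¹ • base c = c
    rw [show base c = w • c from hw.symm, inv_smul_smul]
  choose w hw using hbase
  let d : Cos F hQ → normalizerIn S Q := fun c =>
    (θ' (w c)).coord (base c) * cenIncl hQ (z₀ (base c)) * ((θ (w c)).coord (base c))⁻¹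
  have hkey : ∀ (c : Cos F hQ) (v : P), v • base c = c →
      d c = (θ' v).coord (base c) * cenIncl hQ (z₀ (base c)) * ((θ v).coord (base c))⁻¹ := by
    intro c v hv
    have hfix : ((w c)⁻¹ * v) • base c = base c := by
      rw [mul_smul, hv]
      conv_lhs => arg 2; rw [← hw c]
      rw [inv_smul_smul]
    have e1 : (θ v).coord (base c) =
        (θ (w c)).coord (base c) * (θ ((w c)⁻¹ * v)).coord (base c) := by
      conv_lhs => rw [show v = w c * ((w c)⁻¹ * v) by group]
      rw [map_mul, Lift.mul_coord, h.aut_eq]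
      rw [show rhoOn F hQ hP ((w c)⁻¹ * v) • base c = base c from hfix]
    have e2 : (θ' v).coord (base c) =
        (θ' (w c)).coord (base c) * (θ' ((w c)⁻¹ * v)).coord (base c) := by
      conv_lhs => rw [show v = w c * ((w c)⁻¹ * v) by group]
      rw [map_mul, Lift.mul_coord, h'.aut_eq]
      rw [show rhoOn F hQ hP ((w c)⁻¹ * v) • base c = base c from hfix]
    have e3 : (θ' ((w c)⁻¹ * v)).coord (base c) =
        cenIncl hQ (z₀ (base c)) * (θ ((w c)⁻¹ * v)).coord (base c) *
          (cenIncl hQ (z₀ (base c)))⁻¹ := Subtype.ext (hz₀ _ _ hfix)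
    rw [e1, e2, e3]
    simp only [d]
    group
  have hdk : ∀ c, ∃ z : cen Q, cenIncl hQ z = d c := fun c => by
    refine exists_cen_of_rho_eq_one F hQ hcen ?_
    simp only [d, map_mul, map_inv, rho_cenIncl, mul_one, Lift.compat, h.aut_eq, h'.aut_eq]
    group
  choose r hr using hdk
  refine ⟨r, fun u => Lift.ext' ?_ fun c => ?_⟩
  · show (θ' u).aut = 1 * (θ u).aut * 1⁻¹
    rw [h.aut_eq, h'.aut_eq]
    group
  · have hb : base (u • c) = base c := by
      simp only [base]
      congr 1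
      exact Quotient.sound (MulAction.orbitRel_apply.2 (MulAction.mem_orbit _ _))
    have h1 := hkey (u • c) (u * w c) (by rw [hb, mul_smul, hw])
    rw [hb, map_mul, map_mul, Lift.mul_coord, Lift.mul_coord, h.aut_eq, h'.aut_eq,
      show rhoOn F hQ hP (w c) • base c = c from hw c] at h1
    simp only [Lift.mul_coord, Lift.inv_coord, Lift.inv_aut]
    show (θ' u).coord c = cenIncl hQ (r ((θ u).aut • ((1 : F.autGroup Q)⁻¹ • c))) *
      (θ u).coord ((1 : F.autGroup Q)⁻¹ • c) * (cenIncl hQ (r ((1 : F.autGroup Q)⁻¹ • c)))⁻¹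
    rw [inv_one, one_smul, h.aut_eq, ← hsm, hr, hr, h1]
    simp only [d]
    group

include hS hsat hcen hn in
theorem exists_adm : ∃ θ : normalizerIn S Q →* Lift F hQ,
    IsAdm F hQ le_rfl (le_normalizerIn hQ) θ := by
  letI : MulAction (normalizerIn S Q) (Cos F hQ) :=
    MulAction.compHom _ (rhoOn F hQ (le_refl (normalizerIn S Q)))
  have hext : ∀ b : Cos F hQ, ∃ f, IsMap F (stab F hQ le_rfl b) f ∧
      ∀ x (hx : x ∈ Q), f x = (pull F hQ ⟨x, hx⟩ b : Ω) := fun b => by
    have hm := isMap_of_autGroup hQ (F.autGroup Q |>.inv_mem b.out.2)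
    obtain ⟨f, hf, hfx⟩ := receptive_extend (receptive_of_fullyNormalized hS hsat hn) hm
      (img_toFun_aut _) (le_stab F hQ le_rfl (le_normalizerIn hQ) b) fun a ha => by
        obtain ⟨u, hu, rfl⟩ := ha
        refine ⟨u.2.1, u.2.2, ?_⟩
        obtain ⟨v, hv⟩ := exists_rho_eq F hQ (rhoOn F hQ le_rfl u) b
        rw [show rhoOn F hQ le_rfl u • b = b from hu] at hv
        refine ⟨v, v.2.1, fun x hx => ?_⟩
        simp only [Subgroup.coe_subtype]
        rw [toFun_aut_apply _ hx, toFun_aut_apply _ ((u.2.2 x).1 hx), ← rho_apply F hQ v, hv]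
        simp [MulAut.mul_apply]
        rfl
    exact ⟨f, hf, fun x hx => by rw [hfx x hx, toFun_aut_apply _ hx]; rfl⟩
  choose f hf hfq using hext
  have hfi : ∀ b, img Q (f b) = Q := fun b => by
    haveI := finite_of_le hQ
    have hm := (hf b).mono (le_stab F hQ le_rfl (le_normalizerIn hQ) b)
    refine eq_of_le_of_card_le (fun y hy => ?_) hm.card_img.ge
    obtain ⟨x, hx, rfl⟩ := hm.mem_img.1 hy
    rw [hfq b x hx]
    exact SetLike.coe_mem _
  let base : Cos F hQ → Cos F hQ := fun c =>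
    (Quotient.mk (MulAction.orbitRel (normalizerIn S Q) (Cos F hQ)) c).out
  have hbase : ∀ c, ∃ w : normalizerIn S Q, w • base c = c := fun c => by
    obtain ⟨w, hw⟩ := MulAction.orbitRel_apply.1
      (Quotient.mk_out (s := MulAction.orbitRel (normalizerIn S Q) _) c)
    refine ⟨w⁻¹, ?_⟩
    show w⁻¹ • base c = c
    rw [show base c = w • c from hw.symm, inv_smul_smul]
  choose w hw using hbase
  have hb : ∀ (u : normalizerIn S Q) (c : Cos F hQ), base (u • c) = base c := fun u c => by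
    simp only [base]
    congr 1
    exact Quotient.sound (MulAction.orbitRel_apply.2 (MulAction.mem_orbit _ _))
  have hv : ∀ c, ∃ v : normalizerIn S Q,
      rho F hQ v = c.out⁻¹ * rho F hQ (w c) * (base c).out := fun c => by
    obtain ⟨v, hv⟩ := exists_rho_eq F hQ (rhoOn F hQ le_rfl (w c)) (base c)
    rw [show rhoOn F hQ le_rfl (w c) • base c = c from hw c] at hv
    exact ⟨v, hv⟩
  choose v hv using hv
  have hfix : ∀ (u : normalizerIn S Q) (c : Cos F hQ),
      ((w (u • c))⁻¹ * u * w c) • base c = base c := fun u c => by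
    rw [mul_smul, mul_smul, hw, inv_smul_eq_iff]
    conv_lhs => rw [← hw (u • c)]
    rw [hb]
  let fb : (b : Cos F hQ) → (u : normalizerIn S Q) → u • b = b → normalizerIn S Q :=
    fun b u hu => ⟨f b u, by
      have h1 := (hf b).apply_mem_normalizerIn (le_stab F hQ le_rfl (le_normalizerIn hQ) b)
        ((mem_stab F hQ le_rfl b u).2 hu) u.2.2
      rwa [hfi b] at h1⟩
  have hfb : ∀ b u (hu : u • b = b), rho F hQ (fb b u hu) = b.out⁻¹ * rho F hQ u * b.out := by
    intro b u hu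
    refine ext_val F fun x => ?_
    set y : Q := (b.out : MulAut Q) x with hy
    have hyx : f b y = (x : Ω) := by
      rw [hfq b y y.2]
      show ((((b.out⁻¹ : F.autGroup Q) : MulAut Q) y : Q) : Ω) = x
      simp [hy]
    simp only [Subgroup.coe_mul, MulAut.mul_apply, rho_apply, ← hy]
    rw [← hyx]
    show f b u * f b y * (f b u)⁻¹ = _
    rw [← (hf b).map_conj ((mem_stab F hQ le_rfl b u).2 hu)
      (le_stab F hQ le_rfl (le_normalizerIn hQ) b y.2), hfq b _ ((u.2.2 _).1 y.2)]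
    rfl
  let coord : normalizerIn S Q → Cos F hQ → normalizerIn S Q := fun u c =>
    v (u • c) * fb (base c) _ (hfix u c) * (v c)⁻¹
  have hcompat : ∀ u c, rho F hQ (coord u c) =
      (rho F hQ u • c).out⁻¹ * rho F hQ u * c.out := fun u c => by
    show rho F hQ (v (u • c) * fb (base c) _ (hfix u c) * (v c)⁻¹) =
      (u • c).out⁻¹ * rho F hQ u * c.out
    rw [map_mul, map_mul, map_inv, hv, hv, hfb _ _ (hfix u c), hb]
    simp only [map_mul, map_inv]
    group
  have hmul : ∀ u u' c, coord (u * u') c = coord u (u' • c) * coord u' c := fun u u' c => by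
    apply Subtype.ext
    simp only [coord, fb, Subgroup.coe_mul, Subgroup.coe_inv, mul_smul, hb]
    have h1 := (mem_stab F hQ le_rfl (base c) _).2 (hfix u (u' • c) |>.trans (hb u' c) |> fun h => by
      rw [hb] at h; exact h)
    have h2 := (mem_stab F hQ le_rfl (base c) _).2 (hfix u' c)
    have h3 : ((((w (u • u' • c))⁻¹ * (u * u') * w c : normalizerIn S Q)) : Ω) =
        ((w (u • u' • c))⁻¹ * u * w (u' • c) : normalizerIn S Q) *
          ((w (u' • c))⁻¹ * u' * w c : normalizerIn S Q) := by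
      simp only [Subgroup.coe_mul, Subgroup.coe_inv]
      group
    simp only [Subgroup.coe_mul, Subgroup.coe_inv] at h1 h2 h3
    rw [h3, (hf (base c)).map_mul h1 h2]
    group
  refine ⟨MonoidHom.mk' (fun u => (⟨rho F hQ u, coord u, hcompat u⟩ : Lift F hQ))
    fun u u' => Lift.ext' (map_mul (rho F hQ) u u') fun c => hmul u u' c, ⟨fun u => rfl, ?_, ?_⟩⟩
  · intro q
    set qR : normalizerIn S Q := ⟨q, le_normalizerIn hQ q.2⟩ with hqR
    refine Lift.ext' rfl fun c => ?_
    show coord qR c = pull F hQ q c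
    have hqc : qR • c = c := rho_smul_fix F hQ q c
    apply Subtype.ext
    simp only [coord, fb, hqc, Subgroup.coe_mul, Subgroup.coe_inv]
    have hxQ : (w c : Ω)⁻¹ * q * (w c : Ω) ∈ Q :=
      (Subgroup.mem_normalizer_iff''.1 (w c).2.2 (q : Ω)).1 q.2
    rw [hfq (base c) _ hxQ]
    show (v c : Ω) * ((((base c).out⁻¹ : F.autGroup Q) : MulAut Q) ⟨_, hxQ⟩ : Q).1 * (v c : Ω)⁻¹ =
      ((((c.out⁻¹ : F.autGroup Q) : MulAut Q) q : Q) : Ω)
    rw [← rho_apply F hQ (v c), hv c]
    have e : ((((w c) : normalizerIn S Q)) : Ω) * ((w c : Ω)⁻¹ * q * (w c : Ω)) * (w c : Ω)⁻¹ =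
        q := by group
    have e' : ((rho F hQ (w c) : F.autGroup Q) : MulAut Q) ⟨_, hxQ⟩ = q := Subtype.ext e
    simp [MulAut.mul_apply, e']
  · intro c
    have hw1 := isMap_conj F ((stab_le F hQ le_rfl c).trans inf_le_left) (S.inv_mem (w c).2.1)
    have hv1 := isMap_conj F (le_refl S) (v c).2.1
    have hmem : ∀ x ∈ stab F hQ le_rfl c,
        (w c : Ω)⁻¹ * x * (w c : Ω)⁻¹⁻¹ ∈ stab F hQ le_rfl (base c) := by
      rintro _ ⟨u, hu, rfl⟩
      have hu' : u • c = c := hu
      have h1 := (mem_stab F hQ le_rfl (base c) _).2 (hfix u c)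
      rw [hu'] at h1
      simpa using h1
    refine ⟨_, (hw1.comp (hf (base c)) hmem).comp hv1 fun x hx => (hf _).mem (hmem x hx),
      fun u hu => ?_⟩
    have hu' : u • c = c := hu
    show (v c : Ω) * f (base c) ((w c : Ω)⁻¹ * u * (w c : Ω)⁻¹⁻¹) * (v c : Ω)⁻¹ = (coord u c : Ω)
    simp only [coord, fb, hu', Subgroup.coe_mul, Subgroup.coe_inv, inv_inv]

end Hyp

end CfsgLib.Fusion.Model
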