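import Cfsg.Agent.Lib.Fusion.Centric
import Cfsg.Agent.Lib.Fusion.Normal

/-!
Models, the construction.  For a fully normalized centric subgroup `Q` of a saturated system `F`
over `S` we build a group `Grp` with an embedding of `N_S(Q)`: the quotient of the group of
monomial lifts of `Aut_F(Q)` (functions on the cosets of `Aut_S(Q)` with values in `N_S(Q)`) by
the kernel of the transfer to `Z(Q)`.

This file holds the parts that do not use saturation.
-/

set_option autoImplicit false
set_option linter.style.haveILetI false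
set_option linter.unusedVariables false
set_option linter.unusedSectionVars false

namespace CfsgLib.Fusion.Model

open Cfsg Cfsg.FusionSystem Subgroup CfsgLib.Fusion

universe u

variable {Ω : Type u} [Group Ω] {S : Subgroup Ω} (F : FusionSystem S) {Q : Subgroup Ω}
  (hQ : Q ≤ S)

/-- The action of `N_S(Q)` on `Q`, as elements of `Aut_F(Q)`. -/
def rho : normalizerIn S Q →* F.autGroup Q :=
  (Q.normalizerMonoidHom.comp (Subgroup.inclusion inf_le_right)).codRestrict _ fun a =>
    autInducedBy_le_autGroup hQ (mem_autInducedBy_iff.2 ⟨a, a.2.1, fun x => rfl⟩)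

theorem rho_apply (u : normalizerIn S Q) (x : Q) :
    ((((rho F hQ u : F.autGroup Q) : MulAut Q) x : Q) : Ω) = (u : Ω) * x * (u : Ω)⁻¹ := rfl

/-- The cosets of `Aut_S(Q)` in `Aut_F(Q)`. -/
abbrev Cos : Type u := ↥(F.autGroup Q) ⧸ (rho F hQ).range

theorem ext_val {a b : F.autGroup Q} (h : ∀ x : Q, (((a : MulAut Q) x : Q) : Ω) =
    (((b : MulAut Q) x : Q) : Ω)) : a = b :=
  Subtype.ext (MulEquiv.ext fun x => Subtype.ext (h x))

/-- A monomial lift of an element of `Aut_F(Q)`. -/
structure Lift : Type u where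
  /-- the automorphism of `Q` -/
  aut : F.autGroup Q
  /-- the coordinates -/
  coord : Cos F hQ → normalizerIn S Q
  compat : ∀ c, rho F hQ (coord c) = (aut • c).out⁻¹ * aut * c.out

namespace Lift

variable {F hQ}

theorem ext' {e e' : Lift F hQ} (h₁ : e.aut = e'.aut) (h₂ : ∀ c, e.coord c = e'.coord c) :
    e = e' := by
  cases e
  cases e'
  simp only at h₁ h₂
  subst h₁
  simp [funext h₂]

instance instMul : Mul (Lift F hQ) where
  mul e e' :=
    ⟨e.aut * e'.aut, fun c => e.coord (e'.aut • c) * e'.coord c, fun c => by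
      rw [map_mul, e.compat, e'.compat, smul_smul]
      group⟩

instance instOne : One (Lift F hQ) where
  one := ⟨1, fun _ => 1, fun c => by rw [map_one, one_smul]; group⟩

instance instInv : Inv (Lift F hQ) where
  inv e := ⟨e.aut⁻¹, fun c => (e.coord (e.aut⁻¹ • c))⁻¹, fun c => by
    rw [map_inv, e.compat, smul_inv_smul]
    group⟩

theorem mul_aut (e e' : Lift F hQ) : (e * e').aut = e.aut * e'.aut := rfl

theorem mul_coord (e e' : Lift F hQ) (c : Cos F hQ) :
    (e * e').coord c = e.coord (e'.aut • c) * e'.coord c := rfl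

theorem one_aut : (1 : Lift F hQ).aut = 1 := rfl

theorem one_coord (c : Cos F hQ) : (1 : Lift F hQ).coord c = 1 := rfl

theorem inv_aut (e : Lift F hQ) : e⁻¹.aut = e.aut⁻¹ := rfl

theorem inv_coord (e : Lift F hQ) (c : Cos F hQ) :
    e⁻¹.coord c = (e.coord (e.aut⁻¹ • c))⁻¹ := rfl

instance instGroup : Group (Lift F hQ) where
  mul_assoc a b c := ext' (mul_assoc _ _ _) fun x => by
    simp only [mul_coord, mul_aut, mul_smul, mul_assoc]
  one_mul a := ext' (one_mul _) fun x => by simp only [mul_coord, one_coord, one_mul]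
  mul_one a := ext' (mul_one _) fun x => by
    simp only [mul_coord, one_coord, one_aut, one_smul, mul_one]
  inv_mul_cancel a := ext' (inv_mul_cancel _) fun x => by
    simp only [mul_coord, inv_coord, one_coord, inv_smul_smul, inv_mul_cancel]

/-- The automorphism component, as a homomorphism. -/
def autHom (F : FusionSystem S) (hQ : Q ≤ S) : Lift F hQ →* F.autGroup Q where
  toFun e := e.aut
  map_one' := rfl
  map_mul' _ _ := rfl

end Lift

theorem exists_rho_eq (a : F.autGroup Q) (c : Cos F hQ) :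
    ∃ u : normalizerIn S Q, rho F hQ u = (a • c).out⁻¹ * a * c.out := by
  have h : (a • c).out⁻¹ * (a * c.out) ∈ (rho F hQ).range := by
    rw [← QuotientGroup.eq, QuotientGroup.out_eq']
    conv_lhs => rw [← QuotientGroup.out_eq' c]
    rfl
  rw [← mul_assoc] at h
  exact h

theorem autHom_surjective : Function.Surjective (Lift.autHom F hQ) := fun a => by
  choose u hu using exists_rho_eq F hQ a
  exact ⟨⟨a, u, hu⟩, rfl⟩

/-- An element of `Q`, read through the representative of a coset. -/
noncomputable def pull (q : Q) (c : Cos F hQ) : normalizerIn S Q :=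
  ⟨((((c.out⁻¹ : F.autGroup Q) : MulAut Q) q : Q) : Ω),
    le_normalizerIn hQ (SetLike.coe_mem _)⟩

theorem rho_mul_out (q : Q) (c : Cos F hQ) :
    rho F hQ ⟨q, le_normalizerIn hQ q.2⟩ * c.out = c.out * rho F hQ (pull F hQ q c) := by
  refine ext_val F fun x => ?_
  simp only [Subgroup.coe_mul, MulAut.mul_apply, rho_apply]
  have h1 : ((c.out : F.autGroup Q) : MulAut Q)
      ((((c.out⁻¹ : F.autGroup Q) : MulAut Q) q) * x *
        (((c.out⁻¹ : F.autGroup Q) : MulAut Q) q)⁻¹) =
      q * ((c.out : F.autGroup Q) : MulAut Q) x * q⁻¹ := by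
    simp [map_mul, map_inv]
  exact (congrArg Subtype.val h1).symm

theorem rho_smul_fix (q : Q) (c : Cos F hQ) :
    rho F hQ ⟨q, le_normalizerIn hQ q.2⟩ • c = c := by
  conv_lhs => rw [← QuotientGroup.out_eq' c]
  have h : rho F hQ ⟨q, le_normalizerIn hQ q.2⟩ • (QuotientGroup.mk c.out : Cos F hQ) =
      QuotientGroup.mk (rho F hQ ⟨q, le_normalizerIn hQ q.2⟩ * c.out) := rfl
  rw [h, rho_mul_out, QuotientGroup.mk_mul_of_mem _ (show rho F hQ (pull F hQ q c) ∈
    (rho F hQ).range from ⟨_, rfl⟩), QuotientGroup.out_eq']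

/-- The diagonal lift of an element of `Q`. -/
noncomputable def diag : Q →* Lift F hQ where
  toFun q :=
    { aut := rho F hQ ⟨q, le_normalizerIn hQ q.2⟩
      coord := fun c => pull F hQ q c
      compat := fun c => by
        rw [rho_smul_fix, mul_assoc, rho_mul_out, inv_mul_cancel_left] }
  map_one' := Lift.ext' (map_one _) fun c => by
    apply Subtype.ext
    show ((((c.out⁻¹ : F.autGroup Q) : MulAut Q) 1 : Q) : Ω) = 1
    simp
  map_mul' q q' := by
    refine Lift.ext' (map_mul (rho F hQ) ⟨q, le_normalizerIn hQ q.2⟩ ⟨q', le_normalizerIn hQ q'.2⟩)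
      fun c => ?_
    show pull F hQ (q * q') c = pull F hQ q (rho F hQ ⟨q', le_normalizerIn hQ q'.2⟩ • c) *
      pull F hQ q' c
    rw [rho_smul_fix]
    apply Subtype.ext
    show ((((c.out⁻¹ : F.autGroup Q) : MulAut Q) (q * q') : Q) : Ω) = _
    rw [map_mul]
    rfl

theorem rho_self_smul (q : Q) (c : Cos F hQ) : (diag F hQ q).aut • c = c :=
  rho_smul_fix F hQ q c

/-- Conjugation of a diagonal lift. -/
theorem conj_diag (e : Lift F hQ) (q : Q) :
    e * diag F hQ q * e⁻¹ = diag F hQ ((e.aut : MulAut Q) q) := by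
  refine Lift.ext' ?_ fun c => ?_
  · refine ext_val F fun x => ?_
    show (((e.aut : MulAut Q) (((rho F hQ ⟨q, le_normalizerIn hQ q.2⟩ : F.autGroup Q) : MulAut Q)
      (((e.aut⁻¹ : F.autGroup Q) : MulAut Q) x)) : Q) : Ω) = _
    have h1 : (e.aut : MulAut Q) (q * (((e.aut⁻¹ : F.autGroup Q) : MulAut Q) x) * q⁻¹) =
        (e.aut : MulAut Q) q * x * ((e.aut : MulAut Q) q)⁻¹ := by
      simp [map_mul, map_inv, Subgroup.coe_inv]
    exact congrArg Subtype.val h1
  · apply Subtype.ext
    simp only [Lift.mul_coord, Lift.inv_coord, Lift.inv_aut, rho_self_smul, Subgroup.coe_mul,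
      Subgroup.coe_inv]
    set c' := e.aut⁻¹ • c with hc'
    have hc : c = e.aut • c' := by rw [hc', smul_inv_smul]
    show (e.coord c' : Ω) * ((((c'.out⁻¹ : F.autGroup Q) : MulAut Q) q : Q) : Ω) *
      (e.coord c' : Ω)⁻¹ = ((((c.out⁻¹ : F.autGroup Q) : MulAut Q) ((e.aut : MulAut Q) q) : Q) : Ω)
    rw [← rho_apply F hQ (e.coord c'), e.compat c', ← hc]
    simp [MulAut.mul_apply, Subgroup.coe_inv]

/-- The centre of `Q`, as a subgroup of `Q`. -/
abbrev cen (Q : Subgroup Ω) : Subgroup Q := Subgroup.center Q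

theorem apply_mem_center {G : Type*} [Group G] (α : MulAut G) {z : G}
    (hz : z ∈ Subgroup.center G) : α z ∈ Subgroup.center G := by
  rw [Subgroup.mem_center_iff] at *
  intro g
  obtain ⟨h, rfl⟩ := α.surjective g
  rw [← map_mul, ← map_mul, hz h]

/-- The action of `Aut_F(Q)` on `Z(Q)`. -/
def act (a : F.autGroup Q) : cen Q →* cen Q :=
  (((a : MulAut Q).toMonoidHom).comp (cen Q).subtype).codRestrict _ fun z =>
    apply_mem_center _ z.2

theorem act_apply (a : F.autGroup Q) (z : cen Q) :
    ((act F a z : cen Q) : Q) = (a : MulAut Q) z := rfl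

theorem act_mul (a b : F.autGroup Q) (z : cen Q) : act F (a * b) z = act F a (act F b z) := rfl

theorem act_one (z : cen Q) : act F 1 z = z := rfl

end CfsgLib.Fusion.Model
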