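import Cfsg.Agent.Lib.Fusion.ModelGroup
import Mathlib.GroupTheory.Index
import Mathlib.Algebra.BigOperators.Pi
import Mathlib.GroupTheory.Subgroup.Center

/-!
Models, the construction: the transfer to the centre and the quotient group.
-/

set_option autoImplicit false
set_option linter.style.haveILetI false
set_option linter.unusedVariables false
set_option linter.unusedSectionVars false

namespace CfsgLib.Fusion.Model

open Cfsg Cfsg.FusionSystem Subgroup CfsgLib.Fusion
open scoped IsMulCommutative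

universe u

variable {Ω : Type u} [Group Ω] {S : Subgroup Ω} [Finite S] (F : FusionSystem S) {Q : Subgroup Ω}
  (hQ : Q ≤ S)

theorem finite_cos : Finite (Cos F hQ) := by
  haveI := finite_of_le hQ
  infer_instance

/-- The cosets form a fintype. -/
@[instance_reducible]
noncomputable def cosFintype : Fintype (Cos F hQ) :=
  haveI := finite_cos F hQ
  Fintype.ofFinite _

attribute [local instance] cosFintype

/-- `Z(Q)` inside `N_S(Q)`. -/
def cenIncl : cen Q →* normalizerIn S Q :=
  (Subgroup.inclusion (le_normalizerIn hQ)).comp (cen Q).subtype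

theorem rho_cenIncl (z : cen Q) : rho F hQ (cenIncl hQ z) = 1 := by
  refine ext_val F fun x => ?_
  show ((z : Q) : Ω) * (x : Ω) * ((z : Q) : Ω)⁻¹ = x
  have h : ((z : Q) : Ω) * x = x * ((z : Q) : Ω) :=
    congrArg Subtype.val (Subgroup.mem_center_iff.1 z.2 x).symm
  rw [h, mul_inv_cancel_right]

/-- A family of central elements, as a lift of the identity. -/
def kerLift : (Cos F hQ → cen Q) →* Lift F hQ where
  toFun r :=
    { aut := 1
      coord := fun c => cenIncl hQ (r c)
      compat := fun c => by rw [rho_cenIncl, one_smul]; group }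
  map_one' := Lift.ext' rfl fun c => map_one (cenIncl hQ)
  map_mul' r r' := Lift.ext' (one_mul _).symm fun c => by
    show cenIncl hQ (r c * r' c) = cenIncl hQ (r ((1 : F.autGroup Q) • c)) * cenIncl hQ (r' c)
    rw [one_smul, map_mul]

theorem kerLift_injective : Function.Injective (kerLift F hQ) := fun r r' h => funext fun c => by
  have h1 := congrArg (fun e : Lift F hQ => ((e.coord c : normalizerIn S Q) : Ω)) h
  exact Subtype.ext (Subtype.ext h1)

/-- The transfer to `Z(Q)`. -/
noncomputable def tau : (Cos F hQ → cen Q) →* cen Q where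
  toFun r := ∏ c, act F c.out (r c)
  map_one' := by simp
  map_mul' r r' := by simp [map_mul, Finset.prod_mul_distrib]

theorem act_prod {ι : Type*} (s : Finset ι) (a : F.autGroup Q) (f : ι → cen Q) :
    act F a (∏ i ∈ s, f i) = ∏ i ∈ s, act F a (f i) := map_prod _ _ _

theorem conj_kerLift (e : Lift F hQ) (r : Cos F hQ → cen Q) :
    e * kerLift F hQ r * e⁻¹ = kerLift F hQ
      fun c => act F (rho F hQ (e.coord (e.aut⁻¹ • c))) (r (e.aut⁻¹ • c)) := by
  refine Lift.ext' ?_ fun c => ?_
  · show e.aut * 1 * e.aut⁻¹ = 1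
    group
  · apply Subtype.ext
    simp only [Lift.mul_coord, Lift.inv_coord, Lift.inv_aut]
    show (e.coord ((1 : F.autGroup Q) • e.aut⁻¹ • c) : Ω) * ((r (e.aut⁻¹ • c) : Q) : Ω) *
      ((e.coord (e.aut⁻¹ • c) : Ω))⁻¹ = _
    rw [one_smul, ← rho_apply F hQ (e.coord (e.aut⁻¹ • c))]
    rfl

theorem tau_conj (e : Lift F hQ) (r : Cos F hQ → cen Q) :
    tau F hQ (fun c => act F (rho F hQ (e.coord (e.aut⁻¹ • c))) (r (e.aut⁻¹ • c))) =
      act F e.aut (tau F hQ r) := by
  show ∏ c, act F c.out (act F (rho F hQ (e.coord (e.aut⁻¹ • c))) (r (e.aut⁻¹ • c))) =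
    act F e.aut (∏ c, act F c.out (r c))
  rw [act_prod]
  refine (Fintype.prod_equiv (MulAction.toPerm e.aut) _ _ fun c => ?_).symm
  simp only [MulAction.toPerm_apply, inv_smul_smul]
  rw [← act_mul, ← act_mul, e.compat]
  congr 2
  group

/-- The kernel of the transfer, as a normal subgroup of the lifts. -/
noncomputable def tauKer : Subgroup (Lift F hQ) := (tau F hQ).ker.map (kerLift F hQ)

instance tauKer_normal : (tauKer F hQ).Normal where
  conj_mem := by
    rintro _ ⟨r, hr, rfl⟩ e
    rw [conj_kerLift]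
    refine ⟨_, ?_, rfl⟩
    rw [SetLike.mem_coe, MonoidHom.mem_ker, tau_conj, MonoidHom.mem_ker.1 hr, map_one]

/-- The group of the model. -/
abbrev Grp : Type u := Lift F hQ ⧸ tauKer F hQ

/-- The projection of the model group onto `Aut_F(Q)`. -/
noncomputable def proj : Grp F hQ →* F.autGroup Q :=
  QuotientGroup.lift _ (Lift.autHom F hQ) <| by
    rintro _ ⟨r, -, rfl⟩
    exact MonoidHom.mem_ker.2 rfl

theorem proj_mk (e : Lift F hQ) : proj F hQ (QuotientGroup.mk e) = e.aut := rfl

theorem proj_surjective : Function.Surjective (proj F hQ) := fun a => by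
  obtain ⟨e, rfl⟩ := autHom_surjective F hQ a
  exact ⟨QuotientGroup.mk e, rfl⟩

/-- `Q` inside the model group. -/
noncomputable def qIncl : Q →* Grp F hQ :=
  (QuotientGroup.mk' (tauKer F hQ)).comp (diag F hQ)

theorem conj_qIncl (g : Grp F hQ) (q : Q) :
    g * qIncl F hQ q * g⁻¹ = qIncl F hQ ((proj F hQ g : MulAut Q) q) := by
  obtain ⟨e, rfl⟩ := QuotientGroup.mk'_surjective _ g
  show QuotientGroup.mk' _ e * QuotientGroup.mk' _ (diag F hQ q) * (QuotientGroup.mk' _ e)⁻¹ = _
  rw [← map_inv, ← map_mul, ← map_mul, conj_diag]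
  rfl

theorem qIncl_range_normal : (qIncl F hQ).range.Normal where
  conj_mem := by
    rintro _ ⟨q, rfl⟩ g
    exact ⟨_, (conj_qIncl F hQ g q).symm⟩

theorem diag_center (z : cen Q) :
    diag F hQ (z : Q) = kerLift F hQ (fun c => act F c.out⁻¹ z) :=
  Lift.ext' (rho_cenIncl F hQ z) fun c => rfl

theorem tau_const (z : cen Q) :
    tau F hQ (fun c => act F c.out⁻¹ z) = z ^ Nat.card (Cos F hQ) := by
  show (∏ c : Cos F hQ, act F c.out (act F c.out⁻¹ z)) = _
  simp [← act_mul, act_one, Nat.card_eq_fintype_card]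

section Hyp

variable {p : ℕ} [Fact p.Prime] (hS : IsPGroup p S) (hsat : F.IsSaturated p)
  (hcen : F.IsCentric Q) (hn : F.IsFullyNormalized Q)

include hS hsat hn in
theorem not_dvd_card_cos : ¬ p ∣ Nat.card (Cos F hQ) := by
  haveI := finite_of_le hQ
  obtain ⟨T, hT⟩ := (fullyAutomized_of_fullyNormalized hS hsat hn).2
  have he : (rho F hQ).range = (autInducedBy S Q).subgroupOf (F.autGroup Q) := by
    ext a
    rw [Subgroup.mem_subgroupOf, mem_autInducedBy_iff]
    constructor
    · rintro ⟨u, rfl⟩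
      exact ⟨u, u.2.1, fun x => rfl⟩
    · rintro ⟨g, hg, hgx⟩
      exact ⟨⟨g, hg, mem_normalizer_of_aut hgx⟩, ext_val F fun x => (hgx x).symm⟩
  rw [← hT] at he
  have h := T.not_dvd_index
  rwa [← he] at h

include hS in
theorem coprime_cen (h : ¬ p ∣ Nat.card (Cos F hQ)) :
    (Nat.card (cen Q)).Coprime (Nat.card (Cos F hQ)) := by
  haveI := finite_of_le hQ
  obtain ⟨k, hk⟩ := IsPGroup.iff_card.1 ((hS.to_le hQ).to_subgroup (cen Q))
  rw [hk]
  exact Nat.Coprime.pow_left k ((Fact.out : p.Prime).coprime_iff_not_dvd.2 h)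

include hS hsat hn in
theorem cen_pow_bijective : Function.Bijective (fun z : cen Q => z ^ Nat.card (Cos F hQ)) :=
  haveI := finite_of_le hQ
  (powCoprime (coprime_cen F hQ hS (not_dvd_card_cos F hQ hS hsat hn))).bijective

include hS hsat hn in
theorem tau_surjective : Function.Surjective (tau F hQ) := fun z => by
  obtain ⟨w, hw⟩ := (cen_pow_bijective F hQ hS hsat hn).2 z
  exact ⟨_, (tau_const F hQ w).trans hw⟩

include hcen in
theorem exists_cen_of_rho_eq_one {v : normalizerIn S Q} (h : rho F hQ v = 1) :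
    ∃ z : cen Q, cenIncl hQ z = v := by
  have hc : (v : Ω) ∈ centralizerIn S Q := by
    refine ⟨v.2.1, fun x hx => ?_⟩
    have h1 := rho_apply F hQ v ⟨x, hx⟩
    rw [h] at h1
    have h2 : x = (v : Ω) * x * (v : Ω)⁻¹ := h1
    calc x * (v : Ω) = (v : Ω) * x * (v : Ω)⁻¹ * v := by rw [← h2]
      _ = (v : Ω) * x := by group
  refine ⟨⟨⟨v, hcen.2 Q (isConj_refl hQ) hc⟩, ?_⟩, rfl⟩
  exact Subgroup.mem_center_iff.2 fun x => Subtype.ext (hc.2 x x.2)

include hcen in
theorem exists_kerLift {e : Lift F hQ} (h : e.aut = 1) : ∃ r, kerLift F hQ r = e := by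
  have hc : ∀ c, ∃ z : cen Q, cenIncl hQ z = e.coord c := fun c =>
    exists_cen_of_rho_eq_one F hQ hcen <| by rw [e.compat c, h, one_smul]; group
  choose r hr using hc
  exact ⟨r, Lift.ext' h.symm hr⟩

include hS hsat hn hcen in
theorem proj_ker : (proj F hQ).ker = (cen Q).map (qIncl F hQ) := by
  ext g
  constructor
  · intro hg
    obtain ⟨e, rfl⟩ := QuotientGroup.mk'_surjective _ g
    obtain ⟨r, rfl⟩ := exists_kerLift F hQ hcen (e := e) hg
    obtain ⟨w, hw⟩ := (cen_pow_bijective F hQ hS hsat hn).2 (tau F hQ r)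
    refine ⟨w, w.2, QuotientGroup.eq.2 ?_⟩
    rw [diag_center, ← map_inv, ← map_mul]
    refine ⟨_, ?_, rfl⟩
    rw [SetLike.mem_coe, MonoidHom.mem_ker, map_mul, map_inv, tau_const]
    exact inv_mul_eq_one.2 hw
  · rintro ⟨z, hz, rfl⟩
    exact rho_cenIncl F hQ ⟨z, hz⟩

include hS hsat hn in
theorem qIncl_eq_one {z : Q} (hz : z ∈ cen Q) (h : qIncl F hQ z = 1) : z = 1 := by
  obtain ⟨r, hr, hre⟩ := (QuotientGroup.eq_one_iff _).1 h
  rw [diag_center F hQ ⟨z, hz⟩] at hre
  rw [kerLift_injective F hQ hre, SetLike.mem_coe, MonoidHom.mem_ker, tau_const] at hr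
  have h1 : (⟨z, hz⟩ : cen Q) = 1 := (cen_pow_bijective F hQ hS hsat hn).1 (by simpa using hr)
  exact congrArg Subtype.val h1

end Hyp

end CfsgLib.Fusion.Model
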