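import Cfsg.Agent.Lib.Fusion.ModelMain
import Cfsg.Agent.Lib.Fusion.ModelBasic

/-!
Models, uniqueness: a realizing group with `Q` normal and self-centralizing is isomorphic to the
constructed model group.
-/

set_option autoImplicit false
set_option linter.style.haveILetI false
set_option linter.unusedVariables false
set_option linter.unusedSectionVars false

namespace CfsgLib.Fusion.Model

open Cfsg Cfsg.FusionSystem Subgroup CfsgLib.Fusion

universe u v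

variable {Ω : Type u} [Group Ω] {S : Subgroup Ω} [Finite S] (F : FusionSystem S) {Q : Subgroup Ω}
  (hQ : Q ≤ S) {G : Type v} [Group G] [Finite G] {ι : S →* G} {p : ℕ} [Fact p.Prime]

theorem exists_iso_grp (hS : IsPGroup p S) (hsat : F.IsSaturated p) (hcen : F.IsCentric Q)
    (hQn : F.IsNormal Q) (hr : F.IsRealizedBy ι) (hM : ((Q.subgroupOf S).map ι).Normal)
    (hc : Subgroup.centralizer (((Q.subgroupOf S).map ι : Subgroup G) : Set G) ≤
      (Q.subgroupOf S).map ι) :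
    ∃ θA : normalizerIn S Q →* Lift F hQ, IsAdm F hQ le_rfl (le_normalizerIn hQ) θA ∧
      ∃ Φ : G ≃* Grp F hQ, ∀ (x : S) (hx : (x : Ω) ∈ normalizerIn S Q),
        Φ (ι x) = emb F hQ θA ⟨x, hx⟩ := by
  have hN := IsNormal.normalizerIn_eq hQn
  have hn := IsNormal.fullyNormalized hQn
  haveI := hM
  let M : Subgroup G := (Q.subgroupOf S).map ι
  let e : Q ≃* M :=
    (Subgroup.subgroupOfEquivOfLe hQ).symm.trans (Subgroup.equivMapOfInjective _ ι hr.1)
  have he : ∀ x : Q, (e x : G) = ι ⟨x, hQ x.2⟩ := fun x => rfl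
  let pr0 : G →* MulAut Q :=
    (MulAut.congr e.symm).toMonoidHom.comp (MulAut.conjNormal : G →* MulAut M)
  have hpr0 : ∀ (g : G) (x : Q),
      ι ⟨(pr0 g x : Q), hQ (pr0 g x).2⟩ = g * ι ⟨x, hQ x.2⟩ * g⁻¹ := fun g x => by
    rw [← he, ← he]
    show ((e (e.symm (MulAut.conjNormal g (e x))) : M) : G) = _
    rw [MulEquiv.apply_symm_apply, MulAut.conjNormal_apply]
  have hmemA : ∀ g, pr0 g ∈ F.autGroup Q := fun g => by
    obtain ⟨f, hf, hfx⟩ := realized_exists_map hr hQ g fun x hx =>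
      ⟨⟨(pr0 g ⟨x, hx⟩ : Q), hQ (pr0 g ⟨x, hx⟩).2⟩, hpr0 g ⟨x, hx⟩⟩
    refine (autGroup_iff_isMap hQ fun x => ?_).2 hf
    obtain ⟨hS', he'⟩ := hfx x x.2
    exact congrArg Subtype.val
      (hr.1 (a₁ := ⟨_, hQ (pr0 g x).2⟩) (a₂ := ⟨_, hS'⟩) ((hpr0 g x).trans he'.symm))
  let pr : G →* F.autGroup Q := pr0.codRestrict _ hmemA
  have hpr : ∀ (g : G) (x : Q), ι ⟨(((pr g : F.autGroup Q) : MulAut Q) x : Q),
      hQ (((pr g : F.autGroup Q) : MulAut Q) x).2⟩ = g * ι ⟨x, hQ x.2⟩ * g⁻¹ := hpr0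
  have hprι : ∀ (u : normalizerIn S Q), pr (ι ⟨u, u.2.1⟩) = rho F hQ u := fun u => by
    refine ext_val F fun x => ?_
    have h1 := hpr (ι ⟨u, u.2.1⟩) x
    rw [← map_inv, ← map_mul, ← map_mul] at h1
    have h2 := congrArg (fun t : S => (t : Ω)) (hr.1 h1)
    exact h2
  have hsurj : Function.Surjective pr := fun a => by
    obtain ⟨g, hg⟩ := realized_exists_elem hr (isMap_of_autGroup hQ a.2)
    refine ⟨g, ext_val F fun x => ?_⟩
    have h1 := hg x x.2 (hQ x.2)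
      (by rw [toFun_aut_apply _ x.2]; exact hQ ((a : MulAut Q) x).2)
    rw [← hpr g x] at h1
    have h2 := congrArg Subtype.val (hr.1 h1)
    simp only [toFun_aut_apply _ x.2] at h2
    exact h2.symm
  have hker : ∀ g, pr g = 1 → ∃ z : cen Q, ι ⟨(z : Q), hQ (z : Q).2⟩ = g := fun g hg => by
    have h1 : g ∈ Subgroup.centralizer (M : Set G) := by
      rintro _ ⟨s, hs, rfl⟩
      have h2 := hpr g ⟨s, hs⟩
      rw [hg] at h2
      replace h2 : ι s = g * ι s * g⁻¹ := h2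
      calc ι s * g = g * ι s * g⁻¹ * g := by rw [← h2]
        _ = g * ι s := by group
    obtain ⟨z, hz, rfl⟩ := hc h1
    refine ⟨⟨⟨z, hz⟩, Subgroup.mem_center_iff.2 fun x => ?_⟩, rfl⟩
    have h3 := h1 (ι ⟨x, hQ x.2⟩) ⟨⟨x, hQ x.2⟩, x.2, rfl⟩
    rw [← map_mul, ← map_mul] at h3
    exact Subtype.ext (congrArg (fun t : S => (t : Ω)) (hr.1 h3))
  have hrange : ∀ g, pr g ∈ (rho F hQ).range →
      ∃ u : normalizerIn S Q, ι ⟨u, u.2.1⟩ = g := fun g hg => by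
    obtain ⟨v, hv⟩ := hg
    obtain ⟨z, hz⟩ := hker ((ι ⟨v, v.2.1⟩)⁻¹ * g)
      (by rw [map_mul, map_inv, hprι, hv, inv_mul_cancel])
    refine ⟨v * cenIncl hQ z, ?_⟩
    rw [show (⟨((v * cenIncl hQ z : normalizerIn S Q) : Ω), (v * cenIncl hQ z).2.1⟩ : S) =
      ⟨v, v.2.1⟩ * ⟨(z : Q), hQ (z : Q).2⟩ from rfl, map_mul, hz, mul_inv_cancel_left]
  choose t ht using fun c : Cos F hQ => hsurj c.out
  have hco : ∀ g c, ∃ u : normalizerIn S Q, ι ⟨u, u.2.1⟩ = (t (pr g • c))⁻¹ * g * t c :=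
    fun g c => hrange _ <| by
      rw [map_mul, map_mul, map_inv, ht, ht]
      exact exists_rho_eq F hQ (pr g) c
  choose co hco using hco
  have hιinj : ∀ {u v : normalizerIn S Q}, ι ⟨u, u.2.1⟩ = ι ⟨v, v.2.1⟩ → u = v := fun h =>
    Subtype.ext (congrArg (fun t : S => (t : Ω)) (hr.1 h))
  let Ψ : G →* Lift F hQ := MonoidHom.mk' (fun g => (⟨pr g, co g, fun c => by
      rw [← hprι, hco, map_mul, map_mul, map_inv, ht, ht]⟩ : Lift F hQ)) fun g h => by
    refine Lift.ext' (map_mul pr g h) fun c => hιinj ?_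
    have e1 : ι ⟨co (g * h) c, (co (g * h) c).2.1⟩ =
        ι (⟨co g (pr h • c), (co g (pr h • c)).2.1⟩ * ⟨co h c, (co h c).2.1⟩) := by
      rw [map_mul ι, hco, hco, hco, map_mul, mul_smul]
      group
    exact e1
  let θA : normalizerIn S Q →* Lift F hQ :=
    Ψ.comp (ι.comp (Subgroup.inclusion (inf_le_left : normalizerIn S Q ≤ S)))
  have hθ : IsAdm F hQ le_rfl (le_normalizerIn hQ) θA := by
    refine ⟨fun u => hprι u, fun q => Lift.ext' (hprι _) fun c => hιinj ?_, fun c => ?_⟩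
    · show ι ⟨co (ι ⟨q, _⟩) c, _⟩ = _
      rw [hco, hprι ⟨q, le_normalizerIn hQ q.2⟩, rho_smul_fix]
      have h1 := hpr (t c)⁻¹ q
      rw [map_inv, ht, inv_inv] at h1
      exact h1.symm
    · have hle : stab F hQ (le_refl (normalizerIn S Q)) c ≤ S :=
        (stab_le F hQ le_rfl c).trans inf_le_left
      have hcov : ∀ (u : normalizerIn S Q), rho F hQ u • c = c →
          ι ⟨co (ι ⟨u, u.2.1⟩) c, (co (ι ⟨u, u.2.1⟩) c).2.1⟩ =
            (t c)⁻¹ * ι ⟨u, u.2.1⟩ * (t c)⁻¹⁻¹ := fun u hu => by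
        rw [hco, hprι, hu, inv_inv]
      obtain ⟨f, hf, hfx⟩ := realized_exists_map hr hle (t c)⁻¹ fun x hx => by
        obtain ⟨u, hu, rfl⟩ := hx
        exact ⟨_, hcov u hu⟩
      refine ⟨f, hf, fun u hu => ?_⟩
      obtain ⟨hS', he'⟩ := hfx u ((mem_stab F hQ le_rfl c u).2 hu)
      exact congrArg (fun s : S => (s : Ω))
        (hr.1 (a₁ := ⟨_, hS'⟩) (a₂ := ⟨co (ι ⟨u, u.2.1⟩) c, (co (ι ⟨u, u.2.1⟩) c).2.1⟩)
          (he'.trans (hcov u hu).symm))
  refine ⟨θA, hθ, ?_⟩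
  let Φ : G →* Grp F hQ := (QuotientGroup.mk' (tauKer F hQ)).comp Ψ
  have hΦι : ∀ (x : S) (hx : (x : Ω) ∈ normalizerIn S Q), Φ (ι x) = emb F hQ θA ⟨x, hx⟩ :=
    fun x hx => rfl
  have hinj : Function.Injective Φ := (injective_iff_map_eq_one _).2 fun g hg => by
    have h1 : pr g = 1 := (congrArg (proj F hQ) hg).trans (map_one _)
    obtain ⟨z, rfl⟩ := hker g h1
    rw [hΦι _ (le_normalizerIn hQ (z : Q).2), emb_q F hQ hθ (z : Q)] at hg
    have h2 : (z : Q) = 1 := qIncl_eq_one F hQ hS hsat hn z.2 hg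
    simp only [h2]
    exact map_one ι
  have hsurjΦ : Function.Surjective Φ := fun y => by
    obtain ⟨g, hg⟩ := hsurj (proj F hQ y)
    have h1 : (Φ g)⁻¹ * y ∈ (proj F hQ).ker := by
      rw [MonoidHom.mem_ker, map_mul, map_inv, show proj F hQ (Φ g) = pr g from rfl, hg,
        inv_mul_cancel]
    rw [proj_ker F hQ hS hsat hcen hn] at h1
    obtain ⟨z, -, hz⟩ := h1
    refine ⟨g * ι ⟨z, hQ z.2⟩, ?_⟩
    rw [map_mul, hΦι _ (le_normalizerIn hQ z.2), emb_q F hQ hθ, hz, mul_inv_cancel_left]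
  exact ⟨MulEquiv.ofBijective Φ ⟨hinj, hsurjΦ⟩, hΦι⟩

end CfsgLib.Fusion.Model
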