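import Cfsg.Agent.Lib.Fusion.GroupSystem

/-!
Groups of automorphisms of an abelian `2`-group `V`: offenders and Thompson's
replacement argument (a minimal offender acts quadratically).
-/

set_option autoImplicit false
set_option linter.style.haveILetI false
set_option linter.unusedVariables false
set_option linter.unusedSectionVars false

universe u

namespace CfsgLib.Fusion.Offender

open Subgroup CfsgLib.Fusion

variable {V : Type u} [CommGroup V]

/-- The fixed points of a set of automorphisms. -/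
def fixOf (B : Subgroup (MulAut V)) : Subgroup V where
  carrier := {v | ∀ b ∈ B, b v = v}
  one_mem' := fun b _ => map_one b
  mul_mem' := fun {v w} hv hw b hb => by rw [map_mul, hv b hb, hw b hb]
  inv_mem' := fun {v} hv b hb => by rw [map_inv, hv b hb]

/-- The fixed points modulo a subgroup. -/
def fixMod (F : Subgroup V) (B : Subgroup (MulAut V)) : Subgroup V where
  carrier := {v | ∀ b ∈ B, b v * v⁻¹ ∈ F}
  one_mem' := fun b _ => by rw [map_one, inv_one, mul_one]; exact F.one_mem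
  mul_mem' := fun {v w} hv hw b hb => by
    rw [map_mul, mul_inv, mul_mul_mul_comm]
    exact F.mul_mem (hv b hb) (hw b hb)
  inv_mem' := fun {v} hv b hb => by
    rw [map_inv, ← mul_inv]
    exact F.inv_mem (hv b hb)

theorem mem_fixOf {B : Subgroup (MulAut V)} {v : V} : v ∈ fixOf B ↔ ∀ b ∈ B, b v = v := Iff.rfl

theorem mem_fixMod {F : Subgroup V} {B : Subgroup (MulAut V)} {v : V} :
    v ∈ fixMod F B ↔ ∀ b ∈ B, b v * v⁻¹ ∈ F := Iff.rfl

theorem fixOf_le_fixMod (F : Subgroup V) (B : Subgroup (MulAut V)) : fixOf B ≤ fixMod F B :=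
  fun v hv b hb => by rw [hv b hb, mul_inv_cancel]; exact F.one_mem

theorem fixOf_anti {A B : Subgroup (MulAut V)} (h : A ≤ B) : fixOf B ≤ fixOf A :=
  fun v hv b hb => hv b (h hb)

theorem fixOf_conjSub (g : MulAut V) (B : Subgroup (MulAut V)) :
    fixOf (conjSub g B) = (fixOf B).map g.toMonoidHom := by
  ext v
  constructor
  · intro hv
    refine ⟨g⁻¹ v, fun b hb => ?_, MulAut.apply_inv_self _ g v⟩
    have h1 := hv (g * b * g⁻¹) ⟨b, hb, rfl⟩
    rw [MulAut.mul_apply, MulAut.mul_apply] at h1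
    conv_rhs => rw [← h1]
    rw [MulAut.inv_apply_self]
  · rintro ⟨w, hw, rfl⟩ _ ⟨b, hb, rfl⟩
    show g (b (g⁻¹ (g w))) = g w
    rw [MulAut.inv_apply_self, hw b hb]

theorem fixMod_conjSub {F : Subgroup V} {g : MulAut V} (hg : F.map g.toMonoidHom = F)
    (B : Subgroup (MulAut V)) :
    fixMod F (conjSub g B) = (fixMod F B).map g.toMonoidHom := by
  have hiff : ∀ w, g w ∈ F ↔ w ∈ F := fun w => by
    conv_lhs => rw [← hg]
    exact Subgroup.mem_map_iff_mem (f := g.toMonoidHom) g.injective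
  ext v
  constructor
  · intro hv
    refine ⟨g⁻¹ v, fun b hb => (hiff _).1 ?_, MulAut.apply_inv_self _ g v⟩
    have h1 := hv (g * b * g⁻¹) ⟨b, hb, rfl⟩
    rw [MulAut.mul_apply, MulAut.mul_apply] at h1
    rw [map_mul, map_inv, MulAut.apply_inv_self]
    exact h1
  · rintro ⟨w, hw, rfl⟩ _ ⟨b, hb, rfl⟩
    show g (b (g⁻¹ (g w))) * (g w)⁻¹ ∈ F
    rw [MulAut.inv_apply_self, ← map_inv, ← map_mul]
    exact (hiff _).2 (hw b hb)

/-- The automorphisms fixing a subgroup pointwise. -/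
def kerOn (U : Subgroup V) : Subgroup (MulAut V) where
  carrier := {g | ∀ u ∈ U, g u = u}
  one_mem' := fun u _ => rfl
  mul_mem' := fun {g h} hg hh u hu => by rw [MulAut.mul_apply, hh u hu, hg u hu]
  inv_mem' := fun {g} hg u hu => by
    conv_lhs => rw [← hg u hu]
    exact MulAut.inv_apply_self _ g u

/-- The automorphisms fixing an element. -/
def stabElt (x : V) : Subgroup (MulAut V) where
  carrier := {g | g x = x}
  one_mem' := rfl
  mul_mem' := fun {g h} (hg : g x = x) (hh : h x = x) => by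
    show (g * h) x = x
    rw [MulAut.mul_apply, hh, hg]
  inv_mem' := fun {g} (hg : g x = x) => by
    show g⁻¹ x = x
    conv_lhs => rw [← hg]
    exact MulAut.inv_apply_self _ g x

theorem mem_stabElt {x : V} {g : MulAut V} : g ∈ stabElt x ↔ g x = x := Iff.rfl

theorem eq_one_of_fixes_closure {s : Set V} (hs : Subgroup.closure s = ⊤) {g : MulAut V}
    (h : ∀ v ∈ s, g v = v) : g = 1 := by
  refine MulEquiv.ext fun v => ?_
  have hle : Subgroup.closure s ≤ (g.toMonoidHom.eqLocus (MonoidHom.id V)) :=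
    (Subgroup.closure_le _).2 h
  exact hle (hs ▸ Subgroup.mem_top v)

/-- A good generator: an abelian `2`-group offending on every invariant subgroup. -/
def Good (A : Subgroup (MulAut V)) : Prop :=
  IsPGroup 2 A ∧ (∀ a ∈ A, ∀ b ∈ A, a * b = b * a) ∧
    ∀ U : Subgroup V, (∀ a ∈ A, ∀ u ∈ U, a u ∈ U) →
      Nat.card U * Nat.card ↥(A ⊓ kerOn U) ≤ Nat.card A * Nat.card ↥(U ⊓ fixOf A)

/-- An offender: a nontrivial abelian `2`-group with `|V| ≤ |B| |C_V(B)|`. -/
def IsOff (B : Subgroup (MulAut V)) : Prop :=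
  IsPGroup 2 B ∧ (∀ a ∈ B, ∀ b ∈ B, a * b = b * a) ∧ B ≠ ⊥ ∧
    Nat.card V ≤ Nat.card B * Nat.card (fixOf B)

/-- A minimal offender. -/
def IsMinOff (B : Subgroup (MulAut V)) : Prop :=
  IsOff B ∧ ∀ A : Subgroup (MulAut V), A < B → ¬ IsOff A

theorem card_conjSub' (g : MulAut V) (B : Subgroup (MulAut V)) :
    Nat.card (fixOf (conjSub g B)) = Nat.card (fixOf B) := by
  rw [fixOf_conjSub, Subgroup.card_map_of_injective g.injective]

theorem IsOff.conjSub {B : Subgroup (MulAut V)} (h : IsOff B) (g : MulAut V) :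
    IsOff (CfsgLib.Fusion.conjSub g B) := by
  refine ⟨h.1.map _, ?_, fun hb => h.2.2.1 ?_, ?_⟩
  · rintro _ ⟨a, ha, rfl⟩ _ ⟨b, hb, rfl⟩
    rw [← map_mul, ← map_mul, h.2.1 a ha b hb]
  · exact (Subgroup.map_eq_bot_iff_of_injective B (MulAut.conj g).injective).1 hb
  · rw [card_conjSub, card_conjSub']
    exact h.2.2.2

theorem IsMinOff.conjSub {B : Subgroup (MulAut V)} (h : IsMinOff B) (g : MulAut V) :
    IsMinOff (CfsgLib.Fusion.conjSub g B) := by
  refine ⟨h.1.conjSub g, fun A hA hoff => h.2 (CfsgLib.Fusion.conjSub g⁻¹ A) ?_ (hoff.conjSub _)⟩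
  refine lt_of_le_of_ne ?_ fun he => hA.ne ?_
  · have := conjSub_mono (g := g⁻¹) hA.le
    rwa [← conjSub_mul, inv_mul_cancel, conjSub_one] at this
  · rw [← he, ← conjSub_mul, mul_inv_cancel, conjSub_one]

variable [Finite V]

instance finite_mulAut : Finite (MulAut V) :=
  Finite.of_injective (fun g : MulAut V => (g : V → V)) fun _ _ h => MulEquiv.ext (congrFun h)

/-- A good subgroup acting nontrivially contains a minimal offender. -/
theorem exists_isMinOff_le {A : Subgroup (MulAut V)} (hA : IsOff A) :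
    ∃ B, B ≤ A ∧ IsMinOff B := by
  obtain ⟨B, hB, hmin⟩ := Set.exists_min_image {B : Subgroup (MulAut V) | B ≤ A ∧ IsOff B}
    (fun B => Nat.card B) (Set.toFinite _) ⟨A, le_rfl, hA⟩
  refine ⟨B, hB.1, hB.2, fun C hC hoff => ?_⟩
  have h1 := hmin C ⟨hC.le.trans hB.1, hoff⟩
  exact hC.ne (Subgroup.eq_of_le_of_card_ge hC.le h1)

theorem Good.isOff {A : Subgroup (MulAut V)} (hA : Good A) (hne : A ≠ ⊥) : IsOff A := by
  refine ⟨hA.1, hA.2.1, hne, ?_⟩
  have h := hA.2.2 ⊤ fun a _ u _ => Subgroup.mem_top _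
  rw [Subgroup.card_top, top_inf_eq] at h
  refine le_trans ?_ h
  exact Nat.le_mul_of_pos_right _ Nat.card_pos

/-- A minimal offender offends on every invariant subgroup. -/
theorem IsMinOff.good {B : Subgroup (MulAut V)} (h : IsMinOff B) : Good B := by
  refine ⟨h.1.1, h.1.2.1, fun U hU => ?_⟩
  set B₀ := B ⊓ kerOn U with hB₀
  set C := fixOf B with hC
  have hprod : Nat.card U * Nat.card C = Nat.card ↥(U ⊔ C) * Nat.card ↥(U ⊓ C) := by
    have h1 := Subgroup.card_mul_index ((U ⊓ C).subgroupOf C)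
    have h2 := Subgroup.card_mul_index (U.subgroupOf (U ⊔ C))
    rw [Nat.card_congr (Subgroup.subgroupOfEquivOfLe (inf_le_right : U ⊓ C ≤ C)).toEquiv] at h1
    rw [Nat.card_congr (Subgroup.subgroupOfEquivOfLe (le_sup_left : U ≤ U ⊔ C)).toEquiv] at h2
    have h3 : (U ⊓ C).relIndex C = U.relIndex (U ⊔ C) := by
      rw [Subgroup.inf_relIndex_right, Subgroup.relIndex_sup_left]
    rw [Subgroup.relIndex, Subgroup.relIndex] at h3
    rw [← h2, ← h3]
    calc Nat.card U * Nat.card C = Nat.card U * (Nat.card ↥(U ⊓ C) * ((U ⊓ C).subgroupOf C).index) := by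
          rw [h1]
      _ = _ := by ring
  have hfix : U ⊔ C ≤ fixOf B₀ := sup_le (fun u hu b hb => hb.2 u hu) (fixOf_anti inf_le_left)
  have hcard : Nat.card ↥(U ⊔ C) * Nat.card B₀ ≤ Nat.card B * Nat.card C := by
    rcases eq_or_ne B₀ ⊥ with h0 | h0
    · rw [h0, Subgroup.card_bot, mul_one]
      exact (Subgroup.card_le_card_group _).trans h.1.2.2.2
    rcases (inf_le_left : B₀ ≤ B).eq_or_lt with h1 | h1
    · have hB : B ≤ kerOn U := fun b hb => (h1.ge hb).2
      have : U ⊔ C = C := sup_eq_right.2 fun u hu b hb => hB hb u hu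
      rw [this, mul_comm (Nat.card B), show B₀ = B from h1]
    · have hlt : Nat.card B₀ * Nat.card (fixOf B₀) < Nat.card V := by
        refine lt_of_not_ge fun hge => h.2 B₀ h1 ⟨h.1.1.to_le h1.le, fun a ha b hb => ?_, h0, hge⟩
        exact h.1.2.1 a (h1.le ha) b (h1.le hb)
      refine le_trans ?_ (hlt.le.trans h.1.2.2.2)
      rw [mul_comm]
      exact Nat.mul_le_mul le_rfl (Subgroup.card_le_of_le hfix)
  refine Nat.le_of_mul_le_mul_right ?_ (Nat.card_pos (α := C))
  calc Nat.card U * Nat.card B₀ * Nat.card C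
      = Nat.card U * Nat.card C * Nat.card B₀ := by ring
    _ = Nat.card ↥(U ⊔ C) * Nat.card B₀ * Nat.card ↥(U ⊓ C) := by rw [hprod]; ring
    _ ≤ Nat.card B * Nat.card C * Nat.card ↥(U ⊓ C) := Nat.mul_le_mul hcard le_rfl
    _ = Nat.card B * Nat.card ↥(U ⊓ C) * Nat.card C := by ring

/-- A `2`-group of automorphisms fixes some element outside an invariant proper subgroup modulo it. -/
theorem exists_fixed_mod (hV : IsPGroup 2 V) {B : Subgroup (MulAut V)} (hB : IsPGroup 2 B)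
    {W : Subgroup V} (hW : ∀ b ∈ B, ∀ w ∈ W, b w ∈ W) (hne : W ≠ ⊤) :
    ∃ u, u ∉ W ∧ ∀ b ∈ B, b u * u⁻¹ ∈ W := by
  have hmap : ∀ b : B, W.map (b : MulAut V).toMonoidHom = W := fun b => by
    refine Subgroup.eq_of_le_of_card_ge ?_ (Subgroup.card_map_of_injective (b : MulAut V).injective).ge
    rintro _ ⟨w, hw, rfl⟩
    exact hW b b.2 w hw
  let φ : B →* MulAut (V ⧸ W) :=
    { toFun := fun b => QuotientGroup.congr W W (b : MulAut V) (hmap b)
      map_one' := MulEquiv.ext fun q => by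
        obtain ⟨v, rfl⟩ := QuotientGroup.mk_surjective q
        rfl
      map_mul' := fun a b => MulEquiv.ext fun q => by
        obtain ⟨v, rfl⟩ := QuotientGroup.mk_surjective q
        rfl }
  letI : MulAction B (V ⧸ W) := MulAction.compHom (V ⧸ W) φ
  haveI : Fact (Nat.Prime 2) := ⟨Nat.prime_two⟩
  have hdvd : 2 ∣ Nat.card (V ⧸ W) := by
    obtain ⟨k, hk⟩ := IsPGroup.iff_card.1 (hV.to_quotient W)
    rcases Nat.eq_zero_or_pos k with rfl | hk0
    · exact absurd (Subgroup.index_eq_one.1 (Subgroup.index_eq_card W ▸ hk)) hne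
    · exact hk ▸ dvd_pow_self 2 hk0.ne'
  obtain ⟨q, hq, hq1⟩ := hB.exists_fixed_point_of_prime_dvd_card_of_fixed_point (V ⧸ W) hdvd
    (a := 1) fun b => map_one (φ b)
  obtain ⟨u, rfl⟩ := QuotientGroup.mk_surjective q
  refine ⟨u, fun hu => hq1 ((QuotientGroup.eq_one_iff u).2 hu).symm, fun b hb => ?_⟩
  have h1 : (((b : MulAut V) u : V) : V ⧸ W) = (u : V ⧸ W) := hq ⟨b, hb⟩
  rw [QuotientGroup.eq] at h1
  have h2 := W.inv_mem h1
  rwa [mul_inv_rev, inv_inv, mul_comm] at h2

/-- A minimal offender is quadratic. -/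
theorem IsMinOff.quadratic (hV : IsPGroup 2 V) {B : Subgroup (MulAut V)} (h : IsMinOff B) :
    ∀ v : V, ∀ d ∈ B, d v * v⁻¹ ∈ fixOf B := by
  intro v d hd a ha
  obtain ⟨hB, hcomm, hne, hcard⟩ := h.1
  set C := fixOf B with hC
  set t : MulAut V → V := fun a => a v * v⁻¹ with ht
  set M := Subgroup.closure (t '' (B : Set (MulAut V))) with hM
  set A := B ⊓ kerOn M with hA
  have htM : ∀ b ∈ B, t b ∈ M := fun b hb => Subgroup.subset_closure ⟨b, hb, rfl⟩
  set W := M ⊔ C with hW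
  by_contra hbad
  -- the cosets of `A` inject into `W / C`
  have hkey : ∀ a ∈ B, ∀ b ∈ B, t a * (t b)⁻¹ ∈ C → b⁻¹ * a ∈ A := by
    intro a ha b hb h
    have hc : b⁻¹ * a ∈ B := B.mul_mem (B.inv_mem hb) ha
    set c := b⁻¹ * a with hcdef
    have e1 : t a * (t b)⁻¹ = b (t c) := by
      show a v * v⁻¹ * (b v * v⁻¹)⁻¹ = b (c v * v⁻¹)
      rw [map_mul, map_inv, hcdef, MulAut.mul_apply, MulAut.apply_inv_self]
      simp [mul_inv, mul_mul_mul_comm]
    have hz : t c ∈ C := by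
      rw [e1] at h
      have h2 := h b⁻¹ (B.inv_mem hb)
      rw [MulAut.inv_apply_self] at h2
      rw [h2]
      exact h
    refine ⟨hc, ?_⟩
    have hle : M ≤ (c.toMonoidHom.eqLocus (MonoidHom.id V)) := by
      refine (Subgroup.closure_le _).2 ?_
      rintro _ ⟨e, he, rfl⟩
      show c (e v * v⁻¹) = e v * v⁻¹
      have hcv : c v = t c * v := by simp [ht]
      rw [map_mul, map_inv, ← MulAut.mul_apply, hcomm c hc e he, MulAut.mul_apply, hcv, map_mul,
        hz e he, mul_inv, mul_mul_mul_comm, mul_inv_cancel, one_mul]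
    exact fun u hu => hle hu
  have hcount : Nat.card B * Nat.card C ≤ Nat.card A * Nat.card W := by
    have h1 := Subgroup.card_mul_index (A.subgroupOf B)
    rw [Nat.card_congr (Subgroup.subgroupOfEquivOfLe (inf_le_left : A ≤ B)).toEquiv] at h1
    have h2 := Subgroup.card_mul_index (C.subgroupOf W)
    rw [Nat.card_congr (Subgroup.subgroupOfEquivOfLe (le_sup_right : C ≤ W)).toEquiv] at h2
    rw [← h1, ← h2, mul_assoc, mul_comm ((A.subgroupOf B).index) (Nat.card C)]
    refine Nat.mul_le_mul le_rfl (Nat.mul_le_mul le_rfl ?_)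
    rw [Subgroup.index_eq_card, Subgroup.index_eq_card]
    refine Nat.card_le_card_of_injective
      (fun q => ((⟨t (q.out : B), Subgroup.mem_sup_left (htM _ (q.out : B).2)⟩ : W) : W ⧸ C.subgroupOf W))
      fun q r hqr => ?_
    rw [← q.out_eq', ← r.out_eq', QuotientGroup.eq, Subgroup.mem_subgroupOf]
    have h3 := QuotientGroup.eq.1 hqr
    rw [Subgroup.mem_subgroupOf] at h3
    refine hkey _ (r.out : B).2 _ (q.out : B).2 ?_
    simpa [mul_comm] using h3
  have hfix : W ≤ fixOf A := sup_le (fun u hu b hb => hb.2 u hu) (fixOf_anti inf_le_left)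
  have hAlt : A < B := by
    refine lt_of_le_of_ne inf_le_left fun he => hbad ?_
    exact (he.ge ha).2 _ (htM d hd)
  rcases eq_or_ne A ⊥ with h0 | h0
  · -- then `V = [v, B] C_V(B)`, impossible
    rw [h0, Subgroup.card_bot, one_mul] at hcount
    have hWtop : W = ⊤ := Subgroup.eq_top_of_card_eq _
      (le_antisymm (Subgroup.card_le_card_group _) (hcard.trans hcount))
    have hCne : C ≠ ⊤ := fun hh => hne <| (Subgroup.eq_bot_iff_forall _).2 fun b hb =>
      MulEquiv.ext fun w => (show w ∈ C from hh ▸ Subgroup.mem_top w) b hb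
    obtain ⟨W₀, hW₀, hmax⟩ := Set.exists_max_image
      {W₀ : Subgroup V | C ≤ W₀ ∧ W₀ ≠ ⊤ ∧ ∀ b ∈ B, ∀ w ∈ W₀, b w ∈ W₀}
      (fun W₀ => Nat.card W₀) (Set.toFinite _)
      ⟨C, le_rfl, hCne, fun b hb w hw => by rwa [hw b hb]⟩
    obtain ⟨u, hu, hfu⟩ := exists_fixed_mod hV hB hW₀.2.2 hW₀.2.1
    have hup : W₀ ⊔ Subgroup.zpowers u = ⊤ := by
      by_contra hh
      have hinv : ∀ b ∈ B, ∀ w ∈ W₀ ⊔ Subgroup.zpowers u, b w ∈ W₀ ⊔ Subgroup.zpowers u := by
        intro b hb w hw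
        have hle : W₀ ⊔ Subgroup.zpowers u ≤ (W₀ ⊔ Subgroup.zpowers u).comap b.toMonoidHom := by
          refine sup_le (fun w hw => Subgroup.mem_sup_left (hW₀.2.2 b hb w hw))
            (Subgroup.zpowers_le.2 ?_)
          show b u ∈ W₀ ⊔ Subgroup.zpowers u
          have := Subgroup.mul_mem_sup (hfu b hb) (Subgroup.mem_zpowers u)
          rwa [inv_mul_cancel_right] at this
        exact hle hw
      have h1 := hmax _ ⟨hW₀.1.trans le_sup_left, hh, hinv⟩
      have h2 := Subgroup.eq_of_le_of_card_ge (le_sup_left : W₀ ≤ W₀ ⊔ Subgroup.zpowers u) h1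
      exact hu (h2 ▸ Subgroup.mem_sup_right (Subgroup.mem_zpowers u))
    have hall : ∀ w : V, ∀ b ∈ B, b w * w⁻¹ ∈ W₀ := fun w => by
      have hle : W₀ ⊔ Subgroup.zpowers u ≤ fixMod W₀ B :=
        sup_le (fun w hw b hb => W₀.mul_mem (hW₀.2.2 b hb w hw) (W₀.inv_mem hw))
          (Subgroup.zpowers_le.2 hfu)
      exact hle (hup ▸ Subgroup.mem_top w)
    refine hW₀.2.1 (top_le_iff.1 (hWtop.ge.trans (sup_le ((Subgroup.closure_le _).2 ?_) hW₀.1)))
    rintro _ ⟨b, hb, rfl⟩
    exact hall v b hb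
  · refine h.2 A hAlt ⟨hB.to_le inf_le_left, fun x hx y hy => hcomm x hx.1 y hy.1, h0, ?_⟩
    exact hcard.trans (hcount.trans (Nat.mul_le_mul le_rfl (Subgroup.card_le_of_le hfix)))

end CfsgLib.Fusion.Offender
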