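import Cfsg.Agent.Lib.Fusion.OffenderBasic

/-!
Abelian `2`-groups `V` without a section `S₃` in the acting group: an element fixed by a
Sylow subgroup and by the normalizer of a weakly closed subgroup generated by offenders is fixed by
the whole group.
-/

set_option autoImplicit false
set_option linter.style.haveILetI false
set_option linter.unusedVariables false
set_option linter.unusedSectionVars false

universe u

namespace CfsgLib.Fusion.Offender

open Subgroup CfsgLib.Fusion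

variable {V : Type u} [CommGroup V]

/-- No involution inverts an element of order three on an invariant section of `V`. -/
def NoThree (G : Subgroup (MulAut V)) : Prop :=
  ∀ (U F : Subgroup V) (c l : MulAut V), c ∈ G → l ∈ G → F ≤ U →
    (∀ u ∈ U, u * u ∈ F) → (∀ u ∈ U, c u ∈ U) → (∀ u ∈ U, l u ∈ U) → (∀ u ∈ F, c u ∈ F) → (∀ u ∈ F, l u ∈ F) →
    (∀ u ∈ U, (c * c) u * u⁻¹ ∈ F) → (∀ u ∈ U, (l ^ 3) u * u⁻¹ ∈ F) →
    (∀ u ∈ U, (c * l * c⁻¹ * l) u * u⁻¹ ∈ F) → ∀ u ∈ U, l u * u⁻¹ ∈ F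

theorem NoThree.mono {G H : Subgroup (MulAut V)} (h : NoThree G) (hle : H ≤ G) : NoThree H :=
  fun U F c l hc hl => h U F c l (hle hc) (hle hl)

variable [Finite V]

/-- In a `2`-group `T`, a conjugation invariant family not inside the subgroup `D` it generates has a
member outside `D` normalizing `D`. -/
theorem exists_member_normalizing {X : Type*} [Group X] {T D : Subgroup X} [Finite T] (hT : IsPGroup 2 T)
    (P : Subgroup X → Prop) (hP : ∀ g ∈ T, ∀ B, B ≤ T → P B → P (conjSub g B))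
    (hDT : D ≤ T) (hgen : D ≤ sSup {B | P B ∧ B ≤ D})
    (hex : ∃ B, P B ∧ B ≤ T ∧ ¬ B ≤ D) :
    ∃ B, P B ∧ B ≤ T ⊓ Subgroup.normalizer (D : Set X) ∧ ¬ B ≤ D := by
  by_contra hno
  push Not at hno
  set R := T ⊓ Subgroup.normalizer (D : Set X) with hR
  have hDR : D ≤ R := le_inf hDT Subgroup.le_normalizer
  have hRT : R < T := by
    refine lt_of_le_of_ne inf_le_left fun he => ?_
    obtain ⟨B, hB, hBT, hBD⟩ := hex
    exact hBD (hno B hB (he ▸ hBT))
  haveI : Fact (Nat.Prime 2) := ⟨Nat.prime_two⟩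
  haveI : Group.IsNilpotent T := hT.isNilpotent
  have hlt : R.subgroupOf T < Subgroup.normalizer ((R.subgroupOf T : Subgroup T) : Set T) :=
    Group.normalizerCondition_of_isNilpotent _ (lt_top_iff_ne_top.2 fun he =>
      hRT.not_ge (Subgroup.subgroupOf_eq_top.1 he))
  obtain ⟨t, htn, htR⟩ := SetLike.exists_of_lt hlt
  refine htR (Subgroup.mem_subgroupOf.2 ⟨t.2, ?_⟩)
  have hconj : ∀ r ∈ R, (t : X) * r * (t : X)⁻¹ ∈ R := fun r hr =>
    (Subgroup.mem_normalizer_iff.1 htn ⟨r, hr.1⟩).1 hr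
  haveI : Finite D := Finite.of_injective (Subgroup.inclusion hDT) (Subgroup.inclusion_injective _)
  refine Subgroup.mem_normalizer_iff_map_conj_eq.2 ?_
  refine Subgroup.eq_of_le_of_card_ge ?_ (Subgroup.card_map_of_injective (MulAut.conj (t : X)).injective).ge
  refine Subgroup.map_le_iff_le_comap.2 (hgen.trans (sSup_le ?_))
  rintro B ⟨hPB, hBD⟩
  rw [← Subgroup.map_le_iff_le_comap]
  refine hno _ (hP t t.2 B (hBD.trans hDT) hPB) ?_
  rintro _ ⟨b, hb, rfl⟩
  exact hconj b (hDR (hBD hb))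

/-- The hypothesis carried through the induction. -/
def FixedGoal (n : ℕ) : Prop :=
  ∀ (V : Type u) [CommGroup V] [Finite V] (G S J : Subgroup (MulAut V)) (x : V),
    Nat.card G + Nat.card V ≤ n → IsPGroup 2 V → (∀ g ∈ G, g (x * x) = x * x) → NoThree G → S ≤ G → IsPGroup 2 S →
    ¬ 2 ∣ S.relIndex G → (∀ g ∈ S, g x = x) → J ≤ S →
    (∀ g ∈ G, conjSub g J ≤ S → conjSub g J = J) →
    (∃ 𝒜 : Set (Subgroup (MulAut V)), J = sSup 𝒜 ∧ ∀ A ∈ 𝒜, Good A) →
    (∀ g ∈ G, conjSub g J = J → g x = x) → ∀ g ∈ G, g x = x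

section Main

variable {G S J : Subgroup (MulAut V)} {x : V} (hV : IsPGroup 2 V)
  (hx2 : ∀ g ∈ G, g (x * x) = x * x) (hfree : NoThree G)
  (hSG : S ≤ G) (hS : IsPGroup 2 S) (hidx : ¬ 2 ∣ S.relIndex G) (hSx : ∀ g ∈ S, g x = x)
  (hgen : Subgroup.closure ((fun g : MulAut V => g x) '' (G : Set (MulAut V))) = ⊤)
  (hoff : ∃ A, A ≤ G ∧ IsOff A)
  (hJS : J ≤ S) (hJw : ∀ g ∈ G, conjSub g J ≤ S → conjSub g J = J)
  (hJgen : ∃ 𝒜 : Set (Subgroup (MulAut V)), J = sSup 𝒜 ∧ ∀ A ∈ 𝒜, Good A)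
  (hJN : ∀ g ∈ G, conjSub g J = J → g x = x)
  {n : ℕ} (hcard : Nat.card G + Nat.card V ≤ n + 1) (ih : FixedGoal.{u} n)

include hV hx2 hfree hSG hS hidx hSx hgen hoff hJS hJw hJgen hJN hcard ih

theorem no_offender : False := by
  haveI : Fact (Nat.Prime 2) := ⟨Nat.prime_two⟩
  obtain ⟨A₀, hA₀G, hA₀⟩ := hoff
  have hxgen : ∀ g : MulAut V, (∀ k ∈ G, g (k x) = k x) → g = 1 := fun g hg =>
    eq_one_of_fixes_closure hgen (by
      rintro _ ⟨k, hk, rfl⟩
      exact hg k hk)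
  -- normal subgroups that are `2`-groups are trivial
  have hnorm1 : ∀ N : Subgroup (MulAut V), N ≤ G → (∀ g ∈ G, conjSub g N = N) →
      (∀ k ∈ N, k x = x) → N = ⊥ := fun N hNG hn hfix => by
    refine (Subgroup.eq_bot_iff_forall _).2 fun m hm => hxgen m fun k hk => ?_
    have h1 : k⁻¹ * m * k⁻¹⁻¹ ∈ N := (hn k⁻¹ (G.inv_mem hk)).le (conj_mem_conjSub hm)
    have h2 := congrArg k (hfix _ h1)
    rw [inv_inv, MulAut.mul_apply, MulAut.mul_apply, MulAut.apply_inv_self] at h2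
    exact h2
  have hO2 : ∀ N : Subgroup (MulAut V), N ≤ G → IsPGroup 2 N → (∀ g ∈ G, conjSub g N = N) →
      N = ⊥ := fun N hNG hN hn => by
    refine hnorm1 N hNG hn fun k hk => ?_
    obtain ⟨g, hg, hgN⟩ := exists_conj_le_of_sylow hS hSG hidx hN hNG
    exact hSx k (hgN ((hn g hg).ge hk))
  set M := G ⊓ stabElt x with hM
  have hMG : M ≤ G := inf_le_left
  have hSM : S ≤ M := fun g hg => ⟨hSG hg, hSx g hg⟩
  have hidxM : ¬ 2 ∣ S.relIndex M := fun h => hidx (h.trans
    (Dvd.intro _ (Subgroup.relIndex_mul_relIndex S M G hSM hMG)))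
  have hMne : M ≠ G := fun he => hA₀.2.2.1 <| le_bot_iff.1 <| hA₀G.trans <|
    (hnorm1 G le_rfl (fun g hg => Subgroup.mem_normalizer_iff_map_conj_eq.1 (Subgroup.le_normalizer hg))
      fun k hk => (he.ge hk).2).le
  have hcardlt : ∀ H : Subgroup (MulAut V), H ≤ G → H ≠ G → Nat.card H + Nat.card V ≤ n := by
    intro H hH hne
    have h1 : Nat.card H < Nat.card G := by
      refine lt_of_le_of_ne (Subgroup.card_le_of_le hH) fun h => hne ?_
      exact Subgroup.eq_of_le_of_card_ge hH h.ge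
    omega
  -- conjugates of a minimal offender
  let P : Subgroup (MulAut V) → Prop := fun B => IsMinOff B
  have hPc : ∀ (g : MulAut V) B, P B → P (conjSub g B) := fun g B h => IsMinOff.conjSub h g
  obtain ⟨B₀, hB₀A, hB₀⟩ := exists_isMinOff_le hA₀
  obtain ⟨g₀, hg₀, hB₀S⟩ := exists_conj_le_of_sylow hS hSG hidx hB₀.1.1 (hB₀A.trans hA₀G)
  let DS : Subgroup (MulAut V) → Subgroup (MulAut V) := fun H => sSup {B | P B ∧ B ≤ S ∧ B ≤ H}
  have hDS_le : ∀ H, DS H ≤ S ⊓ H := fun H => sSup_le fun B hB => le_inf hB.2.1 hB.2.2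
  have hDS_gen : ∀ H, DS H ≤ sSup {B | P B ∧ B ≤ DS H} := fun H =>
    sSup_le fun B hB => le_sSup ⟨hB.1, le_sSup ⟨hB.1, hB.2.1, hB.2.2⟩⟩
  -- the normalizer of the join of all minimal offenders in `S`
  have hJ'fix : ∀ g ∈ G, conjSub g (DS G) = DS G → g x = x := by
    intro g hg hgJ
    set H := G ⊓ Subgroup.normalizer ((DS G : Subgroup (MulAut V)) : Set (MulAut V)) with hH
    have hSH : S ≤ H := fun s hs => ⟨hSG hs, by
      refine Subgroup.mem_normalizer_iff_map_conj_eq.2 ?_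
      refine Subgroup.eq_of_le_of_card_ge ?_
        (Subgroup.card_map_of_injective (MulAut.conj s).injective).ge
      refine Subgroup.map_le_iff_le_comap.2 (sSup_le fun B hB => Subgroup.map_le_iff_le_comap.1 ?_)
      refine le_sSup ⟨hPc s B hB.1, ?_, ?_⟩
      · rintro _ ⟨b, hb, rfl⟩
        exact S.mul_mem (S.mul_mem hs (hB.2.1 hb)) (S.inv_mem hs)
      · rintro _ ⟨b, hb, rfl⟩
        exact G.mul_mem (G.mul_mem (hSG hs) (hB.2.2 hb)) (G.inv_mem (hSG hs))⟩
    have hne : H ≠ G := fun he => by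
      have hbot : DS G = ⊥ := hO2 _ ((hDS_le G).trans inf_le_right)
        (hS.to_le ((hDS_le G).trans inf_le_left))
        fun k hk => Subgroup.mem_normalizer_iff_map_conj_eq.1 (he.ge hk).2
      refine (hPc g₀ B₀ hB₀).1.2.2.1 (le_bot_iff.1 (hbot ▸ le_sSup ⟨hPc g₀ B₀ hB₀, hB₀S, ?_⟩))
      exact hB₀S.trans hSG
    exact ih V H S J x (hcardlt H inf_le_left hne) hV (fun k hk => hx2 k hk.1)
      (hfree.mono inf_le_left) hSH hS
      (fun h => hidx (h.trans (Dvd.intro _ (Subgroup.relIndex_mul_relIndex S H G hSH inf_le_left))))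
      hSx hJS (fun k hk => hJw k hk.1) hJgen (fun k hk => hJN k hk.1) g
      ⟨hg, Subgroup.mem_normalizer_iff_map_conj_eq.2 hgJ⟩
  -- every proper overgroup of a minimal offender in `S` is in `M`
  have hover0 : ∀ B, P B → B ≤ S → ∀ H, B ≤ H → H ≤ G → H ≠ G → H ≤ M := by
    by_contra hbad
    push Not at hbad
    obtain ⟨B₁, hB₁, hB₁S, H₁, hB₁H, hH₁G, hH₁ne, hH₁M⟩ := hbad
    obtain ⟨H, ⟨hHG, hHne, hHM, ⟨B, hB, hBS, hBH⟩⟩, hmax⟩ := Set.exists_max_image
      {H : Subgroup (MulAut V) | H ≤ G ∧ H ≠ G ∧ ¬ H ≤ M ∧ ∃ B, P B ∧ B ≤ S ∧ B ≤ H}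
      (fun H => Nat.card (DS H)) (Set.toFinite _)
      ⟨H₁, hH₁G, hH₁ne, hH₁M, B₁, hB₁, hB₁S, hB₁H⟩
    set D := DS H with hD
    have hBD : B ≤ D := le_sSup ⟨hB, hBS, hBH⟩
    have hDne : D ≠ ⊥ := fun h => hB.1.2.2.1 (le_bot_iff.1 (h ▸ hBD))
    have hND : G ⊓ Subgroup.normalizer (D : Set (MulAut V)) ≤ M := by
      by_cases hall : ∀ B', P B' → B' ≤ S → B' ≤ D
      · have hDJ : D = DS G := le_antisymm
          (sSup_le fun B hB => le_sSup ⟨hB.1, hB.2.1, hB.2.1.trans hSG⟩)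
          (sSup_le fun B hB => hall B hB.1 hB.2.1)
        intro g hg
        refine ⟨hg.1, hJ'fix g hg.1 ?_⟩
        rw [← hDJ]
        exact Subgroup.mem_normalizer_iff_map_conj_eq.1 hg.2
      · push Not at hall
        obtain ⟨B', hB', hB'R, hB'D⟩ := exists_member_normalizing (D := D) hS P (fun g _ B _ h => hPc g B h)
          ((hDS_le H).trans inf_le_left) (hDS_gen H) hall
        by_contra hh
        have hne : G ⊓ Subgroup.normalizer (D : Set (MulAut V)) ≠ G := fun he => hDne <|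
          hO2 D ((hDS_le H).trans (inf_le_right.trans hHG)) (hS.to_le ((hDS_le H).trans inf_le_left))
            fun k hk => Subgroup.mem_normalizer_iff_map_conj_eq.1 (he.ge hk).2
        have hDN : D ≤ G ⊓ Subgroup.normalizer (D : Set (MulAut V)) :=
          le_inf ((hDS_le H).trans (inf_le_right.trans hHG)) Subgroup.le_normalizer
        have hB'N : B' ≤ G ⊓ Subgroup.normalizer (D : Set (MulAut V)) :=
          le_inf ((hB'R.trans inf_le_left).trans hSG) (hB'R.trans inf_le_right)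
        have h1 := hmax (G ⊓ Subgroup.normalizer (D : Set (MulAut V))) ⟨inf_le_left, hne, hh, B, hB, hBS, hBD.trans hDN⟩
        have hle : D ≤ DS (G ⊓ Subgroup.normalizer (D : Set (MulAut V))) :=
          sSup_le fun C hC => le_sSup ⟨hC.1, hC.2.1,
            (le_sSup ⟨hC.1, hC.2.1, hC.2.2⟩ : C ≤ D).trans hDN⟩
        exact hB'D ((Subgroup.eq_of_le_of_card_ge hle h1).ge.trans' (le_sSup ⟨hB', hB'R.trans inf_le_left, hB'N⟩))
    obtain ⟨W, hW⟩ := ((hS.to_le ((hDS_le H).trans inf_le_left : D ≤ S)).of_equiv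
      (Subgroup.subgroupOfEquivOfLe ((hDS_le H).trans inf_le_right)).symm).exists_le_sylow
    set T := (W : Subgroup H).map H.subtype with hTdef
    have hTH : T ≤ H := Subgroup.map_subtype_le _
    have hTp : IsPGroup 2 T := W.isPGroup'.map _
    have hDT : D ≤ T := fun d hd => ⟨⟨d, ((hDS_le H) hd).2⟩, hW hd, rfl⟩
    by_cases hTD : ∀ B', P B' → B' ≤ T → B' ≤ D
    · have hDeq : ∀ g : MulAut V, conjSub g D ≤ T → conjSub g D = D := fun g hg => by
        refine Subgroup.eq_of_le_of_card_ge ?_ (card_conjSub g D).ge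
        refine Subgroup.map_le_iff_le_comap.2 ((hDS_gen H).trans (sSup_le fun C hC => ?_))
        rw [← Subgroup.map_le_iff_le_comap]
        exact hTD _ (hPc g C hC.1) ((conjSub_mono hC.2).trans hg)
      have hTn : T ≤ G ⊓ Subgroup.normalizer (D : Set (MulAut V)) := fun t ht => ⟨hHG (hTH ht), by
        refine Subgroup.mem_normalizer_iff_map_conj_eq.2 (hDeq t ?_)
        rintro _ ⟨d, hd, rfl⟩
        exact T.mul_mem (T.mul_mem ht (hDT hd)) (T.inv_mem ht)⟩
      refine hHM fun g hg => ⟨hHG hg, ?_⟩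
      exact ih V H T D x (hcardlt H hHG hHne) hV (fun k hk => hx2 k (hHG hk))
        (hfree.mono hHG) hTH hTp
        (not_dvd_relIndex_of_sylow W) (fun t ht => (hND (hTn ht)).2) hDT (fun k _ => hDeq k)
        ⟨_, rfl, fun C hC => IsMinOff.good hC.1⟩
        (fun k hk hkD => (hND ⟨hHG hk, Subgroup.mem_normalizer_iff_map_conj_eq.2 hkD⟩).2) g hg
    · push Not at hTD
      obtain ⟨B', hB', hB'R, hB'D⟩ := exists_member_normalizing (D := D) hTp P (fun g _ B _ h => hPc g B h)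
        hDT (hDS_gen H) hTD
      have hRM : T ⊓ Subgroup.normalizer (D : Set (MulAut V)) ≤ M :=
        le_trans (le_inf (inf_le_left.trans (hTH.trans hHG)) inf_le_right) hND
      obtain ⟨m, hm, hmR⟩ := exists_conj_le_of_sylow hS hSM hidxM (hTp.to_le inf_le_left) hRM
      have hmG := hMG hm
      have hHm : conjSub m H ≤ G := by
        rintro _ ⟨h, hh, rfl⟩
        exact G.mul_mem (G.mul_mem hmG (hHG hh)) (G.inv_mem hmG)
      have hDR : D ≤ T ⊓ Subgroup.normalizer (D : Set (MulAut V)) := le_inf hDT Subgroup.le_normalizer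
      have h1 := hmax (conjSub m H) ⟨hHm, fun he => hHne (Subgroup.eq_of_le_of_card_ge hHG (by
          rw [← card_conjSub m H, he])), fun hle => hHM fun h hh => ?_, conjSub m B, hPc m B hB,
        (conjSub_mono (hBD.trans hDR)).trans hmR, conjSub_mono hBH⟩
      · have hle : conjSub m (D ⊔ B') ≤ DS (conjSub m H) := by
          rw [conjSub, Subgroup.map_sup, sup_le_iff]
          refine ⟨Subgroup.map_le_iff_le_comap.2 ((hDS_gen H).trans (sSup_le fun C hC => ?_)),
            le_sSup ⟨hPc m B' hB', (conjSub_mono hB'R).trans hmR,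
              conjSub_mono ((hB'R.trans inf_le_left).trans hTH)⟩⟩
          rw [← Subgroup.map_le_iff_le_comap]
          exact le_sSup ⟨hPc m C hC.1, (conjSub_mono (hC.2.trans hDR)).trans hmR,
            conjSub_mono (hC.2.trans (hDT.trans hTH))⟩
        have h2 : Nat.card ↥(D ⊔ B') ≤ Nat.card D := by
          rw [← card_conjSub m (D ⊔ B')]
          exact (Subgroup.card_le_of_le hle).trans h1
        exact hB'D ((Subgroup.eq_of_le_of_card_ge le_sup_left h2).ge.trans' le_sup_right)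
      · have h3 := M.mul_mem (M.mul_mem (M.inv_mem hm) (hle (conj_mem_conjSub (g := m) hh))) hm
        simpa [mul_assoc] using h3
  have hover : ∀ B, P B → B ≤ M → ∀ H, B ≤ H → H ≤ G → H ≠ G → H ≤ M := by
    intro B hB hBM H hBH hHG hne
    obtain ⟨m, hm, hmB⟩ := exists_conj_le_of_sylow hS hSM hidxM hB.1.1 hBM
    have hmG := hMG hm
    have h1 := hover0 _ (hPc m B hB) hmB (conjSub m H) (conjSub_mono hBH) (by
      rintro _ ⟨h, hh, rfl⟩
      exact G.mul_mem (G.mul_mem hmG (hHG hh)) (G.inv_mem hmG))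
      fun he => hne (Subgroup.eq_of_le_of_card_ge hHG (by rw [← card_conjSub m H, he]))
    intro h hh
    have h3 := M.mul_mem (M.mul_mem (M.inv_mem hm) (h1 (conj_mem_conjSub (g := m) hh))) hm
    simpa [mul_assoc] using h3
  set B := conjSub g₀ B₀ with hBdef
  have hB : P B := hPc g₀ B₀ hB₀
  have hBS : B ≤ S := hB₀S
  have hBG : B ≤ G := hBS.trans hSG
  -- a conjugate generating `G` with `B`
  have hgen2 : ∀ h ∈ G, ¬ conjSub h B ≤ M → B ⊔ conjSub h B = G := by
    intro h hh hnot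
    by_contra hne
    refine hnot (le_sup_right.trans (hover0 B hB hBS _ le_sup_left (sup_le hBG ?_) hne))
    rintro _ ⟨b, hb, rfl⟩
    exact G.mul_mem (G.mul_mem hh (hBG hb)) (G.inv_mem hh)
  obtain ⟨g, hg, hgM⟩ : ∃ g ∈ G, ¬ conjSub g B ≤ M := by
    by_contra hall
    push Not at hall
    set N := ⨆ g : G, conjSub (g : MulAut V) B with hN
    have hNM : N ≤ M := iSup_le fun g => hall g g.2
    have hN1 : N = ⊥ := hnorm1 N (hNM.trans hMG) (fun k hk => by
      refine Subgroup.eq_of_le_of_card_ge ?_ (card_conjSub k N).ge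
      rw [conjSub, hN, Subgroup.map_iSup]
      refine iSup_le fun g => ?_
      show conjSub k (conjSub (g : MulAut V) B) ≤ _
      rw [← conjSub_mul]
      exact le_iSup (fun g : G => conjSub (g : MulAut V) B) ⟨k * g, G.mul_mem hk g.2⟩)
      fun k hk => (hNM hk).2
    refine hB.1.2.2.1 (le_bot_iff.1 (hN1 ▸ ?_))
    have := le_iSup (fun g : G => conjSub (g : MulAut V) B) ⟨1, G.one_mem⟩
    rwa [conjSub_one] at this
  -- the fixed points of the elements of odd order
  set G₀ := Subgroup.closure {g : MulAut V | g ∈ G ∧ Odd (orderOf g)} with hG₀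
  set F := fixOf G₀ with hF
  have hG₀G : G₀ ≤ G := (Subgroup.closure_le _).2 fun k hk => hk.1
  have hFinv : ∀ k ∈ G, F.map k.toMonoidHom = F := by
    intro k hk
    rw [hF, ← fixOf_conjSub]
    congr 1
    refine Subgroup.eq_of_le_of_card_ge ?_ (card_conjSub k G₀).ge
    refine Subgroup.map_le_iff_le_comap.2 ((Subgroup.closure_le _).2 fun l hl => ?_)
    refine Subgroup.subset_closure ⟨G.mul_mem (G.mul_mem hk hl.1) (G.inv_mem hk), ?_⟩
    show Odd (orderOf ((MulAut.conj k).toMonoidHom l))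
    rw [orderOf_injective _ (MulAut.conj k).injective]
    exact hl.2
  have hodd : ∀ l ∈ G, Odd (orderOf l) → ∀ v : V, l v * v⁻¹ ∈ F → l v = v := by
    intro l hl ho v hv
    have hfix := hv l (Subgroup.subset_closure ⟨hl, ho⟩)
    set f := l v * v⁻¹ with hf
    have hpow : ∀ i : ℕ, (l ^ i) v = f ^ i * v := by
      intro i
      induction i with
      | zero => simp
      | succ i ihi =>
        rw [pow_succ', MulAut.mul_apply, ihi, map_mul, map_pow, hfix, pow_succ, mul_assoc]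
        congr 1
        rw [hf, inv_mul_cancel_right]
    have h1 := hpow (orderOf l)
    rw [pow_orderOf_eq_one, MulAut.one_apply, right_eq_mul] at h1
    obtain ⟨j, hj⟩ := hV f
    have h3 := Nat.dvd_gcd (orderOf_dvd_of_pow_eq_one h1) (orderOf_dvd_of_pow_eq_one hj)
    rw [((Nat.coprime_two_right.2 ho).pow_right j).gcd_eq_one] at h3
    exact mul_inv_eq_one.1 (hf ▸ orderOf_eq_one_iff.1 (Nat.dvd_one.1 h3))
  have hfaith : ∀ k ∈ G, (∀ v : V, k v * v⁻¹ ∈ F) → k = 1 := by
    set N : Subgroup (MulAut V) :=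
      { carrier := {k | k ∈ G ∧ ∀ v : V, k v * v⁻¹ ∈ F}
        one_mem' := ⟨G.one_mem, fun v => by simp⟩
        mul_mem' := fun {k l} hk hl => ⟨G.mul_mem hk.1 hl.1, fun v => by
          have := F.mul_mem (hk.2 (l v)) (hl.2 v)
          rwa [mul_assoc, inv_mul_cancel_left] at this⟩
        inv_mem' := fun {k} hk => ⟨G.inv_mem hk.1, fun v => by
          have := F.inv_mem (hk.2 (k⁻¹ v))
          rwa [MulAut.apply_inv_self, mul_inv_rev, inv_inv] at this⟩ }
    have hNn : ∀ g ∈ G, conjSub g N = N := fun g hg => by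
      refine Subgroup.eq_of_le_of_card_ge ?_ (card_conjSub g N).ge
      rintro _ ⟨k, hk, rfl⟩
      refine ⟨G.mul_mem (G.mul_mem hg hk.1) (G.inv_mem hg), fun v => ?_⟩
      show g (k (g⁻¹ v)) * v⁻¹ ∈ F
      rw [show g (k (g⁻¹ v)) * v⁻¹ = g (k (g⁻¹ v) * (g⁻¹ v)⁻¹) by
        rw [map_mul, map_inv, MulAut.apply_inv_self]]
      exact (hFinv g hg).le ⟨_, hk.2 _, rfl⟩
    have hN2 : IsPGroup 2 N := by
      intro k
      obtain ⟨i, l, hl, hk⟩ := Nat.exists_eq_two_pow_mul_odd (orderOf_pos k).ne'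
      refine ⟨i, Subtype.ext ?_⟩
      show ((k ^ 2 ^ i : N) : MulAut V) = 1
      have ho : Odd (orderOf ((k ^ 2 ^ i : N) : MulAut V)) := by
        rw [Subgroup.orderOf_coe, orderOf_pow_of_dvd (by positivity) (hk ▸ Dvd.intro _ rfl), hk,
          Nat.mul_div_cancel_left _ (by positivity)]
        exact hl
      exact MulEquiv.ext fun v => hodd _ (k ^ 2 ^ i : N).2.1 ho v ((k ^ 2 ^ i : N).2.2 v)
    intro k hk hkv
    exact Subgroup.mem_bot.1 (hO2 N (fun k hk => hk.1) hN2 hNn ▸ (⟨hk, hkv⟩ : k ∈ N))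
  -- the fixed points of `G` modulo `F`
  have hfixG : ∀ v : V, (∀ k ∈ G, k v * v⁻¹ ∈ F) → v ∈ F := fun v hv => by
    refine fun k hk => ?_
    have hle : G₀ ≤ stabElt v := (Subgroup.closure_le _).2 fun l hl => hodd l hl.1 hl.2 v (hv l hl.1)
    exact hle hk
  set C := fixOf B with hC
  set Cp := fixMod F B with hCp
  have hquad : ∀ v : V, ∀ d ∈ B, d v * v⁻¹ ∈ C := IsMinOff.quadratic hV hB
  have hFB : ∀ b ∈ B, ∀ f ∈ F, b f ∈ F := fun b hb f hf =>
    (hFinv b (hBG hb)).le ⟨f, hf, rfl⟩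
  have hFCp : F ≤ Cp := fun f hf b hb => F.mul_mem (hFB b hb f hf) (F.inv_mem hf)
  have hxC : x ∈ C := fun b hb => hSx b (hBS hb)
  -- two conjugates with a common fixed point outside `F` fix the same image of `x`
  have hconjeq : ∀ g₁ ∈ G, ∀ g₂ ∈ G, ∀ v, v ∉ F → v ∈ fixMod F (conjSub g₁ B) →
      v ∈ fixMod F (conjSub g₂ B) → g₁ x = g₂ x := by
    intro g₁ hg₁ g₂ hg₂ v hv h1 h2
    set h := g₁⁻¹ * g₂ with hh
    have hhG : h ∈ G := G.mul_mem (G.inv_mem hg₁) hg₂
    by_cases hhM : conjSub h B ≤ M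
    · have hMn : conjSub h M ≤ M := by
        refine hover _ (hPc h B hB) hhM _ (conjSub_mono (hBS.trans hSM)) ?_ ?_
        · rintro _ ⟨m, hm, rfl⟩
          exact G.mul_mem (G.mul_mem hhG (hMG hm)) (G.inv_mem hhG)
        · intro he
          exact hMne (Subgroup.eq_of_le_of_card_ge hMG (by rw [← card_conjSub h M, he]))
      have hhN : h ∈ G ⊓ Subgroup.normalizer (M : Set (MulAut V)) := ⟨hhG,
        Subgroup.mem_normalizer_iff_map_conj_eq.2
          (Subgroup.eq_of_le_of_card_ge hMn (card_conjSub h M).ge)⟩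
      have hNne : G ⊓ Subgroup.normalizer (M : Set (MulAut V)) ≠ G := fun he => by
        refine hgM ?_
        have := conjSub_mono (g := g) (hBS.trans hSM)
        rwa [show conjSub g M = M from Subgroup.mem_normalizer_iff_map_conj_eq.1 (he.ge hg).2] at this
      have hhx : h x = x := (hover0 B hB hBS _ (le_inf hBG ((hBS.trans hSM).trans Subgroup.le_normalizer))
        inf_le_left hNne hhN).2
      rw [hh, MulAut.mul_apply] at hhx
      have := congrArg g₁ hhx
      rw [MulAut.apply_inv_self] at this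
      exact this.symm
    · exfalso
      refine hv (hfixG v fun k hk => ?_)
      rw [← hgen2 h hhG hhM] at hk
      have h3 : conjSub g₁ (B ⊔ conjSub h B) = conjSub g₁ B ⊔ conjSub g₂ B := by
        rw [conjSub, Subgroup.map_sup]
        show conjSub g₁ B ⊔ conjSub g₁ (conjSub h B) = _
        congr 1
        rw [← conjSub_mul, hh, mul_inv_cancel_left]
      have hkG : k ∈ G := by rwa [← hgen2 h hhG hhM]
      have hk' : g₁ * (g₁⁻¹ * k * g₁) * g₁⁻¹ ∈ conjSub g₁ (B ⊔ conjSub h B) := by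
        refine conj_mem_conjSub ?_
        rw [hgen2 h hhG hhM]
        exact G.mul_mem (G.mul_mem (G.inv_mem hg₁) hkG) hg₁
      rw [h3, show g₁ * (g₁⁻¹ * k * g₁) * g₁⁻¹ = k by group] at hk'
      let St : Subgroup (MulAut V) :=
        { carrier := {k | k ∈ G ∧ k v * v⁻¹ ∈ F}
          one_mem' := ⟨G.one_mem, by simp⟩
          mul_mem' := fun {k l} hk hl => ⟨G.mul_mem hk.1 hl.1, by
            have e : (k * l) v * v⁻¹ = k (l v * v⁻¹) * (k v * v⁻¹) := by
              rw [map_mul, map_inv, MulAut.mul_apply, mul_assoc, inv_mul_cancel_left]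
            rw [e]
            exact F.mul_mem ((hFinv k hk.1).le ⟨_, hl.2, rfl⟩) hk.2⟩
          inv_mem' := fun {k} hk => ⟨G.inv_mem hk.1, by
            have e : k⁻¹ v * v⁻¹ = k⁻¹ ((k v * v⁻¹)⁻¹) := by
              rw [map_inv, map_mul, map_inv, MulAut.inv_apply_self, mul_inv_rev, inv_inv]
            rw [e]
            exact (hFinv k⁻¹ (G.inv_mem hk.1)).le ⟨_, F.inv_mem hk.2, rfl⟩⟩ }
      have hle : conjSub g₁ B ⊔ conjSub g₂ B ≤ St := sup_le
        (fun b hb => ⟨(by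
          obtain ⟨a, ha, rfl⟩ := hb
          exact G.mul_mem (G.mul_mem hg₁ (hBG ha)) (G.inv_mem hg₁)), h1 b hb⟩)
        (fun b hb => ⟨(by
          obtain ⟨a, ha, rfl⟩ := hb
          exact G.mul_mem (G.mul_mem hg₂ (hBG ha)) (G.inv_mem hg₂)), h2 b hb⟩)
      exact (hle hk').2
  have hCp' : ∀ k ∈ G, fixMod F (conjSub k B) = Cp.map k.toMonoidHom := fun k hk =>
    fixMod_conjSub (hFinv k hk) B
  have hgB : ∀ h ∈ G, h x ∈ fixOf (conjSub h B) := fun h hh => by
    rw [fixOf_conjSub]; exact ⟨x, hxC, rfl⟩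
  -- for `h` moving `B` out of `M`, `V` is `Cp ⊔ Cp^h`
  have hsum : ∀ h ∈ G, ¬ conjSub h B ≤ M →
      Cp ⊔ fixMod F (conjSub h B) = ⊤ ∧ Cp ⊓ fixMod F (conjSub h B) = F := by
    intro h hh hnot
    set C₂ := fixMod F (conjSub h B) with hC₂
    have hinv : ∀ k ∈ G, ∀ v ∈ Cp ⊔ C₂, k v ∈ Cp ⊔ C₂ := by
      intro k hk
      rw [← hgen2 h hh hnot] at hk
      have hquad₂ : ∀ b ∈ conjSub h B, ∀ v : V, b v * v⁻¹ ∈ C₂ := fun b hb v =>
        fixOf_le_fixMod F _ (IsMinOff.quadratic hV (hPc h B hB) v b hb)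
      have hboth : B ⊔ conjSub h B ≤ Subgroup.closure ((B : Set (MulAut V)) ∪ conjSub h B) := by
        rw [Subgroup.closure_union, Subgroup.closure_eq, Subgroup.closure_eq]
      have hk' := hboth hk
      clear hk
      induction hk' using Subgroup.closure_induction with
      | mem b hb =>
        intro v hv
        rcases hb with hb | hb
        · have := Subgroup.mul_mem _ (Subgroup.mem_sup_left (fixOf_le_fixMod F B (hquad v b hb)) :
            b v * v⁻¹ ∈ Cp ⊔ C₂) hv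
          rwa [inv_mul_cancel_right] at this
        · have := Subgroup.mul_mem _ (Subgroup.mem_sup_right (hquad₂ b hb v) :
            b v * v⁻¹ ∈ Cp ⊔ C₂) hv
          rwa [inv_mul_cancel_right] at this
      | one => exact fun v hv => hv
      | mul a b _ _ ha hb => exact fun v hv => ha _ (hb v hv)
      | inv a _ ha =>
        intro v hv
        have hm : (Cp ⊔ C₂).map a.toMonoidHom = Cp ⊔ C₂ :=
          Subgroup.eq_of_le_of_card_ge (by rintro _ ⟨w, hw, rfl⟩; exact ha w hw)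
            (Subgroup.card_map_of_injective a.injective).ge
        obtain ⟨w, hw, hwv⟩ := hm.ge hv
        rw [← hwv]
        show a⁻¹ (a w) ∈ _
        rwa [MulAut.inv_apply_self]
    refine ⟨top_le_iff.1 (hgen.ge.trans ((Subgroup.closure_le _).2 ?_)), le_antisymm (fun v hv => ?_)
      (le_inf hFCp fun f hf b hb => ?_)⟩
    · rintro _ ⟨k, hk, rfl⟩
      exact hinv k hk x (Subgroup.mem_sup_left (fixOf_le_fixMod F B hxC))
    · by_contra hvF
      have h1 : v ∈ fixMod F (conjSub 1 B) := by rw [conjSub_one]; exact hv.1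
      have h2 := hconjeq 1 G.one_mem h hh v hvF h1 hv.2
      rw [MulAut.one_apply] at h2
      refine hnot ?_
      -- `h x = x` puts `B^h` into `M`
      rintro _ ⟨b, hb, rfl⟩
      refine ⟨G.mul_mem (G.mul_mem hh (hBG hb)) (G.inv_mem hh), ?_⟩
      show h (b (h⁻¹ x)) = x
      have h3 : h⁻¹ x = x := by conv_lhs => rw [h2]; rw [MulAut.inv_apply_self]
      rw [h3, hSx b (hBS hb), ← h2]
    · obtain ⟨a, ha, rfl⟩ := hb
      have hm : MulAut.conj h a ∈ G := G.mul_mem (G.mul_mem hh (hBG ha)) (G.inv_mem hh)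
      exact F.mul_mem ((hFinv _ hm).le ⟨f, hf, rfl⟩) (F.inv_mem hf)
  obtain ⟨hsup, hinf⟩ := hsum g hg hgM
  set Cg := fixMod F (conjSub g B) with hCg
  have hxF : x ∉ F := fun hxF => by
    refine hA₀.2.2.1 (le_bot_iff.1 (hA₀G.trans (hO2 G le_rfl (fun k => ?_)
      fun k hk => Subgroup.mem_normalizer_iff_map_conj_eq.1 (Subgroup.le_normalizer hk)).le))
    obtain ⟨i, l, hl, hk⟩ := Nat.exists_eq_two_pow_mul_odd (orderOf_pos k).ne'
    refine ⟨i, Subtype.ext ?_⟩
    show ((k ^ 2 ^ i : G) : MulAut V) = 1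
    have ho : Odd (orderOf ((k ^ 2 ^ i : G) : MulAut V)) := by
      rw [Subgroup.orderOf_coe, orderOf_pow_of_dvd (by positivity) (hk ▸ Dvd.intro _ rfl), hk,
        Nat.mul_div_cancel_left _ (by positivity)]
      exact hl
    refine hxgen _ fun m hm => ?_
    exact ((hFinv m hm).le ⟨x, hxF, rfl⟩ : m x ∈ F) _
      (Subgroup.subset_closure ⟨(k ^ 2 ^ i : G).2, ho⟩)
  -- `B` moves every element of `Cg` outside `F`
  have hmove : ∀ y ∈ Cg, y ∉ F → ∀ e ∈ B, e y * y⁻¹ ∈ F → e = 1 := by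
    intro y hy hyF e he hey
    refine hxgen e fun k hk => ?_
    by_cases hkM : conjSub k B ≤ M
    · -- then `k x` is fixed by `B`
      have h1 : k x = x := by
        have hxk : x ∈ fixMod F (conjSub k B) := fun b hb => by
          rw [(hkM hb).2, mul_inv_cancel]; exact F.one_mem
        have := hconjeq 1 G.one_mem k hk x hxF
          (by rw [conjSub_one]; exact fixOf_le_fixMod F B hxC) hxk
        rw [MulAut.one_apply] at this
        exact this.symm
      rw [h1]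
      exact hxC e he
    · obtain ⟨hs, hi⟩ := hsum k hk hkM
      obtain ⟨a, ha, b, hb, hab⟩ := Subgroup.mem_sup.1 (hs.ge (Subgroup.mem_top y))
      have hbF : b ∉ F := fun hbF => hyF (hinf.le ⟨hab ▸ Cp.mul_mem ha (hFCp hbF), hy⟩)
      have heb : e b * b⁻¹ ∈ F := by
        have h1 := F.mul_mem hey (F.inv_mem (ha e he))
        rw [← hab, map_mul, mul_inv, mul_mul_mul_comm, mul_comm (e a * a⁻¹), mul_inv_cancel_right] at h1
        exact h1
      have hek : e * k ∈ G := G.mul_mem (hBG he) hk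
      have heb' : e b ∈ fixMod F (conjSub k B) := by
        have := (fixMod F (conjSub k B)).mul_mem ((hsum k hk hkM).2.ge heb).2 hb
        rwa [inv_mul_cancel_right] at this
      have hb' : e b ∈ fixMod F (conjSub (e * k) B) := by
        rw [conjSub_mul, fixMod_conjSub (hFinv e (hBG he))]
        exact ⟨b, hb, rfl⟩
      have hebF : e b ∉ F := fun h => hbF <| by
        have := F.mul_mem (F.inv_mem heb) h
        rwa [mul_inv_rev, inv_inv, mul_assoc, inv_mul_cancel, mul_one] at this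
      have := hconjeq k hk (e * k) hek (e b) hebF heb' hb'
      rw [MulAut.mul_apply] at this
      exact this.symm
  -- an element of `Cp` moved by a conjugate
  have hFne : x ∉ Cg := fun hxg => hgM fun b hb => by
    obtain ⟨a, ha, rfl⟩ := hb
    refine ⟨G.mul_mem (G.mul_mem hg (hBG ha)) (G.inv_mem hg), ?_⟩
    have h2 := hconjeq 1 G.one_mem g hg x hxF
      (by rw [conjSub_one]; exact fixOf_le_fixMod F B hxC) hxg
    rw [MulAut.one_apply] at h2
    show g (a (g⁻¹ x)) = x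
    have h3 : g⁻¹ x = x := by conv_lhs => rw [h2]; rw [MulAut.inv_apply_self]
    rw [h3, hSx a (hBS ha), ← h2]
  obtain ⟨b, hb, hbx⟩ : ∃ b ∈ conjSub g B, b x * x⁻¹ ∉ F := by
    by_contra hall
    push Not at hall
    exact hFne hall
  have hxCp : x ∈ Cp := fixOf_le_fixMod F B hxC
  set y := b x * x⁻¹ with hy
  have hyg : y ∈ Cg := fixOf_le_fixMod F _ (IsMinOff.quadratic hV (hPc g B hB) x b hb)
  -- the map `c ↦ [y, c]` onto `Cp / F`
  have hcard2 : Nat.card Cp ≤ Nat.card B * Nat.card F := by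
    have hCg_card : Nat.card Cg = Nat.card Cp := by
      rw [hCg, hCp' g hg, Subgroup.card_map_of_injective g.injective]
    have h1 := Subgroup.card_mul_index (F.subgroupOf Cg)
    have h2 := Subgroup.card_mul_index (Cp.subgroupOf (Cp ⊔ Cg))
    rw [Nat.card_congr (Subgroup.subgroupOfEquivOfLe (show F ≤ Cg from hinf ▸ inf_le_right)).toEquiv] at h1
    rw [Nat.card_congr (Subgroup.subgroupOfEquivOfLe (le_sup_left : Cp ≤ Cp ⊔ Cg)).toEquiv,
      hsup, Subgroup.card_top] at h2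
    have h3 : F.relIndex Cg = Cp.relIndex (⊤ : Subgroup V) := by
      conv_lhs => rw [← hinf]
      rw [Subgroup.inf_relIndex_right, ← hsup, Subgroup.relIndex_sup_left]
    rw [Subgroup.relIndex, Subgroup.relIndex] at h3
    have h4 : Nat.card V ≤ Nat.card B * Nat.card Cp :=
      hB.1.2.2.2.trans (Nat.mul_le_mul le_rfl (Subgroup.card_le_of_le (fixOf_le_fixMod F B)))
    rw [← h2, ← h3, mul_comm (Nat.card B) (Nat.card Cp)] at h4
    have h5 := Nat.le_of_mul_le_mul_left h4 Nat.card_pos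
    rw [← hCg_card, ← h1, mul_comm]
    exact Nat.mul_le_mul h5 le_rfl
  obtain ⟨c, hc, hcy⟩ : ∃ c ∈ B, c y * y⁻¹ * x⁻¹ ∈ F := by
    let ψ : B → Cp ⧸ F.subgroupOf Cp := fun c =>
      QuotientGroup.mk ⟨(c : MulAut V) y * y⁻¹, fixOf_le_fixMod F B (hquad y c c.2)⟩
    have hψ : Function.Injective ψ := fun c d hcd => by
      have h1 := QuotientGroup.eq.1 hcd
      rw [Subgroup.mem_subgroupOf] at h1
      refine Subtype.ext (inv_mul_eq_one.1 (hmove y hyg hbx _ (B.mul_mem (B.inv_mem c.2) d.2) ?_))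
      have h2 : ((c : MulAut V) y * y⁻¹)⁻¹ * ((d : MulAut V) y * y⁻¹) ∈ F := h1
      rw [mul_inv_rev, inv_inv, mul_comm y, mul_assoc, mul_comm ((d : MulAut V) y) y⁻¹,
        mul_inv_cancel_left] at h2
      have h3 := hFB _ (B.inv_mem c.2) _ h2
      rw [map_mul, map_inv, MulAut.inv_apply_self] at h3
      rw [MulAut.mul_apply, mul_comm]
      exact h3
    have hq : Nat.card (Cp ⧸ F.subgroupOf Cp) ≤ Nat.card B := by
      have h1 := Subgroup.card_mul_index (F.subgroupOf Cp)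
      rw [Nat.card_congr (Subgroup.subgroupOfEquivOfLe hFCp).toEquiv, Subgroup.index_eq_card] at h1
      rw [← h1, mul_comm (Nat.card B)] at hcard2
      exact Nat.le_of_mul_le_mul_left hcard2 Nat.card_pos
    haveI : Fintype B := Fintype.ofFinite _
    haveI : Fintype (Cp ⧸ F.subgroupOf Cp) := Fintype.ofFinite _
    have hbij : Function.Bijective ψ := (Fintype.bijective_iff_injective_and_card ψ).2
      ⟨hψ, le_antisymm (Fintype.card_le_of_injective ψ hψ)
        (by rwa [← Nat.card_eq_fintype_card, ← Nat.card_eq_fintype_card])⟩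
    obtain ⟨c, hc⟩ := hbij.2 (QuotientGroup.mk ⟨x, hxCp⟩)
    refine ⟨c, c.2, ?_⟩
    have h1 := QuotientGroup.eq.1 hc
    rw [Subgroup.mem_subgroupOf] at h1
    have h2 : ((c : MulAut V) y * y⁻¹)⁻¹ * x ∈ F := h1
    have h3 := F.inv_mem h2
    rwa [mul_inv_rev, inv_inv, mul_comm x⁻¹] at h3
  -- the symmetric group of degree three on `U / F`
  have hbG : b ∈ G := by
    obtain ⟨a, ha, rfl⟩ := hb
    exact G.mul_mem (G.mul_mem hg (hBG ha)) (G.inv_mem hg)
  have hcG := hBG hc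
  let q := QuotientGroup.mk' F
  have hq : ∀ {s t : V}, q s = q t ↔ s * t⁻¹ ∈ F := fun {s t} => by
    rw [← mul_inv_eq_one, ← map_inv, ← map_mul]
    exact QuotientGroup.eq_one_iff _
  have hqF : ∀ (k : MulAut V), k ∈ G → ∀ s t, q s = q t → q (k s) = q (k t) := fun k hk s t h => by
    rw [hq] at h ⊢
    rw [← map_inv, ← map_mul]
    exact (hFinv k hk).le ⟨_, h, rfl⟩
  have hsq : ∀ v : V, v * v ∈ F := fun v k hk => by
    have hle : (⊤ : Subgroup V) ≤ (fixOf G).comap (powMonoidHom 2) := by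
      rw [← hgen, Subgroup.closure_le]
      rintro _ ⟨m, hm, rfl⟩ l hl
      show l (m x ^ 2) = m x ^ 2
      rw [pow_two, ← map_mul, hx2 m hm, hx2 l hl]
    have h := hle (Subgroup.mem_top v) k (hG₀G hk)
    rwa [show (powMonoidHom 2 : V →* V) v = v * v from pow_two v] at h
  have hqs : ∀ v, q (v * v) = 1 := fun v => (QuotientGroup.eq_one_iff _).2 (hsq v)
  have hcx : c x = x := hxC c hc
  have hby : q (b y) = q y := hq.2 (hyg b hb)
  have hcy' : q (c y) = q (y * x) := hq.2 (by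
    rw [mul_inv, ← mul_assoc]
    exact hcy)
  have hbx' : q (b x) = q (y * x) := by rw [hy, inv_mul_cancel_right]
  set l := c * b with hl
  have hlG : l ∈ G := G.mul_mem hcG hbG
  have hlx : q (l x) = q y := by
    rw [hl, MulAut.mul_apply, hqF c hcG _ _ hbx', map_mul, map_mul, hcy', hcx, map_mul, mul_assoc,
      ← map_mul q x x, hqs, mul_one]
  have hly : q (l y) = q (y * x) := by rw [hl, MulAut.mul_apply, hqF c hcG _ _ hby, hcy']
  have hlyx : q (l (y * x)) = q x := by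
    rw [map_mul, map_mul, hlx, hly, map_mul, mul_comm (q y) (q x), mul_assoc, ← map_mul q y y, hqs, mul_one]
  set U := F ⊔ Subgroup.closure {x, y} with hU
  have hxU : x ∈ U := Subgroup.mem_sup_right (Subgroup.subset_closure (by simp))
  have hyU : y ∈ U := Subgroup.mem_sup_right (Subgroup.subset_closure (by simp))
  have hmemU : ∀ s t : V, q s = q t → t ∈ U → s ∈ U := fun s t h ht => by
    have := U.mul_mem (Subgroup.mem_sup_left (hq.1 h) : s * t⁻¹ ∈ U) ht
    rwa [inv_mul_cancel_right] at this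
  have hpres : ∀ k ∈ G, k x ∈ U → k y ∈ U → ∀ u ∈ U, k u ∈ U := fun k hk h1 h2 => by
    have hle : U ≤ U.comap k.toMonoidHom := sup_le
      (fun f hf => Subgroup.mem_sup_left ((hFinv k hk).le ⟨f, hf, rfl⟩))
      ((Subgroup.closure_le _).2 (by rintro s (rfl | rfl) <;> assumption))
    exact fun u hu => hle hu
  have htriv : ∀ k ∈ G, q (k x) = q x → q (k y) = q y → ∀ u ∈ U, k u * u⁻¹ ∈ F := by
    intro k hk h1 h2
    have hle : U ≤ (q.comp k.toMonoidHom).eqLocus q := sup_le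
      (fun f hf => by
        show q (k f) = q f
        exact hq.2 (F.mul_mem ((hFinv k hk).le ⟨f, hf, rfl⟩) (F.inv_mem hf)))
      ((Subgroup.closure_le _).2 (by rintro s (rfl | rfl) <;> assumption))
    exact fun u hu => hq.1 (hle hu)
  have hcyU : c y ∈ U := hmemU _ _ hcy' (U.mul_mem hyU hxU)
  have hcc : ∀ u ∈ U, (c * c) u * u⁻¹ ∈ F := htriv _ (G.mul_mem hcG hcG)
    (by rw [MulAut.mul_apply, hcx, hcx]) (by
      rw [MulAut.mul_apply, hqF c hcG _ _ hcy', map_mul, map_mul, hcy', hcx, map_mul, mul_assoc,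
        ← map_mul q x x, hqs, mul_one])
  have hl3 : ∀ u ∈ U, (l ^ 3) u * u⁻¹ ∈ F := by
    refine htriv _ (G.pow_mem hlG 3) ?_ ?_
    · rw [pow_succ, pow_succ, pow_one, MulAut.mul_apply, MulAut.mul_apply,
        hqF l hlG _ _ (hqF l hlG _ _ hlx), hqF l hlG _ _ hly, hlyx]
    · rw [pow_succ, pow_succ, pow_one, MulAut.mul_apply, MulAut.mul_apply,
        hqF l hlG _ _ (hqF l hlG _ _ hly), hqF l hlG _ _ hlyx, hlx]
  have hcinv_x : c⁻¹ x = x := by conv_lhs => rw [← hcx]; rw [MulAut.inv_apply_self]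
  have hcinv_y : q (c⁻¹ y) = q (y * x) := by
    have h1 := hqF c⁻¹ (G.inv_mem hcG) _ _ hcy'
    rw [MulAut.inv_apply_self, map_mul (c⁻¹), hcinv_x] at h1
    rw [map_mul q y x, h1, map_mul q (c⁻¹ y) x, mul_assoc, ← map_mul q x x, hqs, mul_one]
  have hdih : ∀ u ∈ U, (c * l * c⁻¹ * l) u * u⁻¹ ∈ F := by
    refine htriv _ (G.mul_mem (G.mul_mem (G.mul_mem hcG hlG) (G.inv_mem hcG)) hlG) ?_ ?_
    · rw [MulAut.mul_apply, MulAut.mul_apply, MulAut.mul_apply,
        hqF c hcG _ _ (hqF l hlG _ _ (hqF c⁻¹ (G.inv_mem hcG) _ _ hlx)),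
        hqF c hcG _ _ (hqF l hlG _ _ hcinv_y), hqF c hcG _ _ hlyx, hcx]
    · rw [MulAut.mul_apply, MulAut.mul_apply, MulAut.mul_apply,
        hqF c hcG _ _ (hqF l hlG _ _ (hqF c⁻¹ (G.inv_mem hcG) _ _ hly))]
      have h1 : q (c⁻¹ (y * x)) = q y := by
        rw [map_mul, map_mul, hcinv_y, hcinv_x, map_mul, mul_assoc, ← map_mul q x x, hqs,
          mul_one]
      rw [hqF c hcG _ _ (hqF l hlG _ _ h1), hqF c hcG _ _ hly, map_mul, map_mul, hcy', hcx,
        map_mul, mul_assoc, ← map_mul q x x, hqs, mul_one]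
  have hfinal := hfree U F c l hcG hlG le_sup_left (fun u _ => hsq u) (hpres c hcG (hcx.symm ▸ hxU) hcyU)
    (hpres l hlG (hmemU _ _ hlx hyU) (hmemU _ _ hly (U.mul_mem hyU hxU)))
    (fun f hf => (hFinv c hcG).le ⟨f, hf, rfl⟩) (fun f hf => (hFinv l hlG).le ⟨f, hf, rfl⟩)
    hcc hl3 hdih x hxU
  have h1 := hq.2 hfinal
  rw [hlx] at h1
  -- `y ≡ x` puts `y` into `Cp ⊓ Cg = F`
  refine hbx (hinf.le ⟨?_, hyg⟩)
  have h2 := Cp.mul_mem (hFCp (hq.1 h1)) hxCp
  rwa [inv_mul_cancel_right] at h2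

end Main

section Induction

/-- The action of a group of automorphisms on an invariant subgroup. -/
def restrictHom (G : Subgroup (MulAut V)) (W : Subgroup V) (hW : ∀ g ∈ G, ∀ w ∈ W, g w ∈ W) :
    G →* MulAut W where
  toFun g :=
    { toFun := fun w => ⟨(g : MulAut V) w, hW g g.2 w w.2⟩
      invFun := fun w => ⟨((g : MulAut V))⁻¹ w, hW _ (G.inv_mem g.2) w w.2⟩
      left_inv := fun w => Subtype.ext (MulAut.inv_apply_self V (g : MulAut V) w)
      right_inv := fun w => Subtype.ext (MulAut.apply_inv_self V (g : MulAut V) w)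
      map_mul' := fun a b => Subtype.ext (map_mul (g : MulAut V) (a : V) b) }
  map_one' := MulEquiv.ext fun w => rfl
  map_mul' := fun g h => MulEquiv.ext fun w => rfl

theorem restrictHom_apply {G : Subgroup (MulAut V)} {W : Subgroup V}
    {hW : ∀ g ∈ G, ∀ w ∈ W, g w ∈ W} (g : G) (w : W) :
    ((restrictHom G W hW g w : W) : V) = (g : MulAut V) w := rfl

theorem NoThree.restrict {G : Subgroup (MulAut V)} (hG : NoThree G) {W : Subgroup V}
    (hW : ∀ g ∈ G, ∀ w ∈ W, g w ∈ W) : NoThree (restrictHom G W hW).range := by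
  rintro U F _ _ ⟨c, rfl⟩ ⟨l, rfl⟩ hFU hsqU hcU hlU hcF hlF hcc hl3 hdih
  have hmap : ∀ (A : Subgroup W) (k : G), (∀ u ∈ A, restrictHom G W hW k u ∈ A) →
      ∀ u ∈ A.map W.subtype, (k : MulAut V) u ∈ A.map W.subtype := by
    rintro A k h _ ⟨u, hu, rfl⟩
    exact ⟨_, h u hu, rfl⟩
  have hdiff : ∀ k : G, (∀ u ∈ U, restrictHom G W hW k u * u⁻¹ ∈ F) →
      ∀ u ∈ U.map W.subtype, (k : MulAut V) u * u⁻¹ ∈ F.map W.subtype := by
    rintro k h _ ⟨u, hu, rfl⟩
    exact ⟨_, h u hu, rfl⟩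
  intro u hu
  have e1 : ∀ u ∈ U.map W.subtype, ((c : MulAut V) * (c : MulAut V)) u * u⁻¹ ∈ F.map W.subtype :=
    hdiff (c * c) fun u hu => by rw [map_mul]; exact hcc u hu
  have e2 : ∀ u ∈ U.map W.subtype, ((l : MulAut V) ^ 3) u * u⁻¹ ∈ F.map W.subtype := fun u hu => by
    rw [← Subgroup.coe_pow]
    exact hdiff (l ^ 3) (fun u hu => by rw [map_pow]; exact hl3 u hu) u hu
  have e3 : ∀ u ∈ U.map W.subtype,
      ((c : MulAut V) * (l : MulAut V) * (c : MulAut V)⁻¹ * (l : MulAut V)) u * u⁻¹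
        ∈ F.map W.subtype :=
    hdiff (c * l * c⁻¹ * l) fun u hu => by
      rw [map_mul, map_mul, map_mul, map_inv]
      exact hdih u hu
  obtain ⟨f, hf, hfu⟩ := hG (U.map W.subtype) (F.map W.subtype) c l c.2 l.2 (Subgroup.map_mono hFU)
    (by rintro _ ⟨v, hv, rfl⟩; exact ⟨_, hsqU v hv, rfl⟩)
    (hmap U c hcU) (hmap U l hlU) (hmap F c hcF) (hmap F l hlF) e1 e2 e3 u ⟨u, hu, rfl⟩
  have : f = restrictHom G W hW l u * u⁻¹ := Subtype.ext hfu
  exact this ▸ hf

/-- The image of a good subgroup on an invariant subgroup is good. -/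
theorem Good.restrict {G A : Subgroup (MulAut V)} (hA : Good A) (hAG : A ≤ G) {W : Subgroup V}
    (hW : ∀ g ∈ G, ∀ w ∈ W, g w ∈ W) : Good ((A.subgroupOf G).map (restrictHom G W hW)) := by
  obtain ⟨hA2, hAc, hAoff⟩ := hA
  refine ⟨(hA2.of_equiv (Subgroup.subgroupOfEquivOfLe hAG).symm).map _, ?_, fun U hU => ?_⟩
  · rintro _ ⟨a, ha, rfl⟩ _ ⟨b, hb, rfl⟩
    rw [← map_mul, ← map_mul]
    congr 1
    exact Subtype.ext (hAc _ ha _ hb)
  set A' := (A.subgroupOf G).map (restrictHom G W hW) with hA'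
  let φ : A →* MulAut W := (restrictHom G W hW).comp (Subgroup.inclusion hAG)
  have hrange : φ.range = A' := by
    ext m
    constructor
    · rintro ⟨a, rfl⟩
      exact ⟨Subgroup.inclusion hAG a, a.2, rfl⟩
    · rintro ⟨a, ha, rfl⟩
      exact ⟨⟨(a : MulAut V), ha⟩, rfl⟩
  set U₀ := U.map W.subtype with hU₀
  have hinv : ∀ a ∈ A, ∀ u ∈ U₀, a u ∈ U₀ := by
    rintro a ha _ ⟨u, hu, rfl⟩
    exact ⟨_, hU _ ⟨⟨a, hAG ha⟩, ha, rfl⟩ u hu, rfl⟩
  have h0 := hAoff U₀ hinv
  have hfix : U₀ ⊓ fixOf A = (U ⊓ fixOf A').map W.subtype := by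
    ext v
    constructor
    · rintro ⟨⟨u, hu, rfl⟩, hv⟩
      refine ⟨u, ⟨hu, ?_⟩, rfl⟩
      rintro _ ⟨a, ha, rfl⟩
      exact Subtype.ext (hv a ha)
    · rintro ⟨u, ⟨hu, hfu⟩, rfl⟩
      exact ⟨⟨u, hu, rfl⟩, fun a ha => congrArg Subtype.val (hfu _ ⟨⟨a, hAG ha⟩, ha, rfl⟩)⟩
  have hker : (A' ⊓ kerOn U).comap φ = (A ⊓ kerOn U₀).subgroupOf A := by
    ext a
    rw [Subgroup.mem_comap, Subgroup.mem_subgroupOf]
    constructor
    · rintro ⟨-, ha⟩
      refine ⟨a.2, ?_⟩
      rintro _ ⟨u, hu, rfl⟩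
      exact congrArg Subtype.val (ha u hu)
    · rintro ⟨-, ha⟩
      exact ⟨hrange.le ⟨a, rfl⟩, fun u hu => Subtype.ext (ha _ ⟨u, hu, rfl⟩)⟩
  have h1 := Subgroup.card_mul_index ((A' ⊓ kerOn U).comap φ)
  rw [Subgroup.index_comap, hrange, hker,
    Nat.card_congr (Subgroup.subgroupOfEquivOfLe (inf_le_left : A ⊓ kerOn U₀ ≤ A)).toEquiv] at h1
  have h2 := Subgroup.card_mul_index φ.ker
  rw [Subgroup.index_ker, hrange] at h2
  have h3 := Subgroup.card_mul_index ((A' ⊓ kerOn U).subgroupOf A')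
  rw [Nat.card_congr (Subgroup.subgroupOfEquivOfLe (inf_le_left : A' ⊓ kerOn U ≤ A')).toEquiv] at h3
  rw [hfix, Subgroup.card_map_of_injective W.subtype_injective,
    Subgroup.card_map_of_injective W.subtype_injective, ← h2] at h0
  have hX : Nat.card ↥(A ⊓ kerOn U₀) = Nat.card φ.ker * Nat.card ↥(A' ⊓ kerOn U) := by
    have hr : 0 < ((A' ⊓ kerOn U).subgroupOf A').index := Nat.pos_of_ne_zero fun h => by
      rw [h, mul_zero] at h3
      exact Nat.card_pos.ne h3
    refine Nat.eq_of_mul_eq_mul_right hr ?_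
    rw [mul_assoc, h3, h2]
    exact h1
  rw [hX] at h0
  refine Nat.le_of_mul_le_mul_left ?_ (Nat.card_pos (α := φ.ker))
  calc Nat.card φ.ker * (Nat.card U * Nat.card ↥(A' ⊓ kerOn U))
      = Nat.card U * (Nat.card φ.ker * Nat.card ↥(A' ⊓ kerOn U)) := by ring
    _ ≤ _ := h0.trans (le_of_eq (by ring))

end Induction

/-- An element fixed by a Sylow `2`-subgroup and by the normalizer of a weakly closed subgroup
generated by good subgroups is fixed, if there is no section `S₃`. -/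
theorem fixedGoal : ∀ n, FixedGoal.{u} n := by
  intro n
  induction n with
  | zero =>
    intro V _ _ G S J x hn
    have : 0 < Nat.card G := Nat.card_pos
    omega
  | succ n ih =>
    intro V _ _ G S J x hn hV hx2 hfree hSG hS hidx hSx hJS hJw hJgen hJN g hg
    set W := Subgroup.closure ((fun g : MulAut V => g x) '' (G : Set (MulAut V))) with hWdef
    by_cases htop : W = ⊤
    · by_cases hoff : ∃ A, A ≤ G ∧ IsOff A
      · exact (no_offender hV hx2 hfree hSG hS hidx hSx htop hoff hJS hJw hJgen hJN hn ih).elim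
      · obtain ⟨𝒜, hJ, h𝒜⟩ := hJgen
        have hbot : J = ⊥ := by
          rw [hJ, sSup_eq_bot]
          intro A hA
          by_contra hne
          exact hoff ⟨A, ((le_sSup hA).trans hJ.ge).trans (hJS.trans hSG), (h𝒜 A hA).isOff hne⟩
        exact hJN g hg (by rw [hbot]; exact Subgroup.map_bot _)
    have hxW : x ∈ W := Subgroup.subset_closure ⟨1, G.one_mem, rfl⟩
    have hW : ∀ k ∈ G, ∀ w ∈ W, k w ∈ W := fun k hk => by
      have hle : W ≤ W.comap k.toMonoidHom := by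
        refine (Subgroup.closure_le _).2 ?_
        rintro _ ⟨l, hl, rfl⟩
        exact Subgroup.subset_closure ⟨k * l, G.mul_mem hk hl, rfl⟩
      exact fun w hw => hle hw
    set π := restrictHom G W hW with hπ
    obtain ⟨𝒜, hJ, h𝒜⟩ := hJgen
    have hJG : J ≤ G := hJS.trans hSG
    have h𝒜G : ∀ A ∈ 𝒜, A ≤ G := fun A hA => ((le_sSup hA).trans hJ.ge).trans hJG
    set S' := (S.subgroupOf G).map π with hS'
    set J' := (J.subgroupOf G).map π with hJ'
    -- `J` is weakly closed in every `2`-subgroup containing it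
    have hweak : ∀ T : Subgroup (MulAut V), J ≤ T → T ≤ G → IsPGroup 2 T → ∀ a ∈ G,
        conjSub a J ≤ T → conjSub a J = J := by
      intro T hJT hTG hT a ha haT
      obtain ⟨m, hm, hmT⟩ := exists_conj_le_of_sylow hS hSG hidx hT hTG
      have h1 := hJw m hm ((conjSub_mono hJT).trans hmT)
      have h2 := hJw (m * a) (G.mul_mem hm ha) (by rw [conjSub_mul]; exact (conjSub_mono haT).trans hmT)
      rw [conjSub_mul] at h2
      exact Subgroup.map_injective (f := (MulAut.conj m).toMonoidHom) (MulAut.conj m).injective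
        (h2.trans h1.symm)
    have hSJ : ∀ s ∈ S, conjSub s J = J := fun s hs => hJw s (hSG hs) (by
      rintro _ ⟨j, hj, rfl⟩
      exact S.mul_mem (S.mul_mem hs (hJS hj)) (S.inv_mem hs))
    have himg : ∀ (a : G), conjSub (π a) J' = ((conjSub (a : MulAut V) J).subgroupOf G).map π := by
      intro a
      ext m
      constructor
      · rintro ⟨_, ⟨j, hj, rfl⟩, rfl⟩
        refine ⟨a * j * a⁻¹, ?_, by simp⟩
        rw [SetLike.mem_coe, Subgroup.mem_subgroupOf]
        exact ⟨j, hj, rfl⟩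
      · rintro ⟨b, ⟨j, hj, hjb⟩, rfl⟩
        have hb : b = a * ⟨j, hJG hj⟩ * a⁻¹ := Subtype.ext hjb.symm
        exact ⟨π ⟨j, hJG hj⟩, ⟨⟨j, hJG hj⟩, hj, rfl⟩, by rw [hb]; simp⟩
    have hlt : Nat.card π.range + Nat.card W ≤ n := by
      have h1 : Nat.card π.range ≤ Nat.card G :=
        Nat.card_le_card_of_surjective π.rangeRestrict π.rangeRestrict_surjective
      have h2 : Nat.card W < Nat.card V := by
        refine lt_of_le_of_ne (Subgroup.card_le_card_group W) fun h => htop ?_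
        exact Subgroup.eq_top_of_card_eq W h
      omega
    have key := ih W π.range S' J' ⟨x, hxW⟩ hlt (hV.to_subgroup W)
      (by rintro _ ⟨a, rfl⟩; exact Subtype.ext (hx2 _ a.2)) (hfree.restrict hW)
      (Subgroup.map_le_range π _)
      ((hS.of_equiv (Subgroup.subgroupOfEquivOfLe hSG).symm).map π) ?_ ?_
      (Subgroup.map_mono (Subgroup.comap_mono hJS)) ?_
      ⟨(fun A : Subgroup (MulAut V) => (A.subgroupOf G).map π) '' 𝒜, ?_, ?_⟩ ?_ (π ⟨g, hg⟩) ⟨⟨g, hg⟩, rfl⟩
    · exact congrArg Subtype.val key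
    · intro h
      have h1 : (S.subgroupOf G).map π.rangeRestrict = S'.subgroupOf π.range := by
        ext m
        exact ⟨fun ⟨a, ha, he⟩ => ⟨a, ha, congrArg Subtype.val he⟩,
          fun ⟨a, ha, he⟩ => ⟨a, ha, Subtype.ext he⟩⟩
      rw [Subgroup.relIndex, ← h1] at h
      exact hidx (h.trans (Subgroup.index_map_dvd _ π.rangeRestrict_surjective))
    · rintro _ ⟨s, hs, rfl⟩
      exact Subtype.ext (hSx s hs)
    · rintro _ ⟨a, rfl⟩ ha
      set SK := (S'.comap π).map G.subtype with hSK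
      have hSSK : S ≤ SK := fun s hs => ⟨⟨s, hSG hs⟩, ⟨⟨s, hSG hs⟩, hs, rfl⟩, rfl⟩
      have hSKG : SK ≤ G := Subgroup.map_subtype_le _
      have hidxK : ¬ 2 ∣ S.relIndex SK := fun h => hidx (h.trans
        (Dvd.intro _ (Subgroup.relIndex_mul_relIndex S SK G hSSK hSKG)))
      have hle : conjSub (a : MulAut V) J ≤ SK := by
        rintro _ ⟨j, hj, rfl⟩
        refine ⟨a * ⟨j, hJG hj⟩ * a⁻¹, ha ?_, rfl⟩
        exact ⟨π ⟨j, hJG hj⟩, ⟨⟨j, hJG hj⟩, hj, rfl⟩, by simp⟩
      obtain ⟨m, hm, hmS⟩ := exists_conj_le_of_sylow hS hSSK hidxK ((hS.to_le hJS).map _) hle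
      obtain ⟨m, hmK, rfl⟩ := hm
      obtain ⟨s, hs, hsm⟩ := hmK
      have h1 := hJw (m * a) (m * a).2 (by
        rw [conjSub_mul]
        exact hmS)
      have h3 : conjSub (π (m * a)) J' = J' := by rw [himg, Subgroup.coe_mul, h1]
      have h4 : conjSub (π s) J' = J' := by rw [himg, hSJ s hs]
      rw [map_mul, conjSub_mul, ← hsm] at h3
      exact Subgroup.map_injective (f := (MulAut.conj (π s)).toMonoidHom) (MulAut.conj (π s)).injective
        (h3.trans h4.symm)
    · refine le_antisymm ?_ (sSup_le ?_)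
      · rintro _ ⟨j, hj, rfl⟩
        have hle : J ≤ ((sSup ((fun A : Subgroup (MulAut V) => (A.subgroupOf G).map π) '' 𝒜)).comap π).map G.subtype := by
          rw [hJ]
          refine sSup_le fun A hA a ha => ⟨⟨a, h𝒜G A hA ha⟩, ?_, rfl⟩
          exact (le_sSup (Set.mem_image_of_mem (fun A : Subgroup (MulAut V) => (A.subgroupOf G).map π) hA) : _ ≤ _)
            ⟨⟨a, h𝒜G A hA ha⟩, ha, rfl⟩
        obtain ⟨b, hb, hbj⟩ := hle hj
        rwa [show b = j from Subtype.ext hbj] at hb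
      · rintro _ ⟨A, hA, rfl⟩
        exact Subgroup.map_mono (Subgroup.comap_mono ((le_sSup hA).trans hJ.ge))
    · rintro _ ⟨A, hA, rfl⟩
      exact (h𝒜 A hA).restrict (h𝒜G A hA) hW
    · rintro _ ⟨a, rfl⟩ ha
      set JK := (J'.comap π).map G.subtype with hJK
      have hJJK : J ≤ JK := fun j hj => ⟨⟨j, hJG hj⟩, ⟨⟨j, hJG hj⟩, hj, rfl⟩, rfl⟩
      have hJKG : JK ≤ G := Subgroup.map_subtype_le _
      obtain ⟨T₀, hT₀⟩ := ((hS.to_le hJS).of_equiv
        (Subgroup.subgroupOfEquivOfLe hJJK).symm).exists_le_sylow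
      set T := (T₀ : Subgroup JK).map JK.subtype with hT
      have hJT : J ≤ T := fun j hj => ⟨⟨j, hJJK hj⟩, hT₀ hj, rfl⟩
      have hle : conjSub (a : MulAut V) J ≤ JK := by
        rintro _ ⟨j, hj, rfl⟩
        refine ⟨a * ⟨j, hJG hj⟩ * a⁻¹, ha.le ?_, rfl⟩
        exact ⟨π ⟨j, hJG hj⟩, ⟨⟨j, hJG hj⟩, hj, rfl⟩, by simp⟩
      obtain ⟨m, hm, hmT⟩ := exists_conj_le_of_sylow (T₀.isPGroup'.map JK.subtype)
        (Subgroup.map_subtype_le _) (not_dvd_relIndex_of_sylow T₀) ((hS.to_le hJS).map _) hle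
      obtain ⟨m, hmK, rfl⟩ := hm
      obtain ⟨j, hj, hjm⟩ := hmK
      have h1 := hweak T hJT ((Subgroup.map_subtype_le _).trans hJKG) (T₀.isPGroup'.map _) (m * a)
        (m * a).2 (by
          rw [conjSub_mul]
          exact hmT)
      have h2 := hJN _ (G.mul_mem m.2 a.2) h1
      have h3 : π (m * a) ⟨x, hxW⟩ = ⟨x, hxW⟩ := Subtype.ext h2
      rw [map_mul, MulAut.mul_apply, ← hjm] at h3
      have h4 : π j ⟨x, hxW⟩ = ⟨x, hxW⟩ := Subtype.ext (hSx j (hJS hj))
      exact (π j).injective (h3.trans h4.symm)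

end CfsgLib.Fusion.Offender
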