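import Cfsg.Agent.Lib.Fusion.FunctorNormal
import Cfsg.Agent.Lib.Fusion.ComplementCriterion
import Cfsg.Agent.Lib.PLocal.ZJTheorem
import Cfsg.Agent.Lib.PLocal.QdFree
import Cfsg.Agent.S5090

/-!
For odd `p` saturated systems without the section `Qd(p)` are constrained, realizable and solvable.
-/

set_option autoImplicit false
set_option linter.style.haveILetI false
set_option linter.unusedVariables false
set_option linter.unusedSectionVars false

universe u

namespace CfsgLib.Fusion

open Cfsg Cfsg.FusionSystem Subgroup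

/-- `Z(J(Q))`, as a functor. -/
abbrev zjFunc (Q : Type u) [Group Q] : Subgroup Q := Cfsg.centerThompsonAOf (⊤ : Subgroup Q)

theorem map_zjFunc {G : Type u} [Group G] (T : Subgroup G) :
    (zjFunc T).map T.subtype = Cfsg.centerThompsonAOf T := by
  rw [zjFunc, CfsgLib.Complement.centerThompsonAOf_map _ T.subtype_injective.injOn,
    ← MonoidHom.range_eq_map, Subgroup.range_subtype]

theorem zjFunc_ne_bot {p : ℕ} [Fact p.Prime] (hp : p ≠ 2) (Q : Type u) [Group Q] [Finite Q]
    (hQ : IsPGroup p Q) (hne : Nontrivial Q) : zjFunc Q ≠ ⊥ :=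
  (centerThompsonComplement.{u} p hp).ne_bot (⊤ : Subgroup Q) (hQ.to_subgroup _)
    (((Subgroup.nontrivial_iff_ne_bot (⊤ : Subgroup Q))).1
      (Subgroup.topEquiv (G := Q)).toEquiv.nontrivial)

theorem zjFunc_map_equiv {p : ℕ} (Q R : Type u) [Group Q] [Group R] [Finite Q]
    (_ : IsPGroup p Q) (φ : Q ≃* R) : (zjFunc Q).map φ.toMonoidHom = zjFunc R := by
  rw [zjFunc, CfsgLib.Complement.centerThompsonAOf_map _ φ.injective.injOn,
    Subgroup.map_top_of_surjective _ φ.surjective]

/-- Glauberman's theorem makes `Z(J(-))` a functor for groups without the section `Qd(p)`. -/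
theorem zjFunc_normalInFree {p : ℕ} [Fact p.Prime] (hp : p ≠ 2) :
    NormalInFree.{u} p ↥(Cfsg.qd p) zjFunc := by
  intro L _ _ P hc hfree
  rw [map_zjFunc]
  exact CfsgLib.PLocal.centerThompsonAOf_normal hp hc
    (fun B _ hB => CfsgLib.PLocal.isPStableOn_of_not_involves_qd hp hfree B hB) P

variable {Ω : Type u} [Group Ω] {S : Subgroup Ω} [Finite S] {F : FusionSystem S} {p : ℕ}
  [Fact p.Prime]

/-- For odd `p`, `Z(J(S))` is normal in a `Qd(p)`-free saturated system. -/
theorem isNormal_centerThompson_of_qdFree (hp : p ≠ 2) (hS : IsPGroup p S)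
    (hF : F.IsSaturated p) (hfree : F.IsSectionFree p ↥(Cfsg.qd p)) :
    F.IsNormal (Cfsg.centerThompsonAOf S) := by
  rw [← map_zjFunc]
  exact funcOn_isNormal zjFunc (zjFunc_ne_bot hp) zjFunc_map_equiv (zjFunc_normalInFree hp)
    Ω S F hS hF hfree

theorem core_ne_bot_of_qdFree (hp : p ≠ 2) (hS : IsPGroup p S) (hF : F.IsSaturated p)
    (hfree : F.IsSectionFree p ↥(Cfsg.qd p)) (hne : S ≠ ⊥) : F.core ≠ ⊥ := fun h => by
  refine funcOn_ne_bot zjFunc (zjFunc_ne_bot hp) hS hne (le_bot_iff.1 ?_)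
  rw [← h]
  exact IsNormal.le_core (funcOn_isNormal zjFunc (zjFunc_ne_bot hp) zjFunc_map_equiv
    (zjFunc_normalInFree hp) Ω S F hS hF hfree)

/-- For odd `p` a `Qd(p)`-free saturated system is constrained. -/
theorem isConstrained_of_qdFree (hp : p ≠ 2) (hS : IsPGroup p S) (hF : F.IsSaturated p)
    (hfree : F.IsSectionFree p ↥(Cfsg.qd p)) : F.IsConstrained p := by
  refine ⟨hF, F.core, core_isNormal, ?_⟩
  by_cases hne : S = ⊥
  · refine (IsNormal.centric_iff core_isNormal).2 fun x hx => ?_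
    have : x ∈ (⊥ : Subgroup Ω) := hne ▸ hx.1
    rw [Subgroup.mem_bot.1 this]
    exact one_mem _
  have hn := funcOn_isNormal zjFunc (zjFunc_ne_bot hp) zjFunc_map_equiv (zjFunc_normalInFree hp)
  exact centric_core_of_ne_bot zjFunc (zjFunc_ne_bot hp) zjFunc_map_equiv (zjFunc_normalInFree hp)
    hS hF hfree (fun Ω' _ S' _ F' _ hS' hF' hf' => hn Ω' S' F' hS' hF' hf')
    (fun F' _ hF' hf' => hn Ω S F' hS hF' hf') (core_ne_bot_of_qdFree hp hS hF hfree hne)

/-- For odd `p` a `Qd(p)`-free saturated system is realizable. -/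
theorem isRealizable_of_qdFree (hp : p ≠ 2) (hS : IsPGroup p S) (hF : F.IsSaturated p)
    (hfree : F.IsSectionFree p ↥(Cfsg.qd p)) : F.IsRealizable p := by
  obtain ⟨G, hG, ι, hfin, hr, hT, -⟩ :=
    Cfsg.Agent.S5090.result p hS F (isConstrained_of_qdFree hp hS hF hfree)
  exact ⟨G, hG, hfin, ι, hr, hT⟩

/-- For odd `p` a `Qd(p)`-free saturated system is solvable. -/
theorem isSolvableSystem_of_qdFree (hp : p ≠ 2) (hS : IsPGroup p S) (hF : F.IsSaturated p)
    (hfree : F.IsSectionFree p ↥(Cfsg.qd p)) : F.IsSolvableSystem := by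
  intro R hR hRS _ E hE
  have hn : normalizerIn S R = S := StronglyClosed.normalizerIn_eq hR
  have hRn : F.IsFullyNormalized R := ⟨hR.1, fun T hT => by
    rw [hn]; exact Subgroup.card_le_of_le inf_le_left⟩
  set N := normSys F R hR.1 hn with hNdef
  have hNs : N.IsSaturated p := isSaturated_normSys hS hF hR.1 hn
  have hNfree : N.IsSectionFree p ↥(Cfsg.qd p) := isSectionFree_castSys hn
    (isSectionFree_normalizer hS hF hRn (isNormalizerSystem_normalizerSys F R hR.1) hfree)
  have hRN : N.IsNormal R := isNormal_normSys_self hR.1 hn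
  set θ := QuotientGroup.mk' (R.subgroupOf S) with hθ
  obtain ⟨hRS', hker, hrange, hhom⟩ := hE
  have hNE : N.IsFactorSystem R θ E := by
    refine ⟨hRS', hker, hrange, fun P' φ' => (hhom P' φ').trans ?_⟩
    refine and_congr_right fun hP' => exists_congr fun φ => and_congr_left fun _ => ?_
    have hRA : R ≤ preimageAlong θ P' := le_preimageAlong_of_ker hker hRS'
    constructor
    · intro hφ
      have hm := isMap_of_hom hφ
      have hi : img R (toFun φ) = R := by
        haveI := finite_of_le hR.1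
        exact StronglyClosed.img_eq hR hm hRA
      obtain ⟨χ, hχ, hχf⟩ : IsMap N (preimageAlong θ P') (toFun φ) :=
        (isMap_normSys_iff hR.1 hn).2 ⟨hm.le, fun x hx => hm.mem hx, toFun φ,
          by rwa [sup_eq_left.2 hRA], fun _ _ => rfl, hi⟩
      have e : χ = φ := MonoidHom.ext fun x => (hχf x).trans (toFun_apply φ x)
      rwa [← e]
    · intro hφ
      obtain ⟨-, -, g, hg, hgx, -⟩ := (isMap_normSys_iff hR.1 hn).1 (isMap_of_hom hφ)
      obtain ⟨χ, hχ, hχf⟩ := (hg.mono le_sup_left).congr hgx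
      have e : χ = φ := MonoidHom.ext fun x => (hχf x).trans (toFun_apply φ x)
      rwa [← e]
  haveI : Finite θ.range := Subtype.finite
  haveI : Finite (⊤ : Subgroup (↥S ⧸ R.subgroupOf S)) := Subtype.finite
  have hTp : IsPGroup p (⊤ : Subgroup (↥S ⧸ R.subgroupOf S)) :=
    (hS.to_quotient _).to_subgroup _
  have hEs : E.IsSaturated p :=
    isSaturated_image hS hNs (isSurjectiveMorphism_factor hS hNs (IsNormal.stronglyClosed hRN) hNE)
  refine core_ne_bot_of_qdFree hp hTp hEs (isSectionFree_factor hS hNs hRN hNE hNfree) fun h => ?_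
  refine hRS (le_antisymm hR.1 fun x hx => ?_)
  refine (hker ⟨x, hx⟩).1 (Subgroup.mem_bot.1 ?_)
  rw [← h]
  exact Subgroup.mem_top _

end CfsgLib.Fusion
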