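import Cfsg.Agent.Lib.Fusion.PStableGroup
import Cfsg.Agent.Lib.Fusion.NormalCriteria
import Cfsg.Agent.Lib.Fusion.QdFree
import Cfsg.Agent.Lib.PLocal.StableControl
import Cfsg.Agent.Lib.Transfer.Frobenius

/-!
For `p > 3` the fusion system of a `p`-stable group is constrained.
-/

set_option autoImplicit false
set_option linter.style.haveILetI false
set_option linter.unusedVariables false
set_option linter.unusedSectionVars false

universe u

namespace CfsgLib.Fusion

open Cfsg Cfsg.FusionSystem Subgroup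
open scoped commutatorElement

variable {p : ℕ} [Fact p.Prime]

theorem centerThompsonAOf_normal_image {G : Type u} [Group G] (T : Subgroup G) {g : G}
    (hg : g ∈ normalizer (T : Set G)) :
    (Cfsg.centerThompsonAOf T).map (MulAut.conj g).toMonoidHom = Cfsg.centerThompsonAOf T := by
  rw [CfsgLib.Complement.centerThompsonAOf_map _ (MulAut.conj g).injective.injOn,
    show T.map (MulAut.conj g).toMonoidHom = T from mem_normalizer_iff_map_conj_eq.1 hg]

/-- For `p > 3` the centre of the Thompson subgroup is normal in a `p`-stable fusion system. -/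
theorem group_isNormal_centerThompson {G : Type u} [Group G] [Finite G] (hp : 3 < p)
    (hst : IsNormalizerPStable p G) (P : Sylow p G) :
    (groupFusionSystem (P : Subgroup G)).IsNormal (Cfsg.centerThompsonAOf (P : Subgroup G)) := by
  set W := Cfsg.centerThompsonAOf (P : Subgroup G) with hW
  have hWP : W ≤ (P : Subgroup G) := CfsgLib.Complement.centerThompsonAOf_le _
  refine ⟨hWP, fun R φ hφ => ?_⟩
  obtain ⟨hR, hφP, g, hg⟩ := hφ
  obtain ⟨x, hx, hxe⟩ := (CfsgLib.PLocal.controls_zj_of_isNormalizerPStable hp hst P R hR).2 g (by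
    rintro _ ⟨a, ha, rfl⟩
    show g * a * g⁻¹ ∈ (P : Subgroup G)
    have h1 := hφP ⟨a, ha⟩
    rwa [hg] at h1)
  have hxW : W.map (MulAut.conj x).toMonoidHom = W := mem_normalizer_iff_map_conj_eq.1 hx
  have hle : conjSub x (R ⊔ W) ≤ (P : Subgroup G) := by
    rw [conjSub, Subgroup.map_sup, sup_le_iff]
    refine ⟨?_, hxW.le.trans hWP⟩
    rintro _ ⟨a, ha, rfl⟩
    show x * a * x⁻¹ ∈ (P : Subgroup G)
    rw [← hxe a ha]
    have h1 := hφP ⟨a, ha⟩
    rwa [hg] at h1
  refine ⟨conjHom (R ⊔ W) x, ⟨sup_le hR hWP, fun a => hle (conj_mem_conjSub a.2), x, fun a => rfl⟩,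
    fun a => ((hg a).trans (hxe a a.2)).symm, ?_⟩
  ext y
  constructor
  · rintro ⟨a, ha, rfl⟩
    have h1 := mem_map_of_mem (MulAut.conj x).toMonoidHom (show (a : G) ∈ W from ha); rwa [hxW] at h1
  · intro hy
    rw [← hxW] at hy
    obtain ⟨a, ha, rfl⟩ := hy
    exact ⟨⟨a, mem_sup_right ha⟩, ha, rfl⟩

/-- Fusion above a normal centric-failing `p`-subgroup, for `p > 3`. -/
theorem exists_stronglyClosed_above {G : Type u} [Group G] [Finite G] (hp : 3 < p)
    (hst : IsNormalizerPStable p G) (P : Sylow p G) (Q : Subgroup G) [Q.Normal]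
    (hQP : Q ≤ P) (hC : ¬ (P : Subgroup G) ⊓ centralizer (Q : Set G) ≤ Q) :
    ∃ R : Subgroup G, R ≤ P ∧ ¬ R ≤ Q ∧ R ≤ centralizer (Q : Set G) ∧
      Q ⊓ centralizer (Q : Set G) ≤ R ∧ ⁅R, R⁆ ≤ Q ⊓ centralizer (Q : Set G) ∧
      ∀ x ∈ R, ∀ g : G, g * x * g⁻¹ ∈ (P : Subgroup G) → g * x * g⁻¹ ∈ R := by
  set C := centralizer (Q : Set G) with hCdef
  set Z := Q ⊓ C with hZ
  have hZn : Z.Normal := inferInstance
  set T := (P : Subgroup G) ⊓ C with hT
  have hZT : Z ≤ T := le_inf (inf_le_left.trans hQP) inf_le_right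
  obtain ⟨TS, hTS⟩ := CfsgLib.Transfer.exists_sylow_eq_subgroupOf P C
  let π := QuotientGroup.mk' Z
  have hπ : Function.Surjective π := QuotientGroup.mk'_surjective Z
  let f : C →* C.map π := π.subgroupMap C
  have hf : Function.Surjective f := π.subgroupMap_surjective C
  have hZp : IsPGroup p Z := P.isPGroup'.to_le (inf_le_left.trans hQP)
  have hfix : CfsgLib.PLocal.CoprimeFixes p (Z.subgroupOf C) := fun g _ =>
    mem_centralizer_iff.2 fun z hz =>
      Subtype.ext (mem_centralizer_iff.1 g.2 (z : G) (mem_inf.1 (mem_subgroupOf.1 hz)).1)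
  haveI : (Z.subgroupOf C).Normal := hZn.comap _
  have hker : f.ker = Z.subgroupOf C := by
    ext x
    rw [MonoidHom.mem_ker, Subtype.ext_iff]
    exact (QuotientGroup.eq_one_iff (x : G)).trans mem_subgroupOf.symm
  have hstC : IsNormalizerPStable p ↥(C.map π) :=
    CfsgLib.PLocal.isNormalizerPStable_equiv
      ((QuotientGroup.quotientMulEquivOfEq hker.symm).trans
        (QuotientGroup.quotientKerEquivOfSurjective f hf))
      (CfsgLib.PLocal.isNormalizerPStable_quotient hp
        (CfsgLib.PLocal.isNormalizerPStable_subgroup hst C) hZp.comap_subtype hfix)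
  set T' := TS.mapSurjective hf with hT'
  have hT'map : (T' : Subgroup (C.map π)).map (C.map π).subtype = T.map π := by
    rw [hT', Sylow.coe_mapSurjective, hTS, map_map,
      show (C.map π).subtype.comp f = π.comp C.subtype from rfl, ← map_map, subgroupOf_map_subtype]
  set W := Cfsg.centerThompsonAOf (T' : Subgroup (C.map π)) with hW
  have hWmap : W.map (C.map π).subtype = Cfsg.centerThompsonAOf (T.map π) := by
    rw [hW, CfsgLib.Complement.centerThompsonAOf_map _ (C.map π).subtype_injective.injOn, hT'map]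
  set R := (Cfsg.centerThompsonAOf (T.map π)).comap π with hR
  have hRT : R ≤ T := fun x hx => by
    obtain ⟨t, ht, hte⟩ := CfsgLib.Complement.centerThompsonAOf_le _ hx
    have h1 : t⁻¹ * x ∈ Z := QuotientGroup.eq.1 hte
    simpa using T.mul_mem ht (hZT h1)
  have hZR : Z ≤ R := fun z hz => by
    show π z ∈ Cfsg.centerThompsonAOf (T.map π)
    rw [show π z = 1 from (QuotientGroup.eq_one_iff z).2 hz]
    exact one_mem _
  have hRQ : ¬ R ≤ Q := by
    intro hle
    refine hC fun x hx => ?_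
    have hWbot : W = ⊥ := (map_eq_bot_iff_of_injective _ (C.map π).subtype_injective).1 <| by
      rw [hWmap]
      refine eq_bot_iff.2 fun y hy => ?_
      obtain ⟨r, rfl⟩ := hπ y
      exact mem_bot.2 ((QuotientGroup.eq_one_iff r).2 (mem_inf.2 ⟨hle hy, (hRT hy).2⟩))
    have hT'bot : (T' : Subgroup (C.map π)) = ⊥ := by
      by_contra hne
      exact (centerThompsonComplement.{u} p (by omega)).ne_bot _ T'.isPGroup' hne hWbot
    have h1 : π x ∈ T.map π := mem_map_of_mem π hx
    rw [← hT'map, hT'bot, Subgroup.map_bot, mem_bot] at h1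
    exact (mem_inf.1 ((QuotientGroup.eq_one_iff x).1 h1)).1
  have hinv : ∀ n ∈ normalizer (T : Set G), ∀ x ∈ R, n * x * n⁻¹ ∈ R := by
    intro n hn x hx
    show π (n * x * n⁻¹) ∈ Cfsg.centerThompsonAOf (T.map π)
    rw [map_mul, map_mul, map_inv, ← centerThompsonAOf_normal_image (T.map π)
      (g := π n) (le_normalizer_map π ⟨n, hn, rfl⟩)]
    exact mem_map_of_mem (MulAut.conj (π n)).toMonoidHom hx
  refine ⟨R, hRT.trans inf_le_left, hRQ, hRT.trans inf_le_right, hZR, ?_, ?_⟩
  · refine commutator_le.2 fun a ha b hb => (QuotientGroup.eq_one_iff _).1 ?_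
    show π ⁅a, b⁆ = 1
    rw [map_commutatorElement, commutatorElement_eq_one_iff_mul_comm]
    exact congrArg Subtype.val
      ((CfsgLib.Complement.centerThompsonAOf_comm (T.map π)).is_comm.comm ⟨π a, ha⟩ ⟨π b, hb⟩)
  · intro x hx g hgx
    have hfr : normalizer (T : Set G) ⊔ C = ⊤ := by
      have h1 := TS.normalizer_sup_eq_top
      rwa [hTS, subgroupOf_map_subtype] at h1
    have hg : g ∈ ((C ⊔ normalizer (T : Set G) : Subgroup G) : Set G) := by
      rw [sup_comm, hfr]; exact mem_top g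
    rw [normal_mul] at hg
    obtain ⟨c, hc, n, hn, rfl⟩ := hg
    set y := n * x * n⁻¹ with hy
    have hyR : y ∈ R := hinv n hn x hx
    have e : c * n * x * (c * n)⁻¹ = c * y * c⁻¹ := by rw [hy]; group
    rw [e] at hgx ⊢
    have hyC : y ∈ C := (hRT hyR).2
    have hcyT : c * y * c⁻¹ ∈ T := ⟨hgx, C.mul_mem (C.mul_mem hc hyC) (C.inv_mem hc)⟩
    set y' : C.map π := ⟨π y, mem_map_of_mem π hyC⟩ with hy'
    set c' : C.map π := ⟨π c, mem_map_of_mem π hc⟩ with hc'
    have hy'T : y' ∈ (T' : Subgroup (C.map π)) := by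
      refine (mem_map_iff_mem (C.map π).subtype_injective).1 ?_
      rw [hT'map]
      exact mem_map_of_mem π (hRT hyR)
    obtain ⟨m, hm, hme⟩ := (CfsgLib.PLocal.controls_zj_of_isNormalizerPStable hp hstC T' {y'}
      (Set.singleton_subset_iff.2 hy'T)).2 c' (by
        rintro _ ⟨a, rfl, rfl⟩
        refine (mem_map_iff_mem (C.map π).subtype_injective).1 ?_
        rw [hT'map]
        exact ⟨_, hcyT, by simp [hy', hc']⟩)
    have hy'W : y' ∈ W := by
      refine (mem_map_iff_mem (C.map π).subtype_injective).1 ?_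
      rw [hWmap]
      exact hyR
    have h2 := mem_map_of_mem (C.map π).subtype ((mem_normalizer_iff.1 hm y').1 hy'W)
    rw [hWmap, ← hme y' rfl] at h2
    show π (c * y * c⁻¹) ∈ Cfsg.centerThompsonAOf (T.map π)
    simpa [hy', hc'] using h2

/-- For `p > 3` the fusion system of a `p`-stable group is constrained. -/
theorem group_isConstrained_of_pStable {G : Type u} [Group G] [Finite G] (hp : 3 < p)
    (hst : IsNormalizerPStable p G) (P : Sylow p G) :
    (groupFusionSystem (P : Subgroup G)).IsConstrained p := by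
  set F := groupFusionSystem (P : Subgroup G) with hF
  set Q := F.core with hQ
  have hQn : F.IsNormal Q := core_isNormal
  refine ⟨group_isSaturated P, Q, hQn, (IsNormal.centric_iff hQn).2 ?_⟩
  by_contra hC
  set N := normalizer (Q : Set G) with hN
  have hPN : (P : Subgroup G) ≤ N := StronglyClosed.le_normalizer (IsNormal.stronglyClosed hQn)
  have hmap : ∀ (R : Subgroup G) (φ : R →* G), φ ∈ F.Hom R →
      ∃ h ∈ N, ∀ x : R, φ x = h * x * h⁻¹ := by
    intro R φ hφ
    obtain ⟨ψ, ⟨-, -, h, hh⟩, hψx, hψQ⟩ := hQn.2 R φ hφ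
    refine ⟨h, mem_normalizer_iff_map_conj_eq.2 ?_, fun x => (hψx x).symm.trans (hh _)⟩
    refine Eq.trans ?_ hψQ
    ext z
    constructor
    · rintro ⟨q, hq, rfl⟩
      exact ⟨⟨q, mem_sup_right hq⟩, hq, hh _⟩
    · rintro ⟨q, hq, rfl⟩
      exact ⟨q, hq, (hh q).symm⟩
  haveI : (Q.subgroupOf N).Normal := normal_in_normalizer
  obtain ⟨R, hRP, hRQ, hRC, hZR, hRR, hRsc⟩ := exists_stronglyClosed_above hp
    (CfsgLib.PLocal.isNormalizerPStable_subgroup hst N) (P.subtype hPN) (Q.subgroupOf N)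
    (by rw [Sylow.coe_subtype]; exact comap_mono hQn.1)
    (by
      intro hle
      refine hC fun x hx => ?_
      have hxC := mem_inf.1 hx
      refine hle (x := (⟨x, hPN hxC.1⟩ : N)) (mem_inf.2 ⟨?_, ?_⟩)
      · rw [Sylow.coe_subtype]; exact hxC.1
      · exact mem_centralizer_iff.2 fun q hq => Subtype.ext (mem_centralizer_iff.1 hxC.2 _ hq))
  set R' := R.map N.subtype with hR'
  set Z := Q ⊓ centralizer (Q : Set G) with hZ
  have hR'P : R' ≤ (P : Subgroup G) := by
    rintro _ ⟨r, hr, rfl⟩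
    have := hRP hr
    rwa [Sylow.coe_subtype] at this
  have hR'C : R' ≤ centralizer (Q : Set G) := by
    rintro _ ⟨r, hr, rfl⟩
    exact mem_centralizer_iff.2 fun q hq =>
      congrArg Subtype.val (mem_centralizer_iff.1 (hRC hr) ⟨q, le_normalizer hq⟩ hq)
  have hsc : F.StronglyClosed R' := by
    refine ⟨hR'P, fun A hA φ hφ a => ?_⟩
    obtain ⟨h, hh, hhx⟩ := hmap A φ hφ
    obtain ⟨r, hr, hre⟩ := hA a.2
    have h1 := hhx a
    rw [← hre] at h1
    rw [h1]
    refine ⟨⟨h, hh⟩ * r * ⟨h, hh⟩⁻¹, hRsc r hr _ ?_, rfl⟩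
    rw [Sylow.coe_subtype]
    show h * (r : G) * h⁻¹ ∈ (P : Subgroup G)
    exact h1 ▸ hφ.2.1 a
  have hZn : F.IsNormal Z := by
    refine isNormal_characteristic hQn inf_le_left ?_
    have : Z.subgroupOf Q = Subgroup.center Q := by
      ext x
      rw [mem_subgroupOf, hZ, mem_inf, Subgroup.mem_center_iff]
      exact ⟨fun h y => Subtype.ext (mem_centralizer_iff.1 h.2 y y.2), fun h =>
        ⟨x.2, mem_centralizer_iff.2 fun y hy => congrArg Subtype.val (h ⟨y, hy⟩)⟩⟩
    rw [this]
    infer_instance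
  have hZR' : Z ≤ R' := fun z hz => ⟨⟨z, le_normalizer hz.1⟩, hZR (mem_inf.2 ⟨hz.1,
    mem_centralizer_iff.2 fun q hq => Subtype.ext (mem_centralizer_iff.1 hz.2 _ hq)⟩), rfl⟩
  have hser : ⁅R', R'⁆ ≤ Z := by
    rw [hR', ← map_commutator]
    refine (map_mono hRR).trans ?_
    rintro _ ⟨z, hz, rfl⟩
    exact ⟨hz.1, mem_centralizer_iff.2 fun q hq =>
      congrArg Subtype.val (mem_centralizer_iff.1 hz.2 ⟨q, le_normalizer hq⟩ hq)⟩
  have hR'n : F.IsNormal R' := by
    refine isNormal_of_le_centricRadical P.isPGroup' (group_isSaturated P) hsc fun A hAc hAr => ?_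
    refine le_centricRadical_of_series P.isPGroup' hsc 2
      (fun i => if i = 0 then ⊥ else if i = 1 then Z else R') (if_pos rfl) rfl ?_ ?_ ?_ hAc hAr
    · intro i hi
      interval_cases i
      · exact bot_le
      · exact hZR'
    · intro i hi
      interval_cases i
      · refine le_of_eq (commutator_eq_bot_iff_le_centralizer.2 fun z hz => ?_)
        exact mem_centralizer_iff.2 fun r hr => (mem_centralizer_iff.1 (hR'C hr) z hz.1).symm
      · exact hser
    · intro i hi
      interval_cases i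
      · exact StronglyClosed.weaklyClosed (IsNormal.stronglyClosed isNormal_bot)
      · exact StronglyClosed.weaklyClosed (IsNormal.stronglyClosed hZn)
  refine hRQ fun r hr => ?_
  exact (IsNormal.le_core hR'n : R' ≤ Q) (mem_map_of_mem N.subtype hr)

end CfsgLib.Fusion
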