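import Cfsg.Agent.Lib.Fusion.PStableGroup
import Cfsg.Agent.Lib.Fusion.ModelBasic
import Cfsg.Agent.Lib.Fusion.Normal
import Cfsg.Agent.Lib.Fusion.NormalCriteria

/-!
`p`-stability of a fusion system is a local property.
-/

set_option autoImplicit false
set_option linter.style.haveILetI false
set_option linter.unusedVariables false
set_option linter.unusedSectionVars false

namespace CfsgLib.Fusion

open Cfsg Cfsg.FusionSystem Subgroup

variable {Ω : Type*} [Group Ω] {S : Subgroup Ω} {F : FusionSystem S} {p : ℕ} [Fact p.Prime]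
  {P Q R : Subgroup Ω}

/-- Quadratic automorphisms of `Q` in the system lie in `O_p`. -/
def StableAt (p : ℕ) (F : FusionSystem S) (Q : Subgroup Ω) : Prop :=
  ∀ χ : MulAut ↥Q, χ ∈ F.autGroup Q → (∀ a : ↥Q, (χ a⁻¹) * a * (χ a⁻¹) * (χ (χ a)) = 1) →
    χ ∈ ((pCore p ↥(F.autGroup Q)).map (F.autGroup Q).subtype : Subgroup (MulAut ↥Q))

/-- Every automorphism in the system of `Q` extends to one of `R`. -/
def AutLifts (F : FusionSystem S) (Q R : Subgroup Ω) : Prop :=
  Q ≤ R ∧ ∀ α ∈ F.autGroup Q, ∃ g, IsMap F R g ∧ img R g = R ∧ ∀ x : Q, g x = ((α x : Q) : Ω)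

theorem mem_pCore_map_iff {M : Type*} [Group M] {A : Subgroup M} [Finite A] {χ : M} :
    χ ∈ ((pCore p A).map A.subtype : Subgroup M) ↔
      ∃ K : Subgroup M, χ ∈ K ∧ K ≤ A ∧ (∀ a ∈ A, ∀ k ∈ K, a * k * a⁻¹ ∈ K) ∧ IsPGroup p K := by
  constructor
  · intro h
    refine ⟨_, h, map_subtype_le _, ?_, (CfsgLib.Solvable.pCore_isPGroup p).map _⟩
    rintro a ha _ ⟨k, hk, rfl⟩
    exact ⟨⟨a, ha⟩ * k * ⟨a, ha⟩⁻¹, (Cfsg.pCore_normal p A).conj_mem k hk _, rfl⟩
  · rintro ⟨K, hχ, hKA, hKn, hKp⟩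
    refine ⟨⟨χ, hKA hχ⟩, CfsgLib.Solvable.le_pCore (N := K.subgroupOf A)
      ⟨fun k hk a => hKn a a.2 k hk⟩ hKp.comap_subtype hχ, rfl⟩

theorem finite_autGroup [Finite S] (hQ : Q ≤ S) : Finite (F.autGroup Q) := by
  haveI := finite_of_le hQ
  infer_instance

theorem stableAt_img [Finite S] {f : Ω → Ω} (hf : IsMap F Q f) (h : StableAt p F Q) :
    StableAt p F (img Q f) := by
  intro χ hχ hq
  haveI := finite_autGroup (F := F) hf.le
  haveI := finite_autGroup (F := F) hf.img_le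
  set c := MulAut.congr hf.equivImg with hc
  set e := hf.equivImg with he
  have h0 : c.symm χ ∈ F.autGroup Q := hf.congr_symm_mem_autGroup hχ
  have hca : ∀ (β : MulAut Q) (a : Q), (c β) (e a) = e (β a) := fun β a => by
    show e (β (e.symm (e a))) = e (β a)
    rw [MulEquiv.symm_apply_apply]
  have hca' : ∀ a : Q, χ (e a) = e ((c.symm χ) a) := fun a => by
    rw [← hca, MulEquiv.apply_symm_apply]
  have h1 := h _ h0 fun a => by
    refine e.injective ?_
    simp only [map_mul, map_one, ← hca']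
    rw [map_inv e]
    exact hq (e a)
  obtain ⟨K, hK, hKA, hKn, hKp⟩ := mem_pCore_map_iff.1 h1
  refine mem_pCore_map_iff.2 ⟨K.map c.toMonoidHom, ⟨_, hK, c.apply_symm_apply χ⟩, ?_, ?_, hKp.map _⟩
  · rw [← hf.map_autGroup]
    exact map_mono hKA
  · intro a ha
    rw [← hf.map_autGroup] at ha
    obtain ⟨b, hb, rfl⟩ := ha
    rintro _ ⟨k, hk, rfl⟩
    exact ⟨b * k * b⁻¹, hKn b hb k hk, (map_mul c _ _).trans (by rw [map_mul, map_inv]; rfl)⟩

theorem stableAt_of_isConj [Finite S] (hPQ : F.IsConj P Q) (h : StableAt p F P) :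
    StableAt p F Q := by
  obtain ⟨f, hf, rfl⟩ := isConj_iff.1 hPQ
  exact stableAt_img hf h

theorem stableAt_all [Finite S] (h : ∀ Q, F.IsFullyNormalized Q → StableAt p F Q) (hQ : Q ≤ S) :
    StableAt p F Q := by
  obtain ⟨Q', hQQ', hQ'⟩ := exists_fullyNormalized_conj F hQ
  exact stableAt_of_isConj (isConj_symm hQQ') (h Q' hQ')

theorem stableAt_of_autGroup_le {T : Subgroup Ω} {E : FusionSystem T} [Finite S] (hQ : Q ≤ S)
    (hle : E.autGroup Q ≤ F.autGroup Q) (h : StableAt p F Q) : StableAt p E Q := by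
  intro χ hχ hq
  haveI := finite_autGroup (F := F) hQ
  haveI : Finite (E.autGroup Q) :=
    Finite.of_injective (Subgroup.inclusion hle) (Subgroup.inclusion_injective hle)
  obtain ⟨K, hK, hKA, hKn, hKp⟩ := mem_pCore_map_iff.1 (h χ (hle hχ) hq)
  exact mem_pCore_map_iff.2 ⟨K ⊓ E.autGroup Q, ⟨hK, hχ⟩, inf_le_right,
    fun a ha k hk => ⟨hKn a (hle ha) k hk.1, mul_mem (mul_mem ha hk.2) (Subgroup.inv_mem _ ha)⟩,
    hKp.to_le inf_le_left⟩

theorem autGroup_normalizerSystem_le {N : FusionSystem (normalizerIn S R)}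
    (hN : F.IsNormalizerSystem R N) (Q : Subgroup Ω) : N.autGroup Q ≤ F.autGroup Q := by
  refine Subgroup.closure_mono fun α hα => ?_
  have h : Q.subtype.comp α.toMonoidHom ∈ F.normalizerHom R Q := hN Q ▸ hα
  exact h.1

theorem autGroup_normalizerSystem_eq {N : FusionSystem (normalizerIn S R)}
    (hN : F.IsNormalizerSystem R N) (hR : R ≤ S) (h : AutLifts F Q R) :
    N.autGroup Q = F.autGroup Q := by
  refine le_antisymm (autGroup_normalizerSystem_le hN Q) fun α hα => Subgroup.subset_closure ?_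
  have hQR := h.1
  obtain ⟨g, hg, hgi, hgx⟩ := h.2 α hα
  show Q.subtype.comp α.toMonoidHom ∈ N.Hom Q
  rw [hN Q]
  have hsup : Q ⊔ R = R := sup_eq_right.2 hQR
  have hg' : IsMap F (Q ⊔ R) g := by rwa [hsup]
  refine ⟨(autGroup_mem_iff (hQR.trans hR)).1 hα, hQR.trans (le_normalizerIn hR),
    fun x => le_normalizerIn hR (hQR (α x).2), hg'.toHom, hg'.toHom_mem, hgx, ?_⟩
  ext y
  constructor
  · rintro ⟨x, hx, rfl⟩
    exact hgi.le (hg.apply_mem_img hx)
  · intro hy
    obtain ⟨x, hx, rfl⟩ := hg.mem_img.1 (hgi.ge hy)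
    exact ⟨⟨x, mem_sup_right hx⟩, hx, rfl⟩

theorem stableAt_of_normalizerSystem [Finite S] (hR : R ≤ S) (hlift : AutLifts F Q R)
    {N : FusionSystem (normalizerIn S R)} (hN : F.IsNormalizerSystem R N)
    (hst : ∀ U, N.IsFullyNormalized U → StableAt p N U) : StableAt p F Q := by
  haveI := finite_normalizerIn (S := S) (P := R)
  intro χ hχ hq
  have h := stableAt_all hst (hlift.1.trans (le_normalizerIn hR)) χ
  rw [autGroup_normalizerSystem_eq hN hR hlift] at h
  exact h hχ hq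

theorem autLifts_refl (hQ : Q ≤ S) : AutLifts F Q Q :=
  ⟨le_rfl, fun α hα => ⟨_, isMap_of_autGroup hQ hα, img_toFun_aut α,
    fun x => toFun_apply _ x⟩⟩

theorem autLifts_img {f : Ω → Ω} (hf : IsMap F R f) (h : AutLifts F Q R) :
    AutLifts F (img Q f) (img R f) := by
  have hfQ : IsMap F Q f := hf.mono h.1
  refine ⟨img_mono h.1, fun α hα => ?_⟩
  obtain ⟨g, hg, hgi, hgx⟩ := h.2 _ (hfQ.congr_symm_mem_autGroup hα)
  obtain ⟨k, hk, hkx, hky, hki⟩ := hf.exists_inv
  have h1 : IsMap F (img R f) (fun x => g (k x)) := hk.comp hg fun y hy => (hky y hy).1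
  have hmem : ∀ y ∈ img R f, g (k y) ∈ R := fun y hy => hgi.le (hg.apply_mem_img (hky y hy).1)
  refine ⟨fun x => f (g (k x)), h1.comp hf hmem, ?_, fun x => ?_⟩
  · rw [img_comp_eq h1 hf hmem, img_comp_eq hk hg fun y hy => (hky y hy).1, hki, hgi]
  · set x₀ := hfQ.equivImg.symm x with hx₀
    have e : f (x₀ : Ω) = (x : Ω) := congrArg Subtype.val (hfQ.equivImg.apply_symm_apply x)
    show f (g (k (x : Ω))) = _
    rw [show k (x : Ω) = x₀ by rw [← e, hkx _ (h.1 x₀.2)], hgx x₀]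
    show f ((hfQ.equivImg.symm (α (hfQ.equivImg x₀)) : Q) : Ω) = _
    rw [hx₀, MulEquiv.apply_symm_apply]
    exact congrArg Subtype.val (hfQ.equivImg.apply_symm_apply (α x))

variable (hS : IsPGroup p S) (hF : F.IsSaturated p) [Finite S]

include hS hF

theorem centric_sup_centralizerIn (hQ : F.IsFullyCentralized Q) :
    F.IsCentric (Q ⊔ centralizerIn S Q) := by
  refine ⟨sup_le hQ.1 inf_le_left, fun T hT a ha => ?_⟩
  obtain ⟨f, hf, rfl⟩ := isConj_iff.1 hT
  have hfQ : IsMap F Q f := hf.mono le_sup_left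
  have hac : a ∈ centralizerIn S (img Q f) :=
    ⟨ha.1, centralizer_le (img_mono le_sup_left) ha.2⟩
  have hfC : IsMap F (centralizerIn S Q) f := hf.mono le_sup_right
  haveI := finite_centralizerIn (S := S) (P := img Q f)
  have heq : img (centralizerIn S Q) f = centralizerIn S (img Q f) := by
    refine eq_of_le_of_card_le (fun y hy => ?_) ?_
    · obtain ⟨x, hx, rfl⟩ := hfC.mem_img.1 hy
      exact hf.apply_mem_centralizerIn le_sup_left (mem_sup_right hx) hx.2
    · rw [hfC.card_img]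
      exact hQ.2 _ hfQ.isConj
  exact img_mono le_sup_right (heq.ge hac)

theorem autLifts_sup_centralizerIn (hQ : F.IsFullyCentralized Q) :
    AutLifts F Q (Q ⊔ centralizerIn S Q) := by
  refine ⟨le_sup_left, fun α hα => ?_⟩
  obtain ⟨g, hg, hgx⟩ := receptive_extend_centralizer
    (receptive_of_fullyCentralized hS hF hQ) (isMap_of_autGroup hQ.1 hα) (img_toFun_aut α)
  have hx : ∀ x : Q, g x = ((α x : Q) : Ω) := fun x => (hgx x x.2).trans (toFun_apply _ x)
  have hgQ : img Q g = Q := (img_congr hgx).trans (img_toFun_aut α)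
  haveI := finite_of_le hg.le
  refine ⟨g, hg, eq_of_le_of_card_le (hg.img_sup_le le_sup_left le_sup_right
    (hgQ.le.trans le_sup_left) fun y hy => ?_) hg.card_img.ge, hx⟩
  obtain ⟨a, ha, rfl⟩ := (hg.mono le_sup_right).mem_img.1 hy
  have h1 := hg.apply_mem_centralizerIn le_sup_left (mem_sup_right ha) ha.2
  rw [hgQ] at h1
  exact mem_sup_right h1

/-- A fully normalized centric subgroup that is not radical lies properly inside one to which all
its automorphisms extend. -/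
theorem exists_bigger_lifts (hR : F.IsFullyNormalized R) (hc : F.IsCentric R)
    (hr : ¬ F.IsRadical p R) : ∃ R', R < R' ∧ R' ≤ S ∧ AutLifts F R R' := by
  haveI := finite_autGroup (F := F) hR.1
  haveI := finite_of_le hR.1
  set A := F.autGroup R with hA
  set K : Subgroup (MulAut R) := (pCore p A).map A.subtype with hK
  haveI := Cfsg.pCore_normal p A
  have hKp : IsPGroup p K := (CfsgLib.Solvable.pCore_isPGroup p).map _
  obtain ⟨-, T, hT⟩ := fullyAutomized_of_fullyNormalized hS hF hR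
  have hKS : ∀ κ ∈ K, κ ∈ autInducedBy S R := by
    rintro _ ⟨κ, hκ, rfl⟩
    have h1 := CfsgLib.Solvable.pCore_le_sylow T hκ
    rwa [hT] at h1
  have hInn : Inn R ≤ K := fun x hx =>
    mem_pCore_map_iff.2 ⟨Inn R, hx, inn_le_autGroup hR.1,
      fun a _ k hk => (Cfsg.innNormal R).conj_mem k hk a,
      (isPGroup_autInducedBy hS R).to_le (inn_le_autInducedBy hR.1)⟩
  set N := Subgroup.normalizer (R : Set Ω) with hN
  set R' : Subgroup Ω := (K.comap R.normalizerMonoidHom).map N.subtype ⊓ S with hR'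
  have hmem : ∀ a, a ∈ R' ↔ a ∈ S ∧ ∃ κ ∈ K, ∀ x : R, ((κ x : R) : Ω) = a * x * a⁻¹ := by
    intro a
    constructor
    · rintro ⟨⟨b, hb, rfl⟩, hbS⟩
      exact ⟨hbS, _, hb, fun x => rfl⟩
    · rintro ⟨haS, κ, hκ, hκx⟩
      refine ⟨⟨⟨a, mem_normalizer_of_aut hκx⟩, ?_, rfl⟩, haS⟩
      show R.normalizerMonoidHom _ ∈ K
      convert hκ using 1
      exact MulEquiv.ext fun x => Subtype.ext (hκx x).symm
  have hle : R ≤ R' := fun a ha =>
    (hmem a).2 ⟨hR.1 ha, MulAut.conj ⟨a, ha⟩, hInn ⟨_, rfl⟩, fun x => rfl⟩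
  refine ⟨R', lt_of_le_of_ne hle fun he => hr ⟨hR.1, le_antisymm (fun κ hκ => ?_) hInn⟩,
    inf_le_right, hle, fun α hα => ?_⟩
  · obtain ⟨a, ha, hax⟩ := mem_autInducedBy_iff.1 (hKS κ hκ)
    exact ⟨⟨a, he.ge ((hmem a).2 ⟨ha, κ, hκ, hax⟩)⟩, MulEquiv.ext fun x => Subtype.ext (hax x).symm⟩
  · have hconj : ∀ κ ∈ K, α * κ * α⁻¹ ∈ K := by
      rintro _ ⟨κ, hκ, rfl⟩
      refine mem_map.2 ⟨(⟨α, hα⟩ : A) * κ * (⟨α, hα⟩ : A)⁻¹,
        Normal.conj_mem inferInstance κ hκ _, ?_⟩
      rw [map_mul, map_mul, map_inv, Subgroup.subtype_apply]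
    have hf := isMap_of_autGroup hR.1 hα
    set f := toFun (R.subtype.comp α.toMonoidHom) with hfdef
    have hfx : ∀ x : R, f x = ((α x : R) : Ω) := fun x => toFun_apply _ x
    obtain ⟨g, hg, hgx⟩ := receptive_extend (receptive_of_fullyNormalized hS hF hR) hf
      (img_toFun_aut α) hle fun a ha => by
        obtain ⟨haS, κ, hκ, hκx⟩ := (hmem a).1 ha
        obtain ⟨b, hb, hbx⟩ := mem_autInducedBy_iff.1 (hKS _ (hconj κ hκ))
        refine ⟨haS, mem_normalizer_of_aut hκx, b, hb, fun x hx => ?_⟩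
        have h1 := hbx (α ⟨x, hx⟩)
        rw [MulAut.mul_apply, MulAut.mul_apply, MulAut.inv_apply_self] at h1
        rw [show a * x * a⁻¹ = ((κ ⟨x, hx⟩ : R) : Ω) from (hκx ⟨x, hx⟩).symm, hfx, hfx ⟨x, hx⟩]
        exact h1
    haveI := finite_of_le (inf_le_right : R' ≤ S)
    refine ⟨g, hg, eq_of_le_of_card_le (fun y hy => ?_) hg.card_img.ge,
      fun x => (hgx x x.2).trans (hfx x)⟩
    obtain ⟨a, ha, rfl⟩ := hg.mem_img.1 hy
    obtain ⟨haS, κ, hκ, hκx⟩ := (hmem a).1 ha
    refine (hmem _).2 ⟨hg.mem ha, α * κ * α⁻¹, hconj κ hκ, fun x => ?_⟩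
    set x₀ := α⁻¹ x with hx₀
    have h2 : g (x₀ : Ω) = (x : Ω) := by
      rw [hgx _ x₀.2, hfx, hx₀, MulAut.apply_inv_self]
    rw [MulAut.mul_apply, MulAut.mul_apply, ← hx₀, ← hfx, ← hgx _ (κ x₀).2, hκx,
      hg.map_conj ha (hle x₀.2), h2]

/-- Local characterisation through centric radical subgroups. -/
theorem stableAt_of_centricRadical
    (h : ∀ R, F.IsFullyNormalized R → F.IsCentric R → F.IsRadical p R →
      ∀ N : FusionSystem (normalizerIn S R), F.IsNormalizerSystem R N →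
        ∀ U, N.IsFullyNormalized U → StableAt p N U) :
    ∀ (n : ℕ) (Q R : Subgroup Ω), Nat.card S - Nat.card R = n → F.IsCentric R →
      AutLifts F Q R → StableAt p F Q := by
  intro n
  induction n using Nat.strong_induction_on with
  | _ n ih =>
    intro Q R hn hc hl
    obtain ⟨R₁, hRR₁, hR₁⟩ := exists_fullyNormalized_conj F hc.1
    obtain ⟨f, hf, rfl⟩ := isConj_iff.1 hRR₁
    refine stableAt_of_isConj (isConj_symm (hf.mono hl.1).isConj) ?_
    have hl' := autLifts_img hf hl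
    have hc' := centric_of_isConj hc hRR₁
    by_cases hr : F.IsRadical p (img R f)
    · exact stableAt_of_normalizerSystem hR₁.1 hl'
        (isNormalizerSystem_normalizerSys F _ hR₁.1) (h _ hR₁ hc' hr _
          (isNormalizerSystem_normalizerSys F _ hR₁.1))
    · obtain ⟨R₂, hlt, hR₂, hl₂⟩ := exists_bigger_lifts hS hF hR₁ hc' hr
      have hlift : AutLifts F (img Q f) R₂ := by
        refine ⟨hl'.1.trans hl₂.1, fun α hα => ?_⟩
        obtain ⟨g, hg, hgi, hgx⟩ := hl'.2 α hα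
        obtain ⟨k, hk, hki, hkx⟩ := hl₂.2 _ (hg.toAut_mem hgi)
        exact ⟨k, hk, hki, fun x => (hkx ⟨x, hl'.1 x.2⟩).trans
          ((hg.toAut_apply hgi _).trans (hgx x))⟩
      haveI := finite_of_le hR₂
      have h1 : Nat.card (img R f) < Nat.card R₂ :=
        lt_of_not_ge fun hge => hlt.ne (eq_of_le_of_card_le hlt.le hge)
      rw [hf.card_img] at h1
      have h2 : Nat.card R₂ ≤ Nat.card S := Subgroup.card_le_of_le hR₂
      exact ih _ (by omega) _ R₂ rfl (centric_of_le hc' hlt.le hR₂) hlift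

/-- `F` is `p`-stable iff the normalizer systems of the centric radical subgroups are. -/
theorem pStable_iff_centricRadical :
    (∀ Q, F.IsFullyNormalized Q → StableAt p F Q) ↔
      ∀ R, F.IsFullyNormalized R → F.IsCentric R → F.IsRadical p R →
        ∀ N : FusionSystem (normalizerIn S R), F.IsNormalizerSystem R N →
          ∀ U, N.IsFullyNormalized U → StableAt p N U := by
  constructor
  · intro h R hR _ _ N hN U hU
    exact stableAt_of_autGroup_le (hU.1.trans inf_le_left) (autGroup_normalizerSystem_le hN U)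
      (stableAt_all h (hU.1.trans inf_le_left))
  · intro h Q hQ
    have hQc := fullyCentralized_of_fullyNormalized hS hF hQ
    exact stableAt_of_centricRadical hS hF h _ Q _ rfl (centric_sup_centralizerIn hS hF hQc)
      (autLifts_sup_centralizerIn hS hF hQc)

omit hF in
theorem stableAt_of_isCyclic (hQ : Q ≤ S) (hc : IsCyclic Q) : StableAt p F Q := by
  intro χ hχ hq
  haveI := finite_autGroup (F := F) hQ
  haveI := finite_of_le hQ
  have hcomm : ∀ α β : MulAut Q, α * β = β * α := by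
    intro α β
    obtain ⟨m, hm⟩ := α.toMonoidHom.map_cyclic
    obtain ⟨n, hn⟩ := β.toMonoidHom.map_cyclic
    have hm' : ∀ x, α x = x ^ m := hm
    have hn' : ∀ x, β x = x ^ n := hn
    refine MulEquiv.ext fun x => ?_
    rw [MulAut.mul_apply, MulAut.mul_apply, hm', hn', hn', hm', ← zpow_mul, ← zpow_mul, mul_comm]
  obtain ⟨k, hk⟩ := (hS.to_le hQ).exists_card_eq
  have hord : χ ^ p ^ k = 1 := by
    refine MulEquiv.ext fun a => ?_
    rw [MulAut.one_apply]
    have h1 : χ (a⁻¹) * a = a * χ (a⁻¹) := by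
      obtain ⟨g, hg⟩ := hc.exists_generator
      obtain ⟨i, hi⟩ := mem_zpowers_iff.1 (hg (χ a⁻¹))
      obtain ⟨j, hj⟩ := mem_zpowers_iff.1 (hg a)
      rw [← hi, ← hj, ← zpow_add, ← zpow_add, add_comm]
    have hz : ∀ b : Q, χ (b * χ b⁻¹) = b * χ b⁻¹ := fun b => (quad_iff_fix χ b).1 (hq b)
    have hstep : ∀ j : ℕ, (χ ^ j) a = a * (a⁻¹ * χ a) ^ j := by
      refine fun j => pow_apply_of_fixed ?_ ?_ j
      · rw [mul_inv_cancel_left]
      · have := hz a⁻¹
        rwa [inv_inv] at this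
    rw [hstep, ← hk, pow_card_eq_one', mul_one]
  refine mem_pCore_map_iff.2 ⟨zpowers χ, mem_zpowers χ, zpowers_le.2 hχ, fun a _ b hb => ?_, ?_⟩
  · rw [hcomm a b, mul_inv_cancel_right]
    exact hb
  · rintro ⟨b, hb⟩
    obtain ⟨i, rfl⟩ := mem_zpowers_iff.1 hb
    refine ⟨k, Subtype.ext ?_⟩
    show (χ ^ i) ^ p ^ k = 1
    rw [← zpow_natCast (χ ^ i), ← zpow_mul, mul_comm, zpow_mul, zpow_natCast, hord, one_zpow]

omit hF in
/-- `F` is `p`-stable iff the normalizer systems of the noncyclic subgroups are. -/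
theorem pStable_iff_noncyclic :
    (∀ Q, F.IsFullyNormalized Q → StableAt p F Q) ↔
      ∀ R, F.IsFullyNormalized R → ¬ IsCyclic R →
        ∀ N : FusionSystem (normalizerIn S R), F.IsNormalizerSystem R N →
          ∀ U, N.IsFullyNormalized U → StableAt p N U := by
  constructor
  · intro h R hR _ N hN U hU
    exact stableAt_of_autGroup_le (hU.1.trans inf_le_left) (autGroup_normalizerSystem_le hN U)
      (stableAt_all h (hU.1.trans inf_le_left))
  · intro h Q hQ
    by_cases hc : IsCyclic Q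
    · exact stableAt_of_isCyclic hS hQ.1 hc
    · exact stableAt_of_normalizerSystem hQ.1 (autLifts_refl hQ.1)
        (isNormalizerSystem_normalizerSys F Q hQ.1)
        (h Q hQ hc _ (isNormalizerSystem_normalizerSys F Q hQ.1))

end CfsgLib.Fusion
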