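import Cfsg.Agent.Lib.Fusion.PowerLocalGroup
import Cfsg.Agent.Lib.Fusion.FunctorGroup
import Cfsg.Agent.Lib.Fusion.ConstrainedPart
import Cfsg.Agent.Lib.Fusion.ModelSection

/-!
A saturated system is generated by the maps fixing the `q`-th powers of `Z(S)` and the maps
normalizing a functor value on `S`, when the group theoretic witness is available.
-/

set_option autoImplicit false
set_option linter.style.haveILetI false
set_option linter.unusedVariables false
set_option linter.unusedSectionVars false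

universe u

namespace CfsgLib.Fusion

open Cfsg Cfsg.FusionSystem Subgroup

variable {Ω : Type u} [Group Ω] {S : Subgroup Ω}

/-- The maps of a system between subgroups of a smaller subgroup. -/
def restrictBase (E : FusionSystem S) (T : Subgroup Ω) (hT : T ≤ S) : FusionSystem T where
  Hom P := {φ | φ ∈ E.Hom P ∧ P ≤ T ∧ ∀ x : P, φ x ∈ T}
  le_of_mem h := h.2
  injective_of_mem h := E.injective_of_mem h.1
  conj_mem := fun {P g} hP hg => ⟨E.conj_mem (hP.trans hT) (hT hg), hP,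
    fun x => T.mul_mem (T.mul_mem hg (hP x.2)) (T.inv_mem hg)⟩
  comp_mem := fun {P Q φ ψ} hφ hψ h => ⟨E.comp_mem hφ.1 hψ.1 h, hφ.2.1, fun x => hψ.2.2 _⟩
  inv_mem := fun {P φ} hφ => by
    obtain ⟨ψ, hψ, hψx⟩ := E.inv_mem hφ.1
    refine ⟨ψ, ⟨hψ, ?_, ?_⟩, hψx⟩
    · rintro _ ⟨x, rfl⟩
      exact hφ.2.2 x
    · rintro ⟨_, x, rfl⟩
      rw [hψx]
      exact hφ.2.1 x.2

theorem isMap_restrictBase {E : FusionSystem S} {T : Subgroup Ω} {hT : T ≤ S} {P : Subgroup Ω}
    {f : Ω → Ω} :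
    IsMap (restrictBase E T hT) P f ↔ IsMap E P f ∧ P ≤ T ∧ ∀ x ∈ P, f x ∈ T := by
  constructor
  · rintro ⟨φ, ⟨hφ, hP, hv⟩, hf⟩
    exact ⟨⟨φ, hφ, hf⟩, hP, fun x hx => hf ⟨x, hx⟩ ▸ hv ⟨x, hx⟩⟩
  · rintro ⟨⟨φ, hφ, hf⟩, hP, hv⟩
    exact ⟨φ, ⟨hφ, hP, fun x => hf x ▸ hv x x.2⟩, hf⟩

variable [Finite S] {p : ℕ} [Fact p.Prime]
  (W : ∀ (Q : Type u) [Group Q], Subgroup Q)
  (hW2 : ∀ (Q R : Type u) [Group Q] [Group R] [Finite Q], IsPGroup p Q → ∀ φ : Q ≃* R,
    (W Q).map φ.toMonoidHom = W R)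
  (hWZ : ∀ (Q : Type u) [Group Q] [Finite Q], IsPGroup p Q → Subgroup.center Q ≤ W Q)
  (good : ∀ (Q : Type u) [Group Q], Prop)
  (hgood : ∀ (Q R : Type u) [Group Q] [Group R], Q ≃* R → good Q → good R)
  (q : ℕ) (hh : PowerWitness p q W good) (hS : IsPGroup p S)
  (hgoodS : ∀ T : Subgroup Ω, T ≤ S → good ↥T)
  {F E : FusionSystem S}
  (hC : ∀ (P : Subgroup Ω) (f : Ω → Ω), IsMap F P f →
    (∀ z ∈ S ⊓ Subgroup.centralizer (S : Set Ω), z ^ q ∈ P ∧ f (z ^ q) = z ^ q) → IsMap E P f)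

omit [Fact p.Prime] in
theorem funcOn_img (hW2 : ∀ (Q R : Type u) [Group Q] [Group R] [Finite Q], IsPGroup p Q → ∀ φ : Q ≃* R,
    (W Q).map φ.toMonoidHom = W R) (hS : IsPGroup p S) {T : Subgroup Ω} {f : Ω → Ω}
    (hf : IsMap F T f) : funcOn W (img T f) = img (funcOn W T) f := by
  haveI := finite_of_le hf.le
  have h := hW2 T (img T f) (hS.to_le hf.le) hf.equivImg
  ext y
  rw [(hf.mono (funcOn_le W T)).mem_img]
  constructor
  · rintro ⟨v, hv, rfl⟩
    rw [SetLike.mem_coe, ← h] at hv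
    obtain ⟨w, hw, rfl⟩ := hv
    exact ⟨w, ⟨w, hw, rfl⟩, rfl⟩
  · rintro ⟨_, ⟨w, hw, rfl⟩, rfl⟩
    exact ⟨hf.equivImg w, h.le ⟨w, hw, rfl⟩, rfl⟩

include hW2 hgood hh hS hgoodS hC

/-- In a model, the maps come from the two local parts. -/
theorem isMap_of_powerModel {T : Subgroup Ω} (hT : T ≤ S) {D : FusionSystem T}
    (hDF : ∀ P f, IsMap D P f → IsMap F P f) {G : Type u} [Group G] [Finite G] {ι : T →* G}
    (hr : D.IsRealizedBy ι) (Ps : Sylow p G) (hPs : (Ps : Subgroup G) = ι.range)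
    {U : Subgroup Ω} (hUT : U ≤ T) (hUcore : (U.subgroupOf T).map ι ≤ Cfsg.pCore p G)
    (hc : Subgroup.centralizer ((Cfsg.pCore p G : Subgroup G) : Set G) ≤ Cfsg.pCore p G)
    (hZU : S ⊓ Subgroup.centralizer (S : Set Ω) ≤ U)
    (hclaim : ∀ (P : Subgroup Ω) (f : Ω → Ω), IsMap F P f → P ≤ T → funcOn W T ≤ P →
      img (funcOn W T) f = funcOn W T → IsMap E P f) :
    ∀ (P : Subgroup Ω) (f : Ω → Ω), IsMap D P f → IsMap E P f := by
  haveI : Finite T := finite_of_le hT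
  let Rel : Subgroup G → G → Prop := fun Q g => ∀ (P : Subgroup Ω) (f : Ω → Ω), IsMap D P f →
    (P.subgroupOf T).map ι = Q →
    (∀ x (hx : x ∈ T) (hfx : f x ∈ T), x ∈ P → ι ⟨f x, hfx⟩ = g * ι ⟨x, hx⟩ * g⁻¹) → IsMap E P f
  have hmem : ∀ {P : Subgroup Ω} {Q : Subgroup G}, (P.subgroupOf T).map ι = Q →
      ∀ {x : Ω} (hx : x ∈ T), x ∈ P → ι ⟨x, hx⟩ ∈ Q := fun h x hx hxP => h ▸ ⟨⟨x, hx⟩, hxP, rfl⟩
  have hcomp : ∀ (Q : Subgroup G) (g h : G), Q ≤ (Ps : Subgroup G) → conjSub g Q ≤ (Ps : Subgroup G) →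
      conjSub h (conjSub g Q) ≤ (Ps : Subgroup G) → Rel Q g → Rel (conjSub g Q) h → Rel Q (h * g) := by
    intro Q g h hQ hg hh' r1 r2 P f hf hPQ hfg
    have hP : P ≤ T := hf.le
    obtain ⟨f₁, hf₁, hf₁x⟩ := realized_exists_map hr hP g fun x hx =>
      hPs.le (hg (conj_mem_conjSub (hmem hPQ (hP hx) hx)))
    have hi₁ : ((img P f₁).subgroupOf T).map ι = conjSub g Q := by
      ext y
      constructor
      · rintro ⟨z, hz, rfl⟩
        obtain ⟨x, hx, hxz⟩ := hf₁.mem_img.1 (show (z : Ω) ∈ img P f₁ from hz)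
        obtain ⟨hfx, he⟩ := hf₁x x hx
        rw [show z = ⟨f₁ x, hfx⟩ from Subtype.ext hxz.symm, he]
        exact conj_mem_conjSub (hmem hPQ (hP hx) hx)
      · rintro ⟨_, hy, rfl⟩
        rw [← hPQ] at hy
        obtain ⟨x, hx, rfl⟩ := hy
        obtain ⟨hfx, he⟩ := hf₁x x hx
        exact ⟨⟨f₁ x, hfx⟩, hf₁.apply_mem_img hx, he⟩
    obtain ⟨f₂, hf₂, hf₂x⟩ := realized_exists_map hr hf₁.img_le h fun x hx =>
      hPs.le (hh' (conj_mem_conjSub (hmem hi₁ (hf₁.img_le hx) hx)))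
    have e₁ := r1 P f₁ hf₁ hPQ fun x hx hfx hxP => (hf₁x x hxP).2
    have e₂ := r2 (img P f₁) f₂ hf₂ hi₁ fun x hx hfx hxP => (hf₂x x hxP).2
    refine (e₁.comp e₂ fun x hx => hf₁.apply_mem_img hx).congr fun x hx => ?_
    obtain ⟨h1T, he1⟩ := hf₁x x hx
    obtain ⟨h2T, he2⟩ := hf₂x (f₁ x) (hf₁.apply_mem_img hx)
    refine congrArg Subtype.val (hr.1 (a₁ := ⟨f₂ (f₁ x), h2T⟩) (a₂ := ⟨f x, hf.mem hx⟩) ?_)
    rw [hfg x (hP hx) (hf.mem hx) hx, he2, he1]
    group
  set Zq := Subgroup.closure {y | ∃ z ∈ S ⊓ Subgroup.centralizer (S : Set Ω), z ^ q = y} with hZq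
  have hZqU : Zq ≤ U := (Subgroup.closure_le _).2 (by
    rintro _ ⟨z, hz, rfl⟩
    exact U.pow_mem (hZU hz) q)
  have hK : ∀ (Q : Subgroup G) (g : G), Q ≤ (Ps : Subgroup G) → conjSub g Q ≤ (Ps : Subgroup G) →
      (∀ w ∈ Cfsg.pCore p G, (∀ x ∈ (Ps : Subgroup G), x * w * x⁻¹ = w) →
        g * w ^ q * g⁻¹ = w ^ q) → Rel Q g := by
    intro Q g hQ hg hfix P f hf hPQ hfg
    have hP : P ≤ T := hf.le
    have hgen : ∀ (z : Ω) (hz : z ∈ S ⊓ Subgroup.centralizer (S : Set Ω)),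
        g * ι ⟨z ^ q, T.pow_mem (hUT (hZU hz)) q⟩ * g⁻¹ = ι ⟨z ^ q, T.pow_mem (hUT (hZU hz)) q⟩ := by
      intro z hz
      rw [show (⟨z ^ q, T.pow_mem (hUT (hZU hz)) q⟩ : T) = ⟨z, hUT (hZU hz)⟩ ^ q from rfl, map_pow]
      refine hfix _ (hUcore ⟨⟨z, hUT (hZU hz)⟩, hZU hz, rfl⟩) fun x hx => ?_
      rw [hPs] at hx
      obtain ⟨s, rfl⟩ := hx
      rw [← map_inv, ← map_mul, ← map_mul]
      refine congrArg ι (Subtype.ext ?_)
      show (s : Ω) * z * (s : Ω)⁻¹ = z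
      rw [hz.2 _ (hT s.2), mul_inv_cancel_right]
    have hP' : P ⊔ Zq ≤ T := sup_le hP (hZqU.trans hUT)
    have hle : P ⊔ Zq ≤
        ((ι.range.comap (MulAut.conj g).toMonoidHom).comap ι).map T.subtype := by
      refine sup_le (fun x hx => ⟨⟨x, hP hx⟩, ?_, rfl⟩) ((Subgroup.closure_le _).2 ?_)
      · exact hPs.le (hg (conj_mem_conjSub (hmem hPQ (hP hx) hx)))
      · rintro _ ⟨z, hz, rfl⟩
        exact ⟨⟨z ^ q, T.pow_mem (hUT (hZU hz)) q⟩, ⟨_, (hgen z hz).symm⟩, rfl⟩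
    obtain ⟨f', hf', hf'x⟩ := realized_exists_map hr hP' g fun x hx => by
      obtain ⟨⟨x', hx'⟩, hm, rfl⟩ := hle hx
      exact hm
    have he : IsMap E (P ⊔ Zq) f' := hC _ _ (hDF _ _ hf') fun z hz => by
      have hz' : z ^ q ∈ P ⊔ Zq := Subgroup.mem_sup_right (Subgroup.subset_closure ⟨z, hz, rfl⟩)
      obtain ⟨hfx, he⟩ := hf'x _ hz'
      exact ⟨hz', congrArg Subtype.val (hr.1 (he.trans (hgen z hz)))⟩
    refine (he.mono le_sup_left).congr fun x hx => ?_
    obtain ⟨hfx, he'⟩ := hf'x x (Subgroup.mem_sup_left hx)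
    exact congrArg Subtype.val (hr.1 (he'.trans (hfg x (hP hx) (hf.mem hx) hx).symm))
  have hN : ∀ (Q : Subgroup G) (g : G), Q ≤ (Ps : Subgroup G) → conjSub g Q ≤ (Ps : Subgroup G) →
      g ∈ Subgroup.normalizer (((W ↥(Ps : Subgroup G)).map (Ps : Subgroup G).subtype :
        Subgroup G) : Set G) → Rel Q g := by
    intro Q g hQ hg hgW P f hf hPQ hfg
    rw [funcOn_map_embedding W hW2 (hS.to_le hT) hr.1 hPs] at hgW
    have hP : P ≤ T := hf.le
    have hP' : P ⊔ funcOn W T ≤ T := sup_le hP (funcOn_le W T)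
    have hle : P ⊔ funcOn W T ≤
        ((ι.range.comap (MulAut.conj g).toMonoidHom).comap ι).map T.subtype := by
      refine sup_le (fun x hx => ⟨⟨x, hP hx⟩, ?_, rfl⟩) (fun x hx => ⟨⟨x, funcOn_le W T hx⟩, ?_, rfl⟩)
      · exact hPs.le (hg (conj_mem_conjSub (hmem hPQ (hP hx) hx)))
      · obtain ⟨v, -, hv⟩ := (hgW _).1 ⟨⟨x, funcOn_le W T hx⟩, hx, rfl⟩
        exact ⟨v, hv⟩
    obtain ⟨f', hf', hf'x⟩ := realized_exists_map hr hP' g fun x hx => by
      obtain ⟨⟨x', hx'⟩, hm, rfl⟩ := hle hx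
      exact hm
    have hi : img (funcOn W T) f' = funcOn W T := by
      haveI : Finite (funcOn W T) := finite_of_le ((funcOn_le W T).trans hT)
      refine eq_of_le_of_card_le (fun y hy => ?_) (hf'.mono le_sup_right).card_img.ge
      obtain ⟨x, hx, rfl⟩ := (hf'.mono le_sup_right).mem_img.1 hy
      obtain ⟨hfx, he⟩ := hf'x x (Subgroup.mem_sup_right hx)
      obtain ⟨v, hv, hvι⟩ := (hgW _).1 ⟨⟨x, funcOn_le W T hx⟩, hx, rfl⟩
      rw [hr.1 (hvι.trans he.symm)] at hv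
      exact hv
    refine ((hclaim _ f' (hDF _ _ hf') hP' le_sup_right hi).mono le_sup_left).congr fun x hx => ?_
    obtain ⟨hfx, he'⟩ := hf'x x (Subgroup.mem_sup_left hx)
    exact congrArg Subtype.val (hr.1 (he'.trans (hfg x (hP hx) (hf.mem hx) hx).symm))
  have key := good_of_powerLocal W hW2 good hgood hh _ G Ps rfl
    (hgood _ _ ((MonoidHom.ofInjective hr.1).trans (MulEquiv.subgroupCongr hPs.symm)) (hgoodS T hT))
    hc Rel hcomp hK hN
  intro P f hf
  obtain ⟨g, hg⟩ := realized_exists_elem hr hf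
  refine key ((P.subgroupOf T).map ι) g (hPs ▸ Subgroup.map_le_range ι _) ?_ P f hf rfl
    fun x hx hfx hxP => hg x hxP hx hfx
  rintro _ ⟨_, ⟨x, hx, rfl⟩, rfl⟩
  rw [hPs]
  exact ⟨⟨f x, hf.mem hx⟩, hg x hx x.2 (hf.mem hx)⟩

/-- A system with a normal subgroup `X ⊇ Z(S)` lies in `E` if the maps normalizing the functor
value of its base do. -/
theorem isMap_of_normal {T : Subgroup Ω} (hT : T ≤ S) {D : FusionSystem T} (hD : D.IsSaturated p)
    (hDF : ∀ P f, IsMap D P f → IsMap F P f) {X : Subgroup Ω} (hX : D.IsNormal X)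
    (hZX : S ⊓ Subgroup.centralizer (S : Set Ω) ≤ X)
    (hclaim : ∀ (P : Subgroup Ω) (f : Ω → Ω), IsMap F P f → P ≤ T → funcOn W T ≤ P →
      img (funcOn W T) f = funcOn W T → IsMap E P f) :
    ∀ (P : Subgroup Ω) (f : Ω → Ω), IsMap D P f → IsMap E P f := by
  haveI : Finite T := finite_of_le hT
  have hTp : IsPGroup p T := hS.to_le hT
  have hnX : normalizerIn T X = T := IsNormal.normalizerIn_eq hX
  set C := centralizerIn T X with hCdef
  set X₂ := X ⊔ C with hX₂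
  have hX₂T : X₂ ≤ T := sup_le hX.1 inf_le_left
  have hn₂ : normalizerIn T X₂ = T :=
    le_antisymm inf_le_left (hnX.ge.trans (normalizerIn_le_sup_centralizer X))
  have hX₂n : D.IsFullyNormalized X₂ :=
    ⟨hX₂T, fun R _ => by rw [hn₂]; exact Subgroup.card_le_of_le inf_le_left⟩
  have hX₂c : D.IsCentric X₂ := centric_of_fullyCentralized hTp hD
    (fullyCentralized_of_fullyNormalized hTp hD hX₂n)
    fun a ha => Subgroup.mem_sup_right ⟨ha.1, fun x hx => ha.2 x (Subgroup.mem_sup_left hx)⟩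
  -- the constrained normalizer of `X C_T(X)`
  have hD₂ : ∀ (P : Subgroup Ω) (f : Ω → Ω),
      IsMap (normalizerSys D X₂ hX₂T) P f → IsMap E P f := by
    obtain ⟨H, hHg, κ, hfin, hr, ⟨Ps, hPs⟩, hUn, hUc⟩ := Model.exists_model_normalizer D hTp hD
      hX₂c hX₂n (isNormalizerSystem_normalizerSys D X₂ hX₂T)
    haveI := hfin
    have hle : (X₂.subgroupOf (normalizerIn T X₂)).map κ ≤ Cfsg.pCore p H :=
      le_sSup ⟨hUn, (((hTp.to_le inf_le_left : IsPGroup p
        ↥(normalizerIn T X₂))).to_subgroup _).map κ⟩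
    refine isMap_of_powerModel W hW2 good hgood q hh hS hgoodS hC (hn₂.le.trans hT) ?_ hr Ps hPs
      (le_normalizerIn hX₂T) hle (((Subgroup.centralizer_le hle).trans hUc).trans hle)
      (hZX.trans le_sup_left) ?_
    · intro P f hf
      obtain ⟨-, -, g, hg, hgx, -⟩ :=
        (isMap_normalizerSystem_iff (isNormalizerSystem_normalizerSys D X₂ hX₂T)).1 hf
      exact hDF _ _ ((hg.mono le_sup_left).congr hgx)
    · rw [hn₂]
      exact hclaim
  suffices h : D ≤ restrictBase E T hT from fun P f hf => (isMap_restrictBase.1 (le_iff_isMap.1 h P f hf)).1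
  refine alperin_inductive hTp hD fun R hR hlarge α hα => ?_
  haveI := finite_of_le hR.1
  refine (autGroup_iff_isMap hR.1 fun x => (toFun_aut_apply α x.2).symm).2 ?_
  have hm := isMap_of_autGroup hR.1 hα
  by_cases hRc : D.IsCentric R
  swap
  · rw [← extAut_eq_of_not_centric hTp hD hR hRc] at hα
    have hle : extAut D R ≤ (restrictBase E T hT).autGroup R := by
      refine (Subgroup.closure_le _).2 fun β hβ => ?_
      obtain ⟨V, hRV, g, hg, hgx⟩ := hβ
      haveI := finite_of_le hg.le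
      have hlt : Nat.card R < Nat.card V :=
        lt_of_not_ge fun h => hRV.ne (eq_of_le_of_card_le hRV.le h)
      exact (autGroup_iff_isMap hR.1 fun x => (hgx x).symm).2 ((hlarge _ g hg hlt).mono hRV.le)
    exact (autGroup_iff_isMap hR.1 fun x => (toFun_aut_apply α x.2).symm).1 (hle hα)
  by_cases hXR : X ≤ R
  swap
  · obtain ⟨g, hg, hgx, -⟩ := (isNormal_iff.1 hX).2 R _ hm
    haveI := finite_of_le hg.le
    have hlt : Nat.card R < Nat.card ↥(R ⊔ X) :=
      lt_of_not_ge fun h => hXR ((eq_of_le_of_card_le le_sup_left h).ge.trans' le_sup_right)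
    exact ((hlarge _ g hg hlt).mono le_sup_left).congr hgx
  set TR := normalizerIn T R with hTR
  haveI : Finite TR := finite_normalizerIn
  obtain ⟨G, hGg, ι, hfin, hr, ⟨Ps, hPs⟩, hUn, hUc⟩ := Model.exists_model_normalizer D hTp hD hRc hR
    (isNormalizerSystem_normalizerSys D R hR.1)
  haveI := hfin
  have hRT : R ≤ TR := le_normalizerIn hR.1
  have hXT : X ≤ TR := hXR.trans hRT
  set DR := normalizerSys D R hR.1 with hDR
  have hDRD : ∀ P f, IsMap DR P f → IsMap D P f := fun P f hf => by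
    obtain ⟨-, -, g, hg, hgx, -⟩ :=
      (isMap_normalizerSystem_iff (isNormalizerSystem_normalizerSys D R hR.1)).1 hf
    exact (hg.mono le_sup_left).congr hgx
  set MR := (R.subgroupOf TR).map ι with hMR
  set MX := (X.subgroupOf TR).map ι with hMX
  have hconjR : ∀ (g : G) (x : Ω) (hx : x ∈ R), g * ι ⟨x, hRT hx⟩ * g⁻¹ ∈ MR := fun g x hx =>
    hUn.conj_mem _ ⟨⟨x, hRT hx⟩, hx, rfl⟩ g
  haveI hMXn : MX.Normal := by
    refine ⟨?_⟩
    rintro _ ⟨⟨x, hxT⟩, hx, rfl⟩ g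
    obtain ⟨f, hf, hfx⟩ := realized_exists_map hr hRT g fun y hy => by
      obtain ⟨v, -, hv⟩ := hconjR g y hy
      exact ⟨v, hv⟩
    obtain ⟨hfT, he⟩ := hfx x (hXR hx)
    exact ⟨⟨f x, hfT⟩, StronglyClosed.apply_mem (IsNormal.stronglyClosed hX) (hDRD _ _ hf) (hXR hx) hx, he⟩
  set K := Subgroup.centralizer (MX : Set G) with hKdef
  haveI hKn : K.Normal := by
    rw [hKdef]
    infer_instance
  set MY := (Ps : Subgroup G) ⊓ K with hMY
  set Y := preimage ι MY with hYdef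
  have hYT : Y ≤ TR := preimage_le MY
  have hYmem : ∀ x ∈ Y, x ∈ C := fun x hx => by
    obtain ⟨hxT, hxM⟩ := mem_preimage.1 hx
    refine ⟨hxT.1, fun w hw => ?_⟩
    exact congrArg Subtype.val (hr.1 (a₁ := ⟨w, hXT hw⟩ * ⟨x, hxT⟩) (a₂ := ⟨x, hxT⟩ * ⟨w, hXT hw⟩)
      (by rw [map_mul, map_mul]; exact hxM.2 _ ⟨⟨w, hXT hw⟩, hw, rfl⟩))
  have hmemY : ∀ x (hx : x ∈ TR), x ∈ C → x ∈ Y := fun x hx hxC => by
    refine mem_preimage.2 ⟨hx, hPs.ge ⟨_, rfl⟩, ?_⟩
    rintro _ ⟨w, hw, rfl⟩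
    rw [← map_mul, ← map_mul]
    exact congrArg ι (Subtype.ext (hxC.2 _ hw))
  -- the element inducing `α`
  have hαD : IsMap DR R (toFun (R.subtype.comp α.toMonoidHom)) := by
    refine (isMap_normalizerSystem_iff (isNormalizerSystem_normalizerSys D R hR.1)).2
      ⟨hRT, fun x hx => ?_, _, ?_, fun _ _ => rfl, img_toFun_aut α⟩
    · rw [toFun_aut_apply α hx]
      exact hRT (α ⟨x, hx⟩).2
    · rw [sup_idem]
      exact hm
  obtain ⟨g, hg⟩ := realized_exists_elem hr hαD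
  have htop : K ⊔ Subgroup.normalizer (MY : Set G) = ⊤ := by
    obtain ⟨T₀, hT₀⟩ : ∃ T₀ : Sylow p K, (T₀ : Subgroup K) = MY.subgroupOf K := by
      have hYp : IsPGroup p (MY.subgroupOf K) :=
        (Ps.isPGroup'.to_le inf_le_left).of_equiv
          (Subgroup.subgroupOfEquivOfLe (inf_le_right : MY ≤ K)).symm
      exact ⟨hYp.toSylow (CfsgLib.PLocal.sylow_inf_normal_not_dvd Ps K), rfl⟩
    have h1 := Sylow.normalizer_sup_eq_top T₀
    rw [hT₀, Subgroup.subgroupOf_map_subtype, inf_eq_left.2 (inf_le_right : MY ≤ K), sup_comm] at h1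
    exact h1
  obtain ⟨k, hk, n, hn, hkn⟩ := Subgroup.mem_sup_of_normal_left.1 (htop ▸ Subgroup.mem_top g :
    g ∈ K ⊔ Subgroup.normalizer (MY : Set G))
  -- the part normalizing `Y`
  have hV : R ⊔ Y ≤ TR := sup_le hRT hYT
  have hVle : R ⊔ Y ≤
      (((MR ⊔ MY).comap (MulAut.conj n).toMonoidHom).comap ι).map TR.subtype := by
    refine sup_le (fun x hx => ⟨⟨x, hRT hx⟩, Subgroup.mem_sup_left (hconjR n x hx), rfl⟩) fun x hx => ?_
    obtain ⟨hxT, hxM⟩ := mem_preimage.1 hx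
    exact ⟨⟨x, hxT⟩, Subgroup.mem_sup_right ((hn _).1 hxM), rfl⟩
  have hrange : MR ⊔ MY ≤ ι.range := sup_le (Subgroup.map_le_range ι _) (inf_le_left.trans hPs.le)
  obtain ⟨fn, hfn, hfnx⟩ := realized_exists_map hr hV n fun x hx => by
    obtain ⟨⟨x', hx'⟩, hm, rfl⟩ := hVle hx
    exact hrange hm
  have hfnR : img R fn = R := by
    refine eq_of_le_of_card_le (fun y hy => ?_) (hfn.mono le_sup_left).card_img.ge
    obtain ⟨x, hx, rfl⟩ := (hfn.mono le_sup_left).mem_img.1 hy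
    obtain ⟨hfT, he⟩ := hfnx x (Subgroup.mem_sup_left hx)
    obtain ⟨v, hv, hvι⟩ := hconjR n x hx
    rw [hr.1 (hvι.trans he.symm)] at hv
    exact hv
  have hfnE : IsMap E R fn := by
    by_cases hYR : Y ≤ R
    · -- `X C_T(X)` lies in `R`
      have hCR : C ≤ R := by
        intro c hc
        have hR2 : R ⊔ C ≤ T := sup_le hR.1 inf_le_left
        haveI := finite_of_le hR2
        by_contra hcR
        have hne : R < R ⊔ C := lt_of_le_of_ne le_sup_left fun he =>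
          hcR (he.ge (Subgroup.mem_sup_right hc))
        obtain ⟨a, ha, haR⟩ := SetLike.exists_of_lt (lt_normalizerIn (hTp.to_le hR2) hne)
        have hCn : R ≤ Subgroup.normalizer (C : Set Ω) := fun r hr' => by
          refine Subgroup.mem_normalizer_iff_map_conj_eq.2 ?_
          haveI : Finite C := finite_of_le inf_le_left
          refine Subgroup.eq_of_le_of_card_ge ?_ (Subgroup.card_map_of_injective (MulAut.conj r).injective).ge
          rintro _ ⟨y, hy, rfl⟩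
          refine ⟨T.mul_mem (T.mul_mem (hR.1 hr') hy.1) (T.inv_mem (hR.1 hr')), fun w hw => ?_⟩
          have hrX : r⁻¹ * w * r ∈ X :=
            (Subgroup.mem_normalizer_iff''.1 (hnX.ge (hR.1 hr')).2 w).1 hw
          show w * (r * y * r⁻¹) = r * y * r⁻¹ * w
          calc w * (r * y * r⁻¹) = r * ((r⁻¹ * w * r) * y) * r⁻¹ := by group
            _ = r * (y * (r⁻¹ * w * r)) * r⁻¹ := by rw [hy.2 _ hrX]
            _ = r * y * r⁻¹ * w := by group
        have haT : a ∈ TR := ⟨hR2 ha.1, ha.2⟩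
        have ha1 : a ∈ ((R ⊔ C : Subgroup Ω) : Set Ω) := ha.1
        rw [Subgroup.coe_mul_of_left_le_normalizer_right R C hCn] at ha1
        obtain ⟨r, hr', c', hc', hrc⟩ := Set.mem_mul.1 ha1
        have hc'T : c' ∈ TR := by
          have := TR.mul_mem (TR.inv_mem (hRT hr')) haT
          rwa [← hrc, inv_mul_cancel_left] at this
        exact haR (hrc ▸ R.mul_mem hr' (hYR (hmemY c' hc'T hc')))
      have hX₂R : X₂ ≤ R := sup_le hXR hCR
      have hfD := hDRD _ _ (hfn.mono (le_sup_left : R ≤ R ⊔ Y))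
      haveI : Finite X₂ := finite_of_le hX₂T
      refine hD₂ R fn ((isMap_normalizerSystem_iff (isNormalizerSystem_normalizerSys D X₂ hX₂T)).2
        ⟨hn₂.symm ▸ hR.1, fun x hx => hn₂.symm ▸ hfD.mem hx, fn, by rwa [sup_eq_left.2 hX₂R],
          fun _ _ => rfl, ?_⟩)
      refine eq_of_le_of_card_le (hfD.img_sup_le hXR hCR ?_ ?_) (hfD.mono hX₂R).card_img.ge
      · intro y hy
        obtain ⟨x, hx, rfl⟩ := (hfD.mono hXR).mem_img.1 hy
        exact Subgroup.mem_sup_left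
          (StronglyClosed.apply_mem (IsNormal.stronglyClosed hX) hfD (hXR hx) hx)
      · intro y hy
        obtain ⟨x, hx, rfl⟩ := (hfD.mono hCR).mem_img.1 hy
        obtain ⟨hxT, hxM⟩ := mem_preimage.1 (hmemY x (hRT (hCR hx)) hx)
        obtain ⟨hfT, he⟩ := hfnx x (Subgroup.mem_sup_left (hCR hx))
        have hfY : fn x ∈ Y := mem_preimage.2 ⟨hfT, by rw [he]; exact (hn _).1 hxM⟩
        exact Subgroup.mem_sup_right (hYmem _ hfY)
    · haveI := finite_of_le hfn.le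
      have hlt : Nat.card R < Nat.card ↥(R ⊔ Y) :=
        lt_of_not_ge fun h => hYR ((eq_of_le_of_card_le le_sup_left h).ge.trans' le_sup_right)
      exact (isMap_restrictBase.1 ((hlarge _ fn (hDRD _ _ hfn) hlt).mono le_sup_left)).1
  -- the part centralizing `X`
  obtain ⟨fk, hfk, hfkx⟩ := realized_exists_map hr hRT k fun x hx => by
    obtain ⟨v, -, hv⟩ := hconjR k x hx
    exact ⟨v, hv⟩
  have hfkE : IsMap E R fk := hC R fk (hDF _ _ (hDRD _ _ hfk)) fun z hz => by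
    have hzX : z ^ q ∈ X := X.pow_mem (hZX hz) q
    obtain ⟨hfT, he⟩ := hfkx _ (hXR hzX)
    refine ⟨hXR hzX, congrArg Subtype.val (hr.1 (a₁ := ⟨fk (z ^ q), hfT⟩) (a₂ := ⟨z ^ q, hXT hzX⟩) ?_)⟩
    rw [he, ← hk _ ⟨⟨z ^ q, hXT hzX⟩, hzX, rfl⟩, mul_inv_cancel_right]
  refine (isMap_restrictBase.2 ⟨(hfnE.comp hfkE fun x hx => hfnR ▸
      (hfn.mono le_sup_left).apply_mem_img hx).congr fun x hx => ?_, hR.1, fun x hx => hm.mem hx⟩)
  obtain ⟨h1T, he1⟩ := hfnx x (Subgroup.mem_sup_left hx)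
  have hin : fn x ∈ R := hfnR ▸ (hfn.mono le_sup_left).apply_mem_img hx
  obtain ⟨h2T, he2⟩ := hfkx (fn x) hin
  refine congrArg Subtype.val (hr.1 (a₁ := ⟨fk (fn x), h2T⟩)
    (a₂ := ⟨toFun (R.subtype.comp α.toMonoidHom) x, hαD.mem hx⟩) ?_)
  rw [hg x hx (hRT hx) (hαD.mem hx), ← hkn, he2, he1]
  group

variable (hF : F.IsSaturated p)
  (hN : ∀ (P : Subgroup Ω) (f : Ω → Ω), IsMap F P f → funcOn W S ≤ P →
    img (funcOn W S) f = funcOn W S → IsMap E P f)

include hWZ hF hN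

/-- The maps normalizing a functor value on a subgroup with bigger normalizer. -/
theorem isMap_of_normalizes_funcOn {m : ℕ}
    (hbig : ∀ (P : Subgroup Ω) (g : Ω → Ω), IsMap F P g → m < Nat.card P → IsMap E P g) :
    ∀ T : Subgroup Ω, F.IsCentric T → m ≤ Nat.card T → ∀ (P : Subgroup Ω) (f : Ω → Ω),
      IsMap F P f → P ≤ normalizerIn S (funcOn W T) → funcOn W T ≤ P →
      img (funcOn W T) f = funcOn W T → IsMap E P f := by
  suffices h : ∀ (d : ℕ) (T : Subgroup Ω), Nat.card S - Nat.card T = d → F.IsCentric T →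
      m ≤ Nat.card T → ∀ (P : Subgroup Ω) (f : Ω → Ω), IsMap F P f →
      P ≤ normalizerIn S (funcOn W T) → funcOn W T ≤ P →
      img (funcOn W T) f = funcOn W T → IsMap E P f from fun T => h _ T rfl
  intro d
  induction d using Nat.strong_induction_on with
  | _ d ih =>
    intro T hd hTc hm P f hf hPn hXP hi
    have hTS : T ≤ S := hTc.1
    rcases hTS.eq_or_lt with rfl | hlt
    · exact hN P f hf hXP hi
    set X := funcOn W T with hX
    have hXS : X ≤ S := (funcOn_le W T).trans hTS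
    set T₁ := normalizerIn S X with hT₁
    haveI : Finite T₁ := finite_normalizerIn
    have hTT₁ : T ≤ T₁ :=
      (le_normalizerIn hTS).trans (normalizer_le_funcOn W hW2 hS hTS)
    have h1 : Nat.card T < Nat.card T₁ := by
      have h2 := lt_of_lt_of_le (lt_normalizerIn hS hlt) (normalizer_le_funcOn W hW2 hS hTS)
      exact lt_of_not_ge fun h => h2.ne (eq_of_le_of_card_le h2.le h)
    obtain ⟨X', hXX', hX'⟩ := exists_fullyNormalized_conj F hXS
    obtain ⟨ψ, hψ, hψX, hψN⟩ := exists_map_normalizerIn_of_fullyNormalized hS hF hX' hXX'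
    have hψE : IsMap E T₁ ψ := hbig _ ψ hψ (lt_of_le_of_lt hm h1)
    set T₂ := normalizerIn S X' with hT₂
    haveI : Finite T₂ := finite_normalizerIn
    have hψT₁ : img T₁ ψ ≤ T₂ := fun y hy => by
      obtain ⟨x, hx, rfl⟩ := hψ.mem_img.1 hy
      exact hψN x hx
    have hcard : Nat.card T₁ ≤ Nat.card T₂ := hψ.card_img ▸ Subgroup.card_le_of_le hψT₁
    have hψT : IsMap F T ψ := hψ.mono hTT₁
    have hT'c : F.IsCentric (img T ψ) :=
      ⟨hψT.img_le, fun R hR => hTc.2 R (isConj_trans hψT.isConj hR)⟩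
    have hT₂c : F.IsCentric T₂ :=
      centric_of_le hT'c ((img_mono hTT₁).trans hψT₁) inf_le_left
    have hZT : S ⊓ Subgroup.centralizer (S : Set Ω) ≤ X' := by
      intro z hz
      have hzT : z ∈ img T ψ := hT'c.2 _ (isConj_refl hT'c.1)
        ⟨hz.1, fun y hy => hz.2 y (hT'c.1 hy)⟩
      rw [← hψX, hX, ← funcOn_img W hW2 hS hψT]
      haveI := finite_of_le hT'c.1
      refine ⟨⟨z, hzT⟩, hWZ _ (hS.to_le hT'c.1) (Subgroup.mem_center_iff.2 fun y => Subtype.ext ?_), rfl⟩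
      exact hz.2 _ (hT'c.1 y.2)
    set D := normalizerSys F X' hX'.1 with hD
    have hDn := isNormalizerSystem_normalizerSys F X' hX'.1
    have hDs : D.IsSaturated p := isSaturated_normalizerSystem hS hF hX' hDn
    have hDF : ∀ P f, IsMap D P f → IsMap F P f := fun P f h => by
      obtain ⟨-, -, g, hg, hgx, -⟩ := (isMap_normalizerSystem_iff hDn).1 h
      exact (hg.mono le_sup_left).congr hgx
    have hT₂S : Nat.card T₂ ≤ Nat.card S := Subgroup.card_le_of_le inf_le_left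
    have hclaim : ∀ (P : Subgroup Ω) (f : Ω → Ω), IsMap F P f → P ≤ T₂ → funcOn W T₂ ≤ P →
        img (funcOn W T₂) f = funcOn W T₂ → IsMap E P f := fun P f hf hP hWP hfi =>
      ih (Nat.card S - Nat.card T₂) (by omega) T₂ rfl hT₂c (by omega) P f hf
        (hP.trans ((le_normalizerIn inf_le_left).trans (normalizer_le_funcOn W hW2 hS inf_le_left)))
        hWP hfi
    have hall := isMap_of_normal W hW2 good hgood q hh hS hgoodS hC (inf_le_left : T₂ ≤ S) hDs hDF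
      (isNormal_normalizerSystem_self hX'.1 hDn) hZT hclaim
    -- transport along `ψ`
    haveI := finite_of_le hXS
    have hfT₁ : ∀ x ∈ P, f x ∈ T₁ := fun x hx => by
      have h2 := hf.apply_mem_normalizerIn hXP hx (hPn hx).2
      rwa [hi] at h2
    obtain ⟨k, hk, hkx, hky, hki⟩ := (hψ.mono hPn).exists_inv
    have h2 : ∀ y ∈ img P ψ, f (k y) ∈ T₁ := fun y hy => hfT₁ _ (hky y hy).1
    have hf' : IsMap F (img P ψ) (fun y => ψ (f (k y))) :=
      (hk.comp hf fun y hy => (hky y hy).1).comp hψ h2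
    have hX'P : X' ≤ img P ψ := hψX ▸ img_mono hXP
    have hf'X : img X' (fun y => ψ (f (k y))) = X' := by
      haveI := finite_of_le hX'.1
      refine eq_of_le_of_card_le (fun y hy => ?_) (hf'.mono hX'P).card_img.ge
      obtain ⟨w, hw, rfl⟩ := (hf'.mono hX'P).mem_img.1 hy
      rw [← hψX] at hw
      obtain ⟨x, hx, rfl⟩ := (hψ.mono (hXP.trans hPn)).mem_img.1 hw
      rw [← hψX]
      show ψ (f (k (ψ x))) ∈ _
      rw [hkx x (hXP hx)]
      refine (hψ.mono (hXP.trans hPn)).apply_mem_img ?_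
      exact hi.le ((hf.mono hXP).apply_mem_img hx)
    have hE' : IsMap E (img P ψ) (fun y => ψ (f (k y))) := by
      refine hall _ _ ((isMap_normalizerSystem_iff hDn).2 ⟨(img_mono hPn).trans hψT₁,
        fun y hy => hψN _ (h2 y hy), _, ?_, fun _ _ => rfl, hf'X⟩)
      rwa [sup_eq_left.2 hX'P]
    obtain ⟨j, hj, hjx, -, -⟩ := hψE.exists_inv
    refine (((hψE.mono hPn).comp hE' fun x hx => (hψ.mono hPn).apply_mem_img hx).comp hj ?_).congr
      fun x hx => ?_
    · intro x hx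
      show ψ (f (k (ψ x))) ∈ img T₁ ψ
      rw [hkx x hx]
      exact hψ.apply_mem_img (hfT₁ x hx)
    · show j (ψ (f (k (ψ x)))) = f x
      rw [hkx x hx, hjx _ (hfT₁ x hx)]

/-- The system lies in `E`. -/
theorem le_of_powerLocal : F ≤ E := by
  refine alperin_inductive hS hF fun R hR hlarge α hα => ?_
  haveI := finite_of_le hR.1
  by_cases hRc : F.IsCentric R
  swap
  · rw [← extAut_eq_of_not_centric hS hF hR hRc] at hα
    have hle : extAut F R ≤ E.autGroup R := by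
      refine (Subgroup.closure_le _).2 fun β hβ => ?_
      obtain ⟨V, hRV, g, hg, hgx⟩ := hβ
      haveI := finite_of_le hg.le
      have hlt : Nat.card R < Nat.card V :=
        lt_of_not_ge fun h => hRV.ne (eq_of_le_of_card_le hRV.le h)
      exact (autGroup_iff_isMap hR.1 fun x => (hgx x).symm).2 ((hlarge _ g hg hlt).mono hRV.le)
    exact hle hα
  set T := normalizerIn S R with hT
  haveI : Finite T := finite_normalizerIn
  have hRT : R ≤ T := le_normalizerIn hR.1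
  have hTc : F.IsCentric T := centric_of_le hRc hRT inf_le_left
  have hRn := isNormalizerSystem_normalizerSys F R hR.1
  obtain ⟨G, hGg, ι, hfin, hr, ⟨Ps, hPs⟩, hUn, hUc⟩ :=
    Model.exists_model_normalizer F hS hF hRc hR hRn
  haveI := hfin
  have hle : (R.subgroupOf T).map ι ≤ Cfsg.pCore p G :=
    le_sSup ⟨hUn, (((hS.to_le inf_le_left : IsPGroup p T)).to_subgroup _).map ι⟩
  have hclaim : ∀ (P : Subgroup Ω) (f : Ω → Ω), IsMap F P f → P ≤ T → funcOn W T ≤ P →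
      img (funcOn W T) f = funcOn W T → IsMap E P f := fun P f hf hP hWP hfi =>
    isMap_of_normalizes_funcOn W hW2 hWZ good hgood q hh hS hgoodS hC hF hN (m := Nat.card R)
      (fun Q g hg hlt => hlarge Q g hg hlt) T hTc (Subgroup.card_le_of_le hRT) P f hf
      (hP.trans ((le_normalizerIn inf_le_left).trans (normalizer_le_funcOn W hW2 hS inf_le_left)))
      hWP hfi
  refine (autGroup_iff_isMap hR.1 fun x => (toFun_aut_apply α x.2).symm).2 ?_
  refine isMap_of_powerModel W hW2 good hgood q hh hS hgoodS hC inf_le_left ?_ hr Ps hPs hRT hle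
    (((Subgroup.centralizer_le hle).trans hUc).trans hle) ?_ hclaim _ _ ?_
  · intro P f hf
    obtain ⟨-, -, g, hg, hgx, -⟩ := (isMap_normalizerSystem_iff hRn).1 hf
    exact (hg.mono le_sup_left).congr hgx
  · exact fun z hz => hRc.2 R (isConj_refl hR.1) ⟨hz.1, fun y hy => hz.2 y (hR.1 hy)⟩
  · refine (isMap_normalizerSystem_iff hRn).2 ⟨hRT, fun x hx => ?_, _, ?_, fun _ _ => rfl,
      img_toFun_aut α⟩
    · rw [toFun_aut_apply α hx]
      exact hRT (α ⟨x, hx⟩).2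
    · rw [sup_idem]
      exact isMap_of_autGroup hR.1 hα

end CfsgLib.Fusion
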