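import Cfsg.Agent.Lib.Fusion.PowerLocal
import Cfsg.Agent.Lib.Fusion.ThompsonQuad

/-!
Witnesses for the power local theorem: quadratic elements for `J`, bounded class for powers.
-/

set_option autoImplicit false
set_option linter.style.haveILetI false
set_option linter.unusedVariables false
set_option linter.unusedSectionVars false

universe u

namespace CfsgLib.Fusion

open Cfsg Cfsg.FusionSystem Subgroup
open scoped commutatorElement

variable {p : ℕ} [Fact p.Prime]

/-- A power of an element outside `U` is outside `U` with `p`-th power inside. -/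
theorem exists_pow_step {G : Type*} [Group G] {g : G} {U : Subgroup G} (hg : g ∉ U)
    (hp : ∃ N, g ^ p ^ N = 1) : ∃ i : ℕ, g ^ p ^ i ∉ U ∧ (g ^ p ^ i) ^ p ∈ U := by
  by_contra hno
  push Not at hno
  obtain ⟨N, hN⟩ := hp
  have hall : ∀ i, g ^ p ^ i ∉ U := by
    intro i
    induction i with
    | zero => rwa [pow_zero, pow_one]
    | succ i ih =>
      rw [pow_succ, pow_mul]
      exact hno i ih
  exact hall N (hN ▸ U.one_mem)

/-- Quadratic elements outside `O_p` give witnesses for `p`-th powers. -/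
theorem powerWitness_thompson :
    PowerWitness.{u} p p (fun Q _ => Cfsg.thompsonSubgroupA Q) (fun Q _ => True) := by
  intro G _ _ P _ hc hn
  obtain ⟨g, hgP, hgU, hquad⟩ := exists_quadratic_thompsonA P hc hn
  obtain ⟨N, hN⟩ := P.isPGroup' ⟨g, hgP⟩
  obtain ⟨i, hi, hip⟩ := exists_pow_step (p := p) hgU ⟨N, congrArg Subtype.val hN⟩
  refine ⟨g ^ p ^ i, (P : Subgroup G).pow_mem hgP _, hi, fun v hv hvc => ?_⟩
  set h := g ^ p ^ i with hh
  haveI hcn : (Cfsg.pCore p G).Normal := CfsgLib.Solvable.pCore_normal p G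
  set V : Subgroup G := (Subgroup.center ↥(Cfsg.pCore p G)).map (Cfsg.pCore p G).subtype with hV
  have hvV : v ∈ V := ⟨⟨v, hv⟩, Subgroup.mem_center_iff.2 fun u => Subtype.ext (hvc u u.2), rfl⟩
  have hhz : h ∈ Subgroup.zpowers g := Subgroup.npow_mem_zpowers g _
  set c := ⁅h, v⁆ with hcdef
  have hc1 : c ∈ ⁅V, Subgroup.zpowers g⁆ := by
    rw [Subgroup.commutator_comm]
    exact Subgroup.commutator_mem_commutator hhz hvV
  have h2 := Subgroup.commutator_mem_commutator hc1 hhz
  rw [hquad, Subgroup.mem_bot, commutatorElement_eq_one_iff_mul_comm] at h2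
  have hhv : h * v * h⁻¹ = c * v := by rw [hcdef, commutatorElement_def]; group
  have hcU : c ∈ Cfsg.pCore p G := by
    rw [hcdef, commutatorElement_def]
    exact Subgroup.mul_mem _ (hcn.conj_mem v hv h) ((Cfsg.pCore p G).inv_mem hv)
  have hcv : Commute c v := hvc c hcU
  have hiter : ∀ j : ℕ, h ^ j * v * (h ^ j)⁻¹ = c ^ j * v := by
    intro j
    induction j with
    | zero => simp
    | succ j ih =>
      rw [pow_succ' h, mul_inv_rev,
        show h * h ^ j * v * ((h ^ j)⁻¹ * h⁻¹) = h * (h ^ j * v * (h ^ j)⁻¹) * h⁻¹ by group, ih,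
        show h * (c ^ j * v) * h⁻¹ = (h * c * h⁻¹) ^ j * (h * v * h⁻¹) by rw [conj_pow]; group,
        show h * c * h⁻¹ = c by rw [show h * c = c * h from h2.symm, mul_inv_cancel_right], hhv,
        pow_succ, mul_assoc]
  have hcp : c ^ p = 1 := by
    have h1 := hiter p
    rw [show h ^ p * v = v * h ^ p from hvc _ hip, mul_inv_cancel_right] at h1
    exact mul_eq_right.1 h1.symm
  rw [← conj_pow, hhv, hcv.mul_pow, hcp, one_mul]

/-- The polynomial identity behind the bounded class witness. -/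
theorem pow_mul_eq_zero_of_unipotent {R : Type*} [CommRing R] {n : ℕ} (X : R)
    (hc : X ^ (n * (p - 1) + 1) = 0) (hp : (X + 1) ^ p = 1) : (p : R) ^ n * X = 0 := by
  have hpp : p.Prime := Fact.out
  have hp1 : p - 1 + 1 = p := Nat.sub_add_cancel hpp.one_le
  -- `(X + 1)^p = 1 + X^p + p X (1 + X r)`
  have hsplit : ∃ r : R, (X + 1) ^ p = 1 + X ^ p + p * X * (1 + X * r) := by
    rw [add_pow]
    simp only [one_pow, mul_one]
    have hr : ∀ k ∈ Finset.Ioo 1 p, ∃ r : R, X ^ k * (p.choose k : R) = p * X * (X * r) := by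
      intro k hk
      rw [Finset.mem_Ioo] at hk
      obtain ⟨a, ha⟩ := hpp.dvd_choose_self (by omega) hk.2
      obtain ⟨j, rfl⟩ : ∃ j, k = j + 2 := ⟨k - 2, by omega⟩
      exact ⟨X ^ j * a, by rw [ha]; push_cast; ring⟩
    choose r hr using hr
    refine ⟨∑ k ∈ (Finset.Ioo 1 p).attach, r k.1 k.2, ?_⟩
    have h2 := hpp.two_le
    have hset : Finset.range (p + 1) = insert 0 (insert 1 (insert p (Finset.Ioo 1 p))) := by
      ext k
      simp only [Finset.mem_range, Finset.mem_insert, Finset.mem_Ioo]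
      omega
    rw [hset, Finset.sum_insert (by simp; omega), Finset.sum_insert (by simp; omega),
      Finset.sum_insert (by simp)]
    simp only [pow_zero, Nat.choose_zero_right, Nat.cast_one, mul_one, pow_one, Nat.choose_one_right,
      Nat.choose_self]
    rw [mul_add, mul_one, Finset.mul_sum, Finset.mul_sum,
      ← Finset.sum_attach (Finset.Ioo 1 p),
      Finset.sum_congr rfl fun k _ => hr k.1 k.2]
    ring
  obtain ⟨r, hr⟩ := hsplit
  rw [hp] at hr
  have hnil : IsNilpotent (X * r) := ⟨n * (p - 1) + 1, by rw [mul_pow, hc, zero_mul]⟩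
  obtain ⟨u, hu⟩ := hnil.isUnit_one_add
  have hpX : (p : R) * X = X ^ p * (-(↑u⁻¹ : R)) := by
    have h1 : (p : R) * X * u = -X ^ p := by rw [hu]; linear_combination -hr
    calc (p : R) * X = (p : R) * X * u * ↑u⁻¹ := by rw [mul_assoc, u.mul_inv, mul_one]
      _ = _ := by rw [h1]; ring
  have key : ∀ i : ℕ, ∃ v : R, (p : R) ^ i * X = X ^ (i * (p - 1) + 1) * v := by
    intro i
    induction i with
    | zero => exact ⟨1, by simp⟩
    | succ i ih =>
      obtain ⟨v, hv⟩ := ih
      refine ⟨-(↑u⁻¹ : R) * v, ?_⟩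
      rw [show (i + 1) * (p - 1) + 1 = i * (p - 1) + p by rw [add_mul, one_mul]; omega, pow_add X]
      calc (p : R) ^ (i + 1) * X = p * ((p : R) ^ i * X) := by ring
        _ = (p * X) * X ^ (i * (p - 1)) * v := by rw [hv]; ring
        _ = _ := by rw [hpX]; ring
  obtain ⟨v, hv⟩ := key n
  rw [hv, hc, zero_mul]

/-- An automorphism of order `p` acting unipotently of bounded degree fixes high powers. -/
theorem fixed_pow_of_unipotent {V : Type*} [CommGroup V] {n : ℕ} (e : MulAut V)
    (he : ∀ v, (e ^ p) v = v)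
    (hu : ∀ v, (fun w => e w / w)^[n * (p - 1) + 1] v = 1) (v : V) :
    e (v ^ p ^ n) = v ^ p ^ n := by
  let t : AddMonoid.End (Additive V) :=
    { toFun := fun a => Additive.ofMul (e a.toMul)
      map_zero' := congrArg Additive.ofMul (map_one e)
      map_add' := fun a b => congrArg Additive.ofMul (map_mul e a.toMul b.toMul) }
  have htp : t ^ p = 1 := by
    have h1 : ∀ (j : ℕ) (a : Additive V), (t ^ j) a = Additive.ofMul ((e ^ j) a.toMul) := by
      intro j
      induction j with
      | zero => intro a; rfl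
      | succ j ih =>
        intro a
        rw [pow_succ', pow_succ']
        show t ((t ^ j) a) = _
        rw [ih]
        rfl
    refine AddMonoidHom.ext fun a => (h1 p a).trans ?_
    rw [he]
    rfl
  have htc : (t - 1) ^ (n * (p - 1) + 1) = 0 := by
    have h1 : ∀ (j : ℕ) (w : V),
        ((t - 1) ^ j) (Additive.ofMul w) = Additive.ofMul ((fun w => e w / w)^[j] w) := by
      intro j
      induction j with
      | zero => intro w; rfl
      | succ j ih =>
        intro w
        rw [pow_succ', Function.iterate_succ_apply']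
        show (t - 1) (((t - 1) ^ j) (Additive.ofMul w)) = _
        rw [ih]
        rfl
    refine AddMonoidHom.ext fun a => (h1 _ a.toMul).trans ?_
    rw [hu]
    rfl
  let φ : Polynomial ℤ →+* AddMonoid.End (Additive V) := (Polynomial.aeval (t - 1)).toRingHom
  have hφX : φ Polynomial.X = t - 1 := Polynomial.aeval_X _
  let ψ := RingHom.kerLift φ
  have hψ : Function.Injective ψ := RingHom.kerLift_injective φ
  set Xb := Ideal.Quotient.mk (RingHom.ker φ) Polynomial.X with hXb
  have hψX : ψ Xb = t - 1 := hφX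
  have h0 : ((p : (Polynomial ℤ ⧸ RingHom.ker φ)) ^ n * Xb) = 0 := by
    refine pow_mul_eq_zero_of_unipotent Xb (hψ ?_) (hψ ?_)
    · rw [map_pow, hψX, htc, map_zero]
    · rw [map_pow, map_add, map_one, hψX, sub_add_cancel, htp]
  have h1 := congrArg ψ h0
  rw [map_mul, map_pow, map_natCast, hψX, map_zero, ← Nat.cast_pow] at h1
  have h2 := DFunLike.congr_fun h1 (Additive.ofMul v)
  rw [map_pow, ← div_eq_one]
  have h3 : (p ^ n : ℕ) • (Additive.ofMul (e v / v)) = 0 := h2
  have h4 : (e v / v) ^ p ^ n = 1 := h3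
  rwa [div_pow] at h4

/-- Groups of class at most `n (p - 1) + 1` give witnesses for `p^n`-th powers. -/
theorem powerWitness_class (n : ℕ) :
    PowerWitness.{u} p (p ^ n) (fun Q _ => ⊤)
      (fun Q _ => Subgroup.lowerCentralSeries (⊤ : Subgroup Q) (n * (p - 1) + 1) = ⊥) := by
  intro G _ _ P hcl hc hn
  haveI hcn : (Cfsg.pCore p G).Normal := CfsgLib.Solvable.pCore_normal p G
  have hne : ¬ (P : Subgroup G) ≤ Cfsg.pCore p G := fun hle => hn (by
    rw [← MonoidHom.range_eq_map, Subgroup.range_subtype, le_antisymm hle (pCore_le_sylow P)]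
    exact hcn)
  obtain ⟨g, hgP, hgU⟩ := SetLike.not_le_iff_exists.1 hne
  obtain ⟨N, hN⟩ := P.isPGroup' ⟨g, hgP⟩
  obtain ⟨i, hi, hip⟩ := exists_pow_step (p := p) hgU ⟨N, congrArg Subtype.val hN⟩
  refine ⟨g ^ p ^ i, (P : Subgroup G).pow_mem hgP _, hi, fun v hv hvc => ?_⟩
  set h := g ^ p ^ i with hh
  have hhP : h ∈ (P : Subgroup G) := (P : Subgroup G).pow_mem hgP _
  set V : Subgroup G := (Subgroup.center ↥(Cfsg.pCore p G)).map (Cfsg.pCore p G).subtype with hV
  haveI hVn : V.Normal := by rw [hV]; infer_instance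
  have hVmem : ∀ w ∈ V, w ∈ Cfsg.pCore p G ∧ ∀ u ∈ Cfsg.pCore p G, u * w = w * u := by
    rintro _ ⟨a, ha, rfl⟩
    exact ⟨a.2, fun u hu => congrArg Subtype.val (Subgroup.mem_center_iff.1 ha ⟨u, hu⟩)⟩
  letI : CommGroup V :=
    { (inferInstance : Group V) with
      mul_comm := fun a b => Subtype.ext ((hVmem b b.2).2 a (hVmem a a.2).1) }
  have hlcs : Subgroup.lowerCentralSeries (P : Subgroup G) (n * (p - 1) + 1) = ⊥ := by
    rw [← Subgroup.top_subtype_lowerCentralSeries, hcl, Subgroup.map_bot]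
  set e : MulAut V := MulAut.conjNormal h with he
  have hep : ∀ w : V, (e ^ p) w = w := fun w => by
    refine Subtype.ext ?_
    rw [he, ← map_pow, MulAut.conjNormal_apply]
    rw [show h ^ p * (w : G) = w * h ^ p from (hVmem w w.2).2 _ hip, mul_inv_cancel_right]
  have hiter : ∀ (j : ℕ) (w : V),
      (((fun w => e w / w)^[j] w : V) : G) ∈ Subgroup.lowerCentralSeries (P : Subgroup G) j := by
    intro j w
    induction j with
    | zero => exact pCore_le_sylow P (hVmem w w.2).1
    | succ j ih =>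
      rw [Function.iterate_succ_apply', Subgroup.lowerCentralSeries_succ]
      set y := (fun w => e w / w)^[j] w
      show ((e y / y : V) : G) ∈ _
      rw [div_eq_mul_inv, Subgroup.coe_mul, he, MulAut.conjNormal_apply, Subgroup.coe_inv,
        ← commutatorElement_def, Subgroup.commutator_comm]
      exact Subgroup.commutator_mem_commutator hhP ih
  have hvV : v ∈ V := ⟨⟨v, hv⟩, Subgroup.mem_center_iff.2 fun u => Subtype.ext (hvc u u.2), rfl⟩
  have key := fixed_pow_of_unipotent (n := n) e hep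
    (fun w => Subtype.ext (Subgroup.mem_bot.1 (hlcs ▸ hiter _ w))) ⟨v, hvV⟩
  have := congrArg Subtype.val key
  rwa [he, MulAut.conjNormal_apply, SubgroupClass.coe_pow] at this

variable {Ω : Type u} [Group Ω] {S : Subgroup Ω} [Finite S] {F : FusionSystem S}

/-- `F` is generated by `C_F(℧¹(Z(S)))` and `N_F(J(S))`. -/
theorem le_of_centralizer_thompson (hS : IsPGroup p S) (hF : F.IsSaturated p) {E : FusionSystem S}
    (hC : ∀ (P : Subgroup Ω) (f : Ω → Ω), IsMap F P f →
      (∀ z ∈ S ⊓ Subgroup.centralizer (S : Set Ω), z ^ p ∈ P ∧ f (z ^ p) = z ^ p) → IsMap E P f)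
    (hN : ∀ (P : Subgroup Ω) (f : Ω → Ω), IsMap F P f → Cfsg.thompsonSubgroupAOf S ≤ P →
      img (Cfsg.thompsonSubgroupAOf S) f = Cfsg.thompsonSubgroupAOf S → IsMap E P f) : F ≤ E :=
  le_of_powerLocal (fun Q _ => Cfsg.thompsonSubgroupA Q) (fun Q R _ _ _ _ φ => thompsonA_map Q R φ)
    (fun Q _ _ _ => center_le_thompsonA Q) (fun Q _ => True) (fun _ _ _ _ _ h => h) p
    powerWitness_thompson hS (fun _ _ => trivial) hC hF hN

/-- For class at most `n (p - 1) + 1` the `p^n`-th powers of `Z(S)` form a normal subgroup. -/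
theorem isNormal_powerClosure_of_class (hS : IsPGroup p S) (hF : F.IsSaturated p) (n : ℕ)
    (hcl : Subgroup.lowerCentralSeries S (n * (p - 1) + 1) = ⊥) :
    F.IsNormal (Cfsg.powerClosure p n (S ⊓ Subgroup.centralizer (S : Set Ω))) := by
  set V := Cfsg.powerClosure p n (S ⊓ Subgroup.centralizer (S : Set Ω)) with hVdef
  have hVS : V ≤ S := (Subgroup.closure_le _).2 (by
    rintro _ ⟨z, hz, rfl⟩
    exact S.pow_mem hz.1 _)
  have hVc : ∀ v ∈ V, ∀ a ∈ S, a * v = v * a := by
    have hle : V ≤ Subgroup.centralizer (S : Set Ω) := (Subgroup.closure_le _).2 (by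
      rintro _ ⟨z, hz, rfl⟩
      exact (Subgroup.centralizer (S : Set Ω)).pow_mem hz.2 _)
    exact fun v hv a ha => hle hv a ha
  have hn : normalizerIn S V = S := inf_eq_left.2 fun a ha => by
    refine Subgroup.mem_normalizer_iff.2 fun v => ⟨fun hv => ?_, fun hv => ?_⟩
    · rwa [hVc v hv a ha, mul_inv_cancel_right]
    · have h1 := hVc _ hv a⁻¹ (S.inv_mem ha)
      have h2 : v = a * v * a⁻¹ := by
        calc v = a⁻¹ * (a * v * a⁻¹) * a := by group
          _ = a * v * a⁻¹ := by rw [h1, inv_mul_cancel_right]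
      rwa [← h2] at hv
  have hgoodS : ∀ T : Subgroup Ω, T ≤ S →
      Subgroup.lowerCentralSeries (⊤ : Subgroup T) (n * (p - 1) + 1) = ⊥ := fun T hT => by
    refine (Subgroup.map_eq_bot_iff_of_injective _ T.subtype_injective).1 (le_bot_iff.1 ?_)
    rw [Subgroup.top_subtype_lowerCentralSeries, ← hcl]
    exact Subgroup.lowerCentralSeries_mono _ hT
  have hle : F ≤ normSys F V hVS hn := by
    refine le_of_powerLocal (fun Q _ => ⊤) (fun Q R _ _ _ _ φ => ?_) (fun Q _ _ _ => le_top)
      (fun Q _ => Subgroup.lowerCentralSeries (⊤ : Subgroup Q) (n * (p - 1) + 1) = ⊥)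
      (fun Q R _ _ φ h => ?_) (p ^ n) (powerWitness_class n) hS hgoodS ?_ hF ?_
    · exact Subgroup.map_top_of_surjective _ φ.surjective
    · rw [← Subgroup.map_top_of_surjective φ.toMonoidHom φ.surjective,
        ← Subgroup.map_lowerCentralSeries, h, Subgroup.map_bot]
    · intro P f hf hfix
      have hVP : V ≤ P := (Subgroup.closure_le _).2 (by
        rintro _ ⟨z, hz, rfl⟩
        exact (hfix z hz).1)
      refine (isMap_normSys_iff hVS hn).2 ⟨hf.le, fun x hx => hf.mem hx, f, by rwa [sup_eq_left.2 hVP],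
        fun _ _ => rfl, ?_⟩
      haveI := finite_of_le hVS
      have hVf : V ≤ (hf.toHom.eqLocus P.subtype).map P.subtype := (Subgroup.closure_le _).2 (by
        rintro _ ⟨z, hz, rfl⟩
        exact ⟨⟨_, (hfix z hz).1⟩, (hfix z hz).2, rfl⟩)
      refine eq_of_le_of_card_le (fun y hy => ?_) (hf.mono hVP).card_img.ge
      obtain ⟨v, hv, rfl⟩ := (hf.mono hVP).mem_img.1 hy
      obtain ⟨w, hw, rfl⟩ := hVf hv
      show f (w : Ω) ∈ V
      rw [show f (w : Ω) = (w : Ω) from hw]
      exact hv
    · intro P f hf hP hi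
      have htop : funcOn (fun Q _ => (⊤ : Subgroup Q)) S = S := by
        rw [funcOn, ← MonoidHom.range_eq_map, Subgroup.range_subtype]
      rw [htop] at hP hi
      refine (isMap_normSys_iff hVS hn).2 ⟨hf.le, fun x hx => hf.mem hx, f,
        by rwa [sup_eq_left.2 (hVS.trans hP)], fun _ _ => rfl, ?_⟩
      haveI := finite_of_le hVS
      have hVf : V ≤ ((V.comap hf.toHom)).map P.subtype := (Subgroup.closure_le _).2 (by
        rintro _ ⟨z, hz, rfl⟩
        refine ⟨⟨z ^ p ^ n, P.pow_mem (hP hz.1) _⟩, ?_, rfl⟩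
        show f (z ^ p ^ n) ∈ V
        rw [hf.map_pow (hP hz.1)]
        refine Subgroup.subset_closure ⟨f z, ⟨hf.mem (hP hz.1), fun a ha => ?_⟩, rfl⟩
        obtain ⟨b, hb, rfl⟩ := (hf.mono hP).mem_img.1 (hi.ge ha)
        rw [← hf.map_mul (hP hb) (hP hz.1), ← hf.map_mul (hP hz.1) (hP hb), hz.2 b hb])
      refine eq_of_le_of_card_le (fun y hy => ?_) (hf.mono (hVS.trans hP)).card_img.ge
      obtain ⟨v, hv, rfl⟩ := (hf.mono (hVS.trans hP)).mem_img.1 hy
      obtain ⟨w, hw, rfl⟩ := hVf hv
      exact hw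
  refine isNormal_iff.2 ⟨hVS, fun P f hf => ?_⟩
  obtain ⟨-, -, g, hg, hgx, hgV⟩ := (isMap_normSys_iff hVS hn).1 (le_iff_isMap.1 hle P f hf)
  exact ⟨g, hg, hgx, hgV⟩

/-- Exponent of `Z(G)` bounds the exponent of the upper central factors. -/
theorem pow_mem_upperCentralSeries {G : Type*} [Group G] {e : ℕ}
    (h : ∀ z ∈ Subgroup.center G, z ^ e = 1) :
    ∀ i : ℕ, ∀ x ∈ Subgroup.upperCentralSeries G (i + 1), x ^ e ∈ Subgroup.upperCentralSeries G i := by
  intro i
  induction i with
  | zero =>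
    intro x hx
    rw [Subgroup.upperCentralSeries_one] at hx
    rw [Subgroup.upperCentralSeries_zero, Subgroup.mem_bot]
    exact h x hx
  | succ i ih =>
    intro x hx
    rw [Subgroup.mem_upperCentralSeries_succ_iff] at hx ⊢
    intro y
    set Z := Subgroup.upperCentralSeries G i with hZ
    let π := QuotientGroup.mk' Z
    have h1 : ∀ a : G, a ∈ Subgroup.upperCentralSeries G (i + 1) → ∀ b, π a * π b = π b * π a := by
      intro a ha b
      have h2 := (Subgroup.mem_upperCentralSeries_succ_iff.1 ha) b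
      rw [← map_mul, ← map_mul, ← mul_inv_eq_one, ← map_inv, ← map_mul]
      refine (QuotientGroup.eq_one_iff _).2 ?_
      rwa [commutatorElement_def, show a * b * a⁻¹ * b⁻¹ = a * b * (b * a)⁻¹ by group] at h2
    have hx' : x⁻¹ ∈ Subgroup.upperCentralSeries G (i + 2) :=
      Subgroup.inv_mem _ (Subgroup.mem_upperCentralSeries_succ_iff.2 hx)
    set d := ⁅x⁻¹, y⁆ with hd
    have hdZ : d ∈ Subgroup.upperCentralSeries G (i + 1) :=
      (Subgroup.mem_upperCentralSeries_succ_iff.1 hx') y
    have hde : π d ^ e = 1 := by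
      rw [← map_pow]
      exact (QuotientGroup.eq_one_iff _).2 (ih d hdZ)
    have hyx : y * x * y⁻¹ = x * d := by rw [hd, commutatorElement_def]; group
    have hkey : π y * π x ^ e * (π y)⁻¹ = π x ^ e := by
      rw [← conj_pow, ← map_inv, ← map_mul, ← map_mul, hyx, map_mul,
        (show Commute (π x) (π d) from (h1 d hdZ x).symm).mul_pow, hde, mul_one]
    rw [mul_inv_eq_iff_eq_mul] at hkey
    refine (QuotientGroup.eq_one_iff _).1 (?_ : π ⁅x ^ e, y⁆ = 1)
    rw [commutatorElement_def, map_mul, map_mul, map_mul, map_pow, map_inv, map_inv, map_pow,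
      ← hkey, mul_inv_cancel_right, mul_inv_cancel]

end CfsgLib.Fusion
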