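import Cfsg.Agent.Lib.Fusion.GroupSystem
import Cfsg.Agent.Lib.Fusion.ModelBasic
import Cfsg.Agent.Lib.Solvable.PCore
import Cfsg.Agent.Lib.PLocal.Sylow

/-!
In a constrained group the fusion in a Sylow subgroup `P` is generated by the centralizer of the
`q`-th powers of central elements and the normalizer of a functor value, when elements outside
`O_p` centralizing these powers exist.
-/

set_option autoImplicit false
set_option linter.style.haveILetI false
set_option linter.unusedVariables false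
set_option linter.unusedSectionVars false

universe u

namespace CfsgLib.Fusion

open Cfsg Subgroup

/-- If the value of the functor is not normal, an element of `P` outside `O_p` centralizes the
`q`-th powers of `Z(O_p)`. -/
def PowerWitness (p q : ℕ) (W : ∀ (Q : Type u) [Group Q], Subgroup Q)
    (good : ∀ (Q : Type u) [Group Q], Prop) : Prop :=
  ∀ (G : Type u) [Group G] [Finite G] (P : Sylow p G), good ↥(P : Subgroup G) →
    Subgroup.centralizer ((Cfsg.pCore p G : Subgroup G) : Set G) ≤ Cfsg.pCore p G →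
    ¬ (((W ↥(P : Subgroup G)).map (P : Subgroup G).subtype : Subgroup G)).Normal →
    ∃ h : G, h ∈ (P : Subgroup G) ∧ h ∉ Cfsg.pCore p G ∧
      ∀ v ∈ Cfsg.pCore p G, (∀ u ∈ Cfsg.pCore p G, u * v = v * u) → h * v ^ q * h⁻¹ = v ^ q

variable {p q : ℕ} [Fact p.Prime] (W : ∀ (Q : Type u) [Group Q], Subgroup Q)
  (hW2 : ∀ (Q R : Type u) [Group Q] [Group R] [Finite Q], IsPGroup p Q → ∀ φ : Q ≃* R,
    (W Q).map φ.toMonoidHom = W R)
  (good : ∀ (Q : Type u) [Group Q], Prop)
  (hgood : ∀ (Q R : Type u) [Group Q] [Group R], Q ≃* R → good Q → good R)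

include hW2 hgood

/-- Fusion in a constrained group is generated by the two local parts. -/
theorem good_of_powerLocal (hh : PowerWitness p q W good) :
    ∀ (n : ℕ) (G : Type u) [Group G] [Finite G] (P : Sylow p G), Nat.card G = n →
      good ↥(P : Subgroup G) →
      Subgroup.centralizer ((Cfsg.pCore p G : Subgroup G) : Set G) ≤ Cfsg.pCore p G →
      ∀ (Rel : Subgroup G → G → Prop),
        (∀ (Q : Subgroup G) (g h : G), Q ≤ (P : Subgroup G) → conjSub g Q ≤ (P : Subgroup G) →
          conjSub h (conjSub g Q) ≤ (P : Subgroup G) → Rel Q g → Rel (conjSub g Q) h → Rel Q (h * g)) →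
        (∀ (Q : Subgroup G) (g : G), Q ≤ (P : Subgroup G) → conjSub g Q ≤ (P : Subgroup G) →
          (∀ w ∈ Cfsg.pCore p G, (∀ x ∈ (P : Subgroup G), x * w * x⁻¹ = w) →
            g * w ^ q * g⁻¹ = w ^ q) → Rel Q g) →
        (∀ (Q : Subgroup G) (g : G), Q ≤ (P : Subgroup G) → conjSub g Q ≤ (P : Subgroup G) →
          g ∈ Subgroup.normalizer (((W ↥(P : Subgroup G)).map (P : Subgroup G).subtype :
            Subgroup G) : Set G) → Rel Q g) →
        ∀ (Q : Subgroup G) (g : G), Q ≤ (P : Subgroup G) → conjSub g Q ≤ (P : Subgroup G) →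
          Rel Q g := by
  intro n
  induction n using Nat.strong_induction_on with
  | _ n ih =>
    intro G _ _ P hn hgP hc Rel hcomp hK hN Q g hQ hgQ
    by_cases hWn : (((W ↥(P : Subgroup G)).map (P : Subgroup G).subtype : Subgroup G)).Normal
    · exact hN Q g hQ hgQ (by rw [Subgroup.normalizer_eq_top_iff.2 hWn]; exact Subgroup.mem_top g)
    obtain ⟨h, hhP, hhU, hhfix⟩ := hh G P hgP hc hWn
    haveI hcn : (Cfsg.pCore p G).Normal := CfsgLib.Solvable.pCore_normal p G
    set s : Set G :=
      {y | ∃ v ∈ Cfsg.pCore p G, (∀ u ∈ Cfsg.pCore p G, u * v = v * u) ∧ v ^ q = y} with hs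
    set K := Subgroup.centralizer s with hK'
    haveI hKn : K.Normal := by
      refine ⟨fun k hk a => ?_⟩
      rintro y ⟨v, hv, hvc, rfl⟩
      have hv' : a⁻¹ * v * a ∈ Cfsg.pCore p G := by simpa using hcn.conj_mem v hv a⁻¹
      have h1 := hk _ ⟨a⁻¹ * v * a, hv', fun u hu => ?_, rfl⟩
      · rw [show (a⁻¹ * v * a) ^ q = a⁻¹ * v ^ q * a by
          rw [show a⁻¹ * v * a = a⁻¹ * v * a⁻¹⁻¹ by rw [inv_inv], conj_pow, inv_inv]] at h1
        calc v ^ q * (a * k * a⁻¹) = a * ((a⁻¹ * v ^ q * a) * k) * a⁻¹ := by group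
          _ = a * (k * (a⁻¹ * v ^ q * a)) * a⁻¹ := by rw [h1]
          _ = a * k * a⁻¹ * v ^ q := by group
      · have h2 := hvc (a * u * a⁻¹) (hcn.conj_mem u hu a)
        calc u * (a⁻¹ * v * a) = a⁻¹ * ((a * u * a⁻¹) * v) * a := by group
          _ = a⁻¹ * (v * (a * u * a⁻¹)) * a := by rw [h2]
          _ = a⁻¹ * v * a * u := by group
    have hUK : Cfsg.pCore p G ≤ K := by
      rintro u hu y ⟨v, hv, hvc, rfl⟩
      exact ((Commute.pow_right (show Commute u v from hvc u hu) q).eq).symm
    have hhK : h ∈ K := by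
      rintro y ⟨v, hv, hvc, rfl⟩
      have h1 := hhfix v hv hvc
      rw [mul_inv_eq_iff_eq_mul] at h1
      exact h1.symm
    set Y := (P : Subgroup G) ⊓ K with hY
    set M := Subgroup.normalizer (Y : Set G) with hM
    have hPM : (P : Subgroup G) ≤ M := fun x hx => by
      refine Subgroup.mem_normalizer_iff_map_conj_eq.2 (Subgroup.eq_of_le_of_card_ge ?_
        (Subgroup.card_map_of_injective (MulAut.conj x).injective).ge)
      rintro _ ⟨y, hy, rfl⟩
      exact ⟨(P : Subgroup G).mul_mem ((P : Subgroup G).mul_mem hx hy.1)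
        ((P : Subgroup G).inv_mem hx), hKn.conj_mem y hy.2 x⟩
    have hMne : M ≠ ⊤ := fun he => hhU (CfsgLib.Solvable.le_pCore
      (Subgroup.normalizer_eq_top_iff.1 he) (P.isPGroup'.to_le inf_le_left) ⟨hhP, hhK⟩)
    have htop : K ⊔ M = ⊤ := by
      obtain ⟨T, hT⟩ : ∃ T : Sylow p K, (T : Subgroup K) = Y.subgroupOf K := by
        have hYp : IsPGroup p (Y.subgroupOf K) :=
          (P.isPGroup'.to_le inf_le_left).of_equiv
            (Subgroup.subgroupOfEquivOfLe (inf_le_right : Y ≤ K)).symm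
        exact ⟨hYp.toSylow (CfsgLib.PLocal.sylow_inf_normal_not_dvd P K), rfl⟩
      have h1 := Sylow.normalizer_sup_eq_top T
      rw [hT, Subgroup.subgroupOf_map_subtype, inf_eq_left.2 (inf_le_right : Y ≤ K), sup_comm] at h1
      exact h1
    -- the stabilizer of the powers of the central elements
    set Stab : Subgroup G := Subgroup.centralizer
      {y | ∃ w ∈ Cfsg.pCore p G, (∀ x ∈ (P : Subgroup G), x * w * x⁻¹ = w) ∧ w ^ q = y} with hStab
    have hwc : ∀ w : G, (∀ x ∈ (P : Subgroup G), x * w * x⁻¹ = w) →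
        ∀ x ∈ (P : Subgroup G), x * w = w * x := fun w hw x hx => by
      have h1 := hw x hx
      rwa [mul_inv_eq_iff_eq_mul] at h1
    have hKS : K ≤ Stab := by
      rintro k hk y ⟨w, hw, hwP, rfl⟩
      exact hk _ ⟨w, hw, fun u hu => hwc w hwP u (pCore_le_sylow P hu), rfl⟩
    have hPS : (P : Subgroup G) ≤ Stab := by
      rintro x hx y ⟨w, hw, hwP, rfl⟩
      exact ((Commute.pow_right (show Commute x w from hwc w hwP x hx) q).eq).symm
    obtain ⟨k, hk, m, hm, hkm⟩ := Subgroup.mem_sup_of_normal_left.1 (htop ▸ Subgroup.mem_top g :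
      g ∈ K ⊔ M)
    set L := M ⊓ (K ⊔ (P : Subgroup G)) with hL
    have hPL : (P : Subgroup G) ≤ L := le_inf hPM le_sup_right
    have hidx : ¬ p ∣ (P : Subgroup G).relIndex L := fun hd =>
      P.not_dvd_index (hd.trans (Subgroup.relIndex_dvd_index_of_le hPL))
    have hmQ : conjSub m Q ≤ L := by
      rintro _ ⟨x, hx, rfl⟩
      refine ⟨M.mul_mem (M.mul_mem hm (hPM (hQ hx))) (M.inv_mem hm), ?_⟩
      have h1 : k⁻¹ * (g * x * g⁻¹) * k ∈ K ⊔ (P : Subgroup G) :=
        Subgroup.mul_mem _ (Subgroup.mul_mem _ (Subgroup.mem_sup_left (K.inv_mem hk))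
          (Subgroup.mem_sup_right (hgQ (conj_mem_conjSub hx)))) (Subgroup.mem_sup_left hk)
      show m * x * m⁻¹ ∈ _
      rw [← hkm] at h1
      simpa [mul_assoc] using h1
    obtain ⟨a, ha, haQ⟩ := exists_conj_le_of_sylow P.isPGroup' hPL hidx
      ((P.isPGroup'.to_le hQ).map _) hmQ
    have haS : a ∈ Stab := (sup_le hKS hPS) ha.2
    have hQam : conjSub (a * m) Q ≤ (P : Subgroup G) := by rw [conjSub_mul]; exact haQ
    have hge : conjSub (k * a⁻¹) (conjSub (a * m) Q) = conjSub g Q := by
      rw [← conjSub_mul, ← hkm]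
      congr 1
      group
    -- the second factor
    have hrel1 : Rel Q (a * m) := by
      have hlt : Nat.card M < n := hn ▸ lt_of_le_of_ne (Subgroup.card_le_card_group M)
        fun h => hMne (Subgroup.eq_top_of_card_eq _ h)
      have hcore : Cfsg.pCore p G ≤ M := (pCore_le_sylow P).trans hPM
      have hsub : (Cfsg.pCore p G).subgroupOf M ≤ Cfsg.pCore p M :=
        CfsgLib.Solvable.le_pCore inferInstance
          ((CfsgLib.Solvable.pCore_isPGroup p).of_equiv (Subgroup.subgroupOfEquivOfLe hcore).symm)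
      have hcM : Subgroup.centralizer ((Cfsg.pCore p M : Subgroup M) : Set M) ≤ Cfsg.pCore p M := by
        intro x hx
        refine hsub (hc fun y hy => ?_)
        exact congrArg Subtype.val (hx ⟨y, hcore hy⟩ (hsub hy))
      set PM : Sylow p M := P.subtype hPM with hPMdef
      have e : ↥(P : Subgroup G) ≃* ↥(PM : Subgroup M) := (Subgroup.subgroupOfEquivOfLe hPM).symm
      have hW' : ((W ↥(PM : Subgroup M)).map (PM : Subgroup M).subtype).map M.subtype =
          (W ↥(P : Subgroup G)).map (P : Subgroup G).subtype := by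
        rw [← hW2 ↥(P : Subgroup G) ↥(PM : Subgroup M) P.isPGroup'
          (Subgroup.subgroupOfEquivOfLe hPM).symm, Subgroup.map_map, Subgroup.map_map]
        rfl
      have hmapP : (PM : Subgroup M).map M.subtype = (P : Subgroup G) := by
        rw [hPMdef, Sylow.coe_subtype, Subgroup.subgroupOf_map_subtype, inf_eq_left.2 hPM]
      have hmapconj : ∀ (x : M) (R : Subgroup M),
          (conjSub x R).map M.subtype = conjSub (x : G) (R.map M.subtype) := fun x R => by
        rw [conjSub, conjSub, Subgroup.map_map, Subgroup.map_map]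
        rfl
      have hle : ∀ R : Subgroup M, R ≤ (PM : Subgroup M) → R.map M.subtype ≤ (P : Subgroup G) :=
        fun R hR => hmapP ▸ Subgroup.map_mono hR
      have key := ih _ hlt M PM rfl (hgood _ _ e hgP) hcM
        (fun R x => Rel (R.map M.subtype) (x : G)) ?_ ?_ ?_ (Q.subgroupOf M) ⟨a * m, M.mul_mem ha.1 hm⟩
        ?_ ?_
      · rwa [Subgroup.subgroupOf_map_subtype, inf_eq_left.2 (hQ.trans hPM)] at key
      · intro R x y hR hx hy h1 h2
        rw [hmapconj] at h2
        refine hcomp _ _ _ (hle R hR) ?_ ?_ h1 h2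
        · rw [← hmapconj]; exact hle _ hx
        · rw [← hmapconj, ← hmapconj]; exact hle _ hy
      · intro R x hR hx hfix
        refine hK _ _ (hle R hR) (by rw [← hmapconj]; exact hle _ hx) fun w hw hwP => ?_
        exact congrArg Subtype.val (hfix ⟨w, hcore hw⟩ (hsub hw) fun z hz =>
          Subtype.ext (hwP z hz))
      · intro R x hR hx hxN
        refine hN _ _ (hle R hR) (by rw [← hmapconj]; exact hle _ hx) ?_
        rw [← hW']
        exact Subgroup.le_normalizer_map M.subtype ⟨x, hxN, rfl⟩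
      · rw [hPMdef, Sylow.coe_subtype]
        exact Subgroup.comap_mono hQ
      · rintro _ ⟨x, hx, rfl⟩
        exact hQam ⟨(x : G), hx, rfl⟩
    -- the first factor
    have hrel2 : Rel (conjSub (a * m) Q) (k * a⁻¹) := by
      refine hK _ _ hQam (by rw [hge]; exact hgQ) fun w hw hwP => ?_
      have h1 : (k * a⁻¹) ∈ Stab := Stab.mul_mem (hKS hk) (Stab.inv_mem haS)
      rw [← h1 _ ⟨w, hw, hwP, rfl⟩, mul_inv_cancel_right]
    have := hcomp Q (a * m) (k * a⁻¹) hQ hQam (by rw [hge]; exact hgQ) hrel1 hrel2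
    rwa [show k * a⁻¹ * (a * m) = g by rw [← hkm]; group] at this

end CfsgLib.Fusion
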