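import Cfsg.Agent.Lib.Fusion.GroupModel
import Cfsg.Agent.Lib.PLocal.QdFree

/-!
For odd `p` a section `Qd(p)` of a group lies in the normalizer of a centric `p`-subgroup.
-/

set_option autoImplicit false
set_option linter.style.haveILetI false
set_option linter.unusedVariables false
set_option linter.unusedSectionVars false

universe u

namespace CfsgLib.Fusion

open Cfsg Cfsg.FusionSystem Subgroup CfsgLib.PLocal
open scoped MatrixGroups

variable {p : ℕ} [Fact p.Prime]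

/-- Elements acting on `v, w` modulo `U` as on a natural module give a section `Qd(p)`. -/
theorem qd_involves_of_rel {G : Type u} [Group G] [Finite G] (h2 : p ≠ 2) {U : Subgroup G}
    {u l v w : G} (hu : u ∈ Subgroup.normalizer (U : Set G))
    (hl : l ∈ Subgroup.normalizer (U : Set G)) (hv : v ∈ Subgroup.normalizer (U : Set G))
    (hw : w ∈ Subgroup.normalizer (U : Set G)) (hvp : v ^ p ∈ U) (hwp : w ^ p ∈ U)
    (hvw : v * w * v⁻¹ * w⁻¹ ∈ U) (hv1 : v ∉ U)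
    (h1 : u * v * u⁻¹ * v⁻¹ ∈ U) (h2' : u * w * u⁻¹ * (v * w)⁻¹ ∈ U)
    (h3 : l * v * l⁻¹ * (v * w)⁻¹ ∈ U) (h4 : l * w * l⁻¹ * w⁻¹ ∈ U) :
    Cfsg.Involves ↥(Cfsg.qd p) G := by
  set N := Subgroup.normalizer (U : Set G) with hN
  haveI : (U.subgroupOf N).Normal := Subgroup.normal_subgroupOf_of_le_normalizer le_rfl
  set π := QuotientGroup.mk' (U.subgroupOf N) with hπ
  have hcong : ∀ x y : N, (x : G) * (y : G)⁻¹ ∈ U → π x = π y := fun x y h => by
    rw [← mul_inv_eq_one, ← map_inv, ← map_mul]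
    exact (QuotientGroup.eq_one_iff _).2 h
  obtain ⟨K, f, hf⟩ := qd_sec_of_natural_elements (p := p) h2 (u := π ⟨u, hu⟩) (l := π ⟨l, hl⟩)
    (v := π ⟨v, hv⟩) (w := π ⟨w, hw⟩)
    (by rw [← map_pow]; exact (QuotientGroup.eq_one_iff _).2 hvp)
    (by rw [← map_pow]; exact (QuotientGroup.eq_one_iff _).2 hwp)
    (by
      show π ⟨v, hv⟩ * π ⟨w, hw⟩ = π ⟨w, hw⟩ * π ⟨v, hv⟩
      rw [← map_mul, ← map_mul]
      refine hcong _ _ ?_
      show v * w * (w * v)⁻¹ ∈ U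
      rwa [mul_inv_rev, ← mul_assoc])
    (fun h => hv1 (Subgroup.mem_subgroupOf.1 ((QuotientGroup.eq_one_iff (⟨v, hv⟩ : N)).1 h)))
    (by rw [← map_inv, ← map_mul, ← map_mul]; exact hcong _ _ h1)
    (by rw [← map_inv, ← map_mul, ← map_mul, ← map_mul]; exact hcong _ _ h2')
    (by rw [← map_inv, ← map_mul, ← map_mul, ← map_mul]; exact hcong _ _ h3)
    (by rw [← map_inv, ← map_mul, ← map_mul]; exact hcong _ _ h4)
  obtain ⟨K', f', -, hf'⟩ := sec_of_quotient (U.subgroupOf N) f hf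
  obtain ⟨K'', f'', -, hf''⟩ := sec_of_subgroup N f' hf'
  exact involves_of_sec f'' hf''

/-- The linear part of an element of `Qd(p)`. -/
theorem exists_qdProj :
    ∃ π : ↥(Cfsg.qd p) →* SL(2, ZMod p),
      ∀ (g : ↥(Cfsg.qd p)) t M, (g : SL(3, ZMod p)) = affMat t M → π g = M := by
  choose tr blk hblk using fun g : ↥(Cfsg.qd p) => exists_affMat_of_mem_qd g.2
  have hu : ∀ (g : ↥(Cfsg.qd p)) t M, (g : SL(3, ZMod p)) = affMat t M → blk g = M := fun g t M e =>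
    (affMat_injective ((hblk g).symm.trans e)).2
  exact ⟨MonoidHom.mk' blk fun g h =>
    hu (g * h) _ _ (by rw [Subgroup.coe_mul, hblk g, hblk h, affMat_mul]), hu⟩

theorem affMat_pow_one (x : Fin 2 → ZMod p) (n : ℕ) :
    affMat x 1 ^ n = affMat (n • x) 1 := by
  induction n with
  | zero => rw [pow_zero, zero_smul, affMat_zero_one]
  | succ n ih =>
    rw [pow_succ, ih, affMat_mul, Matrix.SpecialLinearGroup.coe_one, Matrix.one_mulVec, mul_one,
      succ_nsmul]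

/-- A section `Qd(p)` gives natural relations inside the normalizer of a `p`-subgroup. -/
theorem qd_elements {G : Type u} [Group G] [Finite G] (h : Cfsg.Involves ↥(Cfsg.qd p) G) :
    ∃ (T U : Subgroup G) (u l v w : G), IsPGroup p T ∧ U ≤ T ∧
      u ∈ Subgroup.normalizer (T : Set G) ∧ l ∈ Subgroup.normalizer (T : Set G) ∧
      u ∈ Subgroup.normalizer (U : Set G) ∧ l ∈ Subgroup.normalizer (U : Set G) ∧
      T ≤ Subgroup.normalizer (U : Set G) ∧ v ∈ T ∧ w ∈ T ∧ v ^ p ∈ U ∧ w ^ p ∈ U ∧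
      v * w * v⁻¹ * w⁻¹ ∈ U ∧ v ∉ U ∧ u * v * u⁻¹ * v⁻¹ ∈ U ∧ u * w * u⁻¹ * (v * w)⁻¹ ∈ U ∧
      l * v * l⁻¹ * (v * w)⁻¹ ∈ U ∧ l * w * l⁻¹ * w⁻¹ ∈ U := by
  obtain ⟨K, f, hf⟩ := exists_sec_of_involves h
  obtain ⟨π, hπ⟩ := exists_qdProj (p := p)
  let f3 : K →* SL(3, ZMod p) := (Cfsg.qd p).subtype.comp f
  set D := (π.comp f).ker with hD
  haveI : D.Normal := (π.comp f).normal_ker
  have hDmem : ∀ k, k ∈ D → ∃ x, f3 k = affMat x 1 := fun k hk => by
    obtain ⟨x, M, e⟩ := exists_affMat_of_mem_qd (f k).2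
    refine ⟨x, ?_⟩
    have := hπ _ _ _ e
    rw [hD, MonoidHom.mem_ker, MonoidHom.comp_apply, this] at hk
    rw [← hk]
    exact e
  have hpow : ∀ k ∈ D, f k ^ p = 1 := fun k hk => by
    obtain ⟨x, e⟩ := hDmem k hk
    refine Subtype.ext ?_
    rw [SubmonoidClass.coe_pow, show ((f k : ↥(Cfsg.qd p)) : SL(3, ZMod p)) = affMat x 1 from e,
      affMat_pow_one, show (p : ℕ) • x = 0 by ext i; simp, affMat_zero_one, Subgroup.coe_one]
  obtain ⟨T₀⟩ := (inferInstance : Nonempty (Sylow p D))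
  set T' := (T₀ : Subgroup D).map D.subtype with hT'
  have hT'D : T' ≤ D := Subgroup.map_subtype_le _
  -- a Sylow subgroup of `D` covers the translations
  have hcov : ∀ x : Fin 2 → ZMod p, ∃ t ∈ T', f3 t = affMat x 1 := by
    intro x
    obtain ⟨k, hk⟩ := hf ⟨affMat x 1, affMat_mem_qd x 1⟩
    have hk3 : f3 k = affMat x 1 := congrArg Subtype.val hk
    have hkD : k ∈ D := by
      rw [hD, MonoidHom.mem_ker, MonoidHom.comp_apply]
      exact hπ _ _ _ hk3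
    let fD := f.comp D.subtype
    have hFp : IsPGroup p fD.range := by
      rintro ⟨_, d, rfl⟩
      exact ⟨1, Subtype.ext (by rw [pow_one]; exact hpow d d.2)⟩
    have hsur := MonoidHom.rangeRestrict_surjective fD
    have htop : (T₀.mapSurjective hsur : Subgroup fD.range) = ⊤ :=
      ((T₀.mapSurjective hsur).is_maximal' (hFp.to_subgroup ⊤) le_top).symm
    have hmem : fD.rangeRestrict ⟨k, hkD⟩ ∈ (T₀ : Subgroup D).map fD.rangeRestrict := by
      show _ ∈ (T₀.mapSurjective hsur : Subgroup fD.range)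
      rw [htop]
      exact Subgroup.mem_top _
    obtain ⟨d, hd, hde⟩ := hmem
    refine ⟨d, ⟨d, hd, rfl⟩, ?_⟩
    rw [← hk3]
    exact congrArg Subtype.val (congrArg Subtype.val hde : f d = f k)
  have hfrat : ∀ M : SL(2, ZMod p), ∃ m ∈ Subgroup.normalizer (T' : Set K), ∃ x, f3 m = affMat x M := by
    intro M
    obtain ⟨k, hk⟩ := hf ⟨affMat 0 M, affMat_mem_qd 0 M⟩
    have hmem : k ∈ Subgroup.normalizer (T' : Set K) ⊔ D := by
      rw [hT', Sylow.normalizer_sup_eq_top T₀]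
      exact Subgroup.mem_top k
    obtain ⟨m, hm, d, hd, rfl⟩ := Subgroup.mem_sup_of_normal_right.1 hmem
    obtain ⟨x, N, e⟩ := exists_affMat_of_mem_qd (f m).2
    refine ⟨m, hm, x, ?_⟩
    have h1 : (π.comp f) (m * d) = M := hπ _ 0 M (congrArg Subtype.val hk)
    rw [map_mul, show (π.comp f) d = 1 from hd, mul_one] at h1
    rw [← h1, show (π.comp f) m = N from hπ _ _ _ e]
    exact e
  obtain ⟨v, hv, hfv⟩ := hcov ![1, 0]
  obtain ⟨w, hw, hfw⟩ := hcov ![0, 1]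
  obtain ⟨u, hu, su, hfu⟩ := hfrat (upU 1)
  obtain ⟨l, hl, sl, hfl⟩ := hfrat (loL 1)
  set U' := T' ⊓ f.ker with hU'
  have hnU : ∀ m ∈ Subgroup.normalizer (T' : Set K), m ∈ Subgroup.normalizer (U' : Set K) := by
    intro m hm x
    have h1 := Subgroup.mem_normalizer_iff.1 hm x
    have h2 : x ∈ f.ker ↔ m * x * m⁻¹ ∈ f.ker := by
      rw [MonoidHom.mem_ker, MonoidHom.mem_ker, map_mul, map_mul, map_inv, mul_inv_eq_one,
        mul_eq_left]
    exact and_congr h1 h2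
  have hker : ∀ x ∈ T', f3 x = 1 → x ∈ U' := fun x hx h => ⟨hx, Subtype.ext h⟩
  have hconj : ∀ m ∈ Subgroup.normalizer (T' : Set K), ∀ x ∈ T', m * x * m⁻¹ ∈ T' := fun m hm x hx =>
    (Subgroup.mem_normalizer_iff.1 hm x).1 hx
  -- the relations in `SL₃`
  have hrel : ∀ (s : Fin 2 → ZMod p) (M : SL(2, ZMod p)) (x y : Fin 2 → ZMod p),
      (M : Matrix (Fin 2) (Fin 2) (ZMod p)).mulVec x = y →
      affMat s M * affMat x 1 * (affMat s M)⁻¹ = affMat y 1 := by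
    intro s M x y e
    rw [mul_inv_eq_iff_eq_mul, affMat_mul, affMat_mul, e, Matrix.SpecialLinearGroup.coe_one,
      Matrix.one_mulVec, mul_one, one_mul, add_comm]
  have hfvw : f3 (v * w) = affMat ![1, 1] 1 := by
    rw [map_mul, hfv, hfw, affMat_mul, Matrix.SpecialLinearGroup.coe_one, Matrix.one_mulVec, mul_one]
    congr 1
    ext i; fin_cases i <;> simp
  refine ⟨T'.map K.subtype, U'.map K.subtype, u, l, v, w, (T₀.isPGroup'.map _).map _,
    Subgroup.map_mono inf_le_left, ?_, ?_, ?_, ?_, ?_, ⟨v, hv, rfl⟩, ⟨w, hw, rfl⟩,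
    ⟨v ^ p, ⟨T'.pow_mem hv p, ?_⟩, map_pow _ _ _⟩, ⟨w ^ p, ⟨T'.pow_mem hw p, ?_⟩, map_pow _ _ _⟩,
    ⟨v * w * v⁻¹ * w⁻¹, hker _ (T'.mul_mem (T'.mul_mem (T'.mul_mem hv hw) (T'.inv_mem hv))
      (T'.inv_mem hw)) ?_, rfl⟩, ?_,
    ⟨u * v * u⁻¹ * v⁻¹, hker _ (T'.mul_mem (hconj u hu v hv) (T'.inv_mem hv)) ?_, rfl⟩,
    ⟨u * w * u⁻¹ * (v * w)⁻¹, hker _ (T'.mul_mem (hconj u hu w hw) (T'.inv_mem (T'.mul_mem hv hw)))
      ?_, rfl⟩,
    ⟨l * v * l⁻¹ * (v * w)⁻¹, hker _ (T'.mul_mem (hconj l hl v hv) (T'.inv_mem (T'.mul_mem hv hw)))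
      ?_, rfl⟩,
    ⟨l * w * l⁻¹ * w⁻¹, hker _ (T'.mul_mem (hconj l hl w hw) (T'.inv_mem hw)) ?_, rfl⟩⟩
  · exact Subgroup.le_normalizer_map K.subtype ⟨u, hu, rfl⟩
  · exact Subgroup.le_normalizer_map K.subtype ⟨l, hl, rfl⟩
  · exact Subgroup.le_normalizer_map K.subtype ⟨u, hnU u hu, rfl⟩
  · exact Subgroup.le_normalizer_map K.subtype ⟨l, hnU l hl, rfl⟩
  · rintro _ ⟨x, hx, rfl⟩
    exact Subgroup.le_normalizer_map K.subtype ⟨x, hnU x (Subgroup.le_normalizer hx), rfl⟩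
  · show v ^ p ∈ f.ker
    rw [MonoidHom.mem_ker, map_pow, hpow v (hT'D hv)]
  · show w ^ p ∈ f.ker
    rw [MonoidHom.mem_ker, map_pow, hpow w (hT'D hw)]
  · rw [map_mul, map_mul, map_mul, map_inv, map_inv, hfv, hfw, hrel _ _ ![0, 1] ![0, 1] (by simp),
      mul_inv_cancel]
  · rintro ⟨x, ⟨-, hx⟩, hxv⟩
    obtain rfl : x = v := Subtype.ext hxv
    have h1 : affMat ![1, 0] (1 : SL(2, ZMod p)) = affMat 0 1 := by
      rw [affMat_zero_one, ← hfv, MonoidHom.comp_apply, MonoidHom.mem_ker.1 hx, map_one]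
    have := congrFun (affMat_injective h1).1 0
    simp at this
  · rw [map_mul, map_mul, map_mul, map_inv, map_inv, hfu, hfv,
      hrel _ _ ![1, 0] ![1, 0] (by ext i; fin_cases i <;> simp [upU_coe, Matrix.mulVec, dotProduct]),
      mul_inv_cancel]
  · rw [map_mul, map_inv f3 (v * w), map_mul, map_mul, map_inv, hfu, hfvw, hfw,
      hrel _ _ ![0, 1] ![1, 1] (by ext i; fin_cases i <;> simp [upU_coe, Matrix.mulVec, dotProduct]),
      mul_inv_cancel]
  · rw [map_mul, map_inv f3 (v * w), map_mul, map_mul, map_inv, hfl, hfvw, hfv,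
      hrel _ _ ![1, 0] ![1, 1] (by ext i; fin_cases i <;> simp [loL_coe, Matrix.mulVec, dotProduct]),
      mul_inv_cancel]
  · rw [map_mul, map_mul, map_mul, map_inv, map_inv, hfl, hfw,
      hrel _ _ ![0, 1] ![0, 1] (by ext i; fin_cases i <;> simp [loL_coe, Matrix.mulVec, dotProduct]),
      mul_inv_cancel]

/-- For odd `p`, a group whose fusion system is `Qd(p)`-free has no section `Qd(p)`. -/
theorem not_involves_of_qdFree {G : Type u} [Group G] [Finite G] (h2 : p ≠ 2) (P : Sylow p G)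
    (hfree : (groupFusionSystem (P : Subgroup G)).IsSectionFree p ↥(Cfsg.qd p)) :
    ¬ Cfsg.Involves ↥(Cfsg.qd p) G := by
  intro hinv
  obtain ⟨T, U, u, l, v, w, hTp, hUT, huT, hlT, huU, hlU, hTU, hv, hw, hvp, hwp, hvw, hv1,
    r1, r2, r3, r4⟩ := qd_elements hinv
  set C := Subgroup.centralizer (T : Set G) with hC
  set NT := Subgroup.normalizer (T : Set G) with hNT
  have hCconj : ∀ n ∈ NT, ∀ c ∈ C, n * c * n⁻¹ ∈ C := by
    intro n hn c hc t ht
    have h1 := hc (n⁻¹ * t * n) ((Subgroup.mem_normalizer_iff''.1 hn t).1 ht)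
    calc t * (n * c * n⁻¹) = n * (n⁻¹ * t * n * c) * n⁻¹ := by group
      _ = n * (c * (n⁻¹ * t * n)) * n⁻¹ := by rw [h1]
      _ = n * c * n⁻¹ * t := by group
  have hTC : T ≤ Subgroup.normalizer (C : Set G) := fun t ht => by
    haveI : Finite (C : Set G) := Subtype.finite
    exact Subgroup.mem_normalizer_fintype fun c hc => hCconj t (Subgroup.le_normalizer ht) c hc
  set D := T ⊔ C with hDdef
  obtain ⟨Q₁, hQ₁⟩ := (hTp.of_equiv (Subgroup.subgroupOfEquivOfLe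
    (le_sup_left : T ≤ D)).symm).exists_le_sylow
  set Q₀ := (Q₁ : Subgroup D).map D.subtype with hQ₀
  have hTQ : T ≤ Q₀ := fun t ht => ⟨⟨t, Subgroup.mem_sup_left ht⟩, hQ₁ ht, rfl⟩
  have hQD : Q₀ ≤ D := Subgroup.map_subtype_le _
  have hQp : IsPGroup p Q₀ := Q₁.isPGroup'.map _
  have hcen : ∀ X : Subgroup G, IsPGroup p X → X ≤ Subgroup.centralizer (Q₀ : Set G) → X ≤ Q₀ := by
    intro X hX hXc
    have hXD : X ≤ D := (hXc.trans (Subgroup.centralizer_le hTQ)).trans le_sup_right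
    have hp' : IsPGroup p (Q₀ ⊔ X : Subgroup G) :=
      hQp.to_sup_of_normal_left' hX (hXc.trans (Subgroup.centralizer_le_normalizer _))
    have h1 := Q₁.is_maximal' (hp'.of_equiv (Subgroup.subgroupOfEquivOfLe (sup_le hQD hXD)).symm)
      (fun y hy => (Subgroup.mem_sup_left ⟨y, hy, rfl⟩ : (y : G) ∈ Q₀ ⊔ X))
    intro x hx
    refine ⟨⟨x, hXD hx⟩, ?_, rfl⟩
    rw [← h1]
    exact Subgroup.mem_sup_right hx
  have hfrat : ∀ n ∈ NT, ∃ n' ∈ Subgroup.normalizer (Q₀ : Set G),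
      n' ∈ NT ∧ ∀ t ∈ T, n' * t * n'⁻¹ = n * t * n⁻¹ := by
    intro n hn
    have hnD : ∀ y ∈ D, n * y * n⁻¹ ∈ D := by
      have : D ≤ D.comap (MulAut.conj n).toMonoidHom := by
        refine sup_le (fun t ht => ?_) (fun c hc => ?_)
        · exact Subgroup.mem_sup_left ((Subgroup.mem_normalizer_iff.1 hn t).1 ht)
        · exact Subgroup.mem_sup_right (hCconj n hn c hc)
      exact fun y hy => this hy
    have hRD : conjSub n Q₀ ≤ D := by
      rintro _ ⟨y, hy, rfl⟩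
      exact hnD y (hQD hy)
    have hidx : ¬ p ∣ Q₀.relIndex D := not_dvd_relIndex_of_sylow Q₁
    obtain ⟨d, hd, hdQ⟩ := exists_conj_le_of_sylow hQp hQD hidx (hQp.map _) hRD
    have hd' : d ∈ ((T ⊔ C : Subgroup G) : Set G) := hd
    rw [Subgroup.coe_mul_of_left_le_normalizer_right T C hTC] at hd'
    obtain ⟨t, ht, c, hc, hdc⟩ := hd'
    have hdc' : t * c = d := hdc
    subst hdc'
    refine ⟨c * n, ?_, ?_, fun y hy => ?_⟩
    · have hle : conjSub (c * n) Q₀ ≤ Q₀ := by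
        rintro _ ⟨y, hy, rfl⟩
        have h1 : t * c * (n * y * n⁻¹) * (t * c)⁻¹ ∈ Q₀ := hdQ ⟨_, ⟨y, hy, rfl⟩, rfl⟩
        have h2 := Q₀.mul_mem (Q₀.mul_mem (Q₀.inv_mem (hTQ ht)) h1) (hTQ ht)
        have e : t⁻¹ * (t * c * (n * y * n⁻¹) * (t * c)⁻¹) * t = c * n * y * (c * n)⁻¹ := by group
        rwa [e] at h2
      haveI : Finite (Q₀ : Set G) := Subtype.finite
      exact Subgroup.mem_normalizer_fintype fun y hy => hle ⟨y, hy, rfl⟩
    · exact NT.mul_mem (Subgroup.centralizer_le_normalizer _ hc) hn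
    · have h1 : n * y * n⁻¹ * c = c * (n * y * n⁻¹) :=
        hc (n * y * n⁻¹) ((Subgroup.mem_normalizer_iff.1 hn y).1 hy)
      calc c * n * y * (c * n)⁻¹ = c * (n * y * n⁻¹) * c⁻¹ := by group
        _ = n * y * n⁻¹ * c * c⁻¹ := by rw [h1]
        _ = n * y * n⁻¹ := by group
  obtain ⟨u', hu'Q, hu'T, hu'e⟩ := hfrat u huT
  obtain ⟨l', hl'Q, hl'T, hl'e⟩ := hfrat l hlT
  have hsame : ∀ {n n' : G}, n ∈ Subgroup.normalizer (U : Set G) →
      (∀ t ∈ T, n' * t * n'⁻¹ = n * t * n⁻¹) → n' ∈ Subgroup.normalizer (U : Set G) := by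
    intro n n' hn he
    haveI : Finite (U : Set G) := Subtype.finite
    refine Subgroup.mem_normalizer_fintype fun y hy => ?_
    rw [he y (hUT hy)]
    exact (Subgroup.mem_normalizer_iff.1 hn y).1 hy
  -- move `Q₀` to a fully normalized subgroup of `P`
  set F := groupFusionSystem (P : Subgroup G) with hFdef
  obtain ⟨P', hP'⟩ := hQp.exists_le_sylow
  obtain ⟨a, ha⟩ := MulAction.exists_smul_eq G P' P
  have hQ1P : conjSub a Q₀ ≤ P := by
    rw [← ha, Sylow.coe_subgroup_smul]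
    rintro _ ⟨y, hy, rfl⟩
    exact Subgroup.smul_mem_pointwise_smul y (MulAut.conj a) _ (hP' hy)
  obtain ⟨Q, hQQ, hQn⟩ := exists_fullyNormalized_conj F hQ1P
  obtain ⟨-, hQS, b, hb⟩ := (group_isConj_iff P).1 hQQ
  rw [← conjSub_mul] at hb
  set g := b * a with hg
  have hQc : F.IsCentric Q := by
    refine ⟨hQS, fun R hR x hx => ?_⟩
    obtain ⟨-, -, c, hc⟩ := (group_isConj_iff P).1 hR
    rw [← hb, ← conjSub_mul] at hc
    have hX : conjSub (c * g)⁻¹ (centralizerIn (P : Subgroup G) R) ≤ Q₀ := by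
      refine hcen _ ((P.isPGroup'.to_le inf_le_left).map _) ?_
      rintro _ ⟨y, hy, rfl⟩ q hq
      have h1 : c * g * q * (c * g)⁻¹ * y = y * (c * g * q * (c * g)⁻¹) :=
        hy.2 _ (hc ▸ ⟨q, hq, rfl⟩)
      show q * ((c * g)⁻¹ * y * (c * g)⁻¹⁻¹) = (c * g)⁻¹ * y * (c * g)⁻¹⁻¹ * q
      calc q * ((c * g)⁻¹ * y * (c * g)⁻¹⁻¹)
          = (c * g)⁻¹ * (c * g * q * (c * g)⁻¹ * y) * (c * g) := by group
        _ = (c * g)⁻¹ * (y * (c * g * q * (c * g)⁻¹)) * (c * g) := by rw [h1]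
        _ = (c * g)⁻¹ * y * (c * g)⁻¹⁻¹ * q := by group
    have h2 := hX ⟨x, hx, rfl⟩
    rw [← hc]
    refine ⟨_, h2, ?_⟩
    show c * g * ((c * g)⁻¹ * x * (c * g)⁻¹⁻¹) * (c * g)⁻¹ = x
    group
  have hNQ : ∀ y ∈ Subgroup.normalizer (Q₀ : Set G), g * y * g⁻¹ ∈ Subgroup.normalizer (Q : Set G) := by
    intro y hy
    rw [← hb]
    exact Subgroup.le_normalizer_map (MulAut.conj g).toMonoidHom ⟨y, hy, rfl⟩
  set H := Subgroup.normalizer (Q₀ : Set G) with hH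
  let φ₀ : H →* ↥(Subgroup.normalizer (Q : Set G)) :=
    ((MulAut.conj g).toMonoidHom.comp H.subtype).codRestrict _
      fun y => hNQ y y.2
  have hN := isNormalizerSystem_normalizerSys F Q hQn.1
  obtain ⟨K, hK, κ, hKp, -, -, -, hm⟩ := exists_group_model P hQn hQc hN
  let φ := (QuotientGroup.mk' K).comp φ₀
  refine hfree Q hQn hQc _ hN _ κ hm ?_
  have hTH : T ≤ H := hTQ.trans Subgroup.le_normalizer
  set Ub := (U.subgroupOf H).map φ with hUb
  have hn : ∀ y : H, (y : G) ∈ Subgroup.normalizer (U : Set G) →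
      φ y ∈ Subgroup.normalizer (Ub : Set (↥(Subgroup.normalizer (Q : Set G)) ⧸ K)) := fun y hy =>
    Subgroup.le_normalizer_map φ
      ⟨y, Subgroup.mem_normalizer_iff.2 fun z => Subgroup.mem_normalizer_iff.1 hy z, rfl⟩
  have hrel : ∀ y : H, (y : G) ∈ U → φ y ∈ Ub := fun y hy => ⟨y, hy, rfl⟩
  refine qd_involves_of_rel h2 (U := Ub) (u := φ ⟨u', hu'Q⟩) (l := φ ⟨l', hl'Q⟩)
    (v := φ ⟨v, hTH hv⟩) (w := φ ⟨w, hTH hw⟩) (hn _ (hsame huU hu'e)) (hn _ (hsame hlU hl'e))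
    (hn _ (hTU hv)) (hn _ (hTU hw)) ?_ ?_ ?_ ?_ ?_ ?_ ?_ ?_
  · rw [← map_pow]; exact hrel _ hvp
  · rw [← map_pow]; exact hrel _ hwp
  · rw [← map_inv, ← map_inv, ← map_mul, ← map_mul, ← map_mul]; exact hrel _ hvw
  · rintro ⟨y, hy, hyv⟩
    refine hv1 ?_
    have h1 : φ (y⁻¹ * ⟨v, hTH hv⟩) = 1 := by rw [map_mul, map_inv, hyv, inv_mul_cancel]
    have h2' : (orderOf (φ₀ (y⁻¹ * ⟨v, hTH hv⟩))).Coprime p :=
      hKp _ ((QuotientGroup.eq_one_iff _).1 h1)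
    have hinj : Function.Injective φ₀ := fun x z h =>
      Subtype.ext ((MulAut.conj g).injective (congrArg Subtype.val h))
    rw [orderOf_injective φ₀ hinj, ← Subgroup.orderOf_coe] at h2'
    have h3 : (y : G)⁻¹ * v = 1 :=
      eq_one_of_isPGroup_of_coprime hTp (T.mul_mem (T.inv_mem (hUT hy)) hv) h2'
    rw [← inv_mul_eq_one.1 h3]
    exact hy
  · rw [← map_inv, ← map_inv, ← map_mul, ← map_mul, ← map_mul]
    refine hrel _ ?_
    show u' * v * u'⁻¹ * v⁻¹ ∈ U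
    rw [hu'e v hv]; exact r1
  · rw [← map_mul φ ⟨v, hTH hv⟩ ⟨w, hTH hw⟩, ← map_inv, ← map_inv, ← map_mul, ← map_mul, ← map_mul]
    refine hrel _ ?_
    show u' * w * u'⁻¹ * (v * w)⁻¹ ∈ U
    rw [hu'e w hw]; exact r2
  · rw [← map_mul φ ⟨v, hTH hv⟩ ⟨w, hTH hw⟩, ← map_inv, ← map_inv, ← map_mul, ← map_mul, ← map_mul]
    refine hrel _ ?_
    show l' * v * l'⁻¹ * (v * w)⁻¹ ∈ U
    rw [hl'e v hv]; exact r3
  · rw [← map_inv, ← map_inv, ← map_mul, ← map_mul, ← map_mul]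
    refine hrel _ ?_
    show l' * w * l'⁻¹ * w⁻¹ ∈ U
    rw [hl'e w hw]; exact r4

end CfsgLib.Fusion
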