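import Mathlib.GroupTheory.Sylow
import Mathlib.GroupTheory.GroupAction.Quotient
import Mathlib.Algebra.BigOperators.Group.Finset.Basic
import Cfsg.Agent.Lib.Solvable.PCore

/-!
A trace argument: in the presence of elements acting quadratically on an abelian normal
`p`-subgroup `V`, a `p`-th power of a `P`-fixed element of `V` fixed by a large enough subgroup
is fixed by the whole group.
-/

set_option autoImplicit false
set_option linter.style.haveILetI false
set_option linter.unusedVariables false
set_option linter.unusedSectionVars false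

namespace CfsgLib.Fusion.QuadraticTrace

open Subgroup
open scoped commutatorElement

variable {G : Type*} [Group G] {A : Type*} [CommGroup A] [MulDistribMulAction G A] {p : ℕ}
  {X : Type*} [MulAction G X] (f : X → A) (hf : ∀ (g : G) (x : X), f (g • x) = g • f x)

open Classical in
/-- An orbit of a finite subgroup, as a finite set. -/
noncomputable def orb [Finite G] (R : Subgroup G) (c : X) : Finset X :=
  haveI := Fintype.ofFinite R
  Finset.univ.image fun r : R => (r : G) • c

theorem mem_orb [Finite G] {R : Subgroup G} {c x : X} :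
    x ∈ orb R c ↔ ∃ r ∈ R, r • c = x := by
  classical
  simp [orb]

include hf in
theorem prod_orb_fixed [Finite G] (R : Subgroup G) (c : X) {r : G} (hr : r ∈ R) :
    r • (∏ x ∈ orb R c, f x) = ∏ x ∈ orb R c, f x := by
  rw [Finset.smul_prod']
  refine Finset.prod_bij' (fun x _ => r • x) (fun x _ => r⁻¹ • x) ?_ ?_ ?_ ?_ ?_
  · intro x hx
    obtain ⟨s, hs, rfl⟩ := mem_orb.1 hx
    exact mem_orb.2 ⟨r * s, R.mul_mem hr hs, mul_smul _ _ _⟩
  · intro x hx
    obtain ⟨s, hs, rfl⟩ := mem_orb.1 hx
    exact mem_orb.2 ⟨r⁻¹ * s, R.mul_mem (R.inv_mem hr) hs, mul_smul _ _ _⟩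
  · intro x _
    exact inv_smul_smul r x
  · intro x _
    exact smul_inv_smul r x
  · intro x _
    exact (hf r x).symm

theorem pow_smul_quadratic {γ : G} {a d : A} (hd : γ • a = a * d) (hγd : γ • d = d) (i : ℕ) :
    γ ^ i • a = a * d ^ i := by
  induction i with
  | zero => simp
  | succ i ih =>
    rw [pow_succ', mul_smul, ih, smul_mul', smul_pow', hd, hγd, pow_succ']
    rw [mul_assoc]

include hf in
/-- The product over an orbit of a `p`-group moved by a quadratic element. -/
theorem exists_root_orbit [Fact p.Prime] [Finite G] (Γ : Set G)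
    (hΓ : ∀ γ ∈ Γ, ∀ a : A, γ • ((γ • a) / a) = (γ • a) / a) :
    ∀ (n : ℕ) (R : Subgroup G), Nat.card R = n → IsPGroup p R → ∀ c : X,
      (∃ γ ∈ Γ, γ ∈ R ∧ γ • c ≠ c) →
      ∃ a : A, (∀ r ∈ R, r • a ^ p = a ^ p) ∧ (∏ x ∈ orb R c, f x) ^ p = (a ^ p) ^ p := by
  intro n
  induction n using Nat.strong_induction_on with
  | _ n ih =>
    intro R hn hR c hc
    classical
    set St : Subgroup R := MulAction.stabilizer R c with hSt
    have hSt' : St ≠ ⊤ := by
      obtain ⟨γ, -, hγR, hγc⟩ := hc
      intro htop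
      have h1 : (⟨γ, hγR⟩ : R) ∈ St := htop ▸ Subgroup.mem_top _
      exact hγc h1
    haveI := hR.isNilpotent
    obtain ⟨M, hM, hStM⟩ := (eq_top_or_exists_le_coatom St).resolve_left hSt'
    haveI hMn : M.Normal :=
      Group.normalizerCondition_of_isNilpotent.normal_of_coatom M hM
    have hidx : M.index = p := by
      obtain ⟨k, hk⟩ := hR.index M
      rcases Nat.eq_zero_or_pos k with rfl | hk0
      · rw [pow_zero, Subgroup.index_eq_one] at hk
        exact absurd hk hM.1
      · obtain ⟨y, hy⟩ := exists_prime_orderOf_dvd_card' (G := R ⧸ M) p (by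
          rw [← Subgroup.index_eq_card, hk]
          exact dvd_pow_self p hk0.ne')
        have h1 : M ≤ (Subgroup.zpowers y).comap (QuotientGroup.mk' M) := fun x hx => by
          rw [Subgroup.mem_comap, QuotientGroup.mk'_apply, (QuotientGroup.eq_one_iff x).2 hx]
          exact Subgroup.one_mem _
        have hsurj := QuotientGroup.mk'_surjective M
        have h2 : M < (Subgroup.zpowers y).comap (QuotientGroup.mk' M) := by
          refine lt_of_le_of_ne h1 fun he => ?_
          have h3 : Subgroup.zpowers y = ⊥ := by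
            rw [← Subgroup.map_comap_eq_self_of_surjective hsurj (Subgroup.zpowers y), ← he,
              QuotientGroup.map_mk'_self]
          rw [Subgroup.zpowers_eq_bot] at h3
          rw [h3, orderOf_one] at hy
          exact (Fact.out : p.Prime).one_lt.ne hy
        have h4 : Subgroup.zpowers y = ⊤ := by
          rw [← Subgroup.map_comap_eq_self_of_surjective hsurj (Subgroup.zpowers y), hM.2 _ h2,
            Subgroup.map_top_of_surjective _ hsurj]
        rw [Subgroup.index_eq_card, ← hy, ← Nat.card_zpowers, h4, Subgroup.card_top]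
    set R' : Subgroup G := M.map R.subtype with hR'def
    have hR'R : R' ≤ R := Subgroup.map_subtype_le _
    have hstab : ∀ r ∈ R, r • c = c → r ∈ R' := fun r hr hrc =>
      ⟨⟨r, hr⟩, hStM (show (⟨r, hr⟩ : R) ∈ St from hrc), rfl⟩
    have hnorm : ∀ t ∈ R, ∀ s ∈ R', t * s * t⁻¹ ∈ R' := by
      rintro t ht _ ⟨s, hs, rfl⟩
      exact ⟨_, hMn.conj_mem s hs ⟨t, ht⟩, rfl⟩
    have hlt : Nat.card R' < n := by
      rw [hR'def, Subgroup.card_map_of_injective R.subtype_injective, ← hn,
        ← Subgroup.card_mul_index M, hidx]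
      exact lt_mul_of_one_lt_right Nat.card_pos (Fact.out : p.Prime).one_lt
    -- decomposition of the orbit along an element outside `M`
    have hdec : ∀ t ∈ R, t ∉ R' → (∀ i < p, ∀ j < p, ∀ x ∈ orb R' c, ∀ y ∈ orb R' c,
        t ^ i • x = t ^ j • y → i = j) ∧
        orb R c = (Finset.range p).biUnion fun i => (orb R' c).image (t ^ i • ·) := by
      intro t ht htR'
      have htM : (QuotientGroup.mk' M ⟨t, ht⟩ : R ⧸ M) ≠ 1 := fun h =>
        htR' ⟨⟨t, ht⟩, (QuotientGroup.eq_one_iff _).1 h, rfl⟩
      have hord : orderOf (QuotientGroup.mk' M ⟨t, ht⟩ : R ⧸ M) = p :=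
        orderOf_eq_prime (by
          rw [← hidx, Subgroup.index_eq_card]
          exact pow_card_eq_one') htM
      constructor
      · intro i hi j hj x hx y hy he
        obtain ⟨a, ha, rfl⟩ := mem_orb.1 hx
        obtain ⟨b, hb, rfl⟩ := mem_orb.1 hy
        rw [smul_smul, smul_smul] at he
        have h1 : (t ^ j * b)⁻¹ * (t ^ i * a) ∈ R' :=
          hstab _ (R.mul_mem (R.inv_mem (R.mul_mem (R.pow_mem ht j) (hR'R hb)))
            (R.mul_mem (R.pow_mem ht i) (hR'R ha))) (by rw [mul_smul, he, inv_smul_smul])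
        have h2 : (t ^ j)⁻¹ * t ^ i ∈ R' := by
          have := R'.mul_mem (R'.mul_mem hb h1) (R'.inv_mem ha)
          simpa [mul_assoc] using this
        obtain ⟨m, hm, hme⟩ := h2
        have h3 : (QuotientGroup.mk' M ⟨t, ht⟩ : R ⧸ M) ^ i =
            (QuotientGroup.mk' M ⟨t, ht⟩) ^ j := by
          refine eq_of_inv_mul_eq_one ?_ |>.symm
          rw [← map_pow, ← map_pow, ← map_inv, ← map_mul]
          refine (QuotientGroup.eq_one_iff _).2 ?_
          have : m = (⟨t, ht⟩ ^ j : R)⁻¹ * (⟨t, ht⟩ : R) ^ i := Subtype.ext (by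
            rw [← Subgroup.coe_subtype, hme]
            simp)
          rwa [← this]
        exact pow_injOn_Iio_orderOf (by rwa [hord]) (by rwa [hord]) h3
      · ext x
        simp only [Finset.mem_biUnion, Finset.mem_range, Finset.mem_image]
        constructor
        · intro hx
          obtain ⟨r, hr, rfl⟩ := mem_orb.1 hx
          have hgen : (QuotientGroup.mk' M ⟨r, hr⟩ : R ⧸ M) ∈
              Subgroup.zpowers (QuotientGroup.mk' M ⟨t, ht⟩ : R ⧸ M) := by
            have : Subgroup.zpowers (QuotientGroup.mk' M ⟨t, ht⟩ : R ⧸ M) = ⊤ := by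
              refine Subgroup.eq_top_of_card_eq _ ?_
              rw [Nat.card_zpowers, hord, ← Subgroup.index_eq_card, hidx]
            rw [this]
            exact Subgroup.mem_top _
          rw [mem_zpowers_iff_mem_range_orderOf, hord, Finset.mem_image] at hgen
          obtain ⟨i, hi, he⟩ := hgen
          refine ⟨i, Finset.mem_range.1 hi, ((t ^ i)⁻¹ * r) • c, mem_orb.2 ⟨_, ?_, rfl⟩,
            by rw [smul_smul, mul_inv_cancel_left]⟩
          refine ⟨(⟨t, ht⟩ ^ i : R)⁻¹ * ⟨r, hr⟩, ?_, by simp⟩
          refine (QuotientGroup.eq_one_iff _).1 ?_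
          show QuotientGroup.mk' M _ = 1
          rw [map_mul, map_inv, map_pow, he, inv_mul_cancel]
        · rintro ⟨i, hi, y, hy, rfl⟩
          obtain ⟨r, hr, rfl⟩ := mem_orb.1 hy
          exact mem_orb.2 ⟨t ^ i * r, R.mul_mem (R.pow_mem ht i) (hR'R hr), mul_smul _ _ _⟩
    have hprod : ∀ t ∈ R, t ∉ R' → ∏ x ∈ orb R c, f x =
        ∏ i ∈ Finset.range p, t ^ i • ∏ x ∈ orb R' c, f x := by
      intro t ht htR'
      obtain ⟨hdis, hun⟩ := hdec t ht htR'
      rw [hun, Finset.prod_biUnion]
      · refine Finset.prod_congr rfl fun i _ => ?_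
        rw [Finset.prod_image fun x _ y _ h => MulAction.injective (t ^ i) h, Finset.smul_prod']
        exact Finset.prod_congr rfl fun x _ => hf _ x
      · intro i hi j hj hij
        rw [Function.onFun, Finset.disjoint_left]
        intro x hx hx'
        rw [Finset.mem_image] at hx hx'
        obtain ⟨a, ha, rfl⟩ := hx
        obtain ⟨b, hb, hba⟩ := hx'
        exact hij (hdis i (by simpa using hi) j (by simpa using hj) a ha b hb hba.symm)
    have hsplit : ∀ t ∈ R, t ∉ R' → ∀ (y : A), (∀ s ∈ R', s • y = y) → t • y = y →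
        ∀ r ∈ R, r • y = y := by
      intro t ht htR' y hy hty r hr
      have hx : r • c ∈ orb R c := mem_orb.2 ⟨r, hr, rfl⟩
      rw [(hdec t ht htR').2, Finset.mem_biUnion] at hx
      obtain ⟨i, -, hi⟩ := hx
      rw [Finset.mem_image] at hi
      obtain ⟨x, hx, hxe⟩ := hi
      obtain ⟨s, hs, rfl⟩ := mem_orb.1 hx
      rw [smul_smul] at hxe
      have hm : (t ^ i * s)⁻¹ * r ∈ R' := hstab _
        (R.mul_mem (R.inv_mem (R.mul_mem (R.pow_mem ht i) (hR'R hs))) hr)
        (by rw [mul_smul, ← hxe, inv_smul_smul])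
      have hti : ∀ k : ℕ, t ^ k • y = y := fun k => by
        induction k with
        | zero => simp
        | succ k ihk => rw [pow_succ', mul_smul, ihk, hty]
      rw [show r = t ^ i * (s * ((t ^ i * s)⁻¹ * r)) by group, mul_smul, mul_smul, hy _ hm,
        hy _ hs, hti]
    by_cases hin : ∃ γ ∈ Γ, γ ∈ R' ∧ γ • c ≠ c
    · obtain ⟨a, ha, hae⟩ := ih _ hlt R' rfl (hR.to_le hR'R) c hin
      obtain ⟨t, ht, htR'⟩ : ∃ t ∈ R, t ∉ R' := by
        by_contra h
        push Not at h
        have : R' = R := le_antisymm hR'R h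
        rw [this, hn] at hlt
        exact lt_irrefl _ hlt
      refine ⟨∏ i ∈ Finset.range p, t ^ i • a, ?_, ?_⟩
      · have he : (∏ i ∈ Finset.range p, t ^ i • a) ^ p =
            ∏ i ∈ Finset.range p, t ^ i • a ^ p := by
          rw [← Finset.prod_pow]
          exact Finset.prod_congr rfl fun i _ => (smul_pow' _ _ _).symm
        rw [he]
        refine hsplit t ht htR' _ (fun s hs => ?_) ?_
        · rw [Finset.smul_prod']
          refine Finset.prod_congr rfl fun i _ => ?_
          have h1 : (t ^ i)⁻¹ * s * t ^ i ∈ R' := by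
            have := hnorm (t ^ i)⁻¹ (R.inv_mem (R.pow_mem ht i)) s hs
            simpa using this
          rw [smul_smul, show s * t ^ i = t ^ i * ((t ^ i)⁻¹ * s * t ^ i) by group, mul_smul,
            ha _ h1]
        · rw [Finset.smul_prod']
          have hp1 : p = (p - 1) + 1 := (Nat.sub_add_cancel (Fact.out : p.Prime).one_le).symm
          have htp : t ^ p • a ^ p = a ^ p := ha _ ⟨⟨t, ht⟩ ^ p, by
            rw [← hidx]; exact Subgroup.pow_index_mem M _, by simp⟩
          simp only [smul_smul, ← pow_succ']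
          rw [hp1, Finset.prod_range_succ, Finset.prod_range_succ' (fun i => t ^ i • a ^ (p - 1 + 1))]
          rw [← hp1, htp, pow_zero, one_smul]
      · rw [hprod t ht htR', ← Finset.prod_pow, ← Finset.prod_pow, ← Finset.prod_pow]
        refine Finset.prod_congr rfl fun i _ => ?_
        rw [← smul_pow', hae, smul_pow', smul_pow']
    · push Not at hin
      obtain ⟨γ, hγ, hγR, hγc⟩ := hc
      have hγR' : γ ∉ R' := fun h => hγc (hin γ hγ h)
      set a := ∏ x ∈ orb R' c, f x with hadef
      have ha : ∀ s ∈ R', s • a = a := fun s hs => prod_orb_fixed f hf R' c hs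
      set d := (γ • a) / a with hddef
      have hd : γ • a = a * d := by rw [hddef, mul_div_cancel]
      have hγd : γ • d = d := hΓ γ hγ a
      have hdp : d ^ p = 1 := by
        have h1 : γ ^ p • a = a := ha _ ⟨⟨γ, hγR⟩ ^ p, by
          rw [← hidx]; exact Subgroup.pow_index_mem M _, by simp⟩
        rw [pow_smul_quadratic hd hγd] at h1
        exact mul_eq_left.1 h1
      refine ⟨a, hsplit γ hγR hγR' _ (fun s hs => by rw [smul_pow', ha s hs]) ?_, ?_⟩
      · rw [smul_pow', hd, mul_pow, hdp, mul_one]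
      · rw [hprod γ hγR hγR']
        simp only [pow_smul_quadratic hd hγd, Finset.prod_mul_distrib, Finset.prod_const,
          Finset.card_range, mul_pow]
        rw [show (∏ i ∈ Finset.range p, d ^ i) ^ p = 1 by
          rw [← Finset.prod_pow]
          exact Finset.prod_eq_one fun i _ => by rw [← pow_mul, mul_comm, pow_mul, hdp, one_pow]]
        rw [mul_one]

include hf in
/-- The product over an invariant set all of whose points are moved by quadratic elements. -/
theorem exists_root_finset [Fact p.Prime] [Finite G] (Γ : Set G)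
    (hΓ : ∀ γ ∈ Γ, ∀ a : A, γ • ((γ • a) / a) = (γ • a) / a) (R : Subgroup G) (hR : IsPGroup p R) :
    ∀ (n : ℕ) (s : Finset X), s.card = n → (∀ r ∈ R, ∀ x ∈ s, r • x ∈ s) →
      (∀ x ∈ s, ∃ γ ∈ Γ, γ ∈ R ∧ γ • x ≠ x) →
      ∃ a : A, (∀ r ∈ R, r • a ^ p = a ^ p) ∧ (∏ x ∈ s, f x) ^ p = (a ^ p) ^ p := by
  intro n
  induction n using Nat.strong_induction_on with
  | _ n ih =>
    intro s hn hinv hmov
    classical
    rcases s.eq_empty_or_nonempty with rfl | ⟨c, hc⟩
    · exact ⟨1, by simp, by simp⟩
    have hsub : orb R c ⊆ s := fun x hx => by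
      obtain ⟨r, hr, rfl⟩ := mem_orb.1 hx
      exact hinv r hr c hc
    obtain ⟨a, ha, hae⟩ := exists_root_orbit f hf Γ hΓ _ R rfl hR c (hmov c hc)
    have hcard : (s \ orb R c).card < n := by
      rw [← hn]
      refine Finset.card_lt_card (Finset.sdiff_ssubset hsub ⟨c, mem_orb.2 ⟨1, R.one_mem, ?_⟩⟩)
      exact one_smul _ _
    obtain ⟨b, hb, hbe⟩ := ih _ hcard (s \ orb R c) rfl (fun r hr x hx => by
      rw [Finset.mem_sdiff] at hx ⊢
      refine ⟨hinv r hr x hx.1, fun h => hx.2 ?_⟩
      obtain ⟨t, ht, hte⟩ := mem_orb.1 h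
      exact mem_orb.2 ⟨r⁻¹ * t, R.mul_mem (R.inv_mem hr) ht,
        by rw [mul_smul, hte, inv_smul_smul]⟩) fun x hx => hmov x (Finset.mem_sdiff.1 hx).1
    refine ⟨a * b, fun r hr => by rw [mul_pow, smul_mul', ha r hr, hb r hr], ?_⟩
    rw [← Finset.prod_sdiff hsub, mul_pow, hbe, hae, mul_pow, mul_pow, mul_comm]

end CfsgLib.Fusion.QuadraticTrace
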