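import Cfsg.Agent.Lib.Fusion.FactorSystem
import Cfsg.Agent.Lib.Fusion.GroupSystem
import Cfsg.Agent.Lib.PLocal.Thompson

/-!
Lifting conjugation maps from a quotient group, and weak closure of the Thompson subgroup.
-/

set_option autoImplicit false
set_option linter.unusedVariables false
set_option linter.unusedSectionVars false

namespace CfsgLib.Fusion

open Cfsg Cfsg.FusionSystem Subgroup

variable {G : Type*} [Group G] [Finite G] {p : ℕ} [Fact p.Prime]

/-- A conjugation taking a `p`-subgroup into `S H` can be corrected by an element of `H` to one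
taking it into `S`. -/
theorem exists_lift_conj (S : Sylow p G) (H : Subgroup G) [H.Normal] {Q : Subgroup G}
    (hQ : IsPGroup p Q) {g : G} (hg : ∀ x ∈ Q, g * x * g⁻¹ ∈ (S : Subgroup G) ⊔ H) :
    ∃ h ∈ H, ∀ x ∈ Q, h * g * x * (h * g)⁻¹ ∈ (S : Subgroup G) := by
  have hR : conjSub g Q ≤ (S : Subgroup G) ⊔ H := by
    rintro _ ⟨x, hx, rfl⟩
    exact hg x hx
  have hidx : ¬ p ∣ (S : Subgroup G).relIndex ((S : Subgroup G) ⊔ H) := fun h =>
    S.not_dvd_index (h.trans (Subgroup.relIndex_dvd_index_of_le le_sup_left))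
  obtain ⟨k, hk, hkR⟩ := exists_conj_le_of_sylow S.isPGroup' le_sup_left hidx (hQ.map _) hR
  obtain ⟨s, hs, h, hh, rfl⟩ := Subgroup.mem_sup_of_normal_right.1 hk
  refine ⟨h, hh, fun x hx => ?_⟩
  have h1 : s * h * (g * x * g⁻¹) * (s * h)⁻¹ ∈ (S : Subgroup G) :=
    hkR (conj_mem_conjSub (conj_mem_conjSub hx))
  have h2 := (S : Subgroup G).mul_mem ((S : Subgroup G).mul_mem ((S : Subgroup G).inv_mem hs) h1) hs
  have e : s⁻¹ * (s * h * (g * x * g⁻¹) * (s * h)⁻¹) * s = h * g * x * (h * g)⁻¹ := by group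
  rwa [e] at h2

theorem mem_map_mk_iff (S H : Subgroup G) [H.Normal] (a : G) :
    QuotientGroup.mk' H a ∈ S.map (QuotientGroup.mk' H) ↔ a ∈ S ⊔ H := by
  rw [← Subgroup.mem_comap, Subgroup.comap_map_eq, QuotientGroup.ker_mk']

/-- A conjugation map of a quotient group lifts to the group. -/
theorem exists_lift_conj_quotient (S : Sylow p G) (H : Subgroup G) [H.Normal] {Q : Subgroup G}
    (hQ : Q ≤ (S : Subgroup G)) (γ : G ⧸ H)
    (hγ : ∀ x ∈ Q, γ * QuotientGroup.mk' H x * γ⁻¹ ∈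
      (S : Subgroup G).map (QuotientGroup.mk' H)) :
    ∃ g : G, QuotientGroup.mk' H g = γ ∧ ∀ x ∈ Q, g * x * g⁻¹ ∈ (S : Subgroup G) := by
  obtain ⟨g, rfl⟩ := QuotientGroup.mk'_surjective H γ
  obtain ⟨h, hh, hx⟩ := exists_lift_conj S H (S.isPGroup'.to_le hQ) (g := g) fun x hx => by
    have h1 := hγ x hx
    rw [← map_inv, ← map_mul, ← map_mul] at h1
    exact (mem_map_mk_iff _ _ _).1 h1
  refine ⟨h * g, ?_, hx⟩
  rw [map_mul]
  have : QuotientGroup.mk' H h = 1 := (QuotientGroup.eq_one_iff h).2 hh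
  rw [this, one_mul]

end CfsgLib.Fusion

namespace CfsgLib.Fusion

open Cfsg Subgroup

universe u
variable {X : Type u} [Group X] [Finite X] {p : ℕ} [Fact p.Prime]

/-- The Thompson subgroup of a Sylow subgroup is weakly closed. -/
theorem thompsonOf_conj_eq (P : Sylow p X) {T : Subgroup X} (hT : IsPGroup p T)
    (hJ : thompsonSubgroupOf p (P : Subgroup X) ≤ T) {c : X}
    (hc : conjSub c (thompsonSubgroupOf p (P : Subgroup X)) ≤ T) :
    conjSub c (thompsonSubgroupOf p (P : Subgroup X)) =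
      thompsonSubgroupOf p (P : Subgroup X) := by
  obtain ⟨Q, hQ⟩ := hT.exists_le_sylow
  obtain ⟨h, hh⟩ := MulAction.exists_smul_eq X P Q
  have hQeq : conjSub h (P : Subgroup X) = (Q : Subgroup X) := by
    rw [← hh, Sylow.coe_subgroup_smul]; rfl
  have hJQ : Cfsg.thompsonSubgroupOf p (Q : Subgroup X) =
      conjSub h (thompsonSubgroupOf p (P : Subgroup X)) := by
    rw [← hQeq]
    exact (CfsgLib.PLocal.thompsonOf_map_conj h (P : Subgroup X)).symm
  have key : ∀ a : X, conjSub a (thompsonSubgroupOf p (P : Subgroup X)) ≤ Q →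
      conjSub a (thompsonSubgroupOf p (P : Subgroup X)) =
        Cfsg.thompsonSubgroupOf p (Q : Subgroup X) := by
    intro a ha
    refine eq_of_le_of_card_le ?_ (by rw [hJQ, card_conjSub, card_conjSub])
    rw [conjSub, CfsgLib.PLocal.thompsonOf_eq (U := (P : Subgroup X)),
      (Subgroup.gc_map_comap _).l_sSup, iSup_le_iff]
    intro A
    refine iSup_le fun hA => CfsgLib.PLocal.le_thompsonOf ⟨?_, CfsgLib.PLocal.elemAb_map _ hA.2.1,
      fun B hBQ hB => ?_⟩
    · exact (Subgroup.map_mono (CfsgLib.PLocal.le_thompsonOf hA)).trans ha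
    · have h1 := hA.2.2 (conjSub h⁻¹ B) ?_ (CfsgLib.PLocal.elemAb_map _ hB)
      · rw [card_conjSub] at h1
        exact h1.trans (card_conjSub a A).ge
      · have h2 := conjSub_mono (g := h⁻¹) hBQ
        rwa [← hQeq, ← conjSub_mul, inv_mul_cancel, conjSub_one] at h2
  have h1 := key 1 (by rw [conjSub_one]; exact hJ.trans hQ)
  rw [conjSub_one] at h1
  exact (key c (hc.trans hQ)).trans h1.symm

end CfsgLib.Fusion
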