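import Cfsg.Agent.Lib.Fusion.RankTwoFixed
import Cfsg.Agent.Lib.Invol.EssentialSmall
import Cfsg.Agent.Lib.Invol.MetacyclicTwo
import Mathlib.Tactic

/-!
2-rank two: an abelian essential subgroup with a Higman automorphism makes the group dihedral,
semidihedral or wreathed.
-/

set_option autoImplicit false
set_option linter.unusedSectionVars false
set_option linter.style.haveILetI false

namespace CfsgLib.Fusion.RankTwo

open Cfsg Subgroup CfsgLib.Fusion CfsgLib.Invol
open Cfsg.FusionSystem hiding inv_mem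
open scoped commutatorElement

universe u

variable {Ω : Type u} [Group Ω] {S : Subgroup Ω} [Finite S] {F : FusionSystem S}
variable (hS : IsPGroup 2 S) (hF : F.IsSaturated 2)
include hS hF

/-- An abelian essential subgroup with a Higman automorphism. -/
theorem abelian_case (_hr : RankLE S) {P : Subgroup Ω} (hP : F.IsEssential 2 P) (H : HigData P)
    (_hψ : H.ψ ∈ F.autGroup P) (hab : ∀ a b : P, a * b = b * a)
    (hzS : ∀ a ∈ S, a * (H.z : Ω) = (H.z : Ω) * a) :
    (∃ m : ℕ, 4 ≤ m ∧ Nonempty (↥S ≃* DihedralGroup m)) ∨ Cfsg.IsQuasiDihedral ↥S ∨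
      Cfsg.IsWreathed ↥S := by
  classical
  haveI : Fact (Nat.Prime 2) := ⟨Nat.prime_two⟩
  have hPS := hP.1.1
  haveI := finite_of_le hPS
  have hlt := lt_of_essential hS hF hP
  haveI : Finite (F.autGroup P) := inferInstance
  -- the kernel on the involutions is trivial
  let K : Subgroup (F.autGroup P) :=
    { carrier := {a | ∀ v : P, v * v = 1 → (a : MulAut P) v = v}
      one_mem' := fun _ _ => rfl
      mul_mem' := fun {a b} ha hb v hv => by
        show (a : MulAut P) ((b : MulAut P) v) = v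
        rw [hb v hv, ha v hv]
      inv_mem' := fun {a} ha v hv => by
        show (a : MulAut P).symm v = v
        rw [MulEquiv.symm_apply_eq, ha v hv] }
  haveI hKn : K.Normal := ⟨fun n hn g v hv => by
    show (g : MulAut P) ((n : MulAut P) ((g : MulAut P).symm v)) = v
    rw [hn _ (by rw [← map_mul, hv, map_one]), MulEquiv.apply_symm_apply]⟩
  have hK2 : IsPGroup 2 K := by
    intro a
    obtain ⟨k, m, hm, hkm⟩ :=
      Nat.exists_eq_pow_mul_and_not_dvd (orderOf_pos a).ne' 2 (by norm_num)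
    refine ⟨k, Subtype.ext (Subtype.ext (RankTwo.eq_one_of_fix H hab ?_ (a ^ 2 ^ k).2))⟩
    rw [Subgroup.orderOf_coe, Subgroup.orderOf_coe, orderOf_pow_of_dvd (by positivity) ⟨m, hkm⟩,
      hkm, Nat.mul_div_cancel_left _ (by positivity)]
    exact Nat.odd_iff.2 (by omega)
  have hK1 : ∀ a : F.autGroup P, (∀ v : P, v * v = 1 → (a : MulAut P) v = v) →
      (a : MulAut P) = 1 := fun a ha => CfsgLib.Invol.EssentialSmall.inn_eq_bot_of_comm hab
    ((CfsgLib.Invol.EssentialSmall.exists_pElement hS hF hP).1 K hKn hK2 a ha)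
  -- the action of the normalizer
  let c : ∀ u, u ∈ normalizerIn S P → F.autGroup P := fun u hu =>
    ⟨P.normalizerMonoidHom ⟨u, hu.2⟩,
      autInducedBy_le_autGroup hPS (mem_autInducedBy_iff.2 ⟨u, hu.1, fun _ => rfl⟩)⟩
  have hc : ∀ u (hu : u ∈ normalizerIn S P) (x : P),
      (((c u hu : MulAut P) x : P) : Ω) = u * x * u⁻¹ := fun _ _ _ => rfl
  have hcfix : ∀ u (hu : u ∈ normalizerIn S P), (c u hu : MulAut P) H.z = H.z := fun u hu => by
    refine Subtype.ext ?_
    rw [hc u hu, hzS u hu.1, mul_inv_cancel_right]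
  set t := H.ψ H.z with ht
  have ht2 : t * t = 1 := H.psi_sq H.z_sq
  have hswap : ∀ u (hu : u ∈ normalizerIn S P), u ∉ P →
      (c u hu : MulAut P) t = H.z * t := by
    intro u hu huP
    have hne : (c u hu : MulAut P) t ≠ t := by
      intro e
      refine huP (mem_of_normalizerMonoidHom_mem_inn hP.1 hu ?_)
      have h1 : P.normalizerMonoidHom ⟨u, hu.2⟩ = 1 :=
        hK1 (c u hu) (RankTwo.fix_all H (hcfix u hu) e)
      rw [h1]; exact one_mem _
    rcases RankTwo.eq_or_mul H H.z_sq ht2 H.z_ne (H.psi_ne_one H.z_ne) H.psi_z_ne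
      (r := (c u hu : MulAut P) t) (by rw [← map_mul, ht2, map_one]) with e | e | e | e
    · exact absurd ((c u hu : MulAut P).injective (e.trans (map_one _).symm)) (H.psi_ne_one H.z_ne)
    · exact absurd ((c u hu : MulAut P).injective (e.trans (hcfix u hu).symm)) H.psi_z_ne
    · exact absurd e hne
    · exact e
  have hindex : ∀ u v, u ∈ normalizerIn S P → v ∈ normalizerIn S P → u ∉ P → v ∉ P →
      u * v ∈ P := by
    intro u v hu hv huP hvP
    by_contra huv
    have h1 := hswap _ (mul_mem hu hv) huv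
    have h2 : (c (u * v) (mul_mem hu hv) : MulAut P) t =
        (c u hu : MulAut P) ((c v hv : MulAut P) t) := by
      refine Subtype.ext ?_
      rw [hc (u * v) (mul_mem hu hv), hc u hu, hc v hv]; group
    rw [h2, hswap v hv hvP, map_mul, hcfix u hu, hswap u hu huP, ← mul_assoc, H.z_sq, one_mul] at h1
    exact H.z_ne (right_eq_mul.1 h1)
  obtain ⟨u, hu, huP⟩ := SetLike.exists_of_lt (lt_normalizerIn hS hlt)
  have huu : u * u ∈ P := hindex u u hu hu huP huP
  set γ : MulAut P := (c u hu : MulAut P) with hγ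
  have hγu : ∀ x : P, ((γ x : P) : Ω) = u * x * u⁻¹ := hc u hu
  have huniq : ∀ r : P, r * r = 1 → r ≠ 1 → γ r = r → r = H.z := by
    intro r hr' hr1 hfix
    rcases RankTwo.eq_or_mul H H.z_sq ht2 H.z_ne (H.psi_ne_one H.z_ne) H.psi_z_ne hr' with
      e | e | e | e
    · exact absurd e hr1
    · exact e
    · exfalso
      rw [e, hγ, hswap u hu huP] at hfix
      exact H.z_ne (mul_eq_right.1 hfix)
    · exfalso
      rw [e, map_mul, hγ, hcfix u hu, hswap u hu huP, ← mul_assoc, H.z_sq, one_mul] at hfix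
      exact H.z_ne (right_eq_mul.1 hfix)
  obtain ⟨n, hn, ⟨e⟩⟩ := H.homocyclic hab
  haveI : NeZero (2 ^ n) := ⟨by positivity⟩
  have hcardP : Nat.card P = 2 ^ n * 2 ^ n := by
    rw [Nat.card_congr e.toEquiv, Nat.card_congr Multiplicative.toAdd, Nat.card_prod, Nat.card_zmod]
  rcases (show n = 1 ∨ 2 ≤ n by omega) with rfl | hn2
  · -- a self-centralizing four-group
    set A := P.subgroupOf S with hA
    have hA4 : Nat.card A = 2 ^ 2 := by
      rw [Nat.card_congr (Subgroup.subgroupOfEquivOfLe hPS).toEquiv, hcardP]; norm_num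
    have hCA : Subgroup.centralizer (A : Set ↥S) = A := by
      refine le_antisymm (fun g hg => ?_) fun g hg w hw => ?_
      · rw [hA, Subgroup.mem_subgroupOf]
        refine hP.1.2 P (isConj_refl hPS) ⟨g.2, fun y hy => ?_⟩
        exact congrArg Subtype.val (hg ⟨y, hPS hy⟩ (Subgroup.mem_subgroupOf.2 hy))
      · exact Subtype.ext (congrArg Subtype.val (hab ⟨_, hw⟩ ⟨_, hg⟩) :)
    obtain ⟨N, hN⟩ := IsPGroup.iff_card.1 hS
    have hN3 : 3 ≤ N := by
      have h1 : Nat.card P < Nat.card S :=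
        lt_of_not_ge fun h => hlt.ne (eq_of_le_of_card_le hPS h)
      rw [hcardP, hN] at h1
      norm_num at h1
      by_contra hlt3
      have : 2 ^ N ≤ 2 ^ 2 := Nat.pow_le_pow_right (by norm_num) (by omega)
      omega
    have hcl := CfsgLib.Transfer.maxClass_of_self_centralizing hN A hA4 hCA
    rcases CfsgLib.Invol.maxClass_two_types hN3 hN hcl with ⟨k, ⟨ek⟩⟩ | ⟨k, ⟨ek⟩⟩ | h
    · refine Or.inl ⟨k, ?_, ⟨ek⟩⟩
      have := Nat.card_congr ek.toEquiv
      rw [hN, DihedralGroup.nat_card] at this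
      have : 2 ^ 3 ≤ 2 ^ N := Nat.pow_le_pow_right (by norm_num) hN3
      omega
    · exfalso
      have hzne : ek ⟨_, hPS H.z.2⟩ ≠ ek ⟨_, hPS t.2⟩ := fun h =>
        H.psi_z_ne (Subtype.ext (congrArg Subtype.val (ek.injective h).symm :))
      have hsq : ∀ r : P, r * r = 1 → r ≠ 1 → ek ⟨_, hPS r.2⟩ * ek ⟨_, hPS r.2⟩ = 1 ∧
          ek ⟨_, hPS r.2⟩ ≠ 1 := fun r hr' hr1 => by
        refine ⟨?_, fun h => hr1 (Subtype.ext (congrArg Subtype.val
          (ek.injective (h.trans (map_one ek).symm)) :))⟩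
        rw [← map_mul, show (⟨_, hPS r.2⟩ * ⟨_, hPS r.2⟩ : ↥S) = 1 from
          Subtype.ext (congrArg Subtype.val hr' :), map_one]
      have hk : NeZero k := ⟨fun h => by
        subst h
        haveI : Infinite (QuaternionGroup 0) := Infinite.of_injective
          (fun i : ℤ => (QuaternionGroup.a i : QuaternionGroup 0))
          (fun i j hij => QuaternionGroup.a.inj hij)
        exact (Finite.of_equiv _ ek.toEquiv).false⟩
      have huniqQ : ∀ q : QuaternionGroup k, q * q = 1 → q ≠ 1 →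
          q = QuaternionGroup.a (k : ZMod (2 * k)) := by
        intro q hq hq1
        rcases q with i | i
        · rw [QuaternionGroup.a_mul_a, QuaternionGroup.one_def, QuaternionGroup.a.injEq] at hq
          congr 1
          have hne : i ≠ 0 := fun h => hq1 (by rw [h]; rfl)
          have hval : i.val + i.val = 2 * k := by
            have h1 : (((i.val + i.val : ℕ)) : ZMod (2 * k)) = 0 := by
              push_cast; rw [ZMod.natCast_zmod_val]; exact hq
            have h2 := (ZMod.natCast_eq_zero_iff _ _).1 h1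
            have h3 := ZMod.val_lt i
            have h4 : i.val ≠ 0 := fun h => hne ((ZMod.val_eq_zero i).1 h)
            obtain ⟨d, hd⟩ := h2
            rcases (show d = 0 ∨ d = 1 ∨ 2 ≤ d by omega) with rfl | rfl | hd2
            · omega
            · omega
            · nlinarith
          rw [← ZMod.natCast_zmod_val i, show i.val = k by omega]
        · exfalso
          rw [QuaternionGroup.xa_mul_xa, QuaternionGroup.one_def, QuaternionGroup.a.injEq,
            add_sub_cancel_right] at hq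
          have h2 := (ZMod.natCast_eq_zero_iff _ _).1 hq
          have := Nat.le_of_dvd (Nat.pos_of_ne_zero hk.out) h2
          have := hk.out
          omega
      obtain ⟨a1, a2⟩ := hsq _ H.z_sq H.z_ne
      obtain ⟨b1, b2⟩ := hsq _ ht2 (H.psi_ne_one H.z_ne)
      exact hzne ((huniqQ _ a1 a2).trans (huniqQ _ b1 b2).symm)
    · exact Or.inr (Or.inl h)
  -- wreathed
  obtain ⟨x, hxord, hxmove⟩ : ∃ x : P, orderOf x = 2 ^ n ∧
      γ (x ^ 2 ^ (n - 1)) ≠ x ^ 2 ^ (n - 1) := by
    set x₀ : P := e.symm (Multiplicative.ofAdd ((1 : ZMod (2 ^ n)), (0 : ZMod (2 ^ n)))) with hx₀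
    have hord : orderOf x₀ = 2 ^ n := by
      rw [hx₀, MulEquiv.orderOf_eq, orderOf_ofAdd_eq_addOrderOf, Prod.addOrderOf_mk,
        ZMod.addOrderOf_one, addOrderOf_zero, Nat.lcm_one_right]
    have hp2 : 2 ^ n = 2 ^ (n - 1) * 2 := by rw [← pow_succ]; congr 1; omega
    set s := x₀ ^ 2 ^ (n - 1) with hs
    have hs2 : s * s = 1 := by
      rw [hs, ← pow_add, ← mul_two, ← hp2, ← hord, pow_orderOf_eq_one]
    have hs1 : s ≠ 1 := by
      intro h
      have h1 := orderOf_dvd_of_pow_eq_one h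
      rw [hord] at h1
      have := Nat.le_of_dvd (by positivity) h1
      have := Nat.one_le_two_pow (n := n - 1)
      omega
    by_cases hfix : γ s = s
    · refine ⟨H.ψ x₀, by rw [MulEquiv.orderOf_eq, hord], fun h => ?_⟩
      rw [← map_pow, ← hs] at h
      have h1 := huniq _ (H.psi_sq hs2) (H.psi_ne_one hs1) h
      have h2 := huniq _ hs2 hs1 hfix
      rw [h2] at h1
      exact H.psi_z_ne h1
    · exact ⟨x₀, hord, hfix⟩
  set y : P := γ x with hy
  have hyord : orderOf y = 2 ^ n := by rw [hy, MulEquiv.orderOf_eq, hxord]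
  have hp2 : 2 ^ n = 2 ^ (n - 1) * 2 := by rw [← pow_succ]; congr 1; omega
  have hcyc : ∀ w : P, orderOf w = 2 ^ n → ∀ r ∈ Subgroup.zpowers w, r * r = 1 → r ≠ 1 →
      r = w ^ 2 ^ (n - 1) := by
    intro w hw r hr' hr2 hr1
    obtain ⟨i, rfl⟩ := Subgroup.mem_zpowers_iff.1 hr'
    rw [← zpow_add, ← orderOf_dvd_iff_zpow_eq_one, hw, hp2, ← mul_two] at hr2
    push_cast at hr2
    obtain ⟨m, hm⟩ := (mul_dvd_mul_iff_right (by norm_num : (2 : ℤ) ≠ 0)).1 hr2
    rcases Int.even_or_odd m with ⟨l, hl⟩ | ⟨l, hl⟩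
    · exfalso
      apply hr1
      rw [← orderOf_dvd_iff_zpow_eq_one, hw, hp2, hm, hl]
      push_cast
      exact ⟨l, by ring⟩
    · rw [hm, hl, show (2 : ℤ) ^ (n - 1) * (2 * l + 1) = ((2 ^ n : ℕ) : ℤ) * l + ((2 ^ (n - 1) : ℕ) : ℤ) by
        rw [hp2]; push_cast; ring, zpow_add, zpow_mul, zpow_natCast, ← hw, pow_orderOf_eq_one,
        one_zpow, one_mul, zpow_natCast]
  have hdis : Subgroup.zpowers x ⊓ Subgroup.zpowers y = ⊥ := by
    by_contra hne
    obtain ⟨r, hr1⟩ := exists_prime_orderOf_dvd_card' 2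
      (((H.pgroup.to_subgroup (Subgroup.zpowers x ⊓ Subgroup.zpowers y))).card_eq_or_dvd.resolve_left
        fun h => hne (Subgroup.card_eq_one.1 h))
    have hr2 : (r : P) * r = 1 := by
      rw [← pow_two, ← Subgroup.coe_pow, ← hr1, pow_orderOf_eq_one, Subgroup.coe_one]
    have hr0 : (r : P) ≠ 1 := fun h => by
      rw [show r = 1 from Subtype.ext h, orderOf_one] at hr1
      omega
    have h1 := hcyc x hxord _ r.2.1 hr2 hr0
    have h2 := hcyc y hyord _ r.2.2 hr2 hr0
    exact hxmove ((map_pow γ x _).trans (h2.symm.trans h1))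
  have hgen : ∀ r : P, ∃ i j : ℤ, r = x ^ i * y ^ j := by
    have hinj : Function.Injective
        (fun w : Subgroup.zpowers x × Subgroup.zpowers y => (w.1 : P) * (w.2 : P)) := by
      intro a b h
      have h' : (b.1 : P)⁻¹ * a.1 = (b.2 : P) * (a.2 : P)⁻¹ := by
        rw [eq_mul_inv_iff_mul_eq, mul_assoc, inv_mul_eq_iff_eq_mul]
        exact h
      have hm : (b.1 : P)⁻¹ * a.1 ∈ Subgroup.zpowers x ⊓ Subgroup.zpowers y :=
        Subgroup.mem_inf.2 ⟨mul_mem (inv_mem b.1.2) a.1.2, h' ▸ mul_mem b.2.2 (inv_mem a.2.2)⟩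
      rw [hdis, Subgroup.mem_bot] at hm
      rw [hm] at h'
      exact Prod.ext (Subtype.ext (inv_mul_eq_one.1 hm).symm)
        (Subtype.ext (mul_inv_eq_one.1 h'.symm).symm)
    have hcardprod : Nat.card (Subgroup.zpowers x × Subgroup.zpowers y) = Nat.card P := by
      rw [Nat.card_prod, Nat.card_zpowers, Nat.card_zpowers, hxord, hyord, hcardP]
    intro r
    obtain ⟨⟨⟨a, i, rfl⟩, ⟨b, j, rfl⟩⟩, hw⟩ := (hinj.bijective_of_nat_card_le hcardprod.ge).2 r
    exact ⟨i, j, hw.symm⟩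
  -- an involution outside
  obtain ⟨i, j, hij⟩ := hgen ⟨u * u, huu⟩
  have hγy : γ y = x := by
    refine Subtype.ext ?_
    rw [hy, hγu, hγu]
    have : (⟨u * u, huu⟩ : P) * x = x * ⟨u * u, huu⟩ := hab _ _
    have h' : u * u * (x : Ω) = x * (u * u) := congrArg Subtype.val this
    calc u * (u * x * u⁻¹) * u⁻¹ = u * u * x * (u * u)⁻¹ := by group
      _ = x := by rw [h', mul_inv_cancel_right]
  have hij' : x ^ i = x ^ j := by
    have h1 : γ ⟨u * u, huu⟩ = ⟨u * u, huu⟩ := Subtype.ext (by rw [hγu]; group)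
    rw [hij, map_mul, map_zpow, map_zpow, ← hy, hγy] at h1
    have h2 : (x ^ i)⁻¹ * x ^ j = y ^ j * (y ^ i)⁻¹ := by
      rw [eq_mul_inv_iff_mul_eq, mul_assoc, inv_mul_eq_iff_eq_mul, hab (x ^ j) (y ^ i)]
      exact h1
    have hm : (x ^ i)⁻¹ * x ^ j ∈ Subgroup.zpowers x ⊓ Subgroup.zpowers y :=
      Subgroup.mem_inf.2 ⟨mul_mem (inv_mem (zpow_mem (Subgroup.mem_zpowers x) i)) (zpow_mem (Subgroup.mem_zpowers x) j),
        h2 ▸ mul_mem (zpow_mem (Subgroup.mem_zpowers y) j) (inv_mem (zpow_mem (Subgroup.mem_zpowers y) i))⟩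
    rw [hdis, Subgroup.mem_bot] at hm
    exact inv_mul_eq_one.1 hm
  have hij'' : (⟨u * u, huu⟩ : P) = x ^ i * y ^ i := by
    have : y ^ i = y ^ j := by rw [hy, ← map_zpow, ← map_zpow, hij']
    rw [hij, this]
  set w : Ω := u * ((x ^ i : P) : Ω)⁻¹ with hw
  have hwN : w ∈ normalizerIn S P :=
    mul_mem hu (inv_mem (le_normalizerIn hPS (x ^ i).2))
  have hwP : w ∉ P := fun h => huP (by
    have := mul_mem h (x ^ i).2
    rwa [hw, inv_mul_cancel_right] at this)
  have hwx : ∀ r : P, w * r * w⁻¹ = ((γ r : P) : Ω) := by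
    intro r
    rw [hγu, hw]
    have h' : ((x ^ i : P) : Ω)⁻¹ * r = r * ((x ^ i : P) : Ω)⁻¹ :=
      congrArg Subtype.val (hab (x ^ i)⁻¹ r)
    calc u * ((x ^ i : P) : Ω)⁻¹ * r * (u * ((x ^ i : P) : Ω)⁻¹)⁻¹
        = u * (((x ^ i : P) : Ω)⁻¹ * r) * ((x ^ i : P) : Ω) * u⁻¹ := by group
      _ = u * r * u⁻¹ := by rw [h']; group
  have hww : w * w = 1 := by
    have h1 : ((y ^ i : P) : Ω) = u * ((x ^ i : P) : Ω) * u⁻¹ := by
      rw [hy, ← map_zpow, hγu]
    have h2 : u * u = ((x ^ i : P) : Ω) * ((y ^ i : P) : Ω) := congrArg Subtype.val hij''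
    calc w * w = (u * ((x ^ i : P) : Ω)⁻¹ * u⁻¹) * (u * u) * ((x ^ i : P) : Ω)⁻¹ := by rw [hw]; group
      _ = ((y ^ i : P) : Ω)⁻¹ * ((((x ^ i : P)) : Ω) * ((y ^ i : P) : Ω)) * ((x ^ i : P) : Ω)⁻¹ := by
        rw [h2, h1]; group
      _ = 1 := by
        rw [show ((x ^ i : P) : Ω) * ((y ^ i : P) : Ω) = ((y ^ i : P) : Ω) * ((x ^ i : P) : Ω) from
          congrArg Subtype.val (hab (x ^ i) (y ^ i))]
        group
  -- the normalizer is everything
  have htop : normalizerIn S P = S := by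
    by_contra hne
    have hNlt : normalizerIn S P < S := lt_of_le_of_ne inf_le_left hne
    obtain ⟨g, hg, hgN⟩ := SetLike.exists_of_lt (lt_normalizerIn hS hNlt)
    have hgconj : ∀ r ∈ normalizerIn S P, g * r * g⁻¹ ∈ normalizerIn S P := fun r hr' =>
      (Subgroup.mem_normalizer_iff.1 hg.2 r).1 hr'
    by_cases hall : ∀ p ∈ P, g * p * g⁻¹ ∈ P
    · exact hgN ⟨hg.1, Subgroup.mem_normalizer_fintype hall⟩
    push Not at hall
    obtain ⟨p, hp, hpn⟩ := hall
    set v := g * p * g⁻¹ with hv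
    have hvN := hgconj p (le_normalizerIn hPS hp)
    have key : ∀ s : P, s * s = 1 → s ≠ 1 → (∃ r : P, r * r = s) →
        (g * (s : Ω) * g⁻¹) = (H.z : Ω) := by
      intro s hs hs1 ⟨r, hrs⟩
      have hmem : g * (s : Ω) * g⁻¹ ∈ P := by
        have h1 : g * (s : Ω) * g⁻¹ = g * r * g⁻¹ * (g * r * g⁻¹) := by
          rw [← hrs, Subgroup.coe_mul]; group
        rw [h1]
        by_cases hin : g * (r : Ω) * g⁻¹ ∈ P
        · exact mul_mem hin hin
        · exact hindex _ _ (hgconj _ (le_normalizerIn hPS r.2)) (hgconj _ (le_normalizerIn hPS r.2))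
            hin hin
      set σ : P := ⟨_, hmem⟩ with hσ
      have hσ2 : σ * σ = 1 := Subtype.ext (by
        show g * (s : Ω) * g⁻¹ * (g * (s : Ω) * g⁻¹) = 1
        rw [show g * (s : Ω) * g⁻¹ * (g * (s : Ω) * g⁻¹) = g * ((s : Ω) * s) * g⁻¹ by group,
          ← Subgroup.coe_mul, hs, Subgroup.coe_one]
        group)
      have hσ1 : σ ≠ 1 := fun h => hs1 (Subtype.ext (by
        have h' : g * (s : Ω) * g⁻¹ = 1 := congrArg Subtype.val h
        simpa using h'))
      by_contra hne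
      have hmoved : (c v hvN : MulAut P) σ = σ := by
        refine Subtype.ext ?_
        rw [hc v hvN]
        show v * (g * (s : Ω) * g⁻¹) * v⁻¹ = g * (s : Ω) * g⁻¹
        have h' : p * (s : Ω) = s * p := congrArg Subtype.val (hab ⟨p, hp⟩ s)
        rw [hv, show g * p * g⁻¹ * (g * (s : Ω) * g⁻¹) * (g * p * g⁻¹)⁻¹
          = g * (p * s) * p⁻¹ * g⁻¹ by group, h']
        group
      have hswapv := hswap v hvN hpn
      rcases RankTwo.eq_or_mul H H.z_sq ht2 H.z_ne (H.psi_ne_one H.z_ne) H.psi_z_ne hσ2 with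
        h | h | h | h
      · exact hσ1 h
      · exact hne (congrArg Subtype.val h)
      · rw [h, hswapv] at hmoved
        exact H.z_ne (mul_eq_right.1 hmoved)
      · rw [h, map_mul, hcfix v hvN, hswapv, ← mul_assoc, H.z_sq, one_mul] at hmoved
        exact H.z_ne (right_eq_mul.1 hmoved)
    have hroot : ∀ r : P, orderOf r = 2 ^ n → (r ^ 2 ^ (n - 1)) * r ^ 2 ^ (n - 1) = 1 ∧
        r ^ 2 ^ (n - 1) ≠ 1 ∧ ∃ q : P, q * q = r ^ 2 ^ (n - 1) := by
      intro r hr'
      refine ⟨by rw [← pow_add, ← mul_two, ← hp2, ← hr', pow_orderOf_eq_one], fun h => ?_,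
        r ^ 2 ^ (n - 2), ?_⟩
      · have h1 := orderOf_dvd_of_pow_eq_one h
        rw [hr'] at h1
        have := Nat.le_of_dvd (by positivity) h1
        have := Nat.one_le_two_pow (n := n - 1)
        omega
      · rw [← pow_add, ← mul_two, ← pow_succ]; congr 2; omega
    obtain ⟨a1, a2, a3⟩ := hroot x hxord
    obtain ⟨b1, b2, b3⟩ := hroot y hyord
    have := (key _ a1 a2 a3).trans (key _ b1 b2 b3).symm
    refine hxmove ?_
    rw [map_pow, ← hy]
    exact (Subtype.ext (mul_left_cancel (mul_right_cancel this))).symm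
  refine Or.inr (Or.inr ⟨n, hn2, ?_, ⟨x, hPS x.2⟩, ⟨y, hPS y.2⟩, ⟨w, hwN.1⟩, ?_, ?_, ?_, ?_, ?_⟩)
  · have hcov : ∀ s ∈ S, s ∈ P ∨ w⁻¹ * s ∈ P := by
      intro s hs
      by_cases hsP : s ∈ P
      · exact Or.inl hsP
      · exact Or.inr (hindex _ _ (inv_mem hwN) (htop.symm ▸ hs)
          (fun h => hwP (by simpa using inv_mem h)) hsP)
    have h1 := card_sup_zpowers_le (T := ↥S) (P.subgroupOf S) (g := ⟨w, hwN.1⟩)
      (Subgroup.mem_subgroupOf.2 (show w * w ∈ P by rw [hww]; exact P.one_mem))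
      (fun h hh => Subgroup.mem_subgroupOf.2 ((Subgroup.mem_normalizer_iff.1 hwN.2 _).1
        (Subgroup.mem_subgroupOf.1 hh)))
    have htop' : P.subgroupOf S ⊔ Subgroup.zpowers (⟨w, hwN.1⟩ : ↥S) = ⊤ := by
      rw [eq_top_iff]
      intro s _
      rcases hcov s s.2 with h | h
      · exact Subgroup.mem_sup_left (Subgroup.mem_subgroupOf.2 h)
      · have hm : (⟨w, hwN.1⟩ : ↥S)⁻¹ * s ∈ P.subgroupOf S := Subgroup.mem_subgroupOf.2 h
        have := mul_mem (Subgroup.mem_sup_right (S := P.subgroupOf S)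
          (Subgroup.mem_zpowers (⟨w, hwN.1⟩ : ↥S))) (Subgroup.mem_sup_left hm)
        rwa [mul_inv_cancel_left] at this
    have h2 : 2 * Nat.card P ≤ Nat.card S := by
      obtain ⟨N, hN⟩ := IsPGroup.iff_card.1 hS
      have h3 : Nat.card P < Nat.card S :=
        lt_of_not_ge fun h => hlt.ne (eq_of_le_of_card_le hPS h)
      rw [hcardP, ← pow_add] at h3 ⊢
      rw [hN] at h3 ⊢
      rw [← pow_succ']
      exact Nat.pow_le_pow_right (by norm_num) ((Nat.pow_lt_pow_iff_right (by norm_num)).1 h3)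
    rw [htop', Subgroup.card_top, Nat.card_congr (Subgroup.subgroupOfEquivOfLe hPS).toEquiv] at h1
    rw [le_antisymm h1 h2, hcardP, ← pow_add, ← pow_succ']
    congr 1
    omega
  · rw [show (⟨x, hPS x.2⟩ : ↥S) = Subgroup.inclusion hPS x from rfl,
      orderOf_injective _ (Subgroup.inclusion_injective hPS), hxord]
  · exact Subtype.ext (congrArg Subtype.val (hab x y) :)
  · rw [show (⟨x, hPS x.2⟩ : ↥S) = Subgroup.inclusion hPS x from rfl,
      show (⟨y, hPS y.2⟩ : ↥S) = Subgroup.inclusion hPS y from rfl,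
      ← MonoidHom.map_zpowers, ← MonoidHom.map_zpowers,
      ← Subgroup.map_inf _ _ _ (Subgroup.inclusion_injective hPS), hdis, Subgroup.map_bot]
  · refine orderOf_eq_prime ?_ fun h => hwP ?_
    · rw [pow_two]; exact Subtype.ext hww
    · rw [show w = 1 from congrArg Subtype.val h]; exact P.one_mem
  · refine Subtype.ext ?_
    show w * x * w⁻¹ = y
    rw [hwx x, hy]

end CfsgLib.Fusion.RankTwo
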