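import Cfsg.Agent.Lib.Fusion.RankTwoHigman
import Cfsg.Agent.Lib.Fusion.Center
import Mathlib.Tactic

/-!
2-rank two: a central involution that is not central in a saturated system gives the data of
Higman's theorem on an Alperin subgroup.
-/

set_option autoImplicit false
set_option linter.unusedSectionVars false
set_option linter.style.haveILetI false

namespace CfsgLib.Fusion.RankTwo

open Cfsg Subgroup CfsgLib.Fusion CfsgLib.Invol
open Cfsg.FusionSystem hiding inv_mem
open scoped commutatorElement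

/-- An odd order automorphism moving a central involution gives the data of Higman's theorem. -/
theorem exists_higData {T : Type*} [Group T] [Finite T] (hT : IsPGroup 2 T)
    (hr : ∀ A : Subgroup T, IsMulCommutative A → (∀ a ∈ A, a ^ 2 = 1) → Nat.card A ≤ 4)
    {z : T} (hzc : ∀ g : T, Commute z g) (hz2 : z * z = 1) (hz1 : z ≠ 1) {β : MulAut T}
    (hβ : Odd (orderOf β)) (hmove : β z ≠ z) :
    ∃ H : HigData T, H.z = z ∧ ∃ m : ℕ, H.ψ = β ^ m := by
  have hβz2 : β z * β z = 1 := by rw [← map_mul, hz2, map_one]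
  have hβz1 : β z ≠ 1 := fun e => hz1 (β.injective (e.trans (map_one β).symm))
  have hβc : ∀ g : T, Commute (β z) g := fun g => by
    obtain ⟨g, rfl⟩ := β.surjective g
    show β z * β g = β g * β z
    rw [← map_mul, ← map_mul, (hzc g).eq]
  have hfour : ∀ s : T, s * s = 1 → s = 1 ∨ s = z ∨ s = β z ∨ s = z * β z := fun s hs =>
    mem_four hr hz2 hβz2 hs (hzc _) (hzc s) (hβc s) hz1 hβz1 hmove.symm
  have hββ2 : β (β z) * β (β z) = 1 := by rw [← map_mul, hβz2, map_one]
  have hne2 : β (β z) ≠ z := by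
    intro e
    have h : ∀ i : ℕ, (β ^ (2 * i + 1)) z = β z := by
      intro i
      induction i with
      | zero => simp
      | succ i ih =>
        rw [show 2 * (i + 1) + 1 = (2 * i + 1) + 1 + 1 by ring, pow_succ, pow_succ]
        show (β ^ (2 * i + 1)) (β (β z)) = β z
        rw [e, ih]
    obtain ⟨j, hj⟩ := hβ
    have h' := h j
    rw [← hj, pow_orderOf_eq_one] at h'
    exact hmove h'.symm
  have hβ2 : β (β z) = z * β z := by
    rcases hfour _ hββ2 with e | e | e | e
    · exact absurd (β.injective (e.trans (map_one β).symm)) hβz1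
    · exact absurd e hne2
    · exact absurd (β.injective e) hmove
    · exact e
  have hβ3 : β (β (β z)) = z := by
    rw [hβ2, map_mul, hβ2, ← mul_assoc, ← (hzc (β z)).eq, mul_assoc, hβz2, mul_one]
  have hmod : ∀ k : ℕ, (β ^ k) z = (β ^ (k % 3)) z := by
    intro k
    induction k using Nat.strong_induction_on with
    | _ k ih =>
      by_cases hk : k < 3
      · rw [Nat.mod_eq_of_lt hk]
      · obtain ⟨j, rfl⟩ : ∃ j, k = j + 3 := ⟨k - 3, by omega⟩
        rw [Nat.add_mod_right, ← ih j (by omega), pow_add]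
        show (β ^ j) (β (β (β z))) = _
        rw [hβ3]
  haveI : Finite (MulAut T) :=
    Finite.of_injective (fun τ : MulAut T => (τ : T → T)) DFunLike.coe_injective
  obtain ⟨a, m, hm3, hN⟩ :=
    Nat.exists_eq_pow_mul_and_not_dvd (orderOf_pos β).ne' 3 (by norm_num)
  set ψ := β ^ m with hψ
  have hψ3 : ψ ^ 3 ^ a = 1 := by rw [hψ, ← pow_mul, mul_comm, ← hN, pow_orderOf_eq_one]
  have hψodd : Odd (orderOf ψ) := by
    obtain ⟨i, -, hi⟩ := (Nat.dvd_prime_pow Nat.prime_three).1 (orderOf_dvd_of_pow_eq_one hψ3)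
    rw [hi]
    exact Odd.pow (by decide)
  have hψz : (ψ z = β z ∧ ψ (ψ z) = β (β z)) ∨ (ψ z = β (β z) ∧ ψ (ψ z) = β z) := by
    have e2 : ψ (ψ z) = (β ^ (2 * m)) z := by rw [two_mul, pow_add]; rfl
    rw [e2, hmod (2 * m), show ψ z = (β ^ (m % 3)) z from hmod m]
    rcases (show m % 3 = 1 ∧ 2 * m % 3 = 2 ∨ m % 3 = 2 ∧ 2 * m % 3 = 1 by omega) with
      ⟨e, e'⟩ | ⟨e, e'⟩
    · rw [e, e']; exact Or.inl ⟨rfl, rfl⟩
    · rw [e, e']; exact Or.inr ⟨rfl, rfl⟩
  have hcover : ∀ s : T, s * s = 1 → s = 1 ∨ s = z ∨ s = ψ z ∨ s = ψ (ψ z) := by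
    intro s hs
    rcases hψz with ⟨e1, e2⟩ | ⟨e1, e2⟩ <;> rw [e1] at * <;> rw [e2] at * <;>
      rcases hfour s hs with h | h | h | h
    all_goals first
      | exact Or.inl h
      | exact Or.inr (Or.inl h)
      | exact Or.inr (Or.inr (Or.inl h))
      | exact Or.inr (Or.inr (Or.inr h))
      | exact Or.inr (Or.inr (Or.inl (h.trans hβ2.symm)))
      | exact Or.inr (Or.inr (Or.inr (h.trans hβ2.symm)))
  have hcentral : ∀ s : T, s * s = 1 → ∀ g, Commute s g := by
    intro s hs g
    rcases hfour s hs with rfl | rfl | rfl | rfl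
    · exact Commute.one_left g
    · exact hzc g
    · exact hβc g
    · exact (hzc g).mul_left (hβc g)
  refine ⟨⟨ψ, z, hT, ⟨a, hψ3⟩, ?_, ?_, hcentral, hcover⟩, rfl, m, rfl⟩
  · intro x hx
    by_contra hx1
    obtain ⟨k, hk⟩ := hT x
    obtain ⟨s, hs, hs1, hsfix⟩ : ∃ s : T, s * s = 1 ∧ s ≠ 1 ∧ ψ s = s := by
      induction k generalizing x with
      | zero => exact absurd (by simpa using hk) hx1
      | succ k ih =>
        by_cases hxx : x * x = 1
        · exact ⟨x, hxx, hx1, hx⟩
        · exact ih (x * x) (by rw [map_mul, hx]) hxx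
            (by rw [← pow_two, ← pow_mul, ← pow_succ']; exact hk)
    have hfix : ψ z = z := by
      have hz' : (ψ ^ 2) (ψ z) = z := by
        rcases hψz with ⟨e1, e2⟩ | ⟨e1, e2⟩
        · rw [pow_two]
          show ψ (ψ (ψ z)) = z
          rw [e2, hψ, show (β ^ m) (β (β z)) = (β ^ (m + 2)) z by rw [pow_add]; rfl, hmod]
          have : m % 3 = 1 := by
            by_contra hne
            have hm2 : m % 3 = 2 := by omega
            rw [hψ, hmod, hm2] at e1
            exact hmove (β.injective e1)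
          rw [show (m + 2) % 3 = 0 by omega]
          rfl
        · rw [pow_two]
          show ψ (ψ (ψ z)) = z
          rw [e2, hψ, show (β ^ m) (β z) = (β ^ (m + 1)) z by rw [pow_add, pow_one]; rfl, hmod]
          have : m % 3 = 2 := by
            by_contra hne
            have hm1 : m % 3 = 1 := by omega
            rw [hψ, hmod, hm1, pow_one] at e1
            exact hmove (β.injective e1.symm)
          rw [show (m + 1) % 3 = 0 by omega]
          rfl
      rcases hcover s hs with e | e | e | e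
      · exact absurd e hs1
      · rwa [e] at hsfix
      · rw [e] at hsfix
        exact ψ.injective hsfix
      · rw [e] at hsfix
        exact ψ.injective (ψ.injective hsfix)
    rcases hψz with ⟨e1, -⟩ | ⟨e1, -⟩ <;> rw [e1] at hfix
    · exact hmove hfix
    · exact hne2 hfix
  · exact orderOf_eq_prime (by rw [pow_two, hz2]) hz1

universe u

variable {Ω : Type u} [Group Ω] {S : Subgroup Ω} [Finite S] {F : FusionSystem S}

/-- No elementary abelian subgroup of order eight. -/
def RankLE (S : Subgroup Ω) : Prop :=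
  ∀ A : Subgroup Ω, A ≤ S → IsMulCommutative A → (∀ a ∈ A, a ^ 2 = 1) → Nat.card A ≤ 4

theorem RankLE.sub (hr : RankLE S) {P : Subgroup Ω} (hP : P ≤ S) (A : Subgroup P)
    (hA : IsMulCommutative A) (h2 : ∀ a ∈ A, a ^ 2 = 1) : Nat.card A ≤ 4 := by
  rw [← Subgroup.card_map_of_injective P.subtype_injective]
  refine hr _ ((Subgroup.map_subtype_le A).trans hP) inferInstance ?_
  rintro _ ⟨a, ha, rfl⟩
  rw [← map_pow, h2 a ha, map_one]

theorem rankLE_of_not (h : ¬ Cfsg.PRankAtLeast 2 3 ↥S) : RankLE S := by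
  intro A hAS hA h2
  haveI := finite_of_le hAS
  have hlt : Nat.card A < 2 ^ 3 := by
    by_contra hge
    push Not at hge
    refine h ⟨A.subgroupOf S, ⟨⟨fun a b => ?_⟩⟩, fun a ha => Subtype.ext (by simpa using h2 _ ha),
      hge.trans_eq (Nat.card_congr (Subgroup.subgroupOfEquivOfLe hAS).toEquiv).symm⟩
    exact Subtype.ext (Subtype.ext
      (congrArg Subtype.val (hA.is_comm.comm ⟨_, a.2⟩ ⟨_, b.2⟩) :))
  have hA2 : IsPGroup 2 A := fun a => ⟨1, Subtype.ext (by simpa using h2 a a.2)⟩
  haveI : Fact (Nat.Prime 2) := ⟨Nat.prime_two⟩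
  obtain ⟨n, hn⟩ := IsPGroup.iff_card.1 hA2
  rw [hn] at hlt ⊢
  exact Nat.pow_le_pow_right (n := 2) (by norm_num)
    (Nat.lt_succ_iff.1 ((Nat.pow_lt_pow_iff_right (by norm_num : 1 < 2)).1 hlt)) |>.trans (by norm_num)

variable (hS : IsPGroup 2 S) (hF : F.IsSaturated 2)
include hS hF

/-- A central involution that is not central in the system is moved by an automorphism of odd
order of `S` or of an essential subgroup. -/
theorem exists_odd_moving (hZ : F.center = ⊥) {z : Ω} (hzS : z ∈ S)
    (hzc : ∀ a ∈ S, a * z = z * a) (hz2 : z * z = 1) (hz1 : z ≠ 1) :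
    ∃ (P : Subgroup Ω) (hzP : z ∈ P), (P = S ∨ F.IsEssential 2 P) ∧
      ∃ β ∈ F.autGroup P, Odd (orderOf β) ∧ β ⟨z, hzP⟩ ≠ ⟨z, hzP⟩ := by
  classical
  haveI : Fact (Nat.Prime 2) := ⟨Nat.prime_two⟩
  set Q := Subgroup.zpowers z with hQdef
  have hQ : Q ≤ S := Subgroup.zpowers_le.2 hzS
  have hQmem : ∀ w ∈ Q, w = 1 ∨ w = z := by
    intro w hw
    obtain ⟨k, rfl⟩ := Subgroup.mem_zpowers_iff.1 hw
    rcases Int.even_or_odd k with ⟨l, rfl⟩ | ⟨l, rfl⟩
    · left; rw [zpow_add, ← (Commute.refl z).mul_zpow, hz2, one_zpow]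
    · right; rw [zpow_add, zpow_mul, zpow_one, zpow_two, hz2, one_zpow, one_mul]
  have hC : centralizerIn S Q = S := inf_eq_left.2 fun a ha w hw => by
    rcases hQmem w hw with rfl | rfl
    · rw [one_mul, mul_one]
    · exact (hzc a ha).symm
  by_contra hcon
  push Not at hcon
  have hcentral : F.IsCentral Q := by
    refine isCentral_of_le_fixingSys hQ hC (alperin hS hF fun R hR α hα => ?_)
    have hRS : R ≤ S := hR.elim (fun e => e.le) fun e => e.1.1
    have hRN : F.IsFullyNormalized R :=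
      hR.elim (fun e => e ▸ fullyNormalized_top F) fun e => e.2.1
    have hzR : z ∈ R := by
      rcases hR with rfl | hR
      · exact hzS
      · exact hR.1.2 R (isConj_refl hRS) ⟨hzS, fun y hy => hzc y (hRS hy)⟩
    haveI := finite_of_le hRS
    let St : Subgroup (F.autGroup R) :=
      { carrier := {a | (a : MulAut R) ⟨z, hzR⟩ = ⟨z, hzR⟩}
        one_mem' := rfl
        mul_mem' := fun {a b} ha hb => by
          show (a : MulAut R) ((b : MulAut R) _) = _
          rw [show (b : MulAut R) ⟨z, hzR⟩ = ⟨z, hzR⟩ from hb]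
          exact ha
        inv_mem' := fun {a} ha => by
          show (a : MulAut R).symm ⟨z, hzR⟩ = ⟨z, hzR⟩
          rw [MulEquiv.symm_apply_eq]
          exact (show (a : MulAut R) ⟨z, hzR⟩ = ⟨z, hzR⟩ from ha).symm }
    obtain ⟨T, hT⟩ := (fullyAutomized_of_fullyNormalized hS hF hRN).2
    have hTSt : (T : Subgroup (F.autGroup R)) ≤ St := by
      intro a ha
      rw [hT] at ha
      obtain ⟨g, hg, hgx⟩ := mem_autInducedBy_iff.1 ha
      refine Subtype.ext ((hgx _).trans ?_)
      show g * z * g⁻¹ = z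
      rw [hzc g hg, mul_inv_cancel_right]
    have hodd : ∀ a : F.autGroup R, Odd (orderOf a) → a ∈ St := fun a ha =>
      hcon R hzR hR a a.2 (by rwa [Subgroup.orderOf_coe])
    set N := Subgroup.closure {a : F.autGroup R | Odd (orderOf a)} with hN
    have hNSt : N ≤ St := (Subgroup.closure_le _).2 hodd
    haveI hNn : N.Normal := by
      refine ⟨fun n hn g => ?_⟩
      induction hn using Subgroup.closure_induction with
      | mem n hn =>
        refine Subgroup.subset_closure ?_
        show Odd (orderOf (g * n * g⁻¹))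
        rw [show g * n * g⁻¹ = MulAut.conj g n from rfl, MulEquiv.orderOf_eq]
        exact hn
      | one => simp
      | mul a b _ _ iha ihb => convert mul_mem iha ihb using 1; group
      | inv a _ iha => convert inv_mem iha using 1; group
    have hquot : IsPGroup 2 (F.autGroup R ⧸ N) := by
      intro q
      obtain ⟨g, rfl⟩ := QuotientGroup.mk_surjective q
      obtain ⟨k, m, hm, hkm⟩ :=
        Nat.exists_eq_pow_mul_and_not_dvd (orderOf_pos g).ne' 2 (by norm_num)
      refine ⟨k, ?_⟩
      rw [← QuotientGroup.mk_pow, QuotientGroup.eq_one_iff]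
      refine Subgroup.subset_closure ?_
      show Odd (orderOf (g ^ 2 ^ k))
      rw [orderOf_pow_of_dvd (by positivity) ⟨m, hkm⟩, hkm, Nat.mul_div_cancel_left _ (by positivity)]
      exact Nat.odd_iff.2 (by omega)
    obtain ⟨j, hj⟩ := IsPGroup.iff_card.1 hquot
    have h2 : St.index ∣ 2 ^ j := by
      rw [← hj, ← Subgroup.index_eq_card]
      exact Subgroup.index_dvd_of_le hNSt
    have h1 : ¬ 2 ∣ St.index := fun h =>
      T.not_dvd_index (h.trans (Subgroup.index_dvd_of_le hTSt))
    obtain ⟨i, -, hi⟩ := (Nat.dvd_prime_pow Nat.prime_two).1 h2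
    have hi0 : i = 0 := by
      by_contra hne
      exact h1 (hi ▸ dvd_pow_self 2 hne)
    rw [hi0, pow_zero] at hi
    have hfix : α ⟨z, hzR⟩ = ⟨z, hzR⟩ :=
      (Subgroup.index_eq_one.1 hi).ge (Subgroup.mem_top (⟨α, hα⟩ : F.autGroup R))
    refine (autGroup_iff_isMap hRS fun x => (toFun_aut_apply α x.2).symm).2
      (mem_fixingSys_of_fixed hQ hC (isMap_of_autGroup hRS hα) (Subgroup.zpowers_le.2 hzR)
        fun w hw => ?_)
    rcases hQmem w hw with rfl | rfl
    · exact (isMap_of_autGroup hRS hα).map_one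
    · rw [toFun_aut_apply α hzR, hfix]
  have hbot := IsCentral.le_center hcentral
  rw [hZ, le_bot_iff, hQdef, Subgroup.zpowers_eq_bot] at hbot
  exact hz1 hbot

end CfsgLib.Fusion.RankTwo
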