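import Cfsg.Agent.Lib.Invol.HigmanTwo
import Mathlib.Tactic

/-!
Automorphisms of a 2-group with three involutions permuted transitively: no involutive automorphism
modulo the centre moves an involution, and commuting ones agree modulo the centre.
-/

set_option autoImplicit false
set_option linter.unusedSectionVars false
set_option linter.style.haveILetI false

namespace CfsgLib.Fusion.RankTwo

open CfsgLib.Invol
open scoped commutatorElement

variable {T : Type*} [Group T]

/-- In a group without elementary abelian subgroup of order eight, the involutions commuting with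
two commuting ones are the obvious ones. -/
theorem mem_four [Finite T]
    (hr : ∀ A : Subgroup T, IsMulCommutative A → (∀ a ∈ A, a ^ 2 = 1) → Nat.card A ≤ 4)
    {x y w : T} (hx : x * x = 1) (hy : y * y = 1) (hw : w * w = 1) (hxy : Commute x y)
    (hxw : Commute x w) (hyw : Commute y w) (hx1 : x ≠ 1) (hy1 : y ≠ 1) (hne : x ≠ y) :
    w = 1 ∨ w = x ∨ w = y ∨ w = x * y := by
  classical
  by_contra hcon
  push Not at hcon
  set A := Subgroup.closure ({x, y, w} : Set T) with hA
  have hmem : x ∈ A ∧ y ∈ A ∧ w ∈ A :=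
    ⟨Subgroup.subset_closure (by simp), Subgroup.subset_closure (by simp),
      Subgroup.subset_closure (by simp)⟩
  have hcomm : IsMulCommutative A := by
    refine Subgroup.isMulCommutative_closure ?_
    intro a ha b hb
    simp only [Set.mem_insert_iff, Set.mem_singleton_iff] at ha hb
    rcases ha with rfl | rfl | rfl <;> rcases hb with rfl | rfl | rfl <;>
      first | rfl | exact hxy.eq | exact hxy.eq.symm | exact hxw.eq | exact hxw.eq.symm |
        exact hyw.eq | exact hyw.eq.symm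
  have hexp : ∀ a ∈ A, a ^ 2 = 1 := by
    intro a ha
    induction ha using Subgroup.closure_induction with
    | mem a ha =>
      simp only [Set.mem_insert_iff, Set.mem_singleton_iff] at ha
      rcases ha with rfl | rfl | rfl <;> (rw [pow_two]; assumption)
    | one => exact one_pow 2
    | mul a b ha hb iha ihb =>
      have hab : Commute a b := congrArg Subtype.val (hcomm.is_comm.comm ⟨a, ha⟩ ⟨b, hb⟩)
      rw [hab.mul_pow, iha, ihb, one_mul]
    | inv a _ iha => rw [inv_pow, iha, inv_one]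
  have hc := hr A hcomm hexp
  haveI := Fintype.ofFinite A
  let Y : Finset A := {1, ⟨x, hmem.1⟩, ⟨y, hmem.2.1⟩, ⟨x * y, mul_mem hmem.1 hmem.2.1⟩, ⟨w, hmem.2.2⟩}
  have h5 : Y.card = 5 := by
    have hxy1 : x * y ≠ 1 := fun e => hne (by
      rw [← mul_left_cancel_iff (a := x), hx]; exact e.symm)
    simp only [Y]
    rw [Finset.card_insert_of_notMem, Finset.card_insert_of_notMem, Finset.card_insert_of_notMem,
      Finset.card_pair]
    · simpa [Subtype.ext_iff] using hcon.2.2.2.symm
    · simp [Subtype.ext_iff, hcon.2.2.1.symm, hx1]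
    · simp [Subtype.ext_iff, hne, hcon.2.1.symm, hy1]
    · simp [Subtype.ext_iff, hx1.symm, hy1.symm, hxy1.symm, hcon.1.symm]
  have := Finset.card_le_univ Y
  rw [h5, ← Nat.card_eq_fintype_card] at this
  omega

variable [Finite T] (H : HigData T)
include H

theorem eq_or_mul {s t : T} (hs : s * s = 1) (ht : t * t = 1) (hs1 : s ≠ 1) (ht1 : t ≠ 1)
    (hne : t ≠ s) {r : T} (hr : r * r = 1) : r = 1 ∨ r = s ∨ r = t ∨ r = s * t := by
  by_contra hcon
  push Not at hcon
  rcases H.exists_fourth hr hs ht hcon.1 hs1 ht1 (Ne.symm hcon.2.1) (Ne.symm hcon.2.2.1) with e | e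
  · exact hne (mul_left_cancel (e.trans hs.symm))
  · exact hcon.2.2.2 e.symm

/-- Some involution is moved by an automorphism unless all of them are fixed. -/
theorem fix_all {α : MulAut T} (hz : α H.z = H.z) (hψz : α (H.ψ H.z) = H.ψ H.z) :
    ∀ v, v * v = 1 → α v = v := by
  intro v hv
  rcases H.cover v hv with rfl | rfl | rfl | rfl
  · exact map_one α
  · exact hz
  · exact hψz
  · rw [← H.prod_z, map_mul, hz, hψz]

/-- An automorphism of odd order moving an involution fixes only the identity. -/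
theorem fpf_of_odd {α : MulAut T} (hodd : Odd (orderOf α)) (hmove : ∃ v, v * v = 1 ∧ α v ≠ v)
    {x : T} (hx : α x = x) : x = 1 := by
  by_contra hx1
  obtain ⟨k, hk⟩ := H.pgroup x
  obtain ⟨s, hs, hs1, hsfix⟩ : ∃ s : T, s * s = 1 ∧ s ≠ 1 ∧ α s = s := by
    induction k generalizing x with
    | zero => exact absurd (by simpa using hk) hx1
    | succ k ih =>
      by_cases hxx : x * x = 1
      · exact ⟨x, hxx, hx1, hx⟩
      · exact ih (x := x * x) (by rw [map_mul, hx]) hxx
          (by rw [← pow_two, ← pow_mul, ← pow_succ']; exact hk)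
  obtain ⟨t, ht, htm⟩ := hmove
  have ht1 : t ≠ 1 := fun e => htm (by rw [e, map_one])
  have hts : t ≠ s := fun e => htm (by rw [e, hsfix])
  have hαt : α t = s * t := by
    rcases eq_or_mul H hs ht hs1 ht1 hts (r := α t) (by rw [← map_mul, ht, map_one]) with
      e | e | e | e
    · exact absurd (α.injective (e.trans (map_one α).symm)) ht1
    · exact absurd (α.injective (e.trans hsfix.symm)) hts
    · exact absurd e htm
    · exact e
  have h2 : (α ^ 2) t = t := by
    rw [pow_two]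
    show α (α t) = t
    rw [hαt, map_mul, hsfix, hαt, ← mul_assoc, hs, one_mul]
  obtain ⟨j, hj⟩ := hodd
  have h3 : ∀ i : ℕ, (α ^ (2 * i)) t = t := by
    intro i
    induction i with
    | zero => simp
    | succ i ih =>
      rw [Nat.mul_succ, pow_add]
      show (α ^ (2 * i)) ((α ^ 2) t) = t
      rw [h2, ih]
  have h4 : (α ^ (2 * j + 1)) t = α t := by
    rw [pow_succ']
    show α ((α ^ (2 * j)) t) = α t
    rw [h3]
  rw [← hj, pow_orderOf_eq_one] at h4
  exact htm h4.symm

/-- An automorphism of odd order of an abelian example fixing the involutions is trivial. -/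
theorem eq_one_of_fix (hab : ∀ a b : T, a * b = b * a) {α : MulAut T} (hodd : Odd (orderOf α))
    (hfix : ∀ v, v * v = 1 → α v = v) : α = 1 := by
  refine MulEquiv.ext fun x => ?_
  show α x = x
  obtain ⟨k, hk⟩ := H.pgroup x
  induction k generalizing x with
  | zero => rw [show x = 1 by simpa using hk, map_one]
  | succ k ih =>
    have hsq : α (x * x) = x * x := ih (x * x) (by rw [← pow_two, ← pow_mul, ← pow_succ']; exact hk)
    set δ := x⁻¹ * α x with hδdef
    have hαx : α x = x * δ := by rw [hδdef]; group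
    have hδ : δ * δ = 1 := by
      calc δ * δ = x⁻¹ * x⁻¹ * (α x * α x) := by
            rw [hδdef]; rw [mul_assoc, ← mul_assoc (α x), hab (α x) x⁻¹]; group
        _ = 1 := by rw [← map_mul, hsq]; group
    have hiter : ∀ j : ℕ, (α ^ j) x = x * δ ^ j := by
      intro j
      induction j with
      | zero => simp
      | succ j ihj =>
        rw [pow_succ' α]
        show α ((α ^ j) x) = _
        rw [ihj, map_mul, map_pow, hfix δ hδ, hαx, mul_assoc, ← pow_succ']
    have h1 := hiter (orderOf α)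
    rw [pow_orderOf_eq_one] at h1
    obtain ⟨j, hj⟩ := hodd
    rw [hj, pow_succ, pow_mul, pow_two, hδ, one_pow, one_mul] at h1
    rw [hαx]
    exact h1.symm

/-- The involutions form a normal subgroup. -/
instance rankTwoNormalV : H.V.Normal :=
  ⟨fun v hv g => by rw [← (H.central v hv g).eq, mul_inv_cancel_right]; exact hv⟩

section NonAbelian

variable (hna : ¬ IsMulCommutative T)
include hna

theorem center_eq : Subgroup.center T = H.V := (H.card_eq_of_nonabelian hna).2

theorem comm_mem (x y : T) : ⁅x, y⁆ ∈ H.V := by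
  rw [← center_eq H hna, Subgroup.mem_center_iff]
  exact fun g => (H.class_two x y g).eq.symm

theorem sq_mem (x : T) : x * x ∈ H.V := by
  rw [← center_eq H hna, Subgroup.mem_center_iff]
  intro g
  refine (commutatorElement_eq_one_iff_commute.1 ?_).eq.symm
  rw [commutator_mul_left_of_central (H.class_two x g)]
  exact comm_mem H hna x g

theorem comm_symm (x y : T) : ⁅x, y⁆ = ⁅y, x⁆ := by
  rw [← commutatorElement_inv y x]
  exact inv_eq_of_mul_eq_one_right (comm_mem H hna y x)

theorem comm_psi_left (x y : T) : ⁅H.ψ x, y⁆ = H.ψ (H.ψ ⁅x, y⁆) := by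
  rw [comm_symm H hna, H.comm_psi (center_eq H hna), comm_symm H hna]

theorem sq_mul (x y : T) : x * y * (x * y) = x * x * (y * y) * ⁅y, x⁆ :=
  mul_sq_of_commute (H.class_two y x x) (H.class_two y x _)

theorem conj_mem_V {v : T} (hv : v ∈ H.V) (g : T) : g * v * g⁻¹ ∈ H.V := by
  rw [← (H.central v hv g).eq, mul_inv_cancel_right]; exact hv

theorem V_normal : H.V.Normal := ⟨fun v hv g => conj_mem_V H hna hv g⟩

theorem exists_root {v : T} (hv : v * v = 1) : ∃ x, x * x = v := by
  obtain ⟨a, -, ha⟩ := exists_notMem_of_card_lt (H := H.V) (K := ⊤)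
    (by rw [H.card_V, Subgroup.card_top, (H.card_eq_of_nonabelian hna).1]; norm_num)
  have hne : a * a ≠ 1 := ha
  by_cases hv1 : v = 1
  · exact ⟨1, by rw [hv1, one_mul]⟩
  have key : v = a * a ∨ v = H.ψ (a * a) ∨ v = H.ψ (H.ψ (a * a)) := by
    rcases H.cover _ (sq_mem H hna a) with e | e | e | e
    · exact absurd e hne
    all_goals
      rcases H.cover v hv with f | f | f | f
      · exact absurd f hv1
      all_goals
        rw [e, f]
        simp [H.psi_three]
  rcases key with e | e | e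
  · exact ⟨a, e.symm⟩
  · exact ⟨H.ψ a, by rw [← map_mul, e]⟩
  · exact ⟨H.ψ (H.ψ a), by rw [← map_mul, ← map_mul, e]⟩

/-- Automorphisms trivial modulo the centre fix the involutions. -/
theorem fix_of_trivial {α : MulAut T} (h : ∀ x, x⁻¹ * α x ∈ H.V) {v : T} (hv : v * v = 1) :
    α v = v := by
  obtain ⟨x, rfl⟩ := exists_root H hna hv
  obtain ⟨d, hd, hαx⟩ : ∃ d ∈ H.V, α x = x * d := ⟨_, h x, (mul_inv_cancel_left _ _).symm⟩
  have hd' : d * d = 1 := hd
  rw [map_mul, hαx]
  calc x * d * (x * d) = x * (d * x) * d := by group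
    _ = x * (x * d) * d := by rw [(H.central d hd' x).eq]
    _ = x * x * (d * d) := by group
    _ = x * x := by rw [hd', mul_one]

/-- The elements fixed modulo the centre. -/
def fixQ (τ : MulAut T) : Subgroup T where
  carrier := {x | x⁻¹ * τ x ∈ H.V}
  one_mem' := by simp
  mul_mem' {a b} ha hb := by
    show (a * b)⁻¹ * τ (a * b) ∈ H.V
    have h1 : b⁻¹ * (a⁻¹ * τ a) * b * (b⁻¹ * τ b) ∈ H.V :=
      mul_mem (by simpa using conj_mem_V H hna ha b⁻¹) hb
    rw [map_mul]
    convert h1 using 1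
    group
  inv_mem' {a} ha := by
    show a⁻¹⁻¹ * τ a⁻¹ ∈ H.V
    have h1 : a * (a⁻¹ * τ a)⁻¹ * a⁻¹ ∈ H.V := conj_mem_V H hna (inv_mem ha) a
    rw [map_inv]
    convert h1 using 1
    group

theorem mem_fixQ {τ : MulAut T} {x : T} : x ∈ fixQ H hna τ ↔ x⁻¹ * τ x ∈ H.V := Iff.rfl

theorem V_le_fixQ (τ : MulAut T) : H.V ≤ fixQ H hna τ := fun v hv =>
  mul_mem (inv_mem hv) (by rw [H.mem_V, ← map_mul, show v * v = 1 from hv, map_one])

theorem delta_mem {τ : MulAut T} (h2 : ∀ x, x⁻¹ * τ (τ x) ∈ H.V) (x : T) :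
    x⁻¹ * τ x ∈ fixQ H hna τ := by
  haveI := V_normal H hna
  rw [mem_fixQ]
  have hcomm : ∀ a b : T ⧸ H.V, a * b = b * a := by
    intro a b
    obtain ⟨a, rfl⟩ := QuotientGroup.mk_surjective a
    obtain ⟨b, rfl⟩ := QuotientGroup.mk_surjective b
    refine commutatorElement_eq_one_iff_mul_comm.1 ?_
    rw [← QuotientGroup.mk'_apply, ← QuotientGroup.mk'_apply, ← map_commutatorElement]
    exact (QuotientGroup.eq_one_iff _).2 (comm_mem H hna a b)
  have hsq : ∀ a : T ⧸ H.V, a * a = 1 := fun a => by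
    obtain ⟨a, rfl⟩ := QuotientGroup.mk_surjective a
    rw [← QuotientGroup.mk_mul]
    exact (QuotientGroup.eq_one_iff _).2 (sq_mem H hna a)
  have hx2 : ((τ (τ x) : T) : T ⧸ H.V) = x := (QuotientGroup.eq.2 (h2 x)).symm
  rw [← QuotientGroup.eq_one_iff]
  simp only [map_mul, map_inv, mul_inv_rev, inv_inv, QuotientGroup.mk_mul, QuotientGroup.mk_inv, hx2]
  have hinv : ∀ a : T ⧸ H.V, a⁻¹ = a := fun a => inv_eq_of_mul_eq_one_right (hsq a)
  exact hsq _

/-- The displacement of an automorphism, modulo the centre. -/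
noncomputable def deltaHom (τ : MulAut T) : T →* T ⧸ H.V :=
  { toFun := fun x => ((x⁻¹ * τ x : T) : T ⧸ H.V)
    map_one' := by simp
    map_mul' := fun x y => by
      rw [← QuotientGroup.mk_mul, map_mul]
      refine QuotientGroup.eq.2 ?_
      have e : ((x * y)⁻¹ * (τ x * τ y))⁻¹ * (x⁻¹ * τ x * (y⁻¹ * τ y))
          = (τ y)⁻¹ * ⁅(x⁻¹ * τ x)⁻¹, y⁆ * τ y := by
        simp only [commutatorElement_def]; group
      rw [e]
      simpa using conj_mem_V H hna (comm_mem H hna (x⁻¹ * τ x)⁻¹ y) (τ y)⁻¹ }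

theorem ker_deltaHom (τ : MulAut T) :
    (deltaHom H hna τ).ker = fixQ H hna τ := by
  ext x
  rw [MonoidHom.mem_ker, mem_fixQ, ← QuotientGroup.eq_one_iff]
  rfl

theorem card_fixQ {τ : MulAut T} (h2 : ∀ x, x⁻¹ * τ (τ x) ∈ H.V) :
    16 ≤ Nat.card (fixQ H hna τ) := by
  haveI := V_normal H hna
  set C := fixQ H hna τ with hC
  set δ := deltaHom H hna τ with hδ
  have hker : δ.ker = C := ker_deltaHom H hna τ
  have hrange : δ.range ≤ C.map (QuotientGroup.mk' H.V) := by
    rintro _ ⟨x, rfl⟩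
    exact ⟨_, delta_mem H hna h2 x, rfl⟩
  have hmap : Nat.card (C.map (QuotientGroup.mk' H.V)) * 4 = Nat.card C := by
    let f := (QuotientGroup.mk' H.V).subgroupMap C
    have h1 := Subgroup.card_mul_index f.ker
    have hsurj : Function.Surjective f := MonoidHom.subgroupMap_surjective _ _
    rw [Subgroup.index_ker, MonoidHom.range_eq_top.2 hsurj, Subgroup.card_top] at h1
    have h2 : Nat.card f.ker = 4 := by
      rw [← H.card_V]
      refine Nat.card_congr ⟨fun w => ⟨w.1.1, ?_⟩, fun v => ⟨⟨v.1, V_le_fixQ H hna τ v.2⟩, ?_⟩,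
        fun w => rfl, fun v => rfl⟩
      · exact (QuotientGroup.eq_one_iff _).1 (congrArg Subtype.val (MonoidHom.mem_ker.1 w.2))
      · exact MonoidHom.mem_ker.2 (Subtype.ext ((QuotientGroup.eq_one_iff _).2 v.2))
    rw [h2] at h1
    omega
  have hT := (H.card_eq_of_nonabelian hna).1
  have h3 := Subgroup.card_mul_index δ.ker
  rw [Subgroup.index_ker, hker, hT] at h3
  have h4 := Nat.mul_le_mul_left (Nat.card C) (Subgroup.card_le_of_le hrange)
  rw [h3] at h4
  by_contra hlt
  push Not at hlt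
  nlinarith

/-- No automorphism which is an involution modulo the centre moves an involution. -/
theorem no_swap {τ : MulAut T} (h2 : ∀ x, x⁻¹ * τ (τ x) ∈ H.V) (hmove : ∃ t, t * t = 1 ∧ τ t ≠ t) :
    False := by
  obtain ⟨t, ht, htm⟩ := hmove
  have ht1 : t ≠ 1 := fun e => htm (by rw [e, map_one])
  have hcen : ∀ x ∈ fixQ H hna τ, τ (x * x) = x * x := by
    intro x hx
    obtain ⟨d, hd, hτx⟩ : ∃ d ∈ H.V, τ x = x * d := ⟨_, hx, (mul_inv_cancel_left _ _).symm⟩
    have hd' : d * d = 1 := hd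
    rw [map_mul, hτx]
    calc x * d * (x * d) = x * (d * x) * d := by group
      _ = x * (x * d) * d := by rw [(H.central d hd' x).eq]
      _ = x * x * (d * d) := by group
      _ = x * x := by rw [hd', mul_one]
  set C := fixQ H hna τ with hC
  have hC16 : 16 ≤ Nat.card C := card_fixQ H hna h2
  obtain ⟨a, haC, haV⟩ := exists_notMem_of_card_lt (H := H.V) (K := C) (by rw [H.card_V]; omega)
  set s := a * a with hs
  have hs1 : s ≠ 1 := haV
  have hsfix : τ s = s := hcen a haC
  have hsV : s * s = 1 := sq_mem H hna a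
  have huniq : ∀ r, r * r = 1 → r ≠ 1 → τ r = r → r = s := by
    intro r hr hr1 hrfix
    by_contra hne
    have hall : τ t = t := by
      rcases eq_or_mul H hsV hr hs1 hr1 hne ht with e | e | e | e <;> rw [e]
      · exact map_one τ
      · exact hsfix
      · exact hrfix
      · rw [map_mul, hsfix, hrfix]
    exact htm hall
  have hsq : ∀ x ∈ C, x ∉ H.V → x * x = s := fun x hx hxV =>
    huniq _ (sq_mem H hna x) hxV (hcen x hx)
  obtain ⟨b, hbC, hbX⟩ := exists_notMem_of_card_lt (H := H.V ⊔ Subgroup.zpowers a) (K := C) (by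
    have := card_sup_zpowers_le H.V (sq_mem H hna a) (fun h hh => conj_mem_V H hna hh a)
    rw [H.card_V] at this
    omega)
  have hbV : b ∉ H.V := fun h => hbX (Subgroup.mem_sup_left h)
  have habV : a * b ∉ H.V := fun h => hbX (by
    have := mul_mem (inv_mem (Subgroup.mem_sup_right (S := H.V) (Subgroup.mem_zpowers a)))
      (Subgroup.mem_sup_left (T := Subgroup.zpowers a) h)
    rwa [inv_mul_cancel_left] at this)
  have hba : ⁅b, a⁆ = s := by
    have h1 := hsq _ (mul_mem haC hbC) habV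
    rw [sq_mul H hna, hsq a haC haV, hsq b hbC hbV, hsV, one_mul] at h1
    exact h1
  have hprod : b * H.ψ a ∈ H.V := by
    show b * H.ψ a * (b * H.ψ a) = 1
    rw [sq_mul H hna, hsq b hbC hbV, ← map_mul, ← hs, comm_psi_left H hna,
      comm_symm H hna a b, hba]
    exact fpf_three_norm H.ψ H.psi_three H.fpf s
  obtain ⟨v, hv, hbe⟩ : ∃ v ∈ H.V, b = v * (H.ψ a)⁻¹ :=
    ⟨_, hprod, (mul_inv_cancel_right _ _).symm⟩
  have h1 := hsq b hbC hbV
  rw [hbe, sq_mul H hna, show v * v = 1 from hv, one_mul,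
    commutatorElement_eq_one_iff_commute.2 ((H.central v hv _).symm), mul_one, ← mul_inv_rev,
    ← map_mul, ← hs, inv_eq_of_mul_eq_one_right (H.psi_sq hsV)] at h1
  exact hs1 (H.fpf s h1)

/-- The centralizer of a non-central element has order 16. -/
theorem card_centralizer {y : T} (hy : y ∉ H.V) :
    Nat.card (Subgroup.centralizer ({y} : Set T)) = 16 := by
  let γ : T →* H.V :=
    { toFun := fun x => ⟨⁅y, x⁆, comm_mem H hna y x⟩
      map_one' := Subtype.ext (by simp)
      map_mul' := fun x x' => Subtype.ext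
        (commutator_mul_right_of_central (H.class_two y x')) }
  have hker : γ.ker = Subgroup.centralizer ({y} : Set T) := by
    ext x
    rw [MonoidHom.mem_ker, Subgroup.mem_centralizer_singleton_iff]
    refine ⟨fun h => ?_, fun h => Subtype.ext (commutatorElement_eq_one_iff_mul_comm.2 h.symm)⟩
    exact (commutatorElement_eq_one_iff_mul_comm.1 (congrArg Subtype.val h)).symm
  obtain ⟨x, hx⟩ : ∃ x : T, ⁅y, x⁆ ≠ 1 := by
    by_contra hall
    push Not at hall
    refine hy ?_
    rw [← center_eq H hna, Subgroup.mem_center_iff]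
    exact fun g => (commutatorElement_eq_one_iff_mul_comm.1 (hall g)).symm
  have hrange : γ.range = ⊤ := by
    rw [eq_top_iff]
    rintro ⟨v, hv⟩ -
    by_cases hv1 : v = 1
    · exact ⟨1, Subtype.ext (by simp [γ, hv1])⟩
    set w := ⁅y, x⁆ with hw
    have hψ2 : H.ψ (H.ψ w) = ⁅y, H.ψ x⁆ := (H.comm_psi (center_eq H hna) y x).symm
    have hψ1 : H.ψ w = ⁅y, H.ψ (H.ψ x)⁆ := by
      rw [H.comm_psi (center_eq H hna), H.comm_psi (center_eq H hna), H.psi_three]
    have key : v = w ∨ v = H.ψ w ∨ v = H.ψ (H.ψ w) := by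
      rcases H.cover _ (comm_mem H hna y x) with e | e | e | e
      · exact absurd e hx
      all_goals
        rcases H.cover v hv with f | f | f | f
        · exact absurd f hv1
        all_goals
          rw [hw, e, f]
          simp [H.psi_three]
    rcases key with e | e | e
    · exact ⟨x, Subtype.ext e.symm⟩
    · exact ⟨_, Subtype.ext (hψ1.symm.trans e.symm)⟩
    · exact ⟨_, Subtype.ext (hψ2.symm.trans e.symm)⟩
  have h := Subgroup.card_mul_index γ.ker
  rw [Subgroup.index_ker, hrange, Subgroup.card_top, H.card_V,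
    (H.card_eq_of_nonabelian hna).1, hker] at h
  omega

theorem fixQ_eq {τ : MulAut T} (h2 : ∀ x, x⁻¹ * τ (τ x) ∈ H.V)
    (hfix : ∀ v, v * v = 1 → τ v = v) {x : T} (hx : x ∉ fixQ H hna τ) :
    fixQ H hna τ = Subgroup.centralizer ({x⁻¹ * τ x} : Set T) ∧
      ⁅x⁻¹ * τ x, x⁆ = (x⁻¹ * τ x) * (x⁻¹ * τ x) := by
  set d := x⁻¹ * τ x with hd
  have hτx : τ x = x * d := by rw [hd]; group
  constructor
  · refine Subgroup.eq_of_le_of_card_ge (fun c hc => ?_) ?_
    · rw [Subgroup.mem_centralizer_singleton_iff]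
      obtain ⟨v, hv, hτc⟩ : ∃ v ∈ H.V, τ c = c * v := ⟨_, hc, (mul_inv_cancel_left _ _).symm⟩
      have h1 : τ ⁅c, x⁆ = ⁅c, x⁆ := hfix _ (comm_mem H hna c x)
      rw [map_commutatorElement, hτx, hτc,
        commutator_mul_left_of_central (H.class_two v _),
        commutatorElement_eq_one_iff_commute.2 (H.central v hv _), mul_one,
        commutator_mul_right_of_central (H.class_two c d)] at h1
      exact (commutatorElement_eq_one_iff_mul_comm.1 (mul_eq_left.1 h1))
    · rw [card_centralizer H hna hx]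
      exact card_fixQ H hna h2
  · have h1 := hfix _ (sq_mem H hna x)
    rw [map_mul, hτx, sq_mul H hna, mul_assoc, mul_eq_left] at h1
    exact (eq_inv_of_mul_eq_one_right h1).trans (inv_eq_of_mul_eq_one_right (sq_mem H hna d))

theorem fixQ_comm {τ : MulAut T} (h2 : ∀ x, x⁻¹ * τ (τ x) ∈ H.V)
    (hfix : ∀ v, v * v = 1 → τ v = v) {x₀ : T} (hx₀ : x₀ ∉ fixQ H hna τ) :
    ∀ a ∈ fixQ H hna τ, ∀ b ∈ fixQ H hna τ, Commute a b := by
  haveI := V_normal H hna
  set C := fixQ H hna τ with hC
  have h16 : Nat.card C = 16 := by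
    rw [hC, (fixQ_eq H hna h2 hfix hx₀).1, card_centralizer H hna hx₀]
  -- every element of `C` is a difference
  set δ := deltaHom H hna τ with hδ
  have hker : δ.ker = C := ker_deltaHom H hna τ
  have hrangeC : δ.range = C.map (QuotientGroup.mk' H.V) := by
    refine Subgroup.eq_of_le_of_card_ge ?_ ?_
    · rintro _ ⟨x, rfl⟩
      exact ⟨_, delta_mem H hna h2 x, rfl⟩
    · have h3 := Subgroup.card_mul_index δ.ker
      rw [Subgroup.index_ker, hker, h16, (H.card_eq_of_nonabelian hna).1] at h3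
      have h4 := Subgroup.card_mul_index ((QuotientGroup.mk' H.V).subgroupMap C).ker
      rw [Subgroup.index_ker, MonoidHom.range_eq_top.2 (MonoidHom.subgroupMap_surjective _ _),
        Subgroup.card_top, h16] at h4
      have h5 : 4 ≤ Nat.card ((QuotientGroup.mk' H.V).subgroupMap C).ker := by
        rw [← H.card_V]
        refine Nat.card_le_card_of_injective (fun v => ⟨⟨v.1, V_le_fixQ H hna τ v.2⟩,
          MonoidHom.mem_ker.2 (Subtype.ext ((QuotientGroup.eq_one_iff _).2 v.2))⟩) ?_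
        intro v w h
        exact Subtype.ext (congrArg (fun z => z.1.1) h)
      by_contra hlt
      push Not at hlt
      nlinarith
  intro a ha b hb
  obtain ⟨x, hx⟩ := hrangeC.ge ⟨a, ha, rfl⟩
  have hx' : ((x⁻¹ * τ x : T) : T ⧸ H.V) = (a : T ⧸ H.V) := hx
  obtain ⟨v, hv, hav⟩ : ∃ v ∈ H.V, a = (x⁻¹ * τ x) * v :=
    ⟨_, QuotientGroup.eq.1 hx', (mul_inv_cancel_left _ _).symm⟩
  rw [hav]
  refine Commute.mul_left ?_ (H.central v hv b)
  by_cases hxC : x ∈ C
  · exact H.central _ hxC b
  · have := (fixQ_eq H hna h2 hfix hxC).1.le hb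
    exact (Subgroup.mem_centralizer_singleton_iff.1 this).symm

/-- Commuting automorphisms that fix the centre and are involutions modulo it agree modulo it. -/
theorem agree {σ τ : MulAut T} (hσ2 : ∀ x, x⁻¹ * σ (σ x) ∈ H.V)
    (hτ2 : ∀ x, x⁻¹ * τ (τ x) ∈ H.V) (hσf : ∀ v, v * v = 1 → σ v = v)
    (hτf : ∀ v, v * v = 1 → τ v = v) (hσn : ∃ x, x⁻¹ * σ x ∉ H.V) (hτn : ∃ x, x⁻¹ * τ x ∉ H.V)
    (hcomm : ∀ x, (σ (τ x))⁻¹ * τ (σ x) ∈ H.V) (x : T) : (σ x)⁻¹ * τ x ∈ H.V := by
  haveI := V_normal H hna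
  obtain ⟨x₀, hx₀⟩ := hσn
  obtain ⟨y₀, hy₀⟩ := hτn
  set C := fixQ H hna σ with hC
  set D := fixQ H hna τ with hD
  have hinv : ∀ c ∈ C, τ c ∈ C := by
    intro c hc
    obtain ⟨v, hv, hσc⟩ : ∃ v ∈ H.V, σ c = c * v := ⟨_, hc, (mul_inv_cancel_left _ _).symm⟩
    show (τ c)⁻¹ * σ (τ c) ∈ H.V
    have h1 := inv_mem (hcomm c)
    rw [hσc, map_mul, hτf v hv, mul_inv_rev, inv_inv, mul_inv_rev] at h1
    have h2 := mul_mem hv h1
    convert h2 using 1
    group
  -- a common fixed element outside the centre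
  obtain ⟨w, hwC, hwD, hwV⟩ : ∃ w ∈ C, w ∈ D ∧ w ∉ H.V := by
    obtain ⟨c, hc, hcV⟩ := exists_notMem_of_card_lt (H := H.V) (K := C)
      (by rw [H.card_V]; have h16 : 16 ≤ Nat.card C := card_fixQ H hna hσ2; omega)
    by_cases hcD : c ∈ D
    · exact ⟨c, hc, hcD, hcV⟩
    · exact ⟨c⁻¹ * τ c, mul_mem (inv_mem hc) (hinv c hc), delta_mem H hna hτ2 c, hcD⟩
  have hcent : ∀ (ρ : MulAut T) (hρ2 : ∀ x, x⁻¹ * ρ (ρ x) ∈ H.V)
      (hρf : ∀ v, v * v = 1 → ρ v = v) (z₀ : T), z₀ ∉ fixQ H hna ρ → w ∈ fixQ H hna ρ →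
      fixQ H hna ρ = Subgroup.centralizer ({w} : Set T) := by
    intro ρ hρ2 hρf z₀ hz₀ hw
    refine Subgroup.eq_of_le_of_card_ge (fun c hc => ?_) ?_
    · exact Subgroup.mem_centralizer_singleton_iff.2 (fixQ_comm H hna hρ2 hρf hz₀ c hc w hw).eq
    · rw [card_centralizer H hna hwV]
      exact card_fixQ H hna hρ2
  have hCD : C = D := (hcent σ hσ2 hσf x₀ hx₀ hwC).trans (hcent τ hτ2 hτf y₀ hy₀ hwD).symm
  by_cases hxC : x ∈ C
  · have h1 : x⁻¹ * σ x ∈ H.V := hxC
    have h2 : x⁻¹ * τ x ∈ H.V := hCD.le hxC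
    have := mul_mem (inv_mem h1) h2
    convert this using 1
    group
  set y := x⁻¹ * σ x with hy
  set y' := x⁻¹ * τ x with hy'
  have hyV : y ∉ H.V := hxC
  obtain ⟨-, hyx0⟩ := fixQ_eq H hna hσ2 hσf hxC
  obtain ⟨-, hy'x⟩ := fixQ_eq H hna hτ2 hτf (x := x) (fun h => hxC (hCD ▸ h))
  have hyx : ⁅y, x⁆ = y * y := hyx0
  have hyC : y ∈ C := delta_mem H hna hσ2 x
  have hy'C : y' ∈ C := hCD ▸ delta_mem H hna hτ2 x
  have hCy : C = Subgroup.centralizer ({y} : Set T) := (fixQ_eq H hna hσ2 hσf hxC).1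
  have hψy : H.ψ y ∈ C := by
    rw [hCy, Subgroup.mem_centralizer_singleton_iff]
    exact (fpf_three_commute H.ψ H.psi_three H.fpf y).eq.symm
  -- the four cosets of the centre in `C`
  set F := H.V ⊔ Subgroup.zpowers y ⊔ Subgroup.zpowers (H.ψ y) with hF
  have hVy : y ∈ H.V ⊔ Subgroup.zpowers y := Subgroup.mem_sup_right (Subgroup.mem_zpowers y)
  have hψyn : H.ψ y ∉ H.V ⊔ Subgroup.zpowers y := by
    intro h
    rcases mem_sup_zpowers H.V (sq_mem H hna y) (fun v hv => conj_mem_V H hna hv y) h with h' | h'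
    · exact hyV (by
        have := H.psi_sq (H.psi_sq h')
        rwa [H.psi_three] at this)
    · exact hyV (H.mem_of_inv_mul_mem (fun v hv => H.psi_sq hv) h')
  have hFC : F = C := by
    refine Subgroup.eq_of_le_of_card_ge (sup_le (sup_le (V_le_fixQ H hna σ)
      (Subgroup.zpowers_le.2 hyC)) (Subgroup.zpowers_le.2 hψy)) ?_
    rw [hCy, card_centralizer H hna hyV]
    have h1 : 2 * Nat.card H.V ≤ Nat.card (H.V ⊔ Subgroup.zpowers y : Subgroup T) :=
      two_mul_card_le (lt_of_le_of_ne le_sup_left fun e => hyV (e ▸ hVy))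
    have h2 : 2 * Nat.card (H.V ⊔ Subgroup.zpowers y : Subgroup T) ≤ Nat.card F :=
      two_mul_card_le (lt_of_le_of_ne le_sup_left fun e =>
        hψyn (e ▸ Subgroup.mem_sup_right (Subgroup.mem_zpowers _)))
    rw [H.card_V] at h1
    omega
  have hnorm : ∀ h ∈ H.V ⊔ Subgroup.zpowers y,
      H.ψ y * h * (H.ψ y)⁻¹ ∈ H.V ⊔ Subgroup.zpowers y := by
    intro h hh
    have e : H.ψ y * h * (H.ψ y)⁻¹ = ⁅H.ψ y, h⁆ * h := by simp only [commutatorElement_def]; group
    rw [e]
    exact mul_mem (Subgroup.mem_sup_left (comm_mem H hna _ _)) hh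
  have hcoset : y⁻¹ * y' ∈ H.V ∨ (H.ψ y)⁻¹ * y' ∈ H.V ∨ (H.ψ y * y)⁻¹ * y' ∈ H.V ∨ y' ∈ H.V := by
    rcases mem_sup_zpowers (H.V ⊔ Subgroup.zpowers y) (g := H.ψ y)
      (Subgroup.mem_sup_left (sq_mem H hna _)) hnorm (hFC ▸ hy'C : y' ∈ F) with h | h
    · rcases mem_sup_zpowers H.V (sq_mem H hna y) (fun v hv => conj_mem_V H hna hv y) h with h' | h'
      · exact Or.inr (Or.inr (Or.inr h'))
      · exact Or.inl h'
    · rcases mem_sup_zpowers H.V (sq_mem H hna y) (fun v hv => conj_mem_V H hna hv y) h with h' | h'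
      · exact Or.inr (Or.inl h')
      · refine Or.inr (Or.inr (Or.inl ?_))
        convert h' using 1
        group
  have hval : ∀ r : T, r⁻¹ * y' ∈ H.V → ⁅r, x⁆ = r * r := by
    intro r hr
    obtain ⟨v, hv, he⟩ : ∃ v ∈ H.V, y' = r * v := ⟨_, hr, (mul_inv_cancel_left _ _).symm⟩
    rw [← hy', he, commutator_mul_left_of_central (H.class_two v _),
      commutatorElement_eq_one_iff_commute.2 (H.central v hv _), mul_one, sq_mul H hna,
      show v * v = 1 from hv, mul_one,
      commutatorElement_eq_one_iff_commute.2 (H.central v hv r), mul_one] at hy'x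
    exact hy'x
  have hsq_ne : y * y ≠ 1 := hyV
  rcases hcoset with h | h | h | h
  · convert h using 1
    rw [hy, hy']; group
  · exfalso
    have h1 := hval _ h
    rw [comm_psi_left H hna] at h1
    rw [hyx, ← map_mul] at h1
    exact hsq_ne (H.fpf _ (H.ψ.injective h1))
  · exfalso
    have h1 := hval _ h
    rw [commutator_mul_left_of_central (H.class_two y x), comm_psi_left H hna] at h1
    rw [hyx, sq_mul H hna (H.ψ y) y, ← map_mul,
      commutatorElement_eq_one_iff_commute.2 (fpf_three_commute H.ψ H.psi_three H.fpf y), mul_one]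
      at h1
    have h3 := mul_right_cancel h1
    exact hsq_ne (H.fpf _ (H.ψ.injective h3))
  · exact absurd (hCD.symm ▸ (show x ∈ D from h)) hxC

end NonAbelian

end CfsgLib.Fusion.RankTwo
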