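import Cfsg.Agent.Lib.Fusion.RankTwoFixed
import Cfsg.Agent.Lib.Invol.EssentialSmall
import Mathlib.Tactic

/-!
2-rank two: the Sylow 2-subgroup of PSU(3,4) is never an essential subgroup.
-/

set_option autoImplicit false
set_option linter.unusedSectionVars false
set_option linter.style.haveILetI false

namespace CfsgLib.Fusion.RankTwo

open Cfsg Subgroup CfsgLib.Fusion CfsgLib.Invol
open Cfsg.FusionSystem hiding inv_mem
open scoped commutatorElement

universe u

variable {Ω : Type u} [Group Ω] {S : Subgroup Ω} [Finite S] {F : FusionSystem S}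
variable (hS : IsPGroup 2 S) (hF : F.IsSaturated 2)
include hS hF

/-- A nonabelian essential subgroup with a Higman automorphism is impossible. -/
theorem nonabelian_case (hr : RankLE S) {P : Subgroup Ω} (hP : F.IsEssential 2 P) (H : HigData P)
    (hψ : H.ψ ∈ F.autGroup P) (hna : ¬ IsMulCommutative P)
    (hzS : ∀ a ∈ S, a * (H.z : Ω) = (H.z : Ω) * a) : False := by
  classical
  haveI : Fact (Nat.Prime 2) := ⟨Nat.prime_two⟩
  have hPS := hP.1.1
  haveI := finite_of_le hPS
  have hlt := lt_of_essential hS hF hP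
  haveI : Finite (F.autGroup P) := inferInstance
  let J : Subgroup (F.autGroup P) :=
    { carrier := {a | ∀ x : P, x⁻¹ * (a : MulAut P) x ∈ H.V}
      one_mem' := fun x => by simp
      mul_mem' := fun {a b} ha hb x => by
        show x⁻¹ * (a : MulAut P) ((b : MulAut P) x) ∈ H.V
        have h1 := mul_mem (hb x) (ha ((b : MulAut P) x))
        rwa [mul_assoc, mul_inv_cancel_left] at h1
      inv_mem' := fun {a} ha x => by
        show x⁻¹ * (a : MulAut P).symm x ∈ H.V
        have h1 := inv_mem (ha ((a : MulAut P).symm x))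
        rwa [MulEquiv.apply_symm_apply, mul_inv_rev, inv_inv] at h1 }
  haveI hJn : J.Normal := ⟨fun n hn g x => by
    show x⁻¹ * (g : MulAut P) ((n : MulAut P) ((g : MulAut P).symm x)) ∈ H.V
    have h1 : ((g : MulAut P).symm x)⁻¹ * (n : MulAut P) ((g : MulAut P).symm x) *
        (((g : MulAut P).symm x)⁻¹ * (n : MulAut P) ((g : MulAut P).symm x)) = 1 := hn _
    show _ * _ = 1
    have h2 := congrArg (g : MulAut P) h1
    simpa only [map_mul, map_inv, map_one, MulEquiv.apply_symm_apply] using h2⟩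
  have hJ2 : IsPGroup 2 J := fun a => by
    refine ⟨1, Subtype.ext (Subtype.ext (MulEquiv.ext fun x => ?_))⟩
    rw [pow_one, pow_two]
    show ((a : F.autGroup P) : MulAut P) (((a : F.autGroup P) : MulAut P) x) = x
    obtain ⟨d, hd, hax⟩ : ∃ d ∈ H.V, ((a : F.autGroup P) : MulAut P) x = x * d :=
      ⟨_, a.2 x, (mul_inv_cancel_left _ _).symm⟩
    rw [hax, map_mul, hax, RankTwo.fix_of_trivial H hna a.2 hd, mul_assoc,
      show d * d = 1 from hd, mul_one]
  have hJinn : ∀ a ∈ J, (a : MulAut P) ∈ Cfsg.Inn P :=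
    (CfsgLib.Invol.EssentialSmall.exists_pElement hS hF hP).1 J hJn hJ2
  have hinnJ : ∀ a : F.autGroup P, (a : MulAut P) ∈ Cfsg.Inn P → a ∈ J := by
    rintro a ⟨g, hg⟩ x
    rw [← hg, MulAut.conj_apply, show x⁻¹ * (g * x * g⁻¹) = ⁅x⁻¹, g⁆ by
      simp only [commutatorElement_def, inv_inv]; group]
    exact RankTwo.comm_mem H hna _ _
  let K : Subgroup (F.autGroup P) :=
    { carrier := {a | ∀ v : P, v * v = 1 → (a : MulAut P) v = v}
      one_mem' := fun _ _ => rfl
      mul_mem' := fun {a b} ha hb v hv => by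
        show (a : MulAut P) ((b : MulAut P) v) = v
        rw [hb v hv, ha v hv]
      inv_mem' := fun {a} ha v hv => by
        show (a : MulAut P).symm v = v
        rw [MulEquiv.symm_apply_eq, ha v hv] }
  haveI hKn : K.Normal := ⟨fun n hn g v hv => by
    show (g : MulAut P) ((n : MulAut P) ((g : MulAut P).symm v)) = v
    rw [hn _ (by rw [← map_mul, hv, map_one]), MulEquiv.apply_symm_apply]⟩
  obtain ⟨T, hT⟩ := (fullyAutomized_of_fullyNormalized hS hF hP.2.1).2
  set Ti : Subgroup (F.autGroup P) := (Cfsg.Inn P).subgroupOf (F.autGroup P) with hTi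
  haveI hTin : Ti.Normal := ⟨fun n hn g => by
    rw [hTi, Subgroup.mem_subgroupOf] at hn ⊢
    exact (Cfsg.innNormal P).conj_mem _ hn _⟩
  set TK := (T : Subgroup (F.autGroup P)) ⊓ K with hTK
  have hTiTK : Ti ≤ TK := fun a ha => ⟨by rw [hT]; exact inn_le_autInducedBy hPS ha,
    fun v hv => RankTwo.fix_of_trivial H hna (hinnJ a ha) hv⟩
  have hTz : ∀ a ∈ (T : Subgroup (F.autGroup P)), (a : MulAut P) H.z = H.z := by
    intro a ha
    rw [hT] at ha
    obtain ⟨g, hg, hgx⟩ := mem_autInducedBy_iff.1 ha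
    refine Subtype.ext ((hgx _).trans ?_)
    rw [hzS g hg, mul_inv_cancel_right]
  set t := H.ψ H.z with ht
  have ht2 : t * t = 1 := H.psi_sq H.z_sq
  have hTperm : ∀ a ∈ (T : Subgroup (F.autGroup P)), a ∉ K → (a : MulAut P) t = H.z * t := by
    intro a ha haK
    rcases RankTwo.eq_or_mul H H.z_sq ht2 H.z_ne (H.psi_ne_one H.z_ne) H.psi_z_ne
      (r := (a : MulAut P) t) (by rw [← map_mul, ht2, map_one]) with e | e | e | e
    · exact absurd ((a : MulAut P).injective (e.trans (map_one _).symm)) (H.psi_ne_one H.z_ne)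
    · exact absurd ((a : MulAut P).injective (e.trans (hTz a ha).symm)) H.psi_z_ne
    · exact absurd (RankTwo.fix_all H (hTz a ha) e) haK
    · exact e
  -- an element of the kernel outside the inner automorphisms
  have hbig : ¬ TK ≤ Ti := by
    intro hle
    obtain ⟨u, hu, huP⟩ := SetLike.exists_of_lt (lt_normalizerIn hS hlt)
    set a : F.autGroup P := ⟨P.normalizerMonoidHom ⟨u, hu.2⟩,
      autInducedBy_le_autGroup hPS (mem_autInducedBy_iff.2 ⟨u, hu.1, fun _ => rfl⟩)⟩ with ha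
    have haT : a ∈ (T : Subgroup (F.autGroup P)) := by
      rw [hT]
      exact mem_autInducedBy_iff.2 ⟨u, hu.1, fun _ => rfl⟩
    have haK : a ∉ K := fun h => huP (mem_of_normalizerMonoidHom_mem_inn hP.1 hu (hle ⟨haT, h⟩))
    have ha2K : a * a ∈ K := by
      refine RankTwo.fix_all H (hTz _ (mul_mem haT haT)) ?_
      show (a : MulAut P) ((a : MulAut P) t) = t
      rw [hTperm a haT haK, map_mul, hTz a haT, hTperm a haT haK, ← mul_assoc, H.z_sq, one_mul]
    refine RankTwo.no_swap H hna (τ := (a : MulAut P))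
      (fun x => hinnJ (a * a) (hle ⟨mul_mem haT haT, ha2K⟩) x) ⟨t, ht2, ?_⟩
    rw [hTperm a haT haK]
    exact fun h => H.z_ne (mul_eq_right.1 h)
  -- a central involution of the image
  set π := QuotientGroup.mk' Ti with hπ
  set Q := TK.map π with hQ
  have hQ2 : IsPGroup 2 Q := (T.isPGroup'.to_le inf_le_left).map π
  haveI : Nontrivial Q := by
    rw [Subgroup.nontrivial_iff_ne_bot, hQ, Ne, Subgroup.map_eq_bot_iff, QuotientGroup.ker_mk']
    exact hbig
  haveI := hQ2.center_nontrivial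
  obtain ⟨q, hq⟩ := exists_prime_orderOf_dvd_card' 2
    ((hQ2.to_subgroup (Subgroup.center Q)).card_eq_or_dvd.resolve_left Finite.one_lt_card.ne')
  obtain ⟨τ, hτTK, hτq⟩ := (q : Q).2
  have hτ2 : τ * τ ∈ Ti := by
    rw [← QuotientGroup.eq_one_iff, QuotientGroup.mk_mul]
    show π τ * π τ = 1
    rw [hτq, ← pow_two, ← Subgroup.coe_pow, ← Subgroup.coe_pow, ← hq, pow_orderOf_eq_one]
    rfl
  have hτn : τ ∉ Ti := by
    intro h
    have h1 : (q : Q) = 1 := Subtype.ext (hτq.symm.trans ((QuotientGroup.eq_one_iff _).2 h))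
    rw [show q = 1 from Subtype.ext h1, orderOf_one] at hq
    omega
  have hmod : ∀ a : F.autGroup P, a ∉ Ti → ∃ x, x⁻¹ * (a : MulAut P) x ∉ H.V := by
    intro a ha
    by_contra hc
    push Not at hc
    exact ha (hJinn a hc)
  have hagree : ∀ a ∈ TK, a * a ∈ Ti → a ∉ Ti → τ⁻¹ * a ∈ Ti := by
    intro a ha ha2 han
    have hcq : π τ * π a = π a * π τ := by
      rw [hτq]
      exact congrArg Subtype.val (Subgroup.mem_center_iff.1 q.2 ⟨π a, a, ha, rfl⟩).symm
    have hcTi : (τ * a)⁻¹ * (a * τ) ∈ Ti := QuotientGroup.eq.1 hcq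
    show ((τ⁻¹ * a : F.autGroup P) : MulAut P) ∈ Cfsg.Inn P
    refine hJinn _ fun x => ?_
    have h1 := RankTwo.agree H hna (σ := (τ : MulAut P)) (τ := (a : MulAut P))
      (fun x => hinnJ (τ * τ) hτ2 x) (fun x => hinnJ (a * a) ha2 x) hτTK.2 ha.2 (hmod τ hτn) (hmod a han)
      (fun x => ?_) x
    · show x⁻¹ * (τ : MulAut P).symm ((a : MulAut P) x) ∈ H.V
      have hd : ((τ : MulAut P) x)⁻¹ * (a : MulAut P) x *
          (((τ : MulAut P) x)⁻¹ * (a : MulAut P) x) = 1 := h1
      show _ * _ = 1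
      have h2 := congrArg (τ : MulAut P).symm hd
      simpa only [map_mul, map_inv, map_one, MulEquiv.symm_apply_apply] using h2
    · have h3 : (τ * a)⁻¹ * (a * τ) ∈ J := hinnJ _ hcTi
      have h4 : x⁻¹ * ((τ * a : F.autGroup P) : MulAut P).symm (((a * τ : F.autGroup P) : MulAut P) x) ∈ H.V :=
        h3 x
      have h5 : x⁻¹ * ((τ * a : F.autGroup P) : MulAut P).symm (((a * τ : F.autGroup P) : MulAut P) x) *
          (x⁻¹ * ((τ * a : F.autGroup P) : MulAut P).symm (((a * τ : F.autGroup P) : MulAut P) x)) = 1 := h4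
      show _ * _ = 1
      have h6 := congrArg ((τ * a : F.autGroup P) : MulAut P) h5
      simpa only [map_mul, map_inv, map_one, MulEquiv.apply_symm_apply, Subgroup.coe_mul,
        MulAut.mul_apply] using h6
  -- a 3-element normalizing the kernel part of the Sylow subgroup
  have hTKp : IsPGroup 2 (TK.subgroupOf K) :=
    (T.isPGroup'.to_le inf_le_left).comap_of_injective _ K.subtype_injective
  obtain ⟨R, hR⟩ := hTKp.exists_le_sylow
  have hRmap : (R : Subgroup K).map K.subtype = TK := by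
    have h1 : TK ≤ (R : Subgroup K).map K.subtype := fun a ha => ⟨⟨a, ha.2⟩, hR ha, rfl⟩
    refine (Subgroup.eq_of_le_of_card_ge h1 ?_).symm
    obtain ⟨T', hT'⟩ := (R.isPGroup'.map K.subtype).exists_le_sylow
    obtain ⟨g, hg⟩ := MulAction.exists_smul_eq (F.autGroup P) T' T
    refine le_trans (le_of_eq (Subgroup.card_map_of_injective (K := (R : Subgroup K).map K.subtype)
      (f := (MulAut.conj g).toMonoidHom) (MulAut.conj g).injective).symm) (Subgroup.card_le_of_le ?_)
    rintro _ ⟨_, ⟨r, hr', rfl⟩, rfl⟩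
    refine ⟨?_, hKn.conj_mem _ r.2 g⟩
    rw [← hg, Sylow.coe_subgroup_smul]
    exact ⟨_, hT' ⟨r, hr', rfl⟩, rfl⟩
  have hfr := Sylow.normalizer_sup_eq_top R
  rw [hRmap] at hfr
  have hmem : (⟨H.ψ, hψ⟩ : F.autGroup P) ∈ Subgroup.normalizer (TK : Set (F.autGroup P)) ⊔ K := by
    rw [hfr]; exact Subgroup.mem_top _
  obtain ⟨nn, hnn, k, hk, hnk⟩ := Subgroup.mem_sup_of_normal_right.1 hmem
  have hnnv : ∀ v : P, v * v = 1 → (nn : MulAut P) v = H.ψ v := by
    intro v hv
    have h := congrArg (fun a : F.autGroup P => (a : MulAut P) v) hnk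
    simp only [Subgroup.coe_mul] at h
    rw [← h]
    show (nn : MulAut P) v = (nn : MulAut P) ((k : MulAut P) v)
    rw [hk v hv]
  obtain ⟨a3, m, hm3, hN⟩ :=
    Nat.exists_eq_pow_mul_and_not_dvd (orderOf_pos nn).ne' 3 (by norm_num)
  set g := nn ^ m with hgdef
  have hg3 : g ^ 3 ^ a3 = 1 := by rw [hgdef, ← pow_mul, mul_comm, ← hN, pow_orderOf_eq_one]
  have hgN : g ∈ Subgroup.normalizer (TK : Set (F.autGroup P)) := Subgroup.pow_mem _ hnn m
  have hpowv : ∀ i : ℕ, ((nn ^ i : F.autGroup P) : MulAut P) H.z = (H.ψ ^ i) H.z := by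
    intro i
    induction i with
    | zero => rfl
    | succ i ih =>
      rw [pow_succ' nn, pow_succ' H.ψ]
      show (nn : MulAut P) (((nn ^ i : F.autGroup P) : MulAut P) H.z) = H.ψ ((H.ψ ^ i) H.z)
      rw [ih, hnnv _ (by rw [← map_mul, H.z_sq, map_one])]
  have hgz : (g : MulAut P) H.z ≠ H.z := by
    rw [hgdef, hpowv]
    intro h
    have h3 : ∀ j : ℕ, (H.ψ ^ (3 * j)) H.z = H.z := by
      intro j
      induction j with
      | zero => simp
      | succ j ih =>
        rw [Nat.mul_succ, pow_add]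
        show (H.ψ ^ (3 * j)) (H.ψ (H.ψ (H.ψ H.z))) = H.z
        rw [H.psi_three, ih]
    rw [← Nat.div_add_mod m 3, pow_add] at h
    rcases (show m % 3 = 1 ∨ m % 3 = 2 by omega) with e | e <;> rw [e] at h
    · have h' := (H.ψ ^ (3 * (m / 3))).injective
        (show (H.ψ ^ (3 * (m / 3))) (H.ψ H.z) = (H.ψ ^ (3 * (m / 3))) H.z by
          rw [h3]; simpa using h)
      exact H.psi_z_ne h'
    · have h' := (H.ψ ^ (3 * (m / 3))).injective
        (show (H.ψ ^ (3 * (m / 3))) (H.ψ (H.ψ H.z)) = (H.ψ ^ (3 * (m / 3))) H.z by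
          rw [h3]; exact h)
      exact H.psi_psi_z_ne h'
  -- the element `u` and its extension
  obtain ⟨u, huS, hux⟩ := mem_autInducedBy_iff.1 (show (τ : MulAut P) ∈ autInducedBy S P by
    have := hτTK.1; rwa [hT] at this)
  have huN : u ∈ normalizerIn S P := ⟨huS, mem_normalizer_of_aut hux⟩
  have huP : u ∉ P := fun h => hτn ⟨⟨u, h⟩, MulEquiv.ext fun x => Subtype.ext (hux x).symm⟩
  have huu : u * u ∈ P := mem_of_normalizerMonoidHom_mem_inn hP.1 (mul_mem huN huN) (by
    have h1 : P.normalizerMonoidHom ⟨u * u, (mul_mem huN huN).2⟩ =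
        ((τ * τ : F.autGroup P) : MulAut P) := by
      refine MulEquiv.ext fun x => Subtype.ext ?_
      show u * u * (x : Ω) * (u * u)⁻¹ = ((τ : MulAut P) ((τ : MulAut P) x) : Ω)
      rw [hux, hux]; group
    rw [h1]; exact hτ2)
  have hconjTK : g * τ * g⁻¹ ∈ TK := (Subgroup.mem_normalizer_iff.1 hgN τ).1 hτTK
  have hconjn : g * τ * g⁻¹ ∉ Ti := fun h => hτn (by
    have := hTin.conj_mem _ h g⁻¹
    simpa [mul_assoc] using this)
  obtain ⟨b₀, hb₀⟩ := hagree _ hconjTK (by
    have := hTin.conj_mem _ hτ2 g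
    convert this using 1; group) hconjn
  have hub : ∀ x : P, (((g : MulAut P) (P.normalizerMonoidHom ⟨u, huN.2⟩ x) : P) : Ω) =
      u * b₀ * ((g : MulAut P) x : P) * (u * b₀)⁻¹ := by
    intro x
    have hce : P.normalizerMonoidHom ⟨u, huN.2⟩ x = (τ : MulAut P) x := Subtype.ext (hux x).symm
    have h1 : MulAut.conj b₀ ((g : MulAut P) x) =
        (τ : MulAut P).symm ((g : MulAut P) ((τ : MulAut P) x)) := by
      have h2 := congrArg (fun α : MulAut P => α ((g : MulAut P) x)) hb₀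
      refine h2.trans ?_
      show (τ : MulAut P).symm ((g : MulAut P) ((τ : MulAut P) ((g : MulAut P).symm
        ((g : MulAut P) x)))) = _
      rw [MulEquiv.symm_apply_apply]
    have h3 : (g : MulAut P) ((τ : MulAut P) x) = (τ : MulAut P) (MulAut.conj b₀ ((g : MulAut P) x)) := by
      rw [h1, MulEquiv.apply_symm_apply]
    rw [hce, h3, hux, MulAut.conj_apply]
    simp only [Subgroup.coe_mul, Subgroup.coe_inv]
    group
  have hFC := fullyCentralized_of_fullyNormalized hS hF hP.2.1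
  have hgm := isMap_of_autGroup hPS g.2
  set W := P ⊔ Subgroup.zpowers u with hW
  let E := extender S P hgm.toHom
  have huE : u ∈ E := (mem_extender_iff hgm hgm.toHom_apply).2
    ⟨huS, huN.2, u * b₀, mul_mem huS (hPS b₀.2), fun x hx => by
      rw [toFun_aut_apply _ hx, toFun_aut_apply _ ((huN.2 x).1 hx)]
      exact hub ⟨x, hx⟩⟩
  have hPE : W ≤ E := sup_le (fun a ha =>
    sup_centralizerIn_le_extender hgm hgm.toHom_apply (Subgroup.mem_sup_left ha))
    (Subgroup.zpowers_le.2 huE)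
  obtain ⟨f, hf, hfx⟩ := receptive_extend (receptive_of_fullyCentralized hS hF hFC) hgm
    (img_toFun_aut _) (le_sup_left : P ≤ W) fun a ha =>
      (mem_extender_iff hgm hgm.toHom_apply).1 (hPE ha)
  have hfg : ∀ x : P, f x = (((g : MulAut P) x : P) : Ω) := fun x => by
    rw [hfx x x.2, toFun_aut_apply _ x.2]
  have hPW : P ≤ W := le_sup_left
  have huW : u ∈ W := Subgroup.mem_sup_right (Subgroup.mem_zpowers u)
  have hfu : f u ∈ W := by
    have hC : (u * b₀)⁻¹ * f u ∈ centralizerIn S P := by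
      refine Subgroup.mem_inf.2
        ⟨mul_mem (inv_mem (mul_mem huS (hPS b₀.2))) (hf.mem huW), fun y hy => ?_⟩
      obtain ⟨x, hx⟩ := (g : MulAut P).surjective ⟨y, hy⟩
      have h1 : f (u * x * u⁻¹) = f u * y * (f u)⁻¹ := by
        rw [hf.map_conj huW (hPW x.2), hfg, hx]
      have h2 : f (u * x * u⁻¹) = u * b₀ * y * (u * b₀)⁻¹ := by
        have h := hub x
        rw [hx] at h
        rw [← h, ← hfg]
        rfl
      have h3 := h1.symm.trans h2
      calc y * ((u * b₀)⁻¹ * f u) = (u * b₀)⁻¹ * (u * b₀ * y * (u * b₀)⁻¹) * f u := by group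
        _ = (u * b₀)⁻¹ * f u * y := by rw [← h3]; group
    have h4 := hPW (hP.1.2 P (isConj_refl hPS) hC)
    have := mul_mem (mul_mem huW (hPW b₀.2)) h4
    rwa [mul_inv_cancel_left] at this
  have hfimg : img W f = W := by
    haveI := finite_of_le hf.le
    refine eq_of_le_of_card_le ?_ hf.card_img.ge
    refine hf.img_sup_le hPW (Subgroup.zpowers_le.2 huW) ?_ ?_
    · intro y hy
      obtain ⟨x, hx, rfl⟩ := (hf.mono hPW).mem_img.1 hy
      rw [hfg ⟨x, hx⟩]
      exact hPW ((g : MulAut P) ⟨x, hx⟩).2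
    · intro y hy
      obtain ⟨x, hx, rfl⟩ := (hf.mono (Subgroup.zpowers_le.2 huW)).mem_img.1 hy
      obtain ⟨k, rfl⟩ := Subgroup.mem_zpowers_iff.1 hx
      have h1 : f (u ^ k) = f u ^ k := map_zpow hf.toHom ⟨u, huW⟩ k
      rw [h1]; exact zpow_mem hfu k
  haveI := finite_of_le hf.le
  set γ := hf.toAut hfimg with hγ
  have hγP : ∀ x : P, γ ⟨x, hPW x.2⟩ = ⟨_, hPW ((g : MulAut P) x).2⟩ := fun x =>
    Subtype.ext ((hf.toAut_apply hfimg _).trans (hfg x))
  obtain ⟨b3, m', hm', hγN⟩ :=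
    Nat.exists_eq_pow_mul_and_not_dvd (orderOf_pos γ).ne' 3 (by norm_num)
  set δ := γ ^ m' with hδ
  have hiterP : ∀ (i : ℕ) (x : P), (γ ^ i) ⟨x, hPW x.2⟩ =
      ⟨_, hPW (((g ^ i : F.autGroup P) : MulAut P) x).2⟩ := by
    intro i
    induction i with
    | zero => exact fun x => rfl
    | succ i ih =>
      intro x
      rw [pow_succ γ]
      show (γ ^ i) (γ ⟨x, hPW x.2⟩) = _
      rw [hγP, ih]
      refine Subtype.ext ?_
      rw [pow_succ g]
      rfl
  have hgm' : (((g ^ m' : F.autGroup P) : MulAut P)) H.z ≠ H.z := by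
    intro h
    obtain ⟨r, hr'⟩ := exists_pow_eq_self_of_coprime (n := m') (x := g)
      ((Nat.Coprime.pow_right a3 ((Nat.Prime.coprime_iff_not_dvd Nat.prime_three).2 hm').symm).coprime_dvd_right
        (orderOf_dvd_of_pow_eq_one hg3))
    refine hgz ?_
    rw [← hr']
    clear hr'
    induction r with
    | zero => rfl
    | succ r ih =>
      rw [pow_succ (g ^ m')]
      show (((g ^ m') ^ r : F.autGroup P) : MulAut P) (((g ^ m' : F.autGroup P) : MulAut P) H.z) = _
      rw [h, ih]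
  have hfpf : ∀ x : P, ((g ^ m' : F.autGroup P) : MulAut P) x = x → x = 1 := fun x hx =>
    RankTwo.fpf_of_odd H (by
      rw [Subgroup.orderOf_coe]
      have h1 : orderOf (g ^ m') ∣ 3 ^ a3 :=
        orderOf_dvd_of_pow_eq_one (by rw [← pow_mul, mul_comm, pow_mul, hg3, one_pow])
      obtain ⟨i, -, hi⟩ := (Nat.dvd_prime_pow Nat.prime_three).1 h1
      rw [hi]; exact Odd.pow (by decide)) ⟨H.z, H.z_sq, hgm'⟩ hx
  -- a fixed point outside
  have hnormu : ∀ p ∈ P, u * p * u⁻¹ ∈ P := fun p hp => (Subgroup.mem_normalizer_iff.1 huN.2 p).1 hp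
  have hcoset : ∀ r ∈ W, r ∉ P → u⁻¹ * r ∈ P := fun r hr' hrP =>
    (mem_sup_zpowers P huu hnormu hr').resolve_left hrP
  let C : Type _ := {r : W // (r : Ω) ∉ P}
  have hCinv : ∀ r : W, (r : Ω) ∉ P → ((δ r : W) : Ω) ∉ P := by
    intro r hrP hc
    obtain ⟨x, hx⟩ := ((g ^ m' : F.autGroup P) : MulAut P).surjective ⟨_, hc⟩
    have h1 : δ ⟨x, hPW x.2⟩ = δ r := by
      rw [hδ, hiterP]
      exact Subtype.ext (congrArg Subtype.val hx :)
    exact hrP (δ.injective h1 ▸ x.2)
  have hCinv' : ∀ r : W, (r : Ω) ∉ P ↔ ((δ r : W) : Ω) ∉ P := by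
    refine fun r => ⟨hCinv r, fun hr' hc => hr' ?_⟩
    rw [hδ, show (γ ^ m') r = _ from hiterP m' ⟨r, hc⟩]
    exact SetLike.coe_mem _
  let σ : Equiv.Perm C := δ.toEquiv.subtypeEquiv hCinv'
  haveI := Fintype.ofFinite C
  have hcardC : Fintype.card C = Nat.card P := by
    rw [← Nat.card_eq_fintype_card]
    refine Nat.card_congr ⟨fun r => ⟨_, hcoset _ r.1.2 r.2⟩,
      fun p => ⟨⟨u * p, mul_mem huW (hPW p.2)⟩, fun h => huP (by
        have := mul_mem h (inv_mem p.2)
        rwa [mul_inv_cancel_right] at this)⟩,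
      fun r => Subtype.ext (Subtype.ext (mul_inv_cancel_left _ _)),
      fun p => Subtype.ext (inv_mul_cancel_left _ _)⟩
  haveI : Fact (Nat.Prime 3) := ⟨Nat.prime_three⟩
  have hσpow : σ ^ 3 ^ b3 = 1 := by
    refine Equiv.ext fun r => ?_
    have hiter : ∀ i : ℕ, ((σ ^ i) r).1 = (δ ^ i) r.1 := by
      intro i
      induction i with
      | zero => rfl
      | succ i ih =>
        rw [pow_succ' σ, pow_succ' δ]
        show δ ((σ ^ i) r).1 = δ ((δ ^ i) r.1)
        rw [ih]
    refine Subtype.ext ?_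
    rw [hiter, hδ, ← pow_mul, mul_comm, ← hγN, pow_orderOf_eq_one]
    rfl
  obtain ⟨⟨⟨v, hvW⟩, hvP⟩, hv⟩ := Equiv.Perm.exists_fixed_point_of_prime
    (p := 3) (by rw [hcardC, (H.card_eq_of_nonabelian hna).1]; norm_num) hσpow
  have hδv : δ ⟨v, hvW⟩ = ⟨v, hvW⟩ := congrArg Subtype.val hv
  have hvS : v ∈ S := hf.le hvW
  obtain ⟨p, hp, rfl⟩ : ∃ p ∈ P, v = u * p :=
    ⟨_, hcoset v hvW hvP, (mul_inv_cancel_left _ _).symm⟩
  have hvv : u * p * (u * p) ∈ P := by
    have h := mul_mem (mul_mem (hnormu p hp) huu) hp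
    convert h using 1; group
  have hv2 : u * p * (u * p) = 1 := by
    have h1 : ((g ^ m' : F.autGroup P) : MulAut P) ⟨_, hvv⟩ = ⟨_, hvv⟩ := by
      have h2 := hiterP m' ⟨_, hvv⟩
      have h3 : (γ ^ m') (⟨u * p, hvW⟩ * ⟨u * p, hvW⟩) = ⟨u * p, hvW⟩ * ⟨u * p, hvW⟩ := by
        rw [map_mul, ← hδ, hδv]
      have h4 : (⟨u * p, hvW⟩ * ⟨u * p, hvW⟩ : W) = ⟨u * p * (u * p), hPW hvv⟩ := rfl
      rw [h4] at h3
      rw [h3] at h2
      exact Subtype.ext (congrArg Subtype.val h2).symm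
    exact congrArg Subtype.val (hfpf _ h1)
  have hcomm : ∀ s : P, s * s = 1 → Commute (u * p) (s : Ω) := by
    intro s hs
    have h1 : u * (s : Ω) * u⁻¹ = s := by
      rw [← hux s]
      exact congrArg Subtype.val (hτTK.2 s hs)
    have h2 : p * (s : Ω) = s * p := congrArg Subtype.val (H.central s hs ⟨p, hp⟩).eq.symm
    show u * p * s = s * (u * p)
    calc u * p * (s : Ω) = u * (s : Ω) * u⁻¹ * (u * p) := by rw [mul_assoc u p, h2]; group
      _ = s * (u * p) := by rw [h1]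
  have hzc := hcomm _ H.z_sq
  have htc := hcomm _ ht2
  rcases mem_four (T := ↥S) (RankLE.sub hr le_rfl) (x := ⟨_, hPS H.z.2⟩) (y := ⟨_, hPS t.2⟩)
    (w := ⟨u * p, hvS⟩)
    (Subtype.ext (congrArg Subtype.val H.z_sq :)) (Subtype.ext (congrArg Subtype.val ht2 :))
    (Subtype.ext hv2) (Subtype.ext (congrArg Subtype.val (H.central _ H.z_sq t).eq :))
    (Subtype.ext hzc.symm.eq) (Subtype.ext htc.symm.eq)
    (fun h => H.z_ne (Subtype.ext (congrArg Subtype.val h :)))
    (fun h => H.psi_ne_one H.z_ne (Subtype.ext (congrArg Subtype.val h :)))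
    (fun h => H.psi_z_ne (Subtype.ext (congrArg Subtype.val h.symm :))) with h | h | h | h
  · exact hvP ((congrArg Subtype.val h).symm ▸ P.one_mem)
  · exact hvP ((congrArg Subtype.val h).symm ▸ H.z.2)
  · exact hvP ((congrArg Subtype.val h).symm ▸ t.2)
  · exact hvP ((congrArg Subtype.val h).symm ▸ mul_mem H.z.2 t.2)

end CfsgLib.Fusion.RankTwo
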