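import Cfsg.Agent.Lib.Fusion.RankTwoAbelian
import Cfsg.Agent.Lib.Fusion.RankTwoNonabelian
import Mathlib.Tactic

/-!
Saturated fusion systems with trivial centre on 2-groups of rank two: the group is dihedral,
semidihedral, wreathed, or has three involutions permuted transitively by an automorphism.
-/

set_option autoImplicit false
set_option linter.unusedSectionVars false
set_option linter.style.haveILetI false

namespace CfsgLib.Fusion.RankTwo

open Cfsg Subgroup CfsgLib.Fusion CfsgLib.Invol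
open Cfsg.FusionSystem hiding inv_mem
open scoped commutatorElement

universe u

variable {Ω : Type u} [Group Ω] {S : Subgroup Ω} [Finite S] {F : FusionSystem S}
variable (hS : IsPGroup 2 S) (hF : F.IsSaturated 2)
include hS hF

/-- The possible groups. -/
theorem shape (hr : RankLE S) (hne : S ≠ ⊥) (hZ : F.center = ⊥) :
    ((∃ m : ℕ, 4 ≤ m ∧ Nonempty (↥S ≃* DihedralGroup m)) ∨ Cfsg.IsQuasiDihedral ↥S ∨
      Cfsg.IsWreathed ↥S) ∨ Nonempty (HigData S) := by
  classical
  haveI : Fact (Nat.Prime 2) := ⟨Nat.prime_two⟩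
  haveI : Nontrivial S := S.nontrivial_iff_ne_bot.2 hne
  haveI := hS.center_nontrivial
  obtain ⟨c, hc⟩ := exists_prime_orderOf_dvd_card' 2
    ((hS.to_subgroup (Subgroup.center S)).card_eq_or_dvd.resolve_left Finite.one_lt_card.ne')
  set z : Ω := ((c : S) : Ω) with hz
  have hc2 : (c : S) * c = 1 := by
    rw [← pow_two, ← Subgroup.coe_pow, ← hc, pow_orderOf_eq_one, Subgroup.coe_one]
  have hz2 : z * z = 1 := congrArg Subtype.val hc2
  have hz1 : z ≠ 1 := fun h => by
    rw [show c = 1 from Subtype.ext (Subtype.ext h), orderOf_one] at hc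
    omega
  have hzc : ∀ a ∈ S, a * z = z * a := fun a ha =>
    congrArg Subtype.val (Subgroup.mem_center_iff.1 c.2 ⟨a, ha⟩)
  obtain ⟨P, hzP, hP, β, hβA, hβ, hmove⟩ :=
    exists_odd_moving hS hF hZ (c : S).2 hzc hz2 hz1
  have hPS : P ≤ S := hP.elim (fun e => e.le) fun e => e.1.1
  haveI := finite_of_le hPS
  obtain ⟨H, hHz, m, hHψ⟩ := exists_higData (hS.to_le hPS) (RankLE.sub hr hPS) (z := ⟨z, hzP⟩)
    (fun g => Subtype.ext (hzc g (hPS g.2)).symm) (Subtype.ext hz2)
    (fun h => hz1 (congrArg Subtype.val h)) hβ hmove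
  rcases hP with rfl | hP
  · exact Or.inr ⟨H⟩
  · left
    have hψ : H.ψ ∈ F.autGroup P := hHψ ▸ Subgroup.pow_mem _ hβA m
    have hzS : ∀ a ∈ S, a * (H.z : Ω) = (H.z : Ω) * a := by rw [hHz]; exact hzc
    by_cases hab : IsMulCommutative P
    · exact abelian_case hS hF hr hP H hψ (fun a b => hab.is_comm.comm a b) hzS
    · exact (nonabelian_case hS hF hr hP H hψ hab hzS).elim

/-- A group with a Higman automorphism carries no essential subgroup. -/
theorem no_essential (H : HigData S) : ∀ P, ¬ F.IsEssential 2 P := by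
  classical
  haveI : Fact (Nat.Prime 2) := ⟨Nat.prime_two⟩
  intro P hP
  have hPS := hP.1.1
  haveI := finite_of_le hPS
  have hlt := lt_of_essential hS hF hP
  by_cases hab : IsMulCommutative S
  · refine hlt.ne (le_antisymm hPS fun a ha => hP.1.2 P (isConj_refl hPS) ⟨ha, fun y hy => ?_⟩)
    exact congrArg Subtype.val (hab.is_comm.comm ⟨y, hPS hy⟩ ⟨a, ha⟩)
  have hVP : ∀ v : S, v * v = 1 → (v : Ω) ∈ P := fun v hv =>
    hP.1.2 P (isConj_refl hPS) ⟨v.2, fun y hy =>
      congrArg Subtype.val (H.central v hv ⟨y, hPS hy⟩).eq.symm⟩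
  let J : Subgroup (F.autGroup P) :=
    { carrier := {a | ∀ x : P, (x⁻¹ * (a : MulAut P) x) * (x⁻¹ * (a : MulAut P) x) = 1 ∧
        (x * x = 1 → (a : MulAut P) x = x)}
      one_mem' := fun x => ⟨by simp, fun _ => rfl⟩
      mul_mem' := fun {a b} ha hb x => by
        refine ⟨?_, fun hx => ?_⟩
        · show (x⁻¹ * (a : MulAut P) ((b : MulAut P) x)) * (x⁻¹ * (a : MulAut P) ((b : MulAut P) x)) = 1
          have h1 : (Subgroup.inclusion hPS (x⁻¹ * (b : MulAut P) x)) ∈ H.V := by
            show _ * _ = 1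
            rw [← map_mul, (hb x).1, map_one]
          have h2 : (Subgroup.inclusion hPS (((b : MulAut P) x)⁻¹ * (a : MulAut P) ((b : MulAut P) x))) ∈
              H.V := by
            show _ * _ = 1
            rw [← map_mul, (ha _).1, map_one]
          have h3 := mul_mem h1 h2
          rw [← map_mul, mul_assoc, mul_inv_cancel_left] at h3
          exact Subgroup.inclusion_injective hPS (((map_mul _ _ _).trans h3).trans (map_one _).symm)
        · show (a : MulAut P) ((b : MulAut P) x) = x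
          rw [(hb x).2 hx, (ha x).2 hx]
      inv_mem' := fun {a} ha x => by
        refine ⟨?_, fun hx => ?_⟩
        · show (x⁻¹ * (a : MulAut P).symm x) * (x⁻¹ * (a : MulAut P).symm x) = 1
          have h1 := (ha ((a : MulAut P).symm x)).1
          rw [MulEquiv.apply_symm_apply] at h1
          rw [← inv_eq_one, mul_inv_rev]
          simpa only [mul_inv_rev, inv_inv] using h1
        · show (a : MulAut P).symm x = x
          rw [MulEquiv.symm_apply_eq, (ha x).2 hx] }
  haveI hJn : J.Normal := ⟨fun n hn g x => by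
    refine ⟨?_, fun hx => ?_⟩
    · show (x⁻¹ * (g : MulAut P) ((n : MulAut P) ((g : MulAut P).symm x))) *
        (x⁻¹ * (g : MulAut P) ((n : MulAut P) ((g : MulAut P).symm x))) = 1
      have h2 := congrArg (g : MulAut P) (hn ((g : MulAut P).symm x)).1
      simpa only [map_mul, map_inv, map_one, MulEquiv.apply_symm_apply] using h2
    · show (g : MulAut P) ((n : MulAut P) ((g : MulAut P).symm x)) = x
      rw [(hn _).2 (by rw [← map_mul, hx, map_one]), MulEquiv.apply_symm_apply]⟩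
  have hJ2 : IsPGroup 2 J := fun a => by
    refine ⟨1, Subtype.ext (Subtype.ext (MulEquiv.ext fun x => ?_))⟩
    rw [pow_one, pow_two]
    show ((a : F.autGroup P) : MulAut P) (((a : F.autGroup P) : MulAut P) x) = x
    obtain ⟨d, hd, hax⟩ : ∃ d : P, d * d = 1 ∧ ((a : F.autGroup P) : MulAut P) x = x * d :=
      ⟨_, (a.2 x).1, (mul_inv_cancel_left _ _).symm⟩
    rw [hax, map_mul, hax, (a.2 d).2 hd, mul_assoc, hd, mul_one]
  obtain ⟨u, hu, huP⟩ := SetLike.exists_of_lt hlt
  have hnorm : u ∈ Subgroup.normalizer (P : Set Ω) := by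
    refine Subgroup.mem_normalizer_fintype fun x hx => ?_
    have h1 := hVP ⁅(⟨u, hu⟩ : S), (⟨x, hPS hx⟩ : S)⁆ (RankTwo.comm_mem H hab _ _)
    have h2 := mul_mem h1 hx
    have e : ((⁅(⟨u, hu⟩ : S), (⟨x, hPS hx⟩ : S)⁆ : S) : Ω) * x = u * x * u⁻¹ := by
      show u * x * u⁻¹ * x⁻¹ * x = u * x * u⁻¹
      rw [inv_mul_cancel_right]
    rw [← e]; exact h2
  let a : F.autGroup P := ⟨P.normalizerMonoidHom ⟨u, hnorm⟩,
    autInducedBy_le_autGroup hPS (mem_autInducedBy_iff.2 ⟨u, hu, fun _ => rfl⟩)⟩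
  have haJ : a ∈ J := fun x => by
    constructor
    · have h1 : ⁅(⟨x, hPS x.2⟩ : S)⁻¹, (⟨u, hu⟩ : S)⁆ * ⁅(⟨x, hPS x.2⟩ : S)⁻¹, (⟨u, hu⟩ : S)⁆ = 1 :=
        RankTwo.comm_mem H hab _ _
      have e : Subgroup.inclusion hPS (x⁻¹ * (a : MulAut P) x) = ⁅(⟨x, hPS x.2⟩ : S)⁻¹, (⟨u, hu⟩ : S)⁆ := by
        refine Subtype.ext ?_
        show (x : Ω)⁻¹ * (u * x * u⁻¹) = (x : Ω)⁻¹ * u * (x : Ω)⁻¹⁻¹ * u⁻¹
        group
      rw [← e, ← map_mul] at h1
      exact Subgroup.inclusion_injective hPS (h1.trans (map_one _).symm)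
    · intro hx
      refine Subtype.ext ?_
      show u * x * u⁻¹ = x
      have h1 := congrArg Subtype.val
        (H.central ⟨x, hPS x.2⟩ (Subtype.ext (congrArg Subtype.val hx :)) ⟨u, hu⟩).eq
      have h2 : (x : Ω) * u = u * x := h1
      rw [← h2, mul_inv_cancel_right]
  exact huP (mem_of_normalizerMonoidHom_mem_inn hP.1 ⟨hu, hnorm⟩
    ((CfsgLib.Invol.EssentialSmall.exists_pElement hS hF hP).1 J hJn hJ2 a haJ))

end CfsgLib.Fusion.RankTwo
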