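import Cfsg.Agent.Lib.Fusion.PSolvableAut
import Cfsg.Agent.Lib.Fusion.PPrimeResidual

/-!
A constrained system with `p`-solvable automorphism groups has a proper hyperfocal subgroup after
passing to the residual of index prime to `p`; hence its alternating residual series terminates.
-/

set_option autoImplicit false
set_option linter.unusedVariables false
set_option linter.unusedSectionVars false
set_option linter.style.haveILetI false

namespace CfsgLib.Fusion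

open Cfsg Cfsg.FusionSystem Subgroup

universe u

variable {Ω : Type u} [Group Ω] {S Q : Subgroup Ω} {F E : FusionSystem S} {p : ℕ} [Fact p.Prime]
  [Finite S]

/-- Index prime to `p` is transitive in the form needed for minimality. -/
theorem hasPrimeToPIndex_trans {D : FusionSystem S} (hEF : E.HasPrimeToPIndexIn F p)
    (hDE : D.HasPrimeToPIndexIn E p) : D.HasPrimeToPIndexIn F p := by
  refine ⟨fun P φ h => hEF.1 P (hDE.1 P h), fun P hP => ?_⟩
  rw [Subgroup.map_le_iff_le_comap]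
  refine (Subgroup.closure_le _).2 ?_
  rintro ⟨α, hα⟩ ⟨k, hk⟩
  have h1 : α ∈ E.autGroup P := hEF.2 P hP ⟨⟨α, hα⟩, Subgroup.subset_closure ⟨k, hk⟩, rfl⟩
  refine hDE.2 P hP ⟨⟨α, h1⟩, Subgroup.subset_closure ⟨k, ?_⟩, rfl⟩
  rw [Subgroup.orderOf_mk] at hk ⊢
  exact hk

/-- The maps with an extension inducing on `Q` a product of `p`-elements. -/
def coreGenSys (hS : IsPGroup p S) (hF : F.IsSaturated p) (hQ : F.IsNormal Q) : FusionSystem S where
  Hom P := {φ | φ ∈ F.Hom P ∧ ∃ g, IsMap F (P ⊔ Q) g ∧ (∀ x : P, g x = φ x) ∧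
    ∃ γ ∈ (pGenAut F p Q).map (F.autGroup Q).subtype, ∀ q : Q, g q = ((γ q : Q) : Ω)}
  le_of_mem h := F.le_of_mem h.1
  injective_of_mem h := F.injective_of_mem h.1
  conj_mem {P a} hP ha := by
    have hn := StronglyClosed.le_normalizer (IsNormal.stronglyClosed hQ) ha
    refine ⟨F.conj_mem hP ha, _, isMap_conj F (sup_le hP hQ.1) ha, fun x => rfl,
      Q.normalizerMonoidHom ⟨a, hn⟩, ?_, fun q => rfl⟩
    have hmem : Q.normalizerMonoidHom ⟨a, hn⟩ ∈ autInducedBy S Q :=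
      mem_autInducedBy_iff.2 ⟨a, ha, fun q => rfl⟩
    obtain ⟨k, hk⟩ := IsPGroup.iff_orderOf.1 (isPGroup_autInducedBy hS Q) ⟨_, hmem⟩
    rw [Subgroup.orderOf_mk] at hk
    exact ⟨⟨_, autInducedBy_le_autGroup hQ.1 hmem⟩,
      Subgroup.subset_closure ⟨k, by rwa [Subgroup.orderOf_mk]⟩, rfl⟩
  comp_mem {P R φ ψ} hφ hψ h := by
    obtain ⟨hφ, g, hg, hgx, γ, hγ, hγq⟩ := hφ
    obtain ⟨hψ, k, hk, hkx, δ, hδ, hδq⟩ := hψ
    have hmem : ∀ x ∈ P ⊔ Q, g x ∈ R ⊔ Q := fun x hx => by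
      have hle : img (P ⊔ Q) g ≤ R ⊔ Q := by
        refine hg.img_sup_le le_sup_left le_sup_right (fun y hy => ?_) (fun y hy => ?_)
        · obtain ⟨x, hx, rfl⟩ := (hg.mono le_sup_left).mem_img.1 hy
          rw [hgx ⟨x, hx⟩]
          exact mem_sup_left (h _)
        · obtain ⟨x, hx, rfl⟩ := (hg.mono le_sup_right).mem_img.1 hy
          rw [hγq ⟨x, hx⟩]
          exact mem_sup_right (γ _).2
      exact hle (hg.apply_mem_img hx)
    refine ⟨F.comp_mem hφ hψ h, _, hg.comp hk hmem, fun x => ?_, δ * γ, mul_mem hδ hγ, fun q => ?_⟩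
    · show k (g x) = ψ ⟨φ x, h x⟩
      rw [hgx]
      exact hkx ⟨φ x, h x⟩
    · show k (g q) = _
      rw [hγq, hδq, MulAut.mul_apply]
  inv_mem {P φ} hφ := by
    obtain ⟨hφ, g, hg, hgx, γ, hγ, hγq⟩ := hφ
    obtain ⟨ψ, hψ, hψx⟩ := F.inv_mem hφ
    obtain ⟨k, hk, hkx, -, -⟩ := hg.exists_inv
    have hle : φ.range ⊔ Q ≤ img (P ⊔ Q) g := by
      refine sup_le ?_ fun y hy => ?_
      · rintro _ ⟨x, rfl⟩
        rw [← hgx]
        exact hg.apply_mem_img (mem_sup_left x.2)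
      · have h1 := hγq (γ⁻¹ ⟨y, hy⟩)
        rw [MulAut.apply_inv_self] at h1
        exact hg.mem_img.2 ⟨_, mem_sup_right (γ⁻¹ ⟨y, hy⟩).2, h1⟩
    refine ⟨ψ, ⟨hψ, k, hk.mono hle, ?_, γ⁻¹, inv_mem hγ, fun q => ?_⟩, hψx⟩
    · rintro ⟨_, x, rfl⟩
      rw [hψx, ← hkx _ (mem_sup_left x.2), hgx]
    · have h1 := hkx _ (mem_sup_right (γ⁻¹ q).2)
      rwa [hγq, MulAut.apply_inv_self] at h1

/-- If there is no proper subsystem of index prime to `p`, the automorphisms of a centric normal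
subgroup are generated by `p`-elements. -/
theorem pGenAut_eq_top (hS : IsPGroup p S) (hF : F.IsSaturated p) (hQ : F.IsNormal Q)
    (hQc : F.IsCentric Q)
    (hmin : ∀ D : FusionSystem S, D.IsSaturated p → D.HasPrimeToPIndexIn F p → F ≤ D) :
    pGenAut F p Q = ⊤ := by
  set K₀ := (pGenAut F p Q).map (F.autGroup Q).subtype with hK₀
  have hgs : genSys F p ≤ coreGenSys hS hF hQ := by
    refine genSys_le_of fun P hP α hα => ?_
    haveI := finite_of_le hP.1
    obtain ⟨α', hα', rfl⟩ := hα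
    refine Subgroup.map_le_iff_le_comap.2 ((Subgroup.closure_le _).2 ?_) ⟨α', hα', rfl⟩
    rintro ⟨a, ha⟩ ⟨n, hn⟩
    rw [Subgroup.orderOf_mk] at hn
    obtain ⟨β, hβ, hβx, hβQ⟩ := exists_sup_aut hQ hP.1 ha
    haveI := finite_of_le (sup_le hP.1 hQ.1)
    haveI := finite_of_le hQ.1
    obtain ⟨e, m, hm, hβo⟩ := Nat.exists_eq_pow_mul_and_not_dvd (orderOf_pos β).ne' p
      (Fact.out : p.Prime).ne_one
    obtain ⟨k, hk1, hk0⟩ := Nat.chineseRemainder
      (Nat.Coprime.pow_left n ((Fact.out : p.Prime).coprime_iff_not_dvd.2 hm)) 1 0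
    obtain ⟨j, rfl⟩ := Nat.modEq_zero_iff_dvd.1 hk0
    have hord : ∃ i, orderOf (β ^ (m * j)) = p ^ i := by
      obtain ⟨i, -, hi⟩ := (Nat.dvd_prime_pow (Fact.out : p.Prime)).1
        (show orderOf (β ^ (m * j)) ∣ p ^ e from orderOf_dvd_of_pow_eq_one (by
          rw [← pow_mul, mul_comm (m * j), ← mul_assoc, pow_mul, ← hβo, pow_orderOf_eq_one,
            one_pow]))
      exact ⟨i, hi⟩
    have hpow : ∀ l : ℕ, ∀ x : P, (((β ^ l) ⟨x, mem_sup_left x.2⟩ : ↥(P ⊔ Q)) : Ω) =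
        (((a ^ l) x : P) : Ω) := by
      intro l
      induction l with
      | zero => intro x; rfl
      | succ l ih =>
        intro x
        rw [pow_succ' β, pow_succ' a, MulAut.mul_apply, MulAut.mul_apply, ← hβx]
        congr 2
        exact Subtype.ext (ih x)
    have hak : a ^ (m * j) = a := by
      rw [← hn] at hk1
      rw [pow_eq_pow_iff_modEq.2 hk1, pow_one]
    have hβk : β ^ (m * j) ∈ F.autGroup (P ⊔ Q) := pow_mem hβ _
    obtain ⟨ρ, hρ⟩ := exists_restrict_hom (Q := Q) (sup_le hP.1 hQ.1) le_sup_right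
      (Subgroup.zpowers (β ^ (m * j))) (Subgroup.zpowers_le.2 hβk) fun γ hγ x hx => by
        have := StronglyClosed.apply_mem (IsNormal.stronglyClosed hQ)
          (isMap_of_autGroup (sup_le hP.1 hQ.1) (Subgroup.zpowers_le.2 hβk hγ)) x.2 hx
        rwa [toFun_aut_apply _ x.2] at this
    have hg := isMap_of_autGroup (sup_le hP.1 hQ.1) hβk
    refine (autGroup_mem_iff hP.1).2 ⟨(autGroup_mem_iff hP.1).1 ha, _, hg, fun x => ?_,
      ((ρ ⟨_, Subgroup.mem_zpowers _⟩ : F.autGroup Q) : MulAut Q),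
      ⟨ρ ⟨_, Subgroup.mem_zpowers _⟩, Subgroup.subset_closure ?_, rfl⟩, fun q => ?_⟩
    · rw [toFun_aut_apply _ (mem_sup_left x.2), hpow, hak]
      rfl
    · obtain ⟨i, hi⟩ := hord
      have hd : orderOf (ρ ⟨_, Subgroup.mem_zpowers (β ^ (m * j))⟩) ∣ p ^ i := by
        refine (orderOf_map_dvd ρ _).trans ?_
        rw [Subgroup.orderOf_mk, hi]
      obtain ⟨i', -, hi'⟩ := (Nat.dvd_prime_pow (Fact.out : p.Prime)).1 hd
      exact ⟨i', hi'⟩
    · rw [toFun_aut_apply _ (mem_sup_right q.2), hρ]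
  have hgen : ∀ {P : Subgroup Ω} {f : Ω → Ω}, IsMap (genSys F p) P f →
      ∃ g, IsMap F (P ⊔ Q) g ∧ (∀ x ∈ P, g x = f x) ∧ ∃ γ ∈ K₀, ∀ q : Q, g q = ((γ q : Q) : Ω) := by
    intro P f hf
    obtain ⟨φ, ⟨-, g, hg, hgx, hγ⟩, hφ⟩ := le_iff_isMap.1 hgs P f hf
    exact ⟨g, hg, fun x hx => (hgx ⟨x, hx⟩).trans (hφ ⟨x, hx⟩), hγ⟩
  have hlink : ∀ α ∈ linkAut F p, ∃ γ ∈ K₀, ∀ q : Q, autFun α q = ((γ q : Q) : Ω) := by
    let X : Subgroup (MulAut S) :=
      { carrier := {α | ∃ γ ∈ K₀, ∀ q : Q, autFun α q = ((γ q : Q) : Ω)}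
        one_mem' := ⟨1, one_mem _, fun q => autFun_one (hQ.1 q.2)⟩
        mul_mem' := by
          rintro α β ⟨γ, hγ, hγq⟩ ⟨δ, hδ, hδq⟩
          exact ⟨γ * δ, mul_mem hγ hδ, fun q => by
            rw [autFun_mul_apply _ _ (hQ.1 q.2), hδq, hγq, MulAut.mul_apply]⟩
        inv_mem' := by
          rintro α ⟨γ, hγ, hγq⟩
          refine ⟨γ⁻¹, inv_mem hγ, fun q => ?_⟩
          have h1 := hγq (γ⁻¹ q)
          rw [MulAut.apply_inv_self] at h1
          rw [← h1, autFun_inv_apply α (hQ.1 (γ⁻¹ q).2)] }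
    show linkAut F p ≤ X
    refine (Subgroup.closure_le _).2 ?_
    rintro α ⟨hα, P, hP, hm⟩
    obtain ⟨g, hg, hgx, γ, hγ, hγq⟩ := hgen hm
    obtain ⟨z, hz, -, hzy⟩ := exists_conj_of_agree hS hF hP (le_sup_left : P ≤ P ⊔ Q) hg
      ((isMap_autFun le_rfl hα).mono hg.le) hgx
    have hn := StronglyClosed.le_normalizer (IsNormal.stronglyClosed hQ) (hP.1 hz)
    have hmem : Q.normalizerMonoidHom ⟨z, hn⟩ ∈ autInducedBy S Q :=
      mem_autInducedBy_iff.2 ⟨z, hP.1 hz, fun q => rfl⟩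
    obtain ⟨k, hk⟩ := IsPGroup.iff_orderOf.1 (isPGroup_autInducedBy hS Q) ⟨_, hmem⟩
    rw [Subgroup.orderOf_mk] at hk
    refine ⟨γ * Q.normalizerMonoidHom ⟨z, hn⟩, mul_mem hγ
      ⟨⟨_, autInducedBy_le_autGroup hQ.1 hmem⟩,
        Subgroup.subset_closure ⟨k, by rwa [Subgroup.orderOf_mk]⟩, rfl⟩, fun q => ?_⟩
    rw [hzy q (mem_sup_right q.2), MulAut.mul_apply]
    exact hγq (Q.normalizerMonoidHom ⟨z, hn⟩ q)
  rw [eq_top_iff]
  rintro ⟨β, hβ⟩ -
  have hm := isMap_of_autGroup hQ.1 hβ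
  have hle := hmin _ (isSaturated_indexSys hS hF _ linkAut_le le_rfl)
    (hasPrimeToPIndex_indexSys hS hF _ linkAut_le)
  obtain ⟨-, α, hα, g, hg, hgx⟩ := (isMap_indexSys_iff hS hF _ linkAut_le).1
    (le_iff_isMap.1 hle Q _ hm)
  obtain ⟨γ, hγ, hγq⟩ := hlink α hα
  obtain ⟨g', -, hg'x, δ, hδ, hδq⟩ := hgen hg
  obtain ⟨w, hw, hwe⟩ := mul_mem hγ hδ
  have : (⟨β, hβ⟩ : F.autGroup Q) = w := by
    refine Subtype.ext (MulEquiv.ext fun q => Subtype.ext ?_)
    show ((β q : Q) : Ω) = (((w : MulAut Q) q : Q) : Ω)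
    rw [show (w : MulAut Q) = γ * δ from hwe, MulAut.mul_apply, ← hγq, ← hδq, hg'x q q.2,
      ← hgx q q.2, toFun_aut_apply _ q.2]
  rw [this]
  exact hw

/-- The hyperfocal subgroup is proper. -/
theorem hyperfocal_ne_top (hS : IsPGroup p S) (hF : F.IsSaturated p) (hQ : F.IsNormal Q)
    (hQc : F.IsCentric Q) (hs : Cfsg.IsPSolvable p (F.autGroup Q))
    (hgen : pGenAut F p Q = ⊤) (hS1 : S ≠ ⊥) : F.hyperfocalSubgroup p ≠ S := by
  haveI := finite_of_le hQ.1
  set A := F.autGroup Q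
  have hsc := IsNormal.stronglyClosed hQ
  let ρ : S →* A := (Q.normalizerMonoidHom.comp (Subgroup.inclusion
    (StronglyClosed.le_normalizer hsc))).codRestrict A fun a =>
      autInducedBy_le_autGroup hQ.1 (mem_autInducedBy_iff.2 ⟨a, a.2, fun q => rfl⟩)
  haveI : (Cfsg.pResidual p A).Normal := CfsgLib.Transfer.pResidual_normal
  set N := (Cfsg.pResidual p A).comap ρ with hN
  -- the coprime automorphisms extend
  have hext : ∀ P : Subgroup Ω, P ≤ S → ∀ α ∈ F.autGroup P, (orderOf α).Coprime p →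
      ∀ x : P, ∃ y : S, (y : Ω) = (x : Ω)⁻¹ * α x ∧ y ∈ N ∧
        (Subsingleton A → y = 1) := by
    intro P hP α hα hc x
    haveI := finite_of_le hP
    obtain ⟨β, hβ, hβx, hβQ⟩ := exists_sup_aut hQ hP hα
    haveI := finite_of_le (sup_le hP hQ.1)
    obtain ⟨e, m, hm, hβo⟩ := Nat.exists_eq_pow_mul_and_not_dvd (orderOf_pos β).ne' p
      (Fact.out : p.Prime).ne_one
    obtain ⟨k, hk0, hk1⟩ := Nat.chineseRemainder (Nat.Coprime.pow_left e hc.symm) 0 1
    obtain ⟨j, rfl⟩ := Nat.modEq_zero_iff_dvd.1 hk0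
    set u := β ^ (p ^ e * j)
    have hu : (orderOf u).Coprime p := by
      refine Nat.Coprime.coprime_dvd_left (orderOf_dvd_of_pow_eq_one (n := m) ?_)
        (((Fact.out : p.Prime).coprime_iff_not_dvd.2 hm).symm)
      rw [← pow_mul, mul_right_comm, pow_mul, ← hβo, pow_orderOf_eq_one, one_pow]
    have hpow : ∀ l : ℕ, ∀ y : P, (((β ^ l) ⟨y, mem_sup_left y.2⟩ : ↥(P ⊔ Q)) : Ω) =
        (((α ^ l) y : P) : Ω) := by
      intro l
      induction l with
      | zero => intro y; rfl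
      | succ l ih =>
        intro y
        rw [pow_succ' β, pow_succ' α, MulAut.mul_apply, MulAut.mul_apply, ← hβx]
        congr 2
        exact Subtype.ext (ih y)
    have hux : ∀ y : P, ((u ⟨y, mem_sup_left y.2⟩ : ↥(P ⊔ Q)) : Ω) = α y := fun y => by
      rw [hpow, pow_eq_pow_iff_modEq.2 hk1, pow_one]
    have huF : u ∈ F.autGroup (P ⊔ Q) := pow_mem hβ _
    obtain ⟨σ, hσ⟩ := exists_restrict_hom (Q := Q) (sup_le hP hQ.1) le_sup_right
      (Subgroup.zpowers u) (Subgroup.zpowers_le.2 huF) fun γ hγ z hz => by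
        have := StronglyClosed.apply_mem hsc
          (isMap_of_autGroup (sup_le hP hQ.1) (Subgroup.zpowers_le.2 huF hγ)) z.2 hz
        rwa [toFun_aut_apply _ z.2] at this
    set v := σ ⟨u, Subgroup.mem_zpowers u⟩
    have hv : v ∈ Cfsg.pResidual p A := CfsgLib.Transfer.mem_pResidual_of_coprime
      (Nat.Coprime.coprime_dvd_left (orderOf_map_dvd σ _) (by rwa [Subgroup.orderOf_mk]))
    have hyS : (x : Ω)⁻¹ * α x ∈ S := S.mul_mem (S.inv_mem (hP x.2)) (hP (α x).2)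
    refine ⟨⟨_, hyS⟩, rfl, ?_, fun hA => ?_⟩
    · have e1 : ρ ⟨_, hyS⟩ = (ρ ⟨x, hP x.2⟩)⁻¹ * v * ρ ⟨x, hP x.2⟩ * v⁻¹ := by
        rw [eq_mul_inv_iff_mul_eq, mul_assoc, eq_inv_mul_iff_mul_eq]
        refine Subtype.ext (MulEquiv.ext fun q => Subtype.ext ?_)
        have hx1 : ρ ⟨x, hP x.2⟩ * ρ ⟨_, hyS⟩ = ρ ⟨(α x : P), hP (α x).2⟩ := by
          rw [← map_mul]
          congr 1
          exact Subtype.ext (mul_inv_cancel_left (x : Ω) _)
        rw [← mul_assoc, hx1]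
        simp only [Subgroup.coe_mul, MulAut.mul_apply]
        show ((α x : P) : Ω) * (((v : MulAut Q) q : Q) : Ω) * ((α x : P) : Ω)⁻¹ =
          (((v : MulAut Q) ((ρ ⟨x, hP x.2⟩ : MulAut Q) q) : Q) : Ω)
        rw [hσ, hσ, ← hux x]
        have e2 : (⟨(((ρ ⟨x, hP x.2⟩ : MulAut Q) q : Q) : Ω), mem_sup_right (SetLike.coe_mem _)⟩ :
            ↥(P ⊔ Q)) = ⟨x, mem_sup_left x.2⟩ * ⟨q, mem_sup_right q.2⟩ * ⟨x, mem_sup_left x.2⟩⁻¹ :=
          Subtype.ext rfl
        rw [e2, map_mul, map_mul, map_inv]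
        rfl
      show ρ ⟨_, hyS⟩ ∈ Cfsg.pResidual p A
      rw [e1]
      exact mul_mem ((‹(Cfsg.pResidual p A).Normal›.conj_mem' v hv _)) (inv_mem hv)
    · haveI := hA
      have hSQ : S ≤ Q := fun a ha => hQc.2 Q (isConj_refl hQ.1) ⟨ha, fun q hq => by
        have h1 : ρ ⟨a, ha⟩ = 1 := Subsingleton.elim _ _
        have h2 : a * q * a⁻¹ = q :=
          congrArg (fun z : A => (((z : MulAut Q) ⟨q, hq⟩ : Q) : Ω)) h1
        exact (mul_inv_eq_iff_eq_mul.1 h2).symm⟩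
      refine Subtype.ext ?_
      show (x : Ω)⁻¹ * α x = 1
      rw [← hux x, inv_mul_eq_one]
      have h1 := congrArg (fun z : A => (((z : MulAut Q) ⟨x, hSQ (hP x.2)⟩ : Q) : Ω))
        (Subsingleton.elim v 1)
      simp only [v, hσ] at h1
      exact h1.symm
  intro htop
  by_cases hA : Subsingleton A
  · refine hS1 (eq_bot_iff.2 ?_)
    refine htop.ge.trans (hyperfocal_le_of _ fun P hP α hα hc x => ?_)
    obtain ⟨y, hy, -, hy1⟩ := hext P hP α hα hc x
    rw [← hy, hy1 hA]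
    exact one_mem _
  · haveI : Nontrivial A := not_subsingleton_iff_nontrivial.1 hA
    refine pResidual_ne_top hs hgen ?_
    have hle : F.hyperfocalSubgroup p ≤ N.map S.subtype :=
      hyperfocal_le_of _ fun P hP α hα hc x => by
        obtain ⟨y, hy, hyN, -⟩ := hext P hP α hα hc x
        exact ⟨y, hyN, hy⟩
    have hn : F.IsFullyNormalized Q := ⟨hQ.1, fun R hR => by
      haveI := finite_normalizerIn (S := S) (P := Q)
      exact Subgroup.card_le_of_le fun a ha => ⟨ha.1, StronglyClosed.le_normalizer hsc ha.1⟩⟩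
    obtain ⟨W, hW⟩ := (fullyAutomized_of_fullyNormalized hS hF hn).2
    have hWle : (W : Subgroup A) ≤ Cfsg.pResidual p A := fun w hw => by
      rw [hW] at hw
      obtain ⟨a, ha, hax⟩ := mem_autInducedBy_iff.1 hw
      obtain ⟨y, hyN, hy⟩ := hle (htop.ge ha)
      have : w = ρ y := Subtype.ext (MulEquiv.ext fun q => Subtype.ext (by
        refine (hax q).trans ?_
        rw [← hy]
        rfl))
      exact this ▸ hyN
    exact (sup_eq_right.2 hWle).symm.trans (sylow_sup_pResidual W)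

/-- The alternating series of a constrained system with `p`-solvable automorphism groups
terminates. -/
theorem hasTerminating_of_constrained : ∀ (n : ℕ) (S : Subgroup Ω) [Finite S], IsPGroup p S →
    ∀ F : FusionSystem S, F.IsConstrained p →
      (∀ P ≤ S, Cfsg.IsPSolvable p (F.autGroup P)) → Nat.card S ≤ n →
      F.HasTerminatingResidualSeries p := by
  intro n
  induction n using Nat.strong_induction_on with
  | _ n ih => ?_
  intro S _ hS F hF hsolv hn
  by_cases hS1 : S = ⊥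
  · exact HasTerminatingResidualSeries.trivial F p hS1
  obtain ⟨E, hE, hEi, hEmin⟩ := exists_pPrimeResidual hS hF.1
  have hsc : F.StronglyClosed S := ⟨le_rfl, fun R _ φ hφ x => (F.le_of_mem hφ).2 x⟩
  obtain ⟨hEs, Q, hQ, hQc⟩ := isConstrained_of_subsystem hS hF hEi.1 hE hsc
  have haut : ∀ {P : Subgroup Ω}, P ≤ S → E.autGroup P ≤ F.autGroup P := fun {P} hP α hα =>
    (autGroup_mem_iff hP).2 (hEi.1 P ((autGroup_mem_iff hP).1 hα))
  haveI hfin : ∀ P : Subgroup Ω, P ≤ S → Finite P := fun P hP => finite_of_le hP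
  have hsolE : ∀ P ≤ S, Cfsg.IsPSolvable p (E.autGroup P) := fun P hP => by
    haveI := finite_of_le hP
    exact isPSolvable_of_hom (Subgroup.inclusion (haut hP)) (hsolv P hP)
      fun a ha _ => Subgroup.inclusion_injective _ (ha.trans (map_one _).symm)
  have hgen := pGenAut_eq_top hS hEs hQ hQc fun D hD hDi =>
    hEmin D hD (hasPrimeToPIndex_trans hEi hDi)
  have hne := hyperfocal_ne_top hS hEs hQ hQc (hsolE Q hQ.1) hgen hS1
  have hTS := hyperfocal_le E p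
  haveI := finite_of_le hTS
  obtain ⟨D, hD, hDi⟩ := exists_pPowerIndex (Nat.card S) S hS E hEs _ hTS le_rfl (by omega)
  refine HasTerminatingResidualSeries.step F E p D ⟨hE, hEi, hEmin⟩ ⟨hD, hDi⟩
    (ih (Nat.card (E.hyperfocalSubgroup p)) ?_ _ (hS.to_le hTS) D ?_ ?_ le_rfl)
  · refine lt_of_lt_of_le ?_ hn
    by_contra hge
    exact hne (eq_of_le_of_card_le hTS (not_lt.1 hge))
  · exact isConstrained_of_subsystem hS ⟨hEs, Q, hQ, hQc⟩ hDi.1 hD
      (stronglyClosed_of_hyperfocal_le hS hEs hTS le_rfl fun a ha y hy => conj_mem_hyperfocal ha hy)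
  · intro P hP
    haveI := finite_of_le (hP.trans hTS)
    refine isPSolvable_of_hom (Subgroup.inclusion (fun α hα => ?_)) (hsolE P (hP.trans hTS))
      fun a ha _ => Subgroup.inclusion_injective _ (ha.trans (map_one _).symm)
    exact (autGroup_mem_iff (hP.trans hTS)).2 (hDi.1 P ((autGroup_mem_iff hP).1 hα))

end CfsgLib.Fusion
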