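import Cfsg.Agent.Lib.Fusion.PSolvableAut
import Cfsg.Agent.Lib.Fusion.PPowerNormal
import Cfsg.Agent.Lib.Fusion.PPrimeResidual
import Cfsg.Agent.Lib.Fusion.StronglyClosedMod

/-!
Constrainedness and `p`-solvability pass upwards through subsystems of `p`-power index and of index
prime to `p`.
-/

set_option autoImplicit false
set_option linter.unusedVariables false
set_option linter.unusedSectionVars false
set_option linter.style.haveILetI false

namespace CfsgLib.Fusion

open Cfsg Cfsg.FusionSystem Subgroup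
open scoped commutatorElement

universe u

variable {Ω : Type u} [Group Ω] {S T : Subgroup Ω} {F E : FusionSystem S} {p : ℕ}
  [Fact p.Prime] [Finite S]

/-- Systems constrained with a `p`-solvable group of automorphisms of the core. -/
def IsPSolvableSystem (F : FusionSystem S) (p : ℕ) : Prop :=
  F.IsConstrained p ∧ Cfsg.IsPSolvable p (F.autGroup F.core)

theorem core_centric (h : F.IsConstrained p) : F.IsCentric F.core := by
  obtain ⟨-, Q, hQ, hQc⟩ := h
  exact centric_of_le hQc (IsNormal.le_core hQ) (core_le F)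

/-- It suffices to look at one centric normal subgroup. -/
theorem isPSolvableSystem_of (hS : IsPGroup p S) (hF : F.IsSaturated p) {W : Subgroup Ω}
    (hW : F.IsNormal W) (hWc : F.IsCentric W) (hs : Cfsg.IsPSolvable p (F.autGroup W)) :
    IsPSolvableSystem F p :=
  ⟨⟨hF, W, hW, hWc⟩, isPSolvable_autGroup_of_normal hS hW (hWc.2 W (isConj_refl hW.1)) hs
    (core_le F)⟩

theorem lcs_le (hS : IsPGroup p S) : ∃ c, (⊤ : Subgroup S).lowerCentralSeries c = ⊥ := by
  haveI : Group.IsNilpotent S := hS.isNilpotent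
  exact Subgroup.nilpotent_iff_lowerCentralSeries.1 inferInstance

/-- Upwards through a normal subsystem of `p`-power index. -/
theorem isPSolvableSystem_pPower (hS : IsPGroup p S) (hF : F.IsSaturated p) (hTS : T ≤ S)
    (hTn : (T.subgroupOf S).Normal) {D : FusionSystem T} (hD : D.IsSaturated p)
    (hDi : D.HasPPowerIndexIn F p) (h : IsPSolvableSystem D p) : IsPSolvableSystem F p := by
  classical
  obtain ⟨hDc, hsD⟩ := h
  haveI := finite_of_le hTS
  have hTp : IsPGroup p T := hS.to_le hTS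
  set Q := D.core with hQdef
  have hQn : D.IsNormal Q := core_isNormal
  have hQc : D.IsCentric Q := core_centric hDc
  have hQS : Q ≤ S := hQn.1.trans hTS
  haveI := finite_of_le hQS
  have hinv := (isNormalIn_of_pPower hS hF hTS hTn hD hDi).1.2.2
  have hTsc := stronglyClosed_of_pPower hS hF hTS hTn hD hDi
  -- automorphisms of `T` fix `Q`
  have hαQ : ∀ α ∈ F.autGroup T, ∀ x ∈ Q, autFun α x ∈ Q := fun α hα x hx =>
    IsNormal.le_core (IsInvariantIn.isNormal_img hinv hα hQn)
      (((isMap_autFun hTS hα).mono hQn.1).apply_mem_img hx)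
  -- `Q` is normal in `F`
  have hsplit : ∀ {R : Subgroup Ω} {f : Ω → Ω}, IsMap F R f → R ≤ Q →
      ∃ α ∈ F.autGroup T, ∃ g, IsMap D R g ∧ ∀ x ∈ R, f x = autFun α (g x) := by
    intro R f hf hR
    obtain ⟨α, hα, φ₀, hφ₀, hφ⟩ := hinv.2.2.2 R (hR.trans hQn.1) _ hf.toHom_mem
    refine ⟨α, hα, toFun φ₀, isMap_of_hom hφ₀, fun x hx => ?_⟩
    have hv := (D.le_of_mem hφ₀).2 ⟨x, hx⟩
    rw [toFun_of_mem φ₀ hx, autFun_apply α hv]
    exact hφ ⟨x, hx⟩ hv
  have hQsc : F.StronglyClosed Q := stronglyClosed_iff.2 ⟨hQS, fun R f hR hf x hx => by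
    obtain ⟨α, hα, g, hg, hgx⟩ := hsplit hf hR
    rw [hgx x hx]
    exact hαQ α hα _ (StronglyClosed.apply_mem (IsNormal.stronglyClosed hQn) hg hx (hR hx))⟩
  haveI : Group.IsNilpotent Q := (hTp.to_le hQn.1).isNilpotent
  set C : ℕ → Subgroup Ω := fun i => (Subgroup.upperCentralSeries Q i).map Q.subtype with hC
  have hCchar : ∀ (i : ℕ) (β : MulAut Q) (x : Q), (x : Ω) ∈ C i → ((β x : Q) : Ω) ∈ C i := by
    intro i β x hx
    rw [hC] at hx ⊢
    have hx' : x ∈ Subgroup.upperCentralSeries Q i :=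
      (Subgroup.mem_map_iff_mem Q.subtype_injective).1 hx
    refine ⟨β x, ?_, rfl⟩
    haveI : (Subgroup.upperCentralSeries Q i).Characteristic := inferInstance
    have h1 := Subgroup.characteristic_iff_map_le.1 ‹_› β ⟨x, hx', rfl⟩
    exact h1
  have hCsc : ∀ i, F.StronglyClosed (C i) := fun i => by
    have hle : C i ≤ Q := Subgroup.map_subtype_le _
    refine stronglyClosed_iff.2 ⟨hle.trans hQS, fun R f hR hf x hx => ?_⟩
    obtain ⟨α, hα, g, hg, hgx⟩ := hsplit hf (hR.trans hle)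
    rw [hgx x hx]
    obtain ⟨g', hg', hg'x, hg'Q⟩ := (isNormal_iff.1 hQn).2 R g hg
    have hgQ := hg'.mono le_sup_right
    have hxQ := hle (hR hx)
    have h1 : g x ∈ C i := by
      have := hCchar i (hgQ.toAut hg'Q) ⟨x, hxQ⟩ (hR hx)
      rwa [IsMap.toAut_apply, hg'x x hx] at this
    have hmQ := (isMap_autFun hTS hα).mono hQn.1
    have hiQ : img Q (autFun α) = Q := eq_of_le_of_card_le (fun y hy => by
      obtain ⟨z, hz, rfl⟩ := hmQ.mem_img.1 hy
      exact hαQ α hα z hz) hmQ.card_img.ge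
    have := hCchar i (hmQ.toAut hiQ) ⟨g x, hle h1⟩ h1
    rwa [IsMap.toAut_apply] at this
  have hQF : F.IsNormal Q := by
    refine isNormal_of_le_centricRadical hS hF hQsc fun P hc hr => ?_
    refine le_centricRadical_of_series hS hQsc (Group.nilpotencyClass Q) C (by simp [hC]) ?_
      (fun i _ => Subgroup.map_mono (Subgroup.upperCentralSeries_mono Q (Nat.le_succ i)))
      (fun i _ => ?_) (fun i _ => StronglyClosed.weaklyClosed (hCsc i)) hc hr
    · simp [hC, ← MonoidHom.range_eq_map, Subgroup.range_subtype]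
    · refine Subgroup.commutator_le.2 ?_
      rintro _ ⟨x, hx, rfl⟩ y hy
      exact ⟨⁅x, ⟨y, hy⟩⁆, hx ⟨y, hy⟩, rfl⟩
  -- `W`
  set W := F.core with hWdef
  have hWn : F.IsNormal W := core_isNormal
  have hWS : W ≤ S := hWn.1
  haveI := finite_of_le hWS
  have hQW : Q ≤ W := IsNormal.le_core hQF
  set Y := centralizerIn S W with hYdef
  have hYT : ∀ y ∈ Y, y ∈ T → y ∈ Q := fun y hy hyT =>
    hQc.2 Q (isConj_refl hQn.1) ⟨hyT, fun q hq => hy.2 q (hQW hq)⟩
  have hYsc : F.StronglyClosed Y := by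
    refine stronglyClosed_iff.2 ⟨inf_le_left, fun X f hX hf x hx => ?_⟩
    obtain ⟨g, hg, hgx, hgW⟩ := (isNormal_iff.1 hWn).2 X f hf
    rw [← hgx x hx]
    have h1 := hg.apply_mem_centralizerIn le_sup_right (mem_sup_left hx) (hX hx).2
    rwa [hgW] at h1
  have hWc : F.IsCentric W := by
    refine centric_of_fullyCentralized hS hF (Q := W) ?_ ?_
    · exact ⟨hWS, fun R hR => by
        obtain ⟨f, hf, rfl⟩ := isConj_iff.1 hR
        rw [StronglyClosed.img_eq (IsNormal.stronglyClosed hWn) hf le_rfl]⟩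
    · obtain ⟨c, hc⟩ := lcs_le hS
      set L : ℕ → Subgroup S := fun k => T.subgroupOf S ⊔ (⊤ : Subgroup S).lowerCentralSeries k
        with hL
      have hLn : ∀ k, (L k).Normal := fun k => Subgroup.sup_normal _ _
      have hLsc : ∀ k, F.StronglyClosed ((L k).map S.subtype) := fun k =>
        stronglyClosed_of_hyperfocal_le hS hF (Subgroup.map_subtype_le _)
          (fun y hy => ⟨⟨y, hyperfocal_le F p hy⟩, Subgroup.mem_sup_left (hDi.2.1 hy), rfl⟩)
          fun a ha y hy => by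
            obtain ⟨y', hy', rfl⟩ := hy
            exact ⟨⟨a, ha⟩ * y' * (⟨a, ha⟩ : S)⁻¹, (hLn k).conj_mem y' hy' ⟨a, ha⟩, rfl⟩
      set D' : ℕ → Subgroup Ω := fun i => if i = 0 then ⊥ else Y ⊓ (L (c - (i - 1))).map S.subtype
        with hD'
      have hY : Y ≤ W := by
        refine IsNormal.le_core (isNormal_of_le_centricRadical hS hF hYsc fun P hPc hPr => ?_)
        refine le_centricRadical_of_series hS hYsc (c + 1) D' (by simp [hD']) ?_ ?_ ?_ ?_ hPc hPr
        · simp only [hD', Nat.add_one_ne_zero, if_false, Nat.add_sub_cancel, Nat.sub_self, hL,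
            Subgroup.lowerCentralSeries_zero, sup_top_eq, ← MonoidHom.range_eq_map,
            Subgroup.range_subtype]
          exact inf_eq_left.2 inf_le_left
        · intro i _
          simp only [hD']
          rcases Nat.eq_zero_or_pos i with rfl | hi
          · simp
          rw [if_neg hi.ne', if_neg (by omega)]
          exact inf_le_inf_left _ (Subgroup.map_mono (sup_le_sup_left
            (Subgroup.lowerCentralSeries_antitone (⊤ : Subgroup S) (by omega)) _))
        · intro i hi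
          simp only [hD']
          rw [if_neg (by omega), Subgroup.commutator_le]
          rintro a ⟨haY, a', ha', rfl⟩ b hb
          rcases Nat.eq_zero_or_pos i with rfl | hipos
          · rw [if_pos rfl, Subgroup.mem_bot, commutatorElement_eq_one_iff_mul_comm]
            simp only [Nat.zero_add, Nat.sub_self, Nat.sub_zero, hL, hc, sup_bot_eq] at ha'
            exact (hb.2 _ (hQW (hYT _ haY ha')))
          rw [if_neg hipos.ne']
          refine ⟨?_, ⁅a', (⟨b, hb.1⟩ : S)⁆, ?_, rfl⟩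
          · rw [commutatorElement_def]
            exact Y.mul_mem (Y.mul_mem (Y.mul_mem haY hb) (Y.inv_mem haY)) (Y.inv_mem hb)
          · obtain ⟨t, ht, l, hl, rfl⟩ := (Subgroup.mem_sup_of_normal_left
              (s := T.subgroupOf S)).1 ha'
            have hl' : ⁅l, (⟨b, hb.1⟩ : S)⁆ ∈
                (⊤ : Subgroup S).lowerCentralSeries (c - (i - 1)) := by
              rw [show c - (i - 1) = c - (i + 1 - 1) + 1 by omega, Subgroup.lowerCentralSeries_succ]
              exact Subgroup.commutator_mem_commutator hl (Subgroup.mem_top _)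
            have e : ⁅t * l, (⟨b, hb.1⟩ : S)⁆ =
                t * ⁅l, (⟨b, hb.1⟩ : S)⁆ * t⁻¹ * ⁅t, (⟨b, hb.1⟩ : S)⁆ := by
              simp only [commutatorElement_def]
              group
            rw [e]
            refine Subgroup.mul_mem _ ((hLn _).conj_mem _ (Subgroup.mem_sup_right hl') t)
              (Subgroup.mem_sup_left ?_)
            rw [commutatorElement_def, mul_assoc, mul_assoc, ← mul_assoc (⟨b, hb.1⟩ : S)]
            exact (T.subgroupOf S).mul_mem ht (hTn.conj_mem _ (inv_mem ht) _)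
        · intro i _
          simp only [hD']
          split_ifs
          · exact StronglyClosed.weaklyClosed ⟨bot_le, fun R hR φ hφ x => by
              rw [show x = 1 from Subtype.ext (Subgroup.mem_bot.1 (hR x.2)), map_one]
              exact one_mem _⟩
          · exact StronglyClosed.weaklyClosed (stronglyClosed_inf hYsc (hLsc _))
      exact hY
  refine ⟨⟨hF, W, hWn, hWc⟩, ?_⟩
  -- `Aut_F(Q)` is `p`-solvable
  have hsle : D.autGroup Q ≤ F.autGroup Q := fun α hα =>
    (autGroup_mem_iff hQS).2 (hDi.1 Q ((autGroup_mem_iff hQn.1).1 hα))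
  haveI : ((D.autGroup Q).subgroupOf (F.autGroup Q)).Normal := by
    refine ⟨fun β hβ γ => ?_⟩
    have hm := isMap_of_autGroup hQS γ.2
    obtain ⟨α, hα, g, hg, hgx⟩ := hsplit hm le_rfl
    obtain ⟨g', hg', hg'x, hg'Q⟩ := (isNormal_iff.1 hQn).2 Q g hg
    have hgQ : img Q g = Q := (img_congr hg'x).symm.trans hg'Q
    set δ := hg.toAut hgQ
    have hδ : δ ∈ D.autGroup Q := hg.toAut_mem hgQ
    obtain ⟨k, hk, hkx⟩ := IsInvariantIn.transport hinv hα
      (isMap_of_autGroup hQn.1 (mul_mem (mul_mem hδ hβ) (inv_mem hδ)))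
    have hmQ := (isMap_autFun hTS hα).mono hQn.1
    have hiQ : img Q (autFun α) = Q := eq_of_le_of_card_le (fun y hy => by
      obtain ⟨z, hz, rfl⟩ := hmQ.mem_img.1 hy
      exact hαQ α hα z hz) hmQ.card_img.ge
    rw [hiQ] at hk
    show ((γ : MulAut Q) * (β : MulAut Q) * (γ : MulAut Q)⁻¹) ∈ D.autGroup Q
    refine (autGroup_iff_isMap hQn.1 fun y => ?_).2 hk
    obtain ⟨x, rfl⟩ := (γ : MulAut Q).surjective y
    have hgv : ∀ z : Q, (((γ : MulAut Q) z : Q) : Ω) = autFun α ((δ z : Q) : Ω) := fun z => by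
      rw [← toFun_aut_apply (γ : MulAut Q) z.2, hgx z z.2, IsMap.toAut_apply]
    rw [hgv x, hkx _ (δ x).2, toFun_aut_apply _ (δ x).2]
    simp only [MulAut.mul_apply, MulAut.inv_apply_self]
    show _ = autFun α ((δ ((β : MulAut Q) (δ⁻¹ (δ x))) : Q) : Ω)
    rw [MulAut.inv_apply_self]
    exact hgv _
  have hsQ : Cfsg.IsPSolvable p (F.autGroup Q) := by
    refine isPSolvable_of_coprime_mem ((D.autGroup Q).subgroupOf (F.autGroup Q)) ?_ fun a ha =>
      hDi.2.2 Q hQn.1 ⟨a, CfsgLib.Transfer.mem_pResidual_of_coprime ha, rfl⟩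
    exact isPSolvable_of_hom (Subgroup.subgroupOfEquivOfLe hsle).toMonoidHom hsD
      fun a ha _ => (Subgroup.subgroupOfEquivOfLe hsle).map_eq_one_iff.1 ha
  -- restriction to `Q`
  obtain ⟨ρ, hρ⟩ := exists_restrict_hom hWS hQW (F.autGroup W) le_rfl fun α hα x hx => by
    have := StronglyClosed.apply_mem hQsc (isMap_of_autGroup hWS hα) x.2 hx
    rwa [toFun_aut_apply _ x.2] at this
  refine isPSolvable_of_hom ρ hsQ fun β hβ hc => ?_
  have hfixQ : ∀ q (hq : q ∈ Q), ((((β : MulAut W)) ⟨q, hQW hq⟩ : W) : Ω) = q := fun q hq => by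
    have := hρ β ⟨q, hq⟩
    rw [hβ] at this
    exact this.symm
  have hcop : (orderOf (β : MulAut W)).Coprime p := by rwa [Subgroup.orderOf_coe]
  -- first on `W ⊓ T`
  obtain ⟨σ, hσ⟩ := exists_restrict_hom hWS (inf_le_left : W ⊓ T ≤ W) (F.autGroup W) le_rfl
    fun α hα x hx => by
      have := StronglyClosed.apply_mem (stronglyClosed_inf (IsNormal.stronglyClosed hWn) hTsc)
        (isMap_of_autGroup hWS hα) x.2 hx
      rwa [toFun_aut_apply _ x.2] at this
  haveI : Finite ↥(W ⊓ T) := finite_of_le (inf_le_left.trans hWS)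
  have hσ1 : (σ β : MulAut ↥(W ⊓ T)) = 1 := by
    refine eq_one_of_coprime_stab (hS.to_le (inf_le_left.trans hWS)) (Q.subgroupOf (W ⊓ T))
      (Nat.Coprime.coprime_dvd_left (by rw [Subgroup.orderOf_coe]; exact orderOf_map_dvd σ β) hc)
      (fun y hy => Subtype.ext ?_) fun x => ?_
    · rw [hσ]
      exact hfixQ _ hy
    · show (x : Ω)⁻¹ * _ ∈ Q
      rw [hσ]
      set b := (β : MulAut W) ⟨x, x.2.1⟩
      have hxT : ((b : W) : Ω) ∈ T := by
        have h1 := (((σ β : F.autGroup (W ⊓ T)) : MulAut ↥(W ⊓ T)) x).2.2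
        rwa [hσ] at h1
      refine hQc.2 Q (isConj_refl hQn.1) ⟨T.mul_mem (T.inv_mem x.2.2) hxT, fun q hq => ?_⟩
      have hxq : (x : Ω) * q * (x : Ω)⁻¹ ∈ Q := StronglyClosed.conj_mem hQsc (hWS x.2.1) hq
      have h2 := hfixQ _ hxq
      have e : (⟨_, hQW hxq⟩ : W) = ⟨x, x.2.1⟩ * ⟨q, hQW hq⟩ * ⟨x, x.2.1⟩⁻¹ := Subtype.ext rfl
      rw [e, map_mul, map_mul, map_inv, Subgroup.coe_mul, Subgroup.coe_mul, Subgroup.coe_inv,
        hfixQ q hq] at h2
      calc q * ((x : Ω)⁻¹ * b) = (x : Ω)⁻¹ * ((x : Ω) * q * (x : Ω)⁻¹) * b := by group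
        _ = (x : Ω)⁻¹ * ((b : Ω) * q * (b : Ω)⁻¹) * b := by rw [h2]
        _ = (x : Ω)⁻¹ * b * q := by group
  refine Subtype.ext (eq_one_of_coprime_stab (hS.to_le hWS) (T.subgroupOf W) hcop
    (fun y hy => Subtype.ext ?_) fun x => ?_)
  · have h1 := hσ β ⟨y, y.2, hy⟩
    rw [hσ1] at h1
    exact h1.symm
  · exact hDi.2.1 (sub_mem_hyperfocal_of_coprime hWS β.2 hcop x)

/-- Upwards through the residual subsystem of index prime to `p`. -/
theorem isPSolvableSystem_pPrime (hS : IsPGroup p S) (hF : F.IsSaturated p)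
    (hE : F.IsPPrimeResidual p E) (h : IsPSolvableSystem E p) : IsPSolvableSystem F p := by
  obtain ⟨hEs, hEi, hmin⟩ := hE
  obtain ⟨hEc, hsE⟩ := h
  set W := E.core with hWdef
  have hWn : E.IsNormal W := core_isNormal
  have hWc : E.IsCentric W := core_centric hEc
  have hWS : W ≤ S := hWn.1
  haveI := finite_of_le hWS
  set I := indexSys hS hF (linkAut F p) linkAut_le
  have hgen : genSys F p ≤ E := genSys_le_of fun P hP => hEi.2 P hP.1
  have hEI : E ≤ I :=
    hmin I (isSaturated_indexSys hS hF _ linkAut_le le_rfl) (hasPrimeToPIndex_indexSys hS hF _ linkAut_le)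
  have hIE : I ≤ E := le_iff_isMap.2 fun P f hf => by
    obtain ⟨-, α, hα, g, hg, hgx⟩ := (isMap_indexSys_iff hS hF _ linkAut_le).1 hf
    exact ((le_iff_isMap.1 hgen P g hg).comp (isMap_autFun le_rfl
      (linkAut_le_autGroup hS hF hEs hEi.1 hgen hα)) fun x hx => hg.mem hx).congr
      fun x hx => (hgx x hx).symm
  -- conjugation in `Aut_F(S)` keeps `linkAut`
  have hlinkn : ∀ β ∈ F.autGroup S, ∀ α ∈ linkAut F p, β * α * β⁻¹ ∈ linkAut F p := by
    intro β hβ
    have hle : linkAut F p ≤ (linkAut F p).comap (MulAut.conj β).toMonoidHom := by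
      refine (Subgroup.closure_le _).2 ?_
      rintro α ⟨hα, P, hP, hm⟩
      have hmb := isMap_autFun (T := S) le_rfl hβ
      obtain ⟨g, hg, hgx⟩ := genSys_transport hS hF hβ hm
      refine Subgroup.subset_closure ⟨mul_mem (mul_mem hβ hα) (inv_mem hβ), img P (autFun β),
        centric_of_isConj hP (hmb.mono hP.1).isConj, hg.congr fun y hy => ?_⟩
      obtain ⟨x, hx, rfl⟩ := (hmb.mono hP.1).mem_img.1 hy
      show g (autFun β x) = autFun (β * α * β⁻¹) (autFun β x)
      rw [hgx x hx, autFun_mul_apply _ _ (autFun_mem β (hP.1 hx)),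
        autFun_inv_apply β (hP.1 hx), autFun_mul_apply _ _ (hP.1 hx)]
    exact fun α hα => hle hα
  -- transport
  have htrans : ∀ {β : MulAut S}, β ∈ F.autGroup S → ∀ {P : Subgroup Ω} {f : Ω → Ω},
      IsMap E P f → ∃ g, IsMap E (img P (autFun β)) g ∧
        ∀ x ∈ P, g (autFun β x) = autFun β (f x) := by
    intro β hβ P f hf
    obtain ⟨-, α, hα, g, hg, hgx⟩ :=
      (isMap_indexSys_iff hS hF _ linkAut_le).1 (le_iff_isMap.1 hEI P f hf)
    obtain ⟨g', hg', hg'x⟩ := genSys_transport hS hF hβ hg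
    have hαE : IsMap E S (autFun (β * α * β⁻¹)) :=
      isMap_autFun le_rfl (linkAut_le_autGroup hS hF hEs hEi.1 hgen (hlinkn β hβ α hα))
    refine ⟨_, (le_iff_isMap.1 hgen _ g' hg').comp hαE fun x hx => hg'.mem hx, fun x hx => ?_⟩
    show autFun (β * α * β⁻¹) (g' (autFun β x)) = autFun β (f x)
    rw [hg'x x hx, hgx x hx, autFun_mul_apply _ _ (autFun_mem β (hg.mem hx)),
      autFun_inv_apply β (hg.mem hx), autFun_mul_apply _ _ (hg.mem hx)]
  have hβW : ∀ β ∈ F.autGroup S, ∀ x ∈ W, autFun β x ∈ W := by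
    intro β hβ x hx
    have hm := isMap_autFun (T := S) le_rfl hβ
    have hm' := isMap_autFun (T := S) le_rfl (inv_mem hβ)
    refine IsNormal.le_core (Q := img W (autFun β)) ?_ ((hm.mono hWS).apply_mem_img hx)
    refine isNormal_iff.2 ⟨(hm.mono hWS).img_le, fun P f hf => ?_⟩
    obtain ⟨g₁, hg₁, hg₁x⟩ := htrans (inv_mem hβ) hf
    obtain ⟨g₂, hg₂, hg₂x, hg₂W⟩ := (isNormal_iff.1 hWn).2 _ g₁ hg₁
    obtain ⟨g₃, hg₃, hg₃x⟩ := htrans hβ hg₂
    have hb : ∀ y ∈ P, autFun β⁻¹ y ∈ img P (autFun β⁻¹) := fun y hy =>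
      (hm'.mono hf.le).apply_mem_img hy
    have hi : img (img P (autFun β⁻¹) ⊔ W) (autFun β) = P ⊔ img W (autFun β) := by
      rw [hm.img_sup (hm'.mono hf.le).img_le hWS, img_autFun_cancel hm hf.le hm']
    refine ⟨g₃, hi ▸ hg₃, fun y hy => ?_, ?_⟩
    · have h1 := hg₃x _ (mem_sup_left (hb y hy))
      rw [autFun_apply_inv β (hf.le hy), hg₂x _ (hb y hy), hg₁x y hy,
        autFun_apply_inv β (hf.mem hy)] at h1
      exact h1
    · have hg₂F : IsMap F _ g₂ := le_iff_isMap.1 hEi.1 _ g₂ hg₂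
      have hg₃F : IsMap F _ g₃ := le_iff_isMap.1 hEi.1 _ g₃ hg₃
      rw [← img_comp_eq (hm.mono hWS) hg₃F fun y hy =>
        (hm.mono hg₂.le).apply_mem_img (mem_sup_right hy),
        img_congr (g := fun y => autFun β (g₂ y)) fun y hy => hg₃x y (mem_sup_right hy),
        img_comp_eq (hg₂F.mono le_sup_right) hm fun y hy => hg₂.mem (mem_sup_right hy), hg₂W]
  have himgW : ∀ β ∈ F.autGroup S, img W (autFun β) = W := fun β hβ => by
    have hm := (isMap_autFun (T := S) le_rfl hβ).mono hWS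
    refine eq_of_le_of_card_le (fun y hy => ?_) hm.card_img.ge
    obtain ⟨z, hz, rfl⟩ := hm.mem_img.1 hy
    exact hβW β hβ z hz
  have hWF : F.IsNormal W := by
    refine isNormal_iff.2 ⟨hWS, fun P f hf => ?_⟩
    obtain ⟨α, hα, g, hg, hgx⟩ := exists_frattini hS hF hf
    obtain ⟨g', hg', hg'x, hg'W⟩ := (isNormal_iff.1 hWn).2 P g (le_iff_isMap.1 hgen P g hg)
    have hg'F : IsMap F (P ⊔ W) g' := le_iff_isMap.1 hEi.1 _ g' hg'
    refine ⟨_, hg'F.comp (isMap_autFun le_rfl hα) fun y hy => hg'.mem hy,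
      fun y hy => by show autFun α (g' y) = f y; rw [hg'x y hy, hgx y hy], ?_⟩
    rw [img_comp_eq (hg'F.mono le_sup_right) (isMap_autFun le_rfl hα)
      fun y hy => hg'.mem (mem_sup_right hy), hg'W, himgW α hα]
  have hWFc : F.IsCentric W := ⟨hWS, fun R hR => by
    obtain ⟨f, hf, rfl⟩ := isConj_iff.1 hR
    rw [StronglyClosed.img_eq (IsNormal.stronglyClosed hWF) hf le_rfl]
    exact hWc.2 W (isConj_refl hWS)⟩
  refine isPSolvableSystem_of hS hF hWF hWFc ?_
  have hle : E.autGroup W ≤ F.autGroup W := fun α hα =>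
    (autGroup_mem_iff hWS).2 (hEi.1 W ((autGroup_mem_iff hWS).1 hα))
  have hpg : pGenAut F p W ≤ (E.autGroup W).subgroupOf (F.autGroup W) := fun a ha =>
    hEi.2 W hWS ⟨a, ha, rfl⟩
  have hsp : Cfsg.IsPSolvable p (pGenAut F p W) :=
    isPSolvable_of_hom (((F.autGroup W).subtype.comp (pGenAut F p W).subtype).codRestrict
      (E.autGroup W) fun a => hpg a.2) hsE fun a ha _ =>
      Subtype.ext (Subtype.ext (congrArg Subtype.val ha :))
  exact isPSolvable_of_pElements_mem (pGenAut F p W) hsp fun a ha => Subgroup.subset_closure ha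

/-- A system with a terminating alternating series is constrained with `p`-solvable core
automorphisms. -/
theorem isPSolvableSystem_of_terminating {S : Subgroup Ω} {F : FusionSystem S} {p : ℕ}
    (h : F.HasTerminatingResidualSeries p) :
    Fact p.Prime → Finite S → IsPGroup p S → F.IsSaturated p → IsPSolvableSystem F p := by
  induction h with
  | @trivial S F p hS1 =>
    intro _ _ hS hF
    subst hS1
    refine isPSolvableSystem_of hS hF isNormal_bot ⟨le_rfl, fun R hR => ?_⟩ ?_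
    · exact inf_le_left.trans bot_le
    · haveI : Subsingleton (F.autGroup (⊥ : Subgroup Ω)) := ⟨fun a b =>
        Subtype.ext (MulEquiv.ext fun x => Subsingleton.elim _ _)⟩
      exact (CfsgLib.PLength.pSeriesLE_zero.2 (by simp)).isPSolvable
  | @step S F E p D hE hD hrec ih =>
    intro _ _ hS hF
    have hTS := hyperfocal_le E p
    haveI := finite_of_le hTS
    exact isPSolvableSystem_pPrime hS hF hE (isPSolvableSystem_pPower hS hE.1 hTS
      (hyperfocal_subgroupOf_normal E p) hD.1 hD.2 (ih ‹_› ‹_› (hS.to_le hTS) hD.1))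

end CfsgLib.Fusion
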