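import Cfsg.Agent.Lib.Fusion.SimpleGroupCriterion

/-!
A criterion for the simplicity of the 2-fusion system of a group with a self-normalizing Sylow
2-subgroup, suited to finite certificates: an invariant series with steps of index 2, and no
element of odd order centralizing the subgroup.
-/

set_option autoImplicit false
set_option linter.style.haveILetI false

namespace CfsgLib.Fusion

open Cfsg Subgroup

variable {G : Type*} [Group G]

/-- An element of odd order stabilizing a series with steps of index at most 2 centralizes. -/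
theorem commute_of_series {S : Subgroup G} (hS : IsPGroup 2 S) {g : G} (hodd : Odd (orderOf g))
    (H : ℕ → Subgroup G) (m : ℕ) (h0 : S ≤ H 0) (hm : H m = ⊥) (hle : ∀ j, j < m → H j ≤ S)
    (hinv : ∀ j, j ≤ m → ∀ x ∈ H j, g * x * g⁻¹ ∈ H j)
    (hstep : ∀ j, j < m → ∀ a ∈ H j, ∀ b ∈ H j, a ∉ H (j + 1) → b ∉ H (j + 1) →
      b * a⁻¹ ∈ H (j + 1)) :
    ∀ x ∈ S, g * x * g⁻¹ = x := by
  suffices h : ∀ i, i ≤ m → ∀ x ∈ H (m - i), g * x * g⁻¹ = x by
    intro x hx
    refine h m le_rfl x ?_
    rw [Nat.sub_self]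
    exact h0 hx
  intro i
  induction i with
  | zero =>
    intro _ x hx
    rw [Nat.sub_zero, hm, Subgroup.mem_bot] at hx
    subst hx
    simp
  | succ i ih =>
    intro hi x hx
    have hfix := ih (by omega)
    set j := m - (i + 1) with hj
    have hj1 : m - i = j + 1 := by omega
    rw [hj1] at hfix
    by_cases hxj : x ∈ H (j + 1)
    · exact hfix x hxj
    have hgx := hinv j (by omega) x hx
    have hgxn : g * x * g⁻¹ ∉ H (j + 1) := by
      intro h
      have h1 := hfix _ h
      have h2 : g * x * g⁻¹ = x :=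
        mul_left_cancel (mul_right_cancel (h1 : g * (g * x * g⁻¹) * g⁻¹ = g * x * g⁻¹))
      exact hxj (h2 ▸ h)
    set y := g * x * g⁻¹ * x⁻¹ with hy
    have hyH : y ∈ H (j + 1) := hstep j (by omega) x hx _ hgx hxj hgxn
    have hgy : g * y * g⁻¹ = y := hfix y hyH
    have hpow : ∀ k : ℕ, g ^ k * x * (g ^ k)⁻¹ = y ^ k * x := by
      intro k
      induction k with
      | zero => simp
      | succ k ihk =>
        have hyk : g * y ^ k * g⁻¹ = y ^ k := by rw [← conj_pow, hgy]
        calc g ^ (k + 1) * x * (g ^ (k + 1))⁻¹ = g * (g ^ k * x * (g ^ k)⁻¹) * g⁻¹ := by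
              rw [pow_succ']; group
          _ = g * (y ^ k * x) * g⁻¹ := by rw [ihk]
          _ = (g * y ^ k * g⁻¹) * (g * x * g⁻¹) := by group
          _ = y ^ k * (y * x) := by rw [hyk, hy, inv_mul_cancel_right]
          _ = y ^ (k + 1) * x := by rw [← mul_assoc, ← pow_succ]
    have hyo : y ^ orderOf g = 1 := by
      have h1 := hpow (orderOf g)
      rw [pow_orderOf_eq_one, one_mul, inv_one, mul_one] at h1
      exact mul_right_cancel (h1.symm.trans (one_mul x).symm)
    obtain ⟨e, he⟩ := hS ⟨y, mul_mem (hle j (by omega) hgx) (inv_mem (hle j (by omega) hx))⟩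
    have he' : y ^ 2 ^ e = 1 := congrArg Subtype.val he
    have hcop : Nat.Coprime (orderOf g) (2 ^ e) := (Nat.coprime_two_right.2 hodd).pow_right e
    have hy1 : y = 1 := by
      rw [← orderOf_eq_one_iff]
      exact Nat.eq_one_of_dvd_coprimes hcop (orderOf_dvd_of_pow_eq_one hyo)
        (orderOf_dvd_of_pow_eq_one he')
    rw [hy, mul_inv_eq_one] at hy1
    exact hy1

/-- If no nontrivial element of odd order normalizes a Sylow 2-subgroup, it is self-normalizing. -/
theorem normalizer_le_of_no_odd [Finite G] {S : Subgroup G} (hS : IsPGroup 2 S)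
    (hidx : ¬ 2 ∣ S.index)
    (hno : ∀ g ∈ Subgroup.normalizer (S : Set G), Odd (orderOf g) → g = 1) :
    Subgroup.normalizer (S : Set G) ≤ S := by
  intro g hg
  obtain ⟨a, b, hb, hab⟩ := Nat.exists_eq_two_pow_mul_odd (n := orderOf g) (orderOf_pos g).ne'
  have h1 : g ^ 2 ^ a = 1 := by
    refine hno _ (pow_mem hg _) ?_
    rwa [orderOf_pow' _ (pow_ne_zero a two_ne_zero), hab, Nat.gcd_mul_right_left,
      Nat.mul_div_cancel_left _ (pow_pos two_pos a)]
  obtain ⟨i, -, hi⟩ := (Nat.dvd_prime_pow Nat.prime_two).1 (orderOf_dvd_of_pow_eq_one h1)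
  have hz : IsPGroup 2 (Subgroup.zpowers g) :=
    IsPGroup.of_card (n := i) ((Nat.card_zpowers g).trans hi)
  have hsup : IsPGroup 2 (Subgroup.zpowers g ⊔ S : Subgroup G) :=
    hz.to_sup_of_normal_right' hS ((Subgroup.zpowers_le).2 hg)
  have : Fact (Nat.Prime 2) := ⟨Nat.prime_two⟩
  have hmax : Subgroup.zpowers g ⊔ S = S := (hS.toSylow hidx).is_maximal' hsup le_sup_right
  exact hmax ▸ Subgroup.mem_sup_left (Subgroup.mem_zpowers g)

/-- The criterion. -/
theorem group_isSimple_selfNormalizing [Finite G] (S₀ : Subgroup G) (hp : IsPGroup 2 S₀)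
    (hidx : ¬ 2 ∣ S₀.index) (h1 : S₀ ≠ ⊥) (hsc : NoStronglyClosed S₀)
    (hno : ∀ g ∈ Subgroup.normalizer (S₀ : Set G), Odd (orderOf g) → g = 1) (S : Sylow 2 G) :
    (groupFusionSystem (S : Subgroup G)).IsSimple 2 :=
  haveI : Fact (Nat.Prime 2) := ⟨Nat.prime_two⟩
  group_isSimple S₀ hp hidx h1 hsc
    (fun _ hx => Subgroup.subset_closure (Or.inl (Or.inr
      (normalizer_le_of_no_odd hp hidx hno hx)))) S

end CfsgLib.Fusion
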