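/-
Simple fusion systems: no central part, no normal Sylow, and with two candidates both are radical.
-/
import Cfsg.Agent.Lib.Fusion.CandidateEngine
import Cfsg.Agent.Lib.Fusion.NormalCriteria
import Cfsg.Agent.Lib.Fusion.PPowerNormal
import Cfsg.Agent.Lib.Fusion.RankTwoShape
import Cfsg.Agent.Lib.Comp.ComponentCore

set_option autoImplicit false
set_option linter.unusedSectionVars false
set_option linter.style.haveILetI false

namespace CfsgLib.Fusion.SimpleTwo

open Cfsg Cfsg.FusionSystem Subgroup CfsgLib.Comp.CoreCent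

universe u

variable {Ω : Type u} [Group Ω] {S : Subgroup Ω} [Finite S] {F : FusionSystem S} {p : ℕ}
  [Fact p.Prime]

theorem eq_bot_or_inner (hS : IsPGroup p S) (hs : F.IsSimple p) {Q : Subgroup Ω}
    (hQ : F.IsNormal Q) :
    Q = ⊥ ∨ Q = S ∧ ∀ P : Subgroup Ω, F.Hom P = (innerFusionSystem S).Hom P := by
  rcases hs.2.2 Q _ (isNormalIn_innerFusionSystem hS hs.1 hQ) with h | ⟨rfl, h⟩
  · exact Or.inl h
  · exact Or.inr ⟨rfl, fun P => (h P).symm⟩

theorem isCentral_of_inner (h : ∀ P : Subgroup Ω, F.Hom P = (innerFusionSystem S).Hom P)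
    {Q : Subgroup Ω} (hQS : Q ≤ S) (hQ : ∀ q ∈ Q, ∀ g ∈ S, g * q * g⁻¹ = q) : F.IsCentral Q := by
  refine ⟨hQS, fun P φ hφ => ?_⟩
  rw [h P] at hφ
  obtain ⟨hP, g, hg, hgx⟩ := hφ
  exact ⟨conjHom (P ⊔ Q) g, F.conj_mem (sup_le hP hQS) hg, fun x => (hgx x).symm,
    fun x => hQ x x.2 g hg⟩

/-- A simple system is not the system of its `p`-group. -/
theorem not_inner (hS : IsPGroup p S) (hs : F.IsSimple p) (h4 : p < Nat.card S) :
    ¬ ∀ P : Subgroup Ω, F.Hom P = (innerFusionSystem S).Hom P := by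
  intro h
  haveI : Nontrivial S := Finite.one_lt_card_iff_nontrivial.1 ((Fact.out : p.Prime).one_lt.trans h4)
  have hne : center S ≠ ⊥ := fun hb => by
    haveI := hS.center_nontrivial
    exact Finite.one_lt_card_iff_nontrivial.2 ‹_› |>.ne' (by rw [hb, Subgroup.card_bot])
  obtain ⟨c, hc⟩ : ∃ c : center S, orderOf c = p := by
    refine exists_prime_orderOf_dvd_card' p ?_
    obtain ⟨n, hn⟩ := IsPGroup.iff_card.1 (hS.to_subgroup (center S))
    rcases n with _ | n
    · exact absurd (Subgroup.card_eq_one.1 (by rw [hn, pow_zero])) hne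
    · rw [hn]; exact dvd_pow_self p n.succ_ne_zero
  set z : Ω := ((c : S) : Ω)
  have hz : orderOf z = p := by rw [Subgroup.orderOf_coe, Subgroup.orderOf_coe, hc]
  have hcen : F.IsCentral (zpowers z) := by
    refine isCentral_of_inner h (zpowers_le.2 (c : S).2) ?_
    rintro q ⟨k, rfl⟩ g hg
    have h1 : g * z = z * g := congrArg Subtype.val (Subgroup.mem_center_iff.1 c.2 ⟨g, hg⟩)
    have h2 : Commute g z := h1
    exact mul_inv_eq_iff_eq_mul.2 (h2.zpow_right k).eq
  rcases eq_bot_or_inner hS hs (IsCentral.isNormal hcen) with hb | ⟨hb, -⟩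
  · have := Nat.card_zpowers z
    rw [hb, Subgroup.card_bot, hz] at this
    exact (Fact.out : p.Prime).one_lt.ne this
  · have := Nat.card_zpowers z
    rw [hb, hz] at this
    omega

theorem center_eq_bot (hS : IsPGroup p S) (hs : F.IsSimple p) (h4 : p < Nat.card S) :
    F.center = ⊥ :=
  (eq_bot_or_inner hS hs (IsCentral.isNormal center_isCentral)).resolve_right
    fun h => not_inner hS hs h4 h.2

theorem exists_essential (hS : IsPGroup p S) (hs : F.IsSimple p) (h4 : p < Nat.card S) :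
    ∃ P, F.IsEssential p P := by
  by_contra h
  push Not at h
  have hn : F.IsNormal S := by
    refine isNormal_of_alperin hS hs.1 le_rfl fun P hP => ?_
    rcases hP with rfl | hP
    · exact ⟨le_rfl, fun α _ x _ => (α x).2⟩
    · exact absurd hP (h P)
  rcases eq_bot_or_inner hS hs hn with hb | ⟨-, hb⟩
  · exact hs.2.1 hb
  · exact not_inner hS hs h4 hb

/-- With two candidates and a `2`-group of automorphisms, both candidates are radical. -/
theorem both_of_simple (hS : IsPGroup 2 S) (hs : F.IsSimple 2) (h4 : 2 < Nat.card S)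
    (hq : IsPGroup 2 (MulAut S)) {E : Fin 2 → Subgroup Ω} (hcand : HasCandidates F 2 E)
    (hE : ∀ i, E i < S) (i : Fin 2) : ¬ IsPGroup 2 (F.autGroup (E i)) := by
  haveI : Fact (Nat.Prime 2) := ⟨Nat.prime_two⟩
  intro hp
  obtain ⟨j, hj⟩ : ∃ j : Fin 2, ∀ k, k ≠ j → k = i := ⟨if i = 0 then 1 else 0, fun k hk => by
    fin_cases i <;> fin_cases k <;> simp_all⟩
  obtain ⟨n, hn⟩ := IsPGroup.iff_card.1 hS
  haveI := finite_of_le (hE j).le
  obtain ⟨m, hm⟩ := IsPGroup.iff_card.1 (hS.to_le (hE j).le)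
  have hlt : Nat.card (E j) < Nat.card S := by
    by_contra hge
    exact (hE j).ne (eq_of_le_of_card_le (hE j).le (not_lt.1 hge))
  have hmn : m < n := (Nat.pow_lt_pow_iff_right one_lt_two).1 (hm ▸ hn ▸ hlt)
  obtain ⟨M, hMc, hjM⟩ := Sylow.exists_subgroup_card_pow_prime_le 2
    (show 2 ^ (n - 1) ∣ Nat.card S by rw [hn]; exact pow_dvd_pow 2 (by omega))
    ((E j).subgroupOf S)
    (by rw [Nat.card_congr (Subgroup.subgroupOfEquivOfLe (hE j).le).toEquiv, hm]) (by omega)
  have hidx : M.index = 2 := by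
    have h1 := Subgroup.card_mul_index M
    rw [hMc, hn, show n = (n - 1) + 1 by omega, pow_succ, Nat.add_sub_cancel] at h1
    exact Nat.eq_of_mul_eq_mul_left (pow_pos two_pos _) h1
  haveI hMn : M.Normal := Subgroup.normal_of_index_eq_two hidx
  set T := M.map S.subtype with hT
  have hTS : T ≤ S := Subgroup.map_subtype_le M
  have hmem : ∀ x : S, (x : Ω) ∈ T ↔ x ∈ M := fun x =>
    ⟨fun ⟨y, hy, he⟩ => by rwa [← Subtype.ext he], fun h => ⟨x, h, rfl⟩⟩
  have hTn : (T.subgroupOf S).Normal := by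
    have e : T.subgroupOf S = M := by
      ext x
      rw [Subgroup.mem_subgroupOf, hmem]
    rw [e]
    exact hMn
  have hU : ∀ s ∈ S, ∀ x ∈ S, s * x * s⁻¹ ∈ (T : Set Ω) ↔ x ∈ (T : Set Ω) := by
    intro s hs x hx
    have e : ((⟨s, hs⟩ * ⟨x, hx⟩ * (⟨s, hs⟩ : S)⁻¹ : S) : Ω) = s * x * s⁻¹ := rfl
    rw [SetLike.mem_coe, SetLike.mem_coe, ← e, hmem]
    refine Iff.trans ?_ (hmem ⟨x, hx⟩).symm
    rw [hMn.mem_comm_iff, inv_mul_cancel_left]
  have hinv : ∀ {P : Subgroup Ω} {f : Ω → Ω}, IsMap F P f → ∀ {x}, x ∈ P → (f x ∈ T ↔ x ∈ T) :=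
    fun {P f} hf {x} hx => invariant_of_candidates hS hs.1 _ hU hcand
      (autGroup_top_invariant hS hs.1 hq _ hU) (fun k _ hk α _ y => by
        have hkj : k = j := by_contra fun hne => hk (hj k hne ▸ hp)
        subst hkj
        have hle : E k ≤ T := fun y hy => (hmem ⟨y, (hE k).le hy⟩).2
          (hjM (Subgroup.mem_subgroupOf.2 hy))
        exact iff_of_true (hle (α y).2) (hle y.2)) hf hx
  have hhyp : F.hyperfocalSubgroup 2 ≤ T := by
    refine hyperfocal_le_of _ fun P hP α hα _ x => ?_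
    have h1 := hinv (isMap_of_autGroup hP hα) x.2
    rw [toFun_aut_apply α x.2] at h1
    by_cases hx : (x : Ω) ∈ T
    · exact T.mul_mem (T.inv_mem hx) (h1.2 hx)
    · have hαx : ((α x : P) : Ω) ∉ T := fun h => hx (h1.1 h)
      have e : ((⟨(x : Ω), hP x.2⟩⁻¹ * ⟨((α x : P) : Ω), hP (α x).2⟩ : S) : Ω) =
          (x : Ω)⁻¹ * ((α x : P) : Ω) := rfl
      rw [← e, hmem, Subgroup.mul_mem_iff_of_index_two hidx, Subgroup.inv_mem_iff, ← hmem, ← hmem]
      exact iff_of_false hx hαx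
  haveI := finite_of_le hTS
  obtain ⟨E', hE', hEi⟩ := exists_pPowerIndex (Nat.card S) S hS F hs.1 T hTS hhyp (Nat.le_add_left _ _)
  have hcard : Nat.card T = 2 ^ (n - 1) := by
    rw [hT, Subgroup.card_map_of_injective S.subtype_injective, hMc]
  rcases hs.2.2 T E' (isNormalIn_of_pPower hS hs.1 hTS hTn hE' hEi) with h | ⟨h, -⟩
  · rw [h, Subgroup.card_bot] at hcard
    have : n - 1 = 0 := (Nat.pow_eq_one.1 hcard.symm).resolve_left (by norm_num)
    rw [show n = 1 by omega, pow_one] at hn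
    omega
  · rw [h, hn] at hcard
    have := Nat.pow_right_injective le_rfl hcard
    omega

/-- Simple systems of rank two live on dihedral, semidihedral or wreathed groups. -/
theorem shape_of_simple (hS : IsPGroup 2 S) (hs : F.IsSimple 2)
    (hr : Cfsg.PRankAtLeast 2 2 ↥S ∧ ¬ Cfsg.PRankAtLeast 2 3 ↥S) :
    (2 < Nat.card S) ∧ ((∃ m : ℕ, 4 ≤ m ∧ Nonempty (↥S ≃* DihedralGroup m)) ∨
      Cfsg.IsQuasiDihedral ↥S ∨ Cfsg.IsWreathed ↥S) := by
  haveI : Fact (Nat.Prime 2) := ⟨Nat.prime_two⟩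
  have h4 : 2 < Nat.card S := by
    obtain ⟨A, -, -, hA⟩ := hr.1
    have h := hA.trans (Subgroup.card_le_card_group A)
    omega
  refine ⟨h4, ?_⟩
  rcases RankTwo.shape hS hs.1 (RankTwo.rankLE_of_not hr.2) hs.2.1 (center_eq_bot hS hs h4) with
    h | ⟨⟨H⟩⟩
  · exact h
  · obtain ⟨P, hP⟩ := exists_essential hS hs h4
    exact absurd hP (RankTwo.no_essential hS hs.1 H P)

end CfsgLib.Fusion.SimpleTwo
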