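/-
Simple fusion systems on dihedral, semidihedral and wreathed `2`-groups are those of `PSL₂(q)` and
`PSL₃(q)`.
-/
import Cfsg.Agent.Lib.Fusion.SimpleRankTwo
import Cfsg.Agent.Lib.Fusion.InvertingShapes
import Cfsg.Agent.Lib.Fusion.WreathedModels
import Cfsg.Agent.Lib.Fusion.QDModels

set_option autoImplicit false
set_option linter.unusedSectionVars false
set_option linter.style.haveILetI false

namespace CfsgLib.Fusion.SimpleTwo

open Cfsg Cfsg.FusionSystem Subgroup CfsgLib.Invol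
open scoped MatrixGroups

universe u

/-- The conclusion: realized by `PSL₂(q)` or `PSL₃(q)`. -/
def IsPSLSystem {Ω : Type u} [Group Ω] {S : Subgroup Ω} (F : FusionSystem S) : Prop :=
  ∃ (q : ℕ) (_ : Fact q.Prime), q % 2 = 1 ∧
    (((q % 8 = 1 ∨ q % 8 = 7) ∧ ∃ ι : S →* PSL(2, ZMod q), F.IsRealizedBy ι ∧
      ∃ T : Sylow 2 PSL(2, ZMod q), (T : Subgroup PSL(2, ZMod q)) = ι.range) ∨
    (∃ ι : S →* PSL(3, ZMod q), F.IsRealizedBy ι ∧
      ∃ T : Sylow 2 PSL(3, ZMod q), (T : Subgroup PSL(3, ZMod q)) = ι.range))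

theorem eight_dvd {q k : ℕ} (hk : 2 ≤ k) (hf : (q + 1).factorization 2 = k + 1) : q % 8 = 7 := by
  have h1 : 2 ^ 3 ∣ q + 1 :=
    (pow_dvd_pow 2 (show 3 ≤ (q + 1).factorization 2 by omega)).trans (Nat.ordProj_dvd _ _)
  omega

/-- `PSL₂(q)` has a dihedral Sylow subgroup of given order with both classes fused. -/
theorem exists_psl_two_model {M : ℕ} (hM : 2 ≤ M) :
    ∃ (q : ℕ) (_ : Fact q.Prime) (R T : PSL(2, ZMod q)), q % 8 = 7 ∧ orderOf R = 2 ^ M ∧
      T * R * T⁻¹ = R⁻¹ ∧ T * T = 1 ∧ T ∉ zpowers R ∧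
      (Nat.card PSL(2, ZMod q)).factorization 2 = M + 1 ∧
      IsConj (R ^ 2 ^ (M - 1 - 0)) T ∧ IsConj (R ^ 2 ^ (M - 1 - 0)) (R * T) := by
  haveI : Fact (Nat.Prime 2) := ⟨Nat.prime_two⟩
  obtain ⟨q, hqp, -, hq4, hf1, hf2⟩ :=
    CfsgLib.Invol.SmallTwoModels.exists_prime_mod (j := M + 1) (by omega)
  haveI := Fact.mk hqp
  have hodd : Odd (Fintype.card (ZMod q)) := by rw [ZMod.card, Nat.odd_iff]; omega
  have h2 : (2 : ZMod q) ≠ 0 := two_ne_zero_of_odd hodd
  haveI : NeZero (2 ^ M) := ⟨pow_ne_zero _ two_ne_zero⟩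
  have hfac : (Nat.card SL(2, ZMod q)).factorization 2 = M + 2 := by
    rw [CfsgLib.Classical.factorization_card_sl_two hodd, ZMod.card, hf1, hf2]; omega
  obtain ⟨k', -, hk', hQ⟩ := CfsgLib.Classical.sylow_two_sl_two hodd
  obtain rfl : k' = M := by omega
  obtain ⟨e⟩ := hQ default
  obtain ⟨hr, hinv, hsq, hnot⟩ := quaternion_generators e 0
  set r : SL(2, ZMod q) := ((e.symm (QuaternionGroup.a 1) : _) : SL(2, ZMod q))
  set s : SL(2, ZMod q) := ((e.symm (QuaternionGroup.xa 0) : _) : SL(2, ZMod q))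
  set z : SL(2, ZMod q) := r ^ 2 ^ k' with hzdef
  have hz : (z : Matrix (Fin 2) (Fin 2) (ZMod q)) = -1 :=
    CfsgLib.Classical.neg_one_eq_pow hodd (by rw [hr, pow_succ']) (by positivity)
  have hzc : z ∈ center SL(2, ZMod q) := mem_center_of_eq_smul _ (-1) (by rw [hz, neg_one_smul])
  have hzone : z ≠ 1 := fun h => by
    have := congrArg (fun x : SL(2, ZMod q) => (x : Matrix (Fin 2) (Fin 2) (ZMod q)) 0 0) h
    simp [hz] at this
    exact h2 (by linear_combination -this)
  have hmem : ∀ w ∈ center SL(2, ZMod q), w = 1 ∨ w = z := by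
    intro w hw
    obtain ⟨a, ha, haw⟩ := Matrix.SpecialLinearGroup.mem_center_iff.1 hw
    rw [Fintype.card_fin] at ha
    rcases sq_eq_one_iff.1 ha with rfl | rfl
    · exact Or.inl (Matrix.SpecialLinearGroup.ext _ _ fun i j => by rw [← haw]; simp)
    · refine Or.inr (Matrix.SpecialLinearGroup.ext _ _ fun i j => ?_)
      rw [← haw, hz]
      fin_cases i <;> fin_cases j <;> simp
  have hcard : Nat.card (center SL(2, ZMod q)) = 2 := by
    have he : center SL(2, ZMod q) = zpowers z := by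
      refine le_antisymm (fun w hw => ?_) (zpowers_le.2 hzc)
      rcases hmem w hw with rfl | rfl
      · exact one_mem _
      · exact mem_zpowers _
    rw [he, Nat.card_zpowers]
    refine orderOf_eq_prime ?_ hzone
    refine Matrix.SpecialLinearGroup.ext _ _ fun i j => ?_
    rw [pow_two, Matrix.SpecialLinearGroup.coe_mul, hz, neg_mul_neg, one_mul]
    rfl
  set π := QuotientGroup.mk' (center SL(2, ZMod q))
  have hdesc : ∀ a b : SL(2, ZMod q), π a = π b → b = a ∨ b = a * z := fun a b h => by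
    rcases hmem _ (QuotientGroup.eq.1 h) with h' | h'
    · exact Or.inl (inv_mul_eq_one.1 h').symm
    · exact Or.inr (by rw [← h', mul_inv_cancel_left])
  have hzr : z ∈ zpowers r := pow_mem (mem_zpowers r) _
  have hg2 : ((r ^ 2 ^ (k' - 1) * r ^ 2 ^ (k' - 1) : SL(2, ZMod q)) :
      Matrix (Fin 2) (Fin 2) (ZMod q)) = -1 := by
    rw [← pow_add, ← two_mul, ← pow_succ', show k' - 1 + 1 = k' by omega]
    exact hz
  refine ⟨q, inferInstance, π r, π s, eight_dvd hM (by omega), ?_, ?_, ?_, ?_, ?_, ?_, ?_⟩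
  · refine orderOf_eq_prime_pow (p := 2) (n := k' - 1) (fun h => ?_) ?_ |>.trans (by
      rw [show k' - 1 + 1 = k' by omega])
    · rw [← map_pow] at h
      have hc := (QuotientGroup.eq_one_iff _).1 h
      have hlt : 2 ^ (k' - 1) < 2 ^ k' := Nat.pow_lt_pow_right one_lt_two (by omega)
      have hlt2 : 2 ^ k' < 2 ^ (k' + 1) := Nat.pow_lt_pow_right one_lt_two (by omega)
      rcases hmem _ hc with h' | h'
      · exact absurd (Nat.le_of_dvd (by positivity) (orderOf_dvd_of_pow_eq_one h'))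
          (by rw [hr]; omega)
      · rw [hzdef, pow_inj_mod, hr, Nat.mod_eq_of_lt (by omega), Nat.mod_eq_of_lt hlt2] at h'
        omega
    · rw [show k' - 1 + 1 = k' by omega, ← map_pow]
      exact (QuotientGroup.eq_one_iff _).2 hzc
  · rw [← map_inv, ← map_mul, ← map_mul, hinv, map_inv]
  · rw [← map_mul, hsq]
    exact (QuotientGroup.eq_one_iff _).2 hzc
  · rintro ⟨n, hn⟩
    have hn' : π (r ^ n) = π s := by rw [map_zpow]; exact hn
    rcases hdesc _ _ hn' with h' | h' <;> rw [h'] at hnot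
    · exact hnot (zpow_mem (mem_zpowers r) n)
    · exact hnot (mul_mem (zpow_mem (mem_zpowers r) n) hzr)
  · have h := (center SL(2, ZMod q)).card_mul_index
    rw [hcard] at h
    rw [← h, Nat.factorization_mul two_ne_zero Subgroup.index_ne_zero_of_finite, Finsupp.add_apply,
      Nat.prime_two.factorization_self] at hfac
    show (center SL(2, ZMod q)).index.factorization 2 = k' + 1
    omega
  · rw [Nat.sub_zero, ← map_pow]
    exact π.map_isConj (sl_two_sq_neg_conj hodd _ _ hg2 (by rw [hsq]; exact hz))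
  · rw [Nat.sub_zero, ← map_pow, ← map_mul]
    refine π.map_isConj (sl_two_sq_neg_conj hodd _ _ hg2 ?_)
    have h1 : r * s * (r * s) = s * s := by
      have h2 : s * r = r⁻¹ * s := mul_inv_eq_iff_eq_mul.1 hinv
      rw [mul_assoc, ← mul_assoc s, h2]
      group
    rw [h1, hsq]
    exact hz

variable {Ω : Type u} [Group Ω] {S : Subgroup Ω} [Finite S] {F : FusionSystem S}

theorem dihedral_psl (hS : IsPGroup 2 S) (hs : F.IsSimple 2) (h4 : 2 < Nat.card S) {m : ℕ}
    (hm : 4 ≤ m) (e : S ≃* DihedralGroup m) : IsPSLSystem F := by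
  haveI : Fact (Nat.Prime 2) := ⟨Nat.prime_two⟩
  obtain ⟨D⟩ := exists_invData_dihedral hm hS e
  have hc : D.c = 0 := by
    by_contra hc
    have hc1 : D.c = 1 := by have := D.hc; omega
    have hall : ∀ w : S, w * w = 1 → (w : Ω) ∈ zpowers D.r := by
      intro w hw
      rcases D.cases w.2 with ⟨i, hi⟩ | ⟨i, hi⟩
      · exact ⟨i, hi.symm⟩
      · have h1 := D.orderOf_mul_s i
        rw [← hi, hc1] at h1
        have h2 : orderOf (w : Ω) ∣ 2 :=
          orderOf_dvd_of_pow_eq_one (by rw [pow_two]; exact congrArg Subtype.val hw)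
        rw [h1] at h2
        exact absurd (Nat.le_of_dvd two_pos h2) (by norm_num)
    obtain ⟨i, hi⟩ := hall (e.symm (DihedralGroup.sr 0)) (by rw [← map_mul]; simp)
    obtain ⟨j, hj⟩ := hall (e.symm (DihedralGroup.sr 1)) (by rw [← map_mul]; simp)
    have hcom : (e.symm (DihedralGroup.sr 0) : S) * e.symm (DihedralGroup.sr 1) =
        e.symm (DihedralGroup.sr 1) * e.symm (DihedralGroup.sr 0) := Subtype.ext (by
      rw [Subgroup.coe_mul, Subgroup.coe_mul]
      simp only [← hi, ← hj, ← zpow_add, add_comm])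
    rw [← map_mul, ← map_mul] at hcom
    have h1 := e.symm.injective hcom
    simp at h1
    haveI : NeZero m := ⟨by omega⟩
    have h3 : ((2 : ℕ) : ZMod m) = 0 := by
      push_cast
      linear_combination h1
    have h4 := Nat.le_of_dvd two_pos ((ZMod.natCast_eq_zero_iff 2 m).1 h3)
    omega
  have hlt : ∀ ε, D.rep ε < S := fun ε =>
    lt_of_le_not_ge (D.E_le _) fun h => D.r_notMem_E _ (h D.r_mem)
  have hfus : ∀ ε : Fin 2, D.Fused F ((ε : ℕ) : ℤ) := fun ε => D.fused_of_odd _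
    (both_of_simple hS hs h4 D.isPGroup_mulAut (D.hasCandidates hs.1) hlt ε)
  obtain ⟨q, hqp, R, T, hq, hR, hTR, hT, hTn, hfac, c0, c1⟩ :=
    exists_psl_two_model (M := D.M) (by have := D.hM; omega)
  have hT' : T * T = R ^ D.σ := by rw [hT, InvData.σ, hc, Nat.cast_zero, mul_zero, zpow_zero]
  obtain ⟨ι, hι, hιr, hιs⟩ := D.exists_hom hR hTR hT' hTn
  have hd : D.d = ((2 ^ (D.M - 1 - 0) : ℕ) : ℤ) := by
    have := D.hM
    rw [InvData.d, InvData.e, hc, mul_comm (2 : ℤ), ← pow_succ]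
    push_cast
    congr 1
    omega
  have eg : ι ⟨D.g, D.r_pow_mem _⟩ = R ^ 2 ^ (D.M - 1 - 0) := by
    rw [← hιr, ← map_pow]
    congr 1
    refine Subtype.ext ?_
    rw [SubgroupClass.coe_pow, ← zpow_natCast, ← hd]
    rfl
  have hcard : Nat.card ι.range = 2 ^ (Nat.card PSL(2, ZMod q)).factorization 2 := by
    rw [hfac, ← D.card_eq]
    exact (Nat.card_congr (MonoidHom.ofInjective hι).toEquiv).symm
  have hT2 : ∃ T : Sylow 2 PSL(2, ZMod q), (T : Subgroup PSL(2, ZMod q)) = ι.range :=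
    ⟨Sylow.ofCard ι.range hcard, rfl⟩
  have hr := isRealizedBy_pullSys ι hι
  have he : F = pullSys ι hι := by
    refine D.eq_of_fused hs.1 (isSaturated_of_realized hr hT2) fun ε =>
      iff_of_true (hfus ε) ((D.fused_iff_isConj hr _).2 ?_)
    rw [eg]
    fin_cases ε
    · convert c0
      rw [← hιs]
      congr 1
      exact Subtype.ext (by simp)
    · convert c1
      rw [← hιr, ← hιs, ← map_mul]
      congr 1
      exact Subtype.ext (by simp)
  rw [he]
  exact ⟨q, hqp, by omega, Or.inl ⟨Or.inr hq, ι, hr, hT2⟩⟩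

/-- A Sylow `2`-subgroup of `SL₃` embeds as one of `PSL₃`. -/
theorem toPSL {S : Type u} [Group S] (hS : IsPGroup 2 S) {q : ℕ} [Fact q.Prime]
    (j : S →* SL(3, ZMod q)) (hj : Function.Injective j)
    (hT : ∃ T : Sylow 2 SL(3, ZMod q), (T : Subgroup SL(3, ZMod q)) = j.range) :
    Function.Injective ((QuotientGroup.mk' (center SL(3, ZMod q))).comp j) ∧
      ∃ T : Sylow 2 PSL(3, ZMod q), (T : Subgroup PSL(3, ZMod q)) =
        ((QuotientGroup.mk' (center SL(3, ZMod q))).comp j).range := by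
  haveI : Fact (Nat.Prime 2) := ⟨Nat.prime_two⟩
  refine ⟨(injective_iff_map_eq_one _).2 fun s hs => ?_, ?_⟩
  · have hc : j s ∈ center SL(3, ZMod q) := (QuotientGroup.eq_one_iff _).1 hs
    obtain ⟨a, ha, haw⟩ := Matrix.SpecialLinearGroup.mem_center_iff.1 hc
    rw [Fintype.card_fin] at ha
    have h3 : j s ^ 3 = 1 := by
      refine Matrix.SpecialLinearGroup.ext _ _ fun i k => ?_
      rw [Matrix.SpecialLinearGroup.coe_pow, ← haw, ← map_pow, ha, map_one]
      rfl
    rw [← map_pow] at h3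
    have hs3 : s ^ 3 = 1 := hj (h3.trans (map_one j).symm)
    obtain ⟨n, hn⟩ := hS s
    have hg : s ^ Nat.gcd 3 (2 ^ n) = 1 := pow_gcd_eq_one.2 ⟨hs3, hn⟩
    rwa [(show (3 : ℕ).Coprime 2 by norm_num).pow_right n, pow_one] at hg
  · obtain ⟨T, hT⟩ := hT
    refine ⟨T.mapSurjective (QuotientGroup.mk'_surjective _), ?_⟩
    show (T : Subgroup SL(3, ZMod q)).map _ = _
    rw [hT, MonoidHom.map_range]

theorem qd_psl (hS : IsPGroup 2 S) (hs : F.IsSimple 2) (h4 : 2 < Nat.card S)
    (hsd : Cfsg.IsQuasiDihedral ↥S) : IsPSLSystem F := by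
  classical
  haveI : Fact (Nat.Prime 2) := ⟨Nat.prime_two⟩
  obtain ⟨D, n, hn, hm, hcard⟩ := CfsgLib.Invol.exists_qdData hsd
  have hq := SmallTwoModels.isPGroup_mulAut_qd hsd
  have hfus : ∀ c, QDShape.Fused D F c := fun c => QDShape.fused_of_odd D c
    (both_of_simple hS hs h4 hq (QDShape.hasCandidates D hS hs.1) (QDShape.rep_lt D) c)
  have hne : D.x ^ (2 * (D.m : ℤ)) ≠ D.x ^ (0 : ℤ) * D.y := fun h =>
    D.zpow_mul_y_ne _ _ h.symm
  obtain ⟨q, hqp, ι, hq2, hι, hrange, hz, hc1⟩ := QDShape.exists_gl_model D hn hm hcard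
  have h2 : (2 : ZMod q) ≠ 0 := two_ne_zero_of_odd (by rw [ZMod.card, Nat.odd_iff]; exact hq2)
  have hι' : Function.Injective (LinThree.block.comp ι) := LinThree.block_injective.comp hι
  have hcr : Nat.card (LinThree.block.comp ι).range =
      2 ^ (Nat.card SL(3, ZMod q)).factorization 2 := by
    rw [QDShape.factorization_card_sl_three (by rw [ZMod.card, Nat.odd_iff]; exact hq2), ← hrange,
      ← Nat.card_congr (MonoidHom.ofInjective hι').toEquiv,
      ← Nat.card_congr (MonoidHom.ofInjective hι).toEquiv]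
  obtain ⟨hinj, hT⟩ := toPSL hS _ hι' ⟨Sylow.ofCard _ hcr, rfl⟩
  have hr := isRealizedBy_pullSys _ hinj
  have he : F = pullSys _ hinj := by
    refine QDShape.eq_of_fused D hS hq hs.1 (isSaturated_of_realized hr hT) fun c =>
      iff_of_true (hfus c) ((QDShape.fused_iff_isConj D hr c).2 ((QuotientGroup.mk' _).map_isConj ?_))
    fin_cases c
    · have hy : IsConj (ι (D.x ^ (0 : ℤ) * D.y)) (LinThree.dg (1, -1)) := by
        refine QDShape.isConj_dg_of_involution h2 ?_ ?_ ?_
        · rw [← map_mul, zpow_zero, one_mul, invol_mul_self D.orderOf_y, map_one]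
        · rw [← map_one ι]
          intro h
          have := hι h
          rw [zpow_zero, one_mul] at this
          exact invol_ne_one D.orderOf_y this
        · rw [← hz]
          exact fun h => hne (hι h).symm
      obtain ⟨g, hg⟩ := LinThree.conj_cyclic_negOne (F := ZMod q)
      have hg0 : QDShape.gg D 0 = D.x ^ (2 * (D.m : ℤ)) := by simp [QDShape.gg, QDShape.dd]
      simp only [Fin.zero_eta, MonoidHom.comp_apply, hg0, hz, Fin.val_zero, Nat.cast_zero]
      exact IsConj.trans (_root_.isConj_iff.2 ⟨g, hg⟩) (LinThree.block.map_isConj hy).symm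
    · have hg1 : QDShape.gg D 1 = D.x ^ (D.m : ℤ) := by simp [QDShape.gg, QDShape.dd]
      simp only [Fin.mk_one, MonoidHom.comp_apply, hg1, Fin.val_one, Nat.cast_one]
      exact LinThree.block.map_isConj hc1
  rw [he]
  exact ⟨q, hqp, hq2, Or.inr ⟨_, hr, hT⟩⟩

theorem wr_psl (hS : IsPGroup 2 S) (hs : F.IsSimple 2) (h4 : 2 < Nat.card S)
    (hw : Cfsg.IsWreathed ↥S) : IsPSLSystem F := by
  haveI : Fact (Nat.Prime 2) := ⟨Nat.prime_two⟩
  obtain ⟨D⟩ := CfsgLib.Invol.exists_wrData hw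
  have hq := isPGroup_mulAut_wr hw
  have hboth : ∀ D : WrData S, ∀ i, ¬ IsPGroup 2 (F.autGroup (WrShape.rep D i)) := by
    refine fun D => both_of_simple hS hs h4 hq (WrShape.hasCandidates D hS hs.1) fun i => ?_
    fin_cases i
    · refine lt_of_le_not_ge (WrShape.repA_le D) fun h => ?_
      exact D.el_t_notMem_A 0 0 ((WrShape.mem_repA D).1 (h (D.el 0 0 * D.t).2))
    · exact WrShape.repW_lt D
  obtain ⟨D', hD'⟩ := WrShape.exists_std D hS hs.1 (hboth D 0)
  have hW' : ¬ IsPGroup 2 (F.autGroup (WrShape.repW D')) := hboth D' 1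
  obtain ⟨q, hqp, ι, ζ, hq2, hι, hrange, -, ht, hel⟩ := WrShape.exists_gl_model D'
  have hι' : Function.Injective (LinThree.block.comp ι) := LinThree.block_injective.comp hι
  have hcr : Nat.card (LinThree.block.comp ι).range =
      2 ^ (Nat.card SL(3, ZMod q)).factorization 2 := by
    rw [QDShape.factorization_card_sl_three (by rw [ZMod.card, Nat.odd_iff]; exact hq2), ← hrange,
      ← Nat.card_congr (MonoidHom.ofInjective hι').toEquiv,
      ← Nat.card_congr (MonoidHom.ofInjective hι).toEquiv]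
  obtain ⟨hinj, hT⟩ := toPSL hS _ hι' ⟨Sylow.ofCard _ hcr, rfl⟩
  have hr := isRealizedBy_pullSys _ hinj
  have hF' := isSaturated_of_realized hr hT
  set π := QuotientGroup.mk' (center SL(3, ZMod q)) with hπ
  have hA' := WrShape.std_of_isConj D' hr
    (π (LinThree.slMk !![(-1 : ZMod q), 0, 0; 0, 0, 1; 0, 1, 0] (by simp [Matrix.det_fin_three])))
    fun i j => by
      simp only [MonoidHom.comp_apply, ← map_inv π, ← map_mul π, hel]
      refine congrArg π (LinThree.conj_block _ _ ?_)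
      rw [LinThree.blockMat_dg, LinThree.blockMat_dg]
      ext r c
      fin_cases r <;> fin_cases c <;>
        simp [Matrix.mul_apply, Fin.sum_univ_three, zpow_sub, zpow_neg, Units.val_inv_eq_inv_val] <;>
        field_simp
  have hWp : ¬ IsPGroup 2 ((pullSys _ hinj).autGroup (WrShape.repW D')) := fun hp => by
    obtain ⟨f, hf, hfe⟩ := WrShape.exists_map_of_isConj hr
      (a := D'.el D'.h 0) (b := D'.el 0 0 * D'.t) (π.map_isConj (LinThree.block.map_isConj ht))
    exact WrShape.not_fusedW D' hS hq hF' hp ⟨f, hf, 0, 0, hfe⟩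
  have he : F = pullSys _ hinj := fusionSystem_ext (hom_eq_of_le_le
    (WrShape.le_of_data D' hS hq hs.1 (fun _ => ⟨hD', hA'⟩) fun _ => hWp)
    (WrShape.le_of_data D' hS hq hF' (fun _ => ⟨hA', hD'⟩) fun _ => hW'))
  rw [he]
  exact ⟨q, hqp, hq2, Or.inr ⟨_, hr, hT⟩⟩

end CfsgLib.Fusion.SimpleTwo
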