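import Cfsg.Agent.Lib.Fusion.SmallElements
import Cfsg.Agent.Lib.Fusion.NormalizerSaturated
import Cfsg.Agent.Lib.Fusion.HyperFocal
import Cfsg.Agent.Lib.Fusion.NormalCriteria
import Mathlib.GroupTheory.Nilpotent

/-!
Small abelian subgroups of the hyperfocal subgroup control fusion: two saturated systems, one
inside the other, with the same maps on abelian subgroups of the hyperfocal subgroup of exponent
dividing `p` (dividing `4` for `p = 2`) are equal.
-/

set_option autoImplicit false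
set_option linter.unusedVariables false
set_option linter.unusedSectionVars false
set_option linter.style.haveILetI false

namespace CfsgLib.Fusion

open Cfsg Cfsg.FusionSystem Subgroup

variable {Ω : Type*} [Group Ω] {S : Subgroup Ω} {F E : FusionSystem S} {P B Q : Subgroup Ω} {p q : ℕ}

/-- An abelian subgroup of the hyperfocal subgroup of exponent dividing `q`. -/
def SmallAb (F : FusionSystem S) (p q : ℕ) (B : Subgroup Ω) : Prop :=
  B ≤ F.hyperfocalSubgroup p ∧ (∀ a ∈ B, ∀ b ∈ B, a * b = b * a) ∧ ∀ a ∈ B, a ^ q = 1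

/-- A normal subgroup not inside `M` has an element outside `M` central modulo `M`. -/
theorem exists_central_mod {G : Type*} [Group G] [Group.IsNilpotent G] {D M : Subgroup G}
    [D.Normal] (h : ¬ D ≤ M) : ∃ d ∈ D, d ∉ M ∧ ∀ g : G, d * g * d⁻¹ * g⁻¹ ∈ M := by
  classical
  obtain ⟨n, hn⟩ := (inferInstance : Group.IsNilpotent G).nilpotent'
  have hex : ∃ i, ¬ D ⊓ Subgroup.upperCentralSeries G i ≤ M := ⟨n, by rwa [hn, inf_top_eq]⟩
  have h0 : Nat.find hex ≠ 0 := fun h0 => by
    have := Nat.find_spec hex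
    rw [h0, Subgroup.upperCentralSeries_zero, inf_bot_eq] at this
    exact this bot_le
  obtain ⟨j, hj⟩ := Nat.exists_eq_succ_of_ne_zero h0
  have hmin : D ⊓ Subgroup.upperCentralSeries G j ≤ M :=
    not_not.1 (Nat.find_min hex (by omega))
  obtain ⟨d, ⟨hdD, hdZ⟩, hdM⟩ := SetLike.not_le_iff_exists.1 (hj ▸ Nat.find_spec hex)
  refine ⟨d, hdD, hdM, fun g => hmin ⟨?_, Subgroup.mem_upperCentralSeries_succ_iff.1 hdZ g⟩⟩
  have h1 : g * d⁻¹ * g⁻¹ ∈ D := Subgroup.Normal.conj_mem inferInstance _ (D.inv_mem hdD) g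
  simpa [mul_assoc] using D.mul_mem hdD h1

variable [Fact p.Prime] [Finite S] (hS : IsPGroup p S) (hE : E.IsSaturated p) (hF : F.IsSaturated p)
  (hle : E ≤ F) (hq : ∀ x : Ω, SmallElt p x → x ^ q = 1)
  (hom : ∀ (B : Subgroup Ω) (f : Ω → Ω), SmallAb F p q B → IsMap F B f → IsMap E B f)

include hS hF

theorem stronglyClosed_hyperfocal : F.StronglyClosed (F.hyperfocalSubgroup p) :=
  stronglyClosed_of_hyperfocal_le hS hF (hyperfocal_le F p) le_rfl
    fun a ha y hy => conj_mem_hyperfocal ha hy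

include hq

/-- Either a larger small abelian normal subgroup exists, or every automorphism of order prime to
`p` fixing `B` is trivial. -/
theorem eq_one_or_exists_larger (hQ : Q ≤ S) (hBQ : B ≤ Q)
    (hBn : ∀ a ∈ Q, ∀ b ∈ B, a * b * a⁻¹ ∈ B) (hB : SmallAb F p q B) :
    (∃ B', B < B' ∧ B' ≤ Q ∧ (∀ a ∈ Q, ∀ b ∈ B', a * b * a⁻¹ ∈ B') ∧ SmallAb F p q B') ∨
    ∀ γ ∈ F.autGroup Q, (orderOf γ).Coprime p →
      (∀ x : Q, (x : Ω) ∈ B → γ x = x) → γ = 1 := by
  classical
  haveI := finite_of_le hQ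
  set C := Q ⊓ Subgroup.centralizer (B : Set Ω) with hC
  have hCQ : C ≤ Q := inf_le_left
  have hCS : C ≤ S := hCQ.trans hQ
  have hBC : B ≤ C := fun b hb => ⟨hBQ hb, fun a ha => hB.2.1 a ha b hb⟩
  have hCn : ∀ a ∈ Q, ∀ c ∈ C, a * c * a⁻¹ ∈ C := by
    intro a ha c hc
    refine ⟨Q.mul_mem (Q.mul_mem ha hc.1) (Q.inv_mem ha), fun b hb => ?_⟩
    have h1 : a⁻¹ * b * a ∈ B := by simpa using hBn a⁻¹ (Q.inv_mem ha) b hb
    have h2 : a⁻¹ * b * a * c = c * (a⁻¹ * b * a) := hc.2 _ h1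
    calc b * (a * c * a⁻¹) = a * (a⁻¹ * b * a * c) * a⁻¹ := by group
      _ = a * c * a⁻¹ * b := by rw [h2]; group
  haveI := finite_of_le hCS
  obtain ⟨D, hDi, hDs, hDf⟩ := exists_small_detecting (F := F) hS hCS
  have hDn : ∀ a ∈ Q, ∀ d ∈ D, ∀ (h : a * (d : Ω) * a⁻¹ ∈ C), (⟨_, h⟩ : C) ∈ D := by
    intro a ha d hd h
    have hm := isMap_conj F hCS (hQ ha)
    have hi : img C (fun y => a * y * a⁻¹) = C := by
      refine eq_of_le_of_card_le (fun y hy => ?_) hm.card_img.ge
      obtain ⟨x, hx, rfl⟩ := hm.mem_img.1 hy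
      exact hCn a ha x hx
    exact (Subtype.ext rfl : hm.toAut hi d = ⟨_, h⟩) ▸ hDi _ (hm.toAut_mem hi) d hd
  by_cases hDB : ∀ d ∈ D, (d : Ω) ∈ B
  · refine Or.inr fun γ hγ hc hfix => ?_
    have hCinv : ∀ x : Q, (x : Ω) ∈ C → ((γ x : Q) : Ω) ∈ C := by
      intro x hx
      refine ⟨(γ x).2, fun b hb => ?_⟩
      have h1 : x * ⟨b, hBQ hb⟩ = ⟨b, hBQ hb⟩ * x := Subtype.ext (hx.2 b hb).symm
      have h2 := congrArg γ h1
      rw [map_mul, map_mul, hfix ⟨b, hBQ hb⟩ hb] at h2
      exact (congrArg Subtype.val h2).symm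
    have hm := (isMap_of_autGroup hQ hγ).mono hCQ
    have hi : img C (toFun (Q.subtype.comp γ.toMonoidHom)) = C := by
      refine eq_of_le_of_card_le (fun y hy => ?_) hm.card_img.ge
      obtain ⟨x, hx, rfl⟩ := hm.mem_img.1 hy
      rw [toFun_aut_apply γ (hCQ hx)]
      exact hCinv _ hx
    set δ := hm.toAut hi with hδ
    have hδx : ∀ x : C, ((δ x : C) : Ω) = ((γ ⟨x, hCQ x.2⟩ : Q) : Ω) := fun x => by
      rw [hδ, IsMap.toAut_apply, toFun_aut_apply γ (hCQ x.2)]
    have hpow : ∀ (n : ℕ) (x : C),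
        (((δ ^ n) x : C) : Ω) = (((γ ^ n) ⟨x, hCQ x.2⟩ : Q) : Ω) := by
      intro n
      induction n with
      | zero => intro x; rfl
      | succ n ih =>
        intro x
        rw [pow_succ', MulAut.mul_apply, hδx, pow_succ', MulAut.mul_apply]
        congr 2
        exact Subtype.ext (ih x)
    have hδo : orderOf δ ∣ orderOf γ := orderOf_dvd_of_pow_eq_one (by
      ext x
      rw [hpow, pow_orderOf_eq_one]
      rfl)
    have hδ1 : δ = 1 := hDf δ (hm.toAut_mem hi) (hc.coprime_dvd_left hδo) fun d hd => by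
      refine Subtype.ext ?_
      rw [hδx, hfix ⟨d, hCQ d.2⟩ (hDB d hd)]
    refine eq_one_of_fixes_sub (hS.to_le hQ) hc fun x => ?_
    have hmem : ((x⁻¹ * γ x : Q) : Ω) ∈ C := by
      refine ⟨(x⁻¹ * γ x).2, fun b hb => ?_⟩
      have hxb : (x : Ω) * b * (x : Ω)⁻¹ ∈ B := hBn _ x.2 b hb
      have h1 := hfix (x * ⟨b, hBQ hb⟩ * x⁻¹) hxb
      rw [map_mul, map_mul, map_inv, hfix ⟨b, hBQ hb⟩ hb] at h1
      have h2 : ((γ x : Q) : Ω) * b * ((γ x : Q) : Ω)⁻¹ = (x : Ω) * b * (x : Ω)⁻¹ :=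
        congrArg Subtype.val h1
      show b * ((x : Ω)⁻¹ * ((γ x : Q) : Ω)) = (x : Ω)⁻¹ * ((γ x : Q) : Ω) * b
      calc b * ((x : Ω)⁻¹ * ((γ x : Q) : Ω))
          = (x : Ω)⁻¹ * ((x : Ω) * b * (x : Ω)⁻¹) * ((γ x : Q) : Ω) := by group
        _ = _ := by rw [← h2]; group
    have h3 := hδx ⟨_, hmem⟩
    rw [hδ1] at h3
    exact Subtype.ext h3.symm
  · simp only [not_forall] at hDB
    obtain ⟨d₀, hd₀, hd₀B⟩ := hDB
    haveI := (hS.to_le hQ).isNilpotent
    set DQ := (D.map C.subtype).subgroupOf Q with hDQ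
    haveI : DQ.Normal := ⟨fun x hx g => by
      obtain ⟨d, hd, hdx⟩ := hx
      have h : (g : Ω) * (d : Ω) * (g : Ω)⁻¹ ∈ C := hCn _ g.2 _ d.2
      exact ⟨⟨_, h⟩, hDn _ g.2 d hd h, by
        show (g : Ω) * (d : Ω) * (g : Ω)⁻¹ = ((g * x * g⁻¹ : Q) : Ω)
        rw [show ((g * x * g⁻¹ : Q) : Ω) = (g : Ω) * (x : Ω) * (g : Ω)⁻¹ from rfl]
        exact congrArg (fun y => (g : Ω) * y * (g : Ω)⁻¹) hdx⟩⟩
    obtain ⟨d, hdD, hdB, hdc⟩ := exists_central_mod (D := DQ) (M := B.subgroupOf Q)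
      fun hle => hd₀B (hle (x := ⟨d₀, hCQ d₀.2⟩) ⟨d₀, hd₀, rfl⟩)
    obtain ⟨c, hcD, hcd⟩ := hdD
    have hdC : (d : Ω) ∈ C := by
      have := c.2
      rwa [show (c : Ω) = d from hcd] at this
    obtain ⟨hsm, hhyp⟩ := hDs c hcD
    rw [show (c : Ω) = d from hcd] at hsm hhyp
    have hcomm : ∀ b ∈ B, b * (d : Ω) = (d : Ω) * b := fun b hb => hdC.2 b hb
    have hnz : zpowers (d : Ω) ≤ Subgroup.normalizer (B : Set Ω) := by
      refine le_trans ?_ (Subgroup.centralizer_le_normalizer (s := (B : Set Ω)))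
      exact zpowers_le.2 fun n hn => hcomm n hn
    have hdec : ∀ x ∈ B ⊔ zpowers (d : Ω), ∃ b ∈ B, ∃ k : ℤ, b * (d : Ω) ^ k = x := by
      intro x hx
      have h1 : x ∈ ((B ⊔ zpowers (d : Ω) : Subgroup Ω) : Set Ω) := hx
      rw [Subgroup.coe_mul_of_right_le_normalizer_left B (zpowers (d : Ω)) hnz] at h1
      obtain ⟨b, hb, z, hz, rfl⟩ := Set.mem_mul.1 h1
      obtain ⟨k, rfl⟩ := hz
      exact ⟨b, hb, k, rfl⟩
    refine Or.inl ⟨B ⊔ Subgroup.zpowers (d : Ω), left_lt_sup.2 fun h => hdB (h (mem_zpowers _)),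
      sup_le hBQ (zpowers_le.2 d.2), fun a ha => ?_, sup_le hB.1 (zpowers_le.2 hhyp), ?_, ?_⟩
    · have h1 : B ⊔ zpowers (d : Ω) ≤ (B ⊔ zpowers (d : Ω)).comap (MulAut.conj a).toMonoidHom := by
        refine sup_le (fun b hb => mem_sup_left (hBn a ha b hb)) (zpowers_le.2 ?_)
        have h2 : (d : Ω) * a * (d : Ω)⁻¹ * a⁻¹ ∈ B := hdc ⟨a, ha⟩
        have h3 : a * (d : Ω) * a⁻¹ = ((d : Ω) * a * (d : Ω)⁻¹ * a⁻¹)⁻¹ * (d : Ω) := by group
        show a * (d : Ω) * a⁻¹ ∈ B ⊔ zpowers (d : Ω)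
        rw [h3]
        exact mul_mem_sup (B.inv_mem h2) (mem_zpowers _)
      exact fun b hb => h1 hb
    · intro x hx y hy
      obtain ⟨b, hb, k, rfl⟩ := hdec x hx
      obtain ⟨b', hb', l, rfl⟩ := hdec y hy
      have c1 : Commute b b' := hB.2.1 b hb b' hb'
      have c2 : Commute b ((d : Ω) ^ l) := (show Commute b (d : Ω) from hcomm b hb).zpow_right l
      have c3 : Commute ((d : Ω) ^ k) b' :=
        ((show Commute b' (d : Ω) from hcomm b' hb').zpow_right k).symm
      have c4 : Commute ((d : Ω) ^ k) ((d : Ω) ^ l) := (Commute.refl _).zpow_zpow k l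
      exact ((c1.mul_right c2).mul_left (c3.mul_right c4)).eq
    · intro a ha
      obtain ⟨b, hb, k, rfl⟩ := hdec a ha
      rw [((show Commute b (d : Ω) from hcomm b hb).zpow_right k).mul_pow, hB.2.2 b hb, one_mul,
        ← zpow_natCast, ← zpow_mul, mul_comm, zpow_mul, zpow_natCast, hq _ hsm, one_zpow]

include hE hle hom

theorem isMap_of_small_normal :
    ∀ (m : ℕ) (P : Subgroup Ω) (f : Ω → Ω), IsMap F P f → ∀ B : Subgroup Ω, B ≤ P →
      (∀ a ∈ P, ∀ b ∈ B, a * b * a⁻¹ ∈ B) → SmallAb F p q B →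
      Nat.card S + 1 ≤ m + Nat.card B → IsMap E P f := by
  intro m
  induction m with
  | zero =>
    intro P f hf B hBP _ _ hm
    have := Subgroup.card_le_of_le (hBP.trans hf.le)
    omega
  | succ m ih =>
    intro P f hf B hBP hBn hB hm
    haveI := finite_of_le hf.le
    have hBS : B ≤ S := hBP.trans hf.le
    obtain ⟨B₀, hconj, hB₀⟩ := exists_fullyNormalized_conj F hBS
    have hB₀S := hB₀.1
    haveI := finite_of_le hB₀S
    have hB₀E : E.IsFullyNormalized B₀ := ⟨hB₀S, fun R hR => hB₀.2 R (by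
      obtain ⟨φ, hφ, hr⟩ := hR
      exact ⟨φ, hle B₀ hφ, hr⟩)⟩
    have hrec := receptive_of_fullyNormalized hS hE hB₀E
    have hsc := stronglyClosed_hyperfocal hS hF
    -- maps to `B₀` in the smaller system
    have hmap : ∀ U, F.IsConj U B₀ → SmallAb F p q U → ∃ g, IsMap E (normalizerIn S U) g ∧
        img U g = B₀ ∧ ∀ a ∈ normalizerIn S U, g a ∈ normalizerIn S B₀ := by
      intro U hU hUs
      obtain ⟨ψ, hψ, hψi, hψN⟩ := exists_map_normalizerIn_of_fullyNormalized hS hF hB₀ hU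
      have hUN := le_normalizerIn (isConj_le_left hU)
      obtain ⟨g, hg, hgx⟩ := receptive_extend hrec (hom U ψ hUs (hψ.mono hUN)) hψi hUN
        fun a ha => ⟨ha.1, ha.2, ψ a, hψ.mem ha, fun x hx => hψ.map_conj ha (hUN hx)⟩
      have hgi : img U g = B₀ := (img_congr hgx).trans hψi
      exact ⟨g, hg, hgi, fun a ha => hgi ▸ hg.apply_mem_normalizerIn hUN ha ha.2⟩
    -- the normalizer system of `B₀` lies in `E`
    have hNle : normalizerSys F B₀ hB₀S ≤ normalizerSys E B₀ hB₀S := by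
      have hNs := isNormalizerSystem_normalizerSys F B₀ hB₀S
      have hNs' := isNormalizerSystem_normalizerSys E B₀ hB₀S
      haveI := finite_normalizerIn (S := S) (P := B₀)
      have hNp : IsPGroup p (normalizerIn S B₀) := hS.to_le inf_le_left
      have hNF : (normalizerSys F B₀ hB₀S).IsSaturated p :=
        isSaturated_normalizerSystem hS hF hB₀ hNs
      obtain ⟨f₀, hf₀, hi₀⟩ := isConj_iff.1 hconj
      have hB₀s : SmallAb F p q B₀ := by
        subst hi₀
        refine ⟨fun y hy => ?_, fun a ha b hb => ?_, fun a ha => ?_⟩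
        · obtain ⟨x, hx, rfl⟩ := hf₀.mem_img.1 hy
          exact StronglyClosed.apply_mem hsc hf₀ hx (hB.1 hx)
        · obtain ⟨x, hx, rfl⟩ := hf₀.mem_img.1 ha
          obtain ⟨y, hy, rfl⟩ := hf₀.mem_img.1 hb
          rw [← hf₀.map_mul hx hy, ← hf₀.map_mul hy hx, hB.2.1 x hx y hy]
        · obtain ⟨x, hx, rfl⟩ := hf₀.mem_img.1 ha
          rw [← hf₀.map_pow hx, hB.2.2 x hx, hf₀.map_one]
      have hcard : Nat.card B₀ = Nat.card B := isConj_card hconj
      refine alperin hNp hNF fun Q hQ β hβ => ?_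
      have hQN : Q ≤ normalizerIn S B₀ := hQ.elim (fun e => e.le) fun e => e.1.1
      have hQS : Q ≤ S := hQN.trans inf_le_left
      have hnormal : (normalizerSys F B₀ hB₀S).IsNormal B₀ := by
        refine isNormal_iff.2 ⟨le_normalizerIn hB₀S, fun R g hg => ?_⟩
        obtain ⟨hR, hv, g', hg', hgx, hgB⟩ := (isMap_normalizerSystem_iff hNs).1 hg
        refine ⟨g', (isMap_normalizerSystem_iff hNs).2
          ⟨sup_le hR (le_normalizerIn hB₀S), fun x hx => ?_, g',
            by rwa [sup_assoc, sup_idem], fun _ _ => rfl, hgB⟩, hgx, hgB⟩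
        refine hg'.img_sup_le le_sup_left le_sup_right (fun y hy => ?_)
          (hgB.le.trans (le_normalizerIn hB₀S)) (hg'.apply_mem_img hx)
        obtain ⟨z, hz, rfl⟩ := (hg'.mono le_sup_left).mem_img.1 hy
        rw [hgx z hz]
        exact hv z hz
      have hB₀Q : B₀ ≤ Q := by
        rcases hQ with rfl | hQ
        · exact le_normalizerIn hB₀S
        · exact IsNormal.le_centricRadical hNp hnormal hQ.1 (essential_isRadical hNp hNF hQ)
      haveI := finite_of_le hQS
      have hQn : ∀ a ∈ Q, ∀ b ∈ B₀, a * b * a⁻¹ ∈ B₀ := fun a ha b hb =>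
        ((hQN ha).2 b).1 hb
      have hFaut : ∀ γ ∈ (normalizerSys F B₀ hB₀S).autGroup Q,
          γ ∈ F.autGroup Q ∧ ∀ x : Q, (x : Ω) ∈ B₀ → ((γ x : Q) : Ω) ∈ B₀ := by
        intro γ hγ
        obtain ⟨-, -, g, hg, hgx, hgB⟩ :=
          (isMap_normalizerSystem_iff hNs).1 (isMap_of_autGroup hQN hγ)
        refine ⟨(autGroup_iff_isMap hQS fun x => (toFun_aut_apply γ x.2).symm).2
          ((hg.mono le_sup_left).congr hgx), fun x hx => ?_⟩
        rw [← toFun_aut_apply γ x.2, ← hgx x x.2]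
        exact hgB.le ((hg.mono le_sup_right).apply_mem_img hx)
      obtain ⟨hβF, hβB⟩ := hFaut β hβ
      -- it suffices to be a map of `E`
      suffices hbE : β ∈ E.autGroup Q by
        refine (autGroup_iff_isMap hQN fun x => (toFun_aut_apply β x.2).symm).2
          ((isMap_normalizerSystem_iff hNs').2 ⟨hQN, fun x hx => ?_, _, ?_, fun _ _ => rfl, ?_⟩)
        · rw [toFun_aut_apply β hx]; exact hQN (β _).2
        · rw [sup_eq_left.2 hB₀Q]; exact isMap_of_autGroup hQS hbE
        · have hm := (isMap_of_autGroup hQS hβF).mono hB₀Q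
          refine eq_of_le_of_card_le (fun y hy => ?_) hm.card_img.ge
          obtain ⟨x, hx, rfl⟩ := hm.mem_img.1 hy
          rw [toFun_aut_apply β (hB₀Q hx)]
          exact hβB _ hx
      rcases eq_one_or_exists_larger hS hF hq hQS hB₀Q hQn hB₀s with
        ⟨B', hlt, hB'Q, hB'n, hB's⟩ | htriv
      · haveI := finite_of_le (hB'Q.trans hQS)
        have hc : Nat.card B₀ < Nat.card B' := lt_of_not_ge fun h =>
          hlt.ne (eq_of_le_of_card_le hlt.le h)
        exact (autGroup_iff_isMap hQS fun x => (toFun_aut_apply β x.2).symm).2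
          (ih Q _ (isMap_of_autGroup hQS hβF) B' hB'Q hB'n hB's (by omega))
      · -- the automorphisms fixing `B₀` form a normal `p`-subgroup
        set A := (normalizerSys F B₀ hB₀S).autGroup Q with hA
        let K₀ : Subgroup A :=
          { carrier := {γ | ∀ x : Q, (x : Ω) ∈ B₀ → (γ : MulAut Q) x = x}
            one_mem' := fun x _ => rfl
            mul_mem' := fun {γ δ} hγ hδ x hx => by
              rw [Subgroup.coe_mul, MulAut.mul_apply, hδ x hx, hγ x hx]
            inv_mem' := fun {γ} hγ x hx => by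
              rw [Subgroup.coe_inv]
              conv_lhs => rw [← hγ x hx]
              rw [MulAut.inv_apply_self] }
        haveI : K₀.Normal := ⟨fun γ hγ δ x hx => by
          have h1 := (hFaut _ (δ⁻¹).2).2 x hx
          show (δ : MulAut Q) ((γ : MulAut Q) (((δ⁻¹ : A) : MulAut Q) x)) = x
          rw [hγ _ h1, Subgroup.coe_inv, MulAut.apply_inv_self]⟩
        have hK₀ : IsPGroup p K₀ := by
          refine isPGroup_of_coprime_trivial fun γ hγ => ?_
          refine Subtype.ext (Subtype.ext ?_)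
          refine htriv _ (hFaut _ γ.1.2).1 ?_ γ.2
          rwa [Subgroup.orderOf_coe, Subgroup.orderOf_coe]
        have hQn' : (normalizerSys F B₀ hB₀S).IsFullyNormalized Q :=
          hQ.elim (fun e => by rw [e]; exact fullyNormalized_top _) fun e => e.2.1
        -- it lies in every Sylow subgroup
        have hK₀T : ∀ γ : A, γ ∈ K₀ → (γ : MulAut Q) ∈ autInducedBy (normalizerIn S B₀) Q := by
          intro γ hγ
          obtain ⟨W, hW⟩ := (fullyAutomized_of_fullyNormalized hNp hNF hQn').2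
          have h1 : γ ∈ (W : Subgroup A) := hK₀.le_sylow_of_normal W hγ
          rwa [hW] at h1
        -- the centralizer of `B₀` lies in `Q`
        have hCQ : centralizerIn S B₀ ≤ Q := by
          rcases hQ with rfl | hQ
          · exact centralizerIn_le_normalizerIn
          refine le_of_normalizer_inf_le hNp hQN centralizerIn_le_normalizerIn
            (fun a ha => Subgroup.mem_normalizer_iff.2 fun x => ?_) fun a haC haQ => ?_
          · have key : ∀ b ∈ normalizerIn S B₀, ∀ y ∈ centralizerIn S B₀,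
                b * y * b⁻¹ ∈ centralizerIn S B₀ := by
              intro b hb y hy
              refine ⟨S.mul_mem (S.mul_mem hb.1 hy.1) (S.inv_mem hb.1), fun c hc => ?_⟩
              have h1 : b⁻¹ * c * b ∈ B₀ :=
                (Subgroup.mem_normalizer_iff''.1 hb.2 c).1 hc
              calc c * (b * y * b⁻¹) = b * (b⁻¹ * c * b * y) * b⁻¹ := by group
                _ = b * y * b⁻¹ * c := by rw [hy.2 _ h1]; group
            refine ⟨key a (hQN ha) x, fun hx => ?_⟩
            simpa [mul_assoc] using key a⁻¹ ((normalizerIn S B₀).inv_mem (hQN ha)) _ hx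
          · refine mem_of_aut_mem_pGroup hQ.1 (essential_isRadical hNp hNF hQ) K₀ hK₀
              ⟨centralizerIn_le_normalizerIn haC, haQ⟩ fun α hα x hx => Subtype.ext ?_
            rw [hα]
            show a * (x : Ω) * a⁻¹ = x
            rw [← haC.2 _ hx, mul_inv_cancel_right]
        -- an automorphism in `E` with the same restriction
        have hbm := isMap_of_autGroup hQS hβF
        set b := toFun (Q.subtype.comp β.toMonoidHom) with hbdef
        have hbi : img B₀ b = B₀ := by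
          refine eq_of_le_of_card_le (fun y hy => ?_) ((hbm.mono hB₀Q).card_img.ge)
          obtain ⟨x, hx, rfl⟩ := (hbm.mono hB₀Q).mem_img.1 hy
          rw [hbdef, toFun_aut_apply β (hB₀Q hx)]
          exact hβB _ hx
        obtain ⟨e, he, hex⟩ := receptive_extend hrec (hom B₀ b hB₀s (hbm.mono hB₀Q)) hbi hB₀Q
          fun a ha => ⟨hQS ha, (hQN ha).2, b a, hbm.mem ha,
            fun x hx => hbm.map_conj ha (hB₀Q hx)⟩
        have heQ : ∀ a ∈ Q, e a ∈ Q := by
          intro a ha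
          have hba : b a ∈ Q := by rw [hbdef, toFun_aut_apply β ha]; exact (β _).2
          have hz : (b a)⁻¹ * e a ∈ centralizerIn S B₀ := by
            refine ⟨S.mul_mem (S.inv_mem (hbm.mem ha)) (he.mem ha), fun y hy => ?_⟩
            obtain ⟨x, hx, rfl⟩ := (hbm.mono hB₀Q).mem_img.1 (hbi.symm ▸ hy : y ∈ img B₀ b)
            have h1 : e a * b x * (e a)⁻¹ = b a * b x * (b a)⁻¹ := by
              rw [← hex x hx, ← he.map_conj ha (hB₀Q hx), hex _ (hQn a ha x hx),
                hbm.map_conj ha (hB₀Q hx), hex x hx]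
            calc b x * ((b a)⁻¹ * e a) = (b a)⁻¹ * (b a * b x * (b a)⁻¹) * e a := by group
              _ = (b a)⁻¹ * e a * b x := by rw [← h1]; group
          simpa using Q.mul_mem hba (hCQ hz)
        have hei : img Q e = Q := by
          refine eq_of_le_of_card_le (fun y hy => ?_) he.card_img.ge
          obtain ⟨x, hx, rfl⟩ := he.mem_img.1 hy
          exact heQ x hx
        set ε := he.toAut hei with hε
        have hεE : ε ∈ E.autGroup Q := he.toAut_mem hei
        have hεF : ε ∈ F.autGroup Q := (autGroup_mem_iff hQS).2 (hle Q ((autGroup_mem_iff hQS).1 hεE))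
        have hεB : ∀ x : Q, (x : Ω) ∈ B₀ → ε x = β x := fun x hx => Subtype.ext (by
          rw [hε, IsMap.toAut_apply, hex _ hx, hbdef, toFun_aut_apply β x.2])
        have hεA : ε ∈ A := by
          refine (autGroup_iff_isMap hQN fun x => (toFun_aut_apply ε x.2).symm).2
            ((isMap_normalizerSystem_iff hNs).2 ⟨hQN, fun x hx => ?_, _, ?_, fun _ _ => rfl, ?_⟩)
          · rw [toFun_aut_apply ε hx]; exact hQN (ε _).2
          · rw [sup_eq_left.2 hB₀Q]; exact isMap_of_autGroup hQS hεF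
          · refine (img_congr fun x hx => ?_).trans hbi
            rw [hbdef, toFun_aut_apply ε (hB₀Q hx), toFun_aut_apply β (hB₀Q hx),
              hεB ⟨x, hB₀Q hx⟩ hx]
        have hmem : (⟨ε, hεA⟩⁻¹ * ⟨β, hβ⟩ : A) ∈ K₀ := fun x hx => by
          show ε⁻¹ (β x) = x
          rw [← hεB x hx, MulAut.inv_apply_self]
        have h1 : ε⁻¹ * β ∈ E.autGroup Q := by
          obtain ⟨g, hg, hgx⟩ := mem_autInducedBy_iff.1 (hK₀T _ hmem)
          exact autInducedBy_le_autGroup hQS (mem_autInducedBy_iff.2 ⟨g, hg.1, hgx⟩)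
        simpa using mul_mem hεE h1
    -- transport
    obtain ⟨f', hf', hf'B⟩ : ∃ U, img B f = U ∧ SmallAb F p q U := by
      refine ⟨_, rfl, fun y hy => ?_, fun a ha b hb => ?_, fun a ha => ?_⟩
      · obtain ⟨x, hx, rfl⟩ := (hf.mono hBP).mem_img.1 hy
        exact StronglyClosed.apply_mem hsc hf (hBP hx) (hB.1 hx)
      · obtain ⟨x, hx, rfl⟩ := (hf.mono hBP).mem_img.1 ha
        obtain ⟨y, hy, rfl⟩ := (hf.mono hBP).mem_img.1 hb
        rw [← hf.map_mul (hBP hx) (hBP hy), ← hf.map_mul (hBP hy) (hBP hx), hB.2.1 x hx y hy]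
      · obtain ⟨x, hx, rfl⟩ := (hf.mono hBP).mem_img.1 ha
        rw [← hf.map_pow (hBP hx), hB.2.2 x hx, hf.map_one]
    subst hf'
    haveI : Finite (B : Set Ω) := (finite_of_le hBS : Finite B)
    have hPN : P ≤ normalizerIn S B := fun a ha => ⟨hf.le ha, Subgroup.mem_normalizer_fintype
      (S := (B : Set Ω)) (by haveI := finite_of_le hBS; exact fun b hb => hBn a ha b hb)⟩
    have hfN : ∀ a ∈ P, f a ∈ normalizerIn S (img B f) := fun a ha =>
      hf.apply_mem_normalizerIn hBP ha (hPN ha).2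
    obtain ⟨g₁, hg₁, hg₁i, hg₁N⟩ := hmap B hconj hB
    obtain ⟨g₂, hg₂, hg₂i, hg₂N⟩ := hmap (img B f)
      (isConj_trans (isConj_symm (hf.mono hBP).isConj) hconj) hf'B
    obtain ⟨k, hk, hkx, hky, -⟩ := (hg₁.mono hPN).exists_inv
    have hkF : IsMap F (img P g₁) k := ⟨hk.toHom, hle _ hk.toHom_mem, fun _ => rfl⟩
    have hfF := hkF.comp hf fun y hy => (hky y hy).1
    have hfN' : ∀ y ∈ img P g₁, f (k y) ∈ normalizerIn S (img B f) := fun y hy =>
      hfN _ (hky y hy).1
    have hg₂F : IsMap F (normalizerIn S (img B f)) g₂ := ⟨hg₂.toHom, hle _ hg₂.toHom_mem, fun _ => rfl⟩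
    have hθ := hfF.comp hg₂F hfN'
    have hB₀P : B₀ ≤ img P g₁ := hg₁i ▸ img_mono hBP
    have hθB : img B₀ (fun y => g₂ (f (k y))) = B₀ := by
      ext y
      rw [(hθ.mono hB₀P).mem_img]
      constructor
      · rintro ⟨z, hz, rfl⟩
        rw [← hg₁i] at hz
        obtain ⟨x, hx, rfl⟩ := (hg₁.mono ((le_normalizerIn hBS))).mem_img.1 hz
        rw [hkx x (hBP hx)]
        exact hg₂i.le ((hg₂.mono (le_normalizerIn (hf.mono hBP).img_le)).apply_mem_img
          ((hf.mono hBP).apply_mem_img hx))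
      · intro hy
        rw [← hg₂i] at hy
        obtain ⟨u, hu, rfl⟩ := (hg₂.mono (le_normalizerIn (hf.mono hBP).img_le)).mem_img.1 hy
        obtain ⟨x, hx, rfl⟩ := (hf.mono hBP).mem_img.1 hu
        exact ⟨g₁ x, hg₁i.le ((hg₁.mono (le_normalizerIn hBS)).apply_mem_img hx),
          by rw [hkx x (hBP hx)]⟩
    have hθN : IsMap (normalizerSys F B₀ hB₀S) (img P g₁) (fun y => g₂ (f (k y))) := by
      refine (isMap_normalizerSystem_iff (isNormalizerSystem_normalizerSys F B₀ hB₀S)).2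
        ⟨fun y hy => ?_, fun y hy => hg₂N _ (hfN' y hy), fun y => g₂ (f (k y)),
          by rw [sup_eq_left.2 hB₀P]; exact hθ, fun _ _ => rfl, hθB⟩
      obtain ⟨x, hx, rfl⟩ := (hg₁.mono hPN).mem_img.1 hy
      exact hg₁N x (hPN hx)
    obtain ⟨-, -, u, hu, hux, -⟩ :=
      (isMap_normalizerSystem_iff (isNormalizerSystem_normalizerSys E B₀ hB₀S)).1
        (le_iff_isMap.1 hNle _ _ hθN)
    -- undo the transport
    have hθE : IsMap E (img P g₁) (fun y => g₂ (f (k y))) := (hu.mono le_sup_left).congr hux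
    have hcomp := (hg₁.mono hPN).comp hθE fun x hx => (hg₁.mono hPN).apply_mem_img hx
    obtain ⟨k₂, hk₂, hk₂x, -, -⟩ := hg₂.exists_inv
    have hc2 := hcomp.comp hk₂ fun x hx => by
      show g₂ (f (k (g₁ x))) ∈ _
      rw [hkx x hx]
      exact hg₂.apply_mem_img (hfN x hx)
    exact hc2.congr fun x hx => by
      show k₂ (g₂ (f (k (g₁ x)))) = f x
      rw [hkx x hx, hk₂x _ (hfN x hx)]

/-- Small abelian subgroups of the hyperfocal subgroup control fusion. -/
theorem le_of_small_abelian : F ≤ E := by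
  refine le_iff_isMap.2 fun P f hf => ?_
  refine isMap_of_small_normal hS hE hF hle hq hom (Nat.card S) P f hf ⊥ bot_le
    (fun a _ b hb => by rw [Subgroup.mem_bot] at hb ⊢; rw [hb]; group)
    ⟨bot_le, fun a ha b hb => by rw [Subgroup.mem_bot] at ha hb; rw [ha, hb],
      fun a ha => by rw [Subgroup.mem_bot] at ha; rw [ha, one_pow]⟩ ?_
  rw [Subgroup.card_bot]

end CfsgLib.Fusion

namespace CfsgLib.Fusion

open Cfsg Cfsg.FusionSystem Subgroup

universe u

/-- The form with equal sets of maps between small abelian subgroups. -/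
theorem hom_eq_of_homSet_small {Ω : Type u} [Group Ω] {S : Subgroup Ω} [Finite S] {p : ℕ}
    [Fact p.Prime] (hS : IsPGroup p S) {E F : FusionSystem S} (hE : E.IsSaturated p)
    (hF : F.IsSaturated p) (hEF : E.IsSubsystemOf F)
    (hodd : p ≠ 2 → ∀ A B : Subgroup Ω, A ≤ F.hyperfocalSubgroup p → B ≤ F.hyperfocalSubgroup p →
      Cfsg.IsElementaryAbelian p A → Cfsg.IsElementaryAbelian p B → E.homSet A B = F.homSet A B)
    (htwo : p = 2 → ∀ A B : Subgroup Ω, A ≤ F.hyperfocalSubgroup p → B ≤ F.hyperfocalSubgroup p →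
      IsMulCommutative A → IsMulCommutative B → (∀ a ∈ A, a ^ 4 = 1) → (∀ b ∈ B, b ^ 4 = 1) →
      E.homSet A B = F.homSet A B) (P : Subgroup Ω) : E.Hom P = F.Hom P := by
  refine hom_eq_of_le_le hEF (le_of_small_abelian (q := if p = 2 then 4 else p) hS hE hF hEF
    (fun x hx => ?_) fun B f hB hf => ?_) P
  · rcases hx with h | ⟨h2, h⟩
    · split_ifs with h2
      · subst h2
        rw [show (4 : ℕ) = 2 * 2 from rfl, pow_mul, h, one_pow]
      · exact h
    · rw [if_pos h2]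
      exact h
  · have hB' : SmallAb F p (if p = 2 then 4 else p) (img B f) := by
      refine ⟨fun y hy => ?_, fun a ha b hb => ?_, fun a ha => ?_⟩
      · obtain ⟨x, hx, rfl⟩ := hf.mem_img.1 hy
        exact StronglyClosed.apply_mem (stronglyClosed_hyperfocal hS hF) hf hx (hB.1 hx)
      · obtain ⟨x, hx, rfl⟩ := hf.mem_img.1 ha
        obtain ⟨y, hy, rfl⟩ := hf.mem_img.1 hb
        rw [← hf.map_mul hx hy, ← hf.map_mul hy hx, hB.2.1 x hx y hy]
      · obtain ⟨x, hx, rfl⟩ := hf.mem_img.1 ha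
        rw [← hf.map_pow hx, hB.2.2 x hx, hf.map_one]
    have hcomm : ∀ U : Subgroup Ω, SmallAb F p (if p = 2 then 4 else p) U → IsMulCommutative U :=
      fun U hU => ⟨⟨fun a b => Subtype.ext (hU.2.1 a a.2 b b.2)⟩⟩
    have hmem : hf.toHom ∈ F.homSet B (img B f) :=
      ⟨hf.toHom_mem, fun x => hf.apply_mem_img x.2⟩
    suffices heq : E.homSet B (img B f) = F.homSet B (img B f) by
      rw [← heq] at hmem
      exact ⟨hf.toHom, hmem.1, fun _ => rfl⟩
    by_cases h2 : p = 2
    · refine htwo h2 _ _ hB.1 hB'.1 (hcomm _ hB) (hcomm _ hB') ?_ ?_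
      · simpa [h2] using hB.2.2
      · simpa [h2] using hB'.2.2
    · refine hodd h2 _ _ hB.1 hB'.1 ⟨hcomm _ hB, ?_⟩ ⟨hcomm _ hB', ?_⟩
      · simpa [h2] using hB.2.2
      · simpa [h2] using hB'.2.2

end CfsgLib.Fusion
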