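import Cfsg.Agent.Lib.Fusion.NormalCriteria
import Cfsg.Agent.Lib.Fusion.HyperFocal
import Cfsg.Agent.Lib.Fusion.Alperin
import Cfsg.Agent.Lib.PGroup.GInvariantCritical

/-!
Systems controlled by the elements of order `p` (and `4`) of the hyperfocal subgroup: filtrations
of these elements invariant under the system.
-/

set_option autoImplicit false
set_option linter.style.haveILetI false
set_option linter.unusedVariables false
set_option linter.unusedSectionVars false

universe u

namespace CfsgLib.Fusion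

open Cfsg Cfsg.FusionSystem Subgroup
open scoped commutatorElement

/-- Of order `p`, or of order dividing `4` for `p = 2`. -/
def SmallElt {G : Type*} [Group G] (p : ℕ) (x : G) : Prop := x ^ p = 1 ∨ (p = 2 ∧ x ^ 4 = 1)

theorem SmallElt.map {G H : Type*} [Group G] [Group H] (f : G →* H) {p : ℕ} {x : G}
    (h : SmallElt p x) : SmallElt p (f x) :=
  h.imp (fun e => by rw [← map_pow, e, map_one]) fun e => ⟨e.1, by rw [← map_pow, e.2, map_one]⟩

variable {Ω : Type u} [Group Ω] {S : Subgroup Ω} {F : FusionSystem S} {P : Subgroup Ω} {p : ℕ}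

/-- An invariant subgroup of small hyperfocal elements detecting automorphisms of order prime to
`p`. -/
theorem exists_small_detecting [Fact p.Prime] [Finite S] (hS : IsPGroup p S) (hP : P ≤ S) :
    ∃ D : Subgroup P, (∀ α ∈ F.autGroup P, ∀ d ∈ D, α d ∈ D) ∧
      (∀ d ∈ D, SmallElt p (d : Ω) ∧ (d : Ω) ∈ F.hyperfocalSubgroup p) ∧
      (∀ α ∈ F.autGroup P, (orderOf α).Coprime p → (∀ d ∈ D, α d = d) → α = 1) := by
  haveI := finite_of_le hP
  obtain ⟨D, hDi, hDR, hDs, -, hDf, -⟩ := CfsgLib.PGroup.exists_critical_invariant (hS.to_le hP)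
    (F.autGroup P) (fun g => inn_le_autGroup hP ⟨g, rfl⟩)
  refine ⟨D, fun α hα d hd => (hDi α hα).le (mem_map_of_mem _ hd), fun d hd =>
    ⟨SmallElt.map P.subtype (hDs d hd), ?_⟩, hDf⟩
  have h : closure {y : P | ∃ α ∈ pResidual p ↥(F.autGroup P), ∃ x : P,
      y = x⁻¹ * (α : MulAut P) x} ≤ (F.hyperfocalSubgroup p).comap P.subtype := by
    refine (closure_le _).2 ?_
    rintro _ ⟨α, hα, x, rfl⟩
    exact sub_mem_hyperfocal hP α.2 hα x
  exact h (hDR hd)

section Filtration

variable [Fact p.Prime] [Finite S] (hS : IsPGroup p S) (n : ℕ) (C : ℕ → Subgroup Ω) (h0 : C 0 = ⊥)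
  (htop : ∀ x ∈ F.hyperfocalSubgroup p, SmallElt p x → x ∈ C n)

include hS h0 htop

/-- An automorphism of order prime to `p` stabilizing the filtration is trivial. -/
theorem eq_one_of_small_filtration (hP : P ≤ S) {α : MulAut P} (hα : α ∈ F.autGroup P)
    (hc : (orderOf α).Coprime p)
    (hstab : ∀ i < n, ∀ x : P, SmallElt p (x : Ω) → (x : Ω) ∈ F.hyperfocalSubgroup p →
      (x : Ω) ∈ C (i + 1) → (x : Ω)⁻¹ * ((α x : P) : Ω) ∈ C i) : α = 1 := by
  obtain ⟨D, hDi, hDs, hDf⟩ := exists_small_detecting (F := F) hS hP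
  haveI := finite_of_le hP
  refine hDf α hα hc ?_
  suffices h : ∀ i ≤ n, ∀ d ∈ D, (d : Ω) ∈ C i → α d = d from
    fun d hd => h n le_rfl d hd (htop _ (hDs d hd).2 (hDs d hd).1)
  intro i
  induction i with
  | zero =>
    intro _ d _ hd
    rw [h0, mem_bot] at hd
    rw [show d = 1 from Subtype.ext hd, map_one]
  | succ i ih =>
    intro hi d hd hdC
    exact CfsgLib.PGroup.eq_of_fixed_diff (hS.to_le hP) hc (ih (by omega) _
      (D.mul_mem (D.inv_mem hd) (hDi α hα d hd))
      (hstab i (by omega) d (hDs d hd).1 (hDs d hd).2 hdC))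

variable (hF : F.IsSaturated p) (hmono : Monotone C)

include hF hmono

/-- A filtration of the small hyperfocal elements that the system respects makes `S` normal. -/
theorem isNormal_top_of_small_filtration
    (hC : ∀ P ≤ S, ∀ i, ∀ α ∈ F.autGroup P, ∀ x : P, SmallElt p (x : Ω) →
      (x : Ω) ∈ F.hyperfocalSubgroup p → (x : Ω) ∈ C i → ((α x : P) : Ω) ∈ C i)
    (hcomm : ∀ i < n, ∀ x ∈ F.hyperfocalSubgroup p, SmallElt p x → x ∈ C (i + 1) → ∀ a ∈ S,
      x⁻¹ * (a * x * a⁻¹) ∈ C i) : F.IsNormal S := by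
  have hSc : F.StronglyClosed S := stronglyClosed_iff.2 ⟨le_rfl, fun R f _ hf x hx => hf.mem hx⟩
  refine isNormal_of_le_centricRadical hS hF hSc fun P hc hr => ?_
  haveI := finite_of_le hc.1
  refine le_of_normalizer_inf_le hS hc.1 le_rfl
    (fun a ha => Subgroup.le_normalizer (hc.1 ha)) fun a haS haP => ?_
  obtain ⟨D, hDi, hDs, hDf⟩ := exists_small_detecting (F := F) hS hc.1
  set C' : ℕ → Subgroup Ω := fun i => C (min i n) ⊓ D.map P.subtype with hC'
  have hD : ∀ x : P, (x : Ω) ∈ D.map P.subtype ↔ x ∈ D := fun x =>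
    mem_map_iff_mem P.subtype_injective
  have hinv : ∀ i, ∀ α ∈ F.autGroup P, ∀ x : P, (x : Ω) ∈ C' i → ((α x : P) : Ω) ∈ C' i := by
    intro i α hα x hx
    have hxD := (hD x).1 hx.2
    exact ⟨hC P hc.1 _ α hα x (hDs x hxD).1 (hDs x hxD).2 hx.1, (hD _).2 (hDi α hα x hxD)⟩
  have hmono' : Monotone C' := fun i j hij =>
    inf_le_inf_right _ (hmono (min_le_min_right n hij))
  haveI := seriesStab_normal (⊤ : Subgroup (F.autGroup P)) n C' hmono' hinv
  set K := seriesStab (⊤ : Subgroup (F.autGroup P)) n C' hmono' hinv with hK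
  have hKp : IsPGroup p K := isPGroup_of_coprime_trivial fun γ hγ => by
    refine Subtype.ext (Subtype.ext ?_)
    set α := ((γ : F.autGroup P) : MulAut P) with hαdef
    have hα : α ∈ F.autGroup P := (γ : F.autGroup P).2
    have hαc : (orderOf α).Coprime p := by rwa [hαdef, Subgroup.orderOf_coe, Subgroup.orderOf_coe]
    refine hDf α hα hαc ?_
    suffices h : ∀ i ≤ n, ∀ d ∈ D, (d : Ω) ∈ C i → α d = d from
      fun d hd => h n le_rfl d hd (htop _ (hDs d hd).2 (hDs d hd).1)
    intro i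
    induction i with
    | zero =>
      intro _ d _ hd
      rw [h0, mem_bot] at hd
      rw [show d = 1 from Subtype.ext hd, map_one]
    | succ i ih =>
      intro hi d hd hdC
      have h1 := γ.2.2 i (by omega) d (show (d : Ω) ∈ C' (i + 1) from
        ⟨by rwa [min_eq_left hi], (hD d).2 hd⟩)
      rw [hC'] at h1
      simp only [min_eq_left (Nat.le_of_succ_le hi)] at h1
      exact CfsgLib.PGroup.eq_of_fixed_diff (hS.to_le hc.1) hαc (ih (by omega) _
        (D.mul_mem (D.inv_mem hd) (hDi α hα d hd)) h1.1)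
  refine mem_of_aut_mem_pGroup hc hr K hKp ⟨haS, haP⟩ fun α hα => ⟨mem_top _, fun i hi x hx => ?_⟩
  have hxD := (hD x).1 hx.2
  have h1 := hx.1
  rw [min_eq_left hi] at h1
  have h2 : ((x⁻¹ * (α : MulAut P) x : P) : Ω) ∈ D.map P.subtype :=
    (hD _).2 (D.mul_mem (D.inv_mem hxD) (hDi _ α.2 x hxD))
  refine ⟨?_, h2⟩
  rw [hα, min_eq_left hi.le]
  exact hcomm i hi x (hDs x hxD).2 (hDs x hxD).1 h1 a haS

end Filtration

end CfsgLib.Fusion
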