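import Cfsg.Agent.Lib.Fusion.SmallElements
import Cfsg.Agent.Lib.Fusion.ConstrainedPart

/-!
Control by cyclic subgroups of order `p` and `4` in the hyperfocal subgroup.
-/

set_option autoImplicit false
set_option linter.style.haveILetI false
set_option linter.unusedVariables false
set_option linter.unusedSectionVars false

universe u

namespace CfsgLib.Fusion

open Cfsg Cfsg.FusionSystem Subgroup
open scoped commutatorElement

variable {Ω : Type u} [Group Ω] {S : Subgroup Ω} {F : FusionSystem S} {P : Subgroup Ω} {p : ℕ}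

/-- The upper central series of `S`, in the ambient group. -/
def upperIn (S : Subgroup Ω) (i : ℕ) : Subgroup Ω :=
  (Subgroup.upperCentralSeries S i).map S.subtype

theorem upperIn_mono (S : Subgroup Ω) : Monotone (upperIn S) :=
  fun i j hij => map_mono (Subgroup.upperCentralSeries_mono S hij)

theorem upperIn_zero (S : Subgroup Ω) : upperIn S 0 = ⊥ := by simp [upperIn]

theorem sub_mem_upperIn {i : ℕ} {x a : Ω} (hx : x ∈ upperIn S (i + 1)) (ha : a ∈ S) :
    x⁻¹ * (a * x * a⁻¹) ∈ upperIn S i := by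
  obtain ⟨y, hy, rfl⟩ := hx
  refine ⟨⁅y⁻¹, ⟨a, ha⟩⁆, (inv_mem hy : y⁻¹ ∈ Subgroup.upperCentralSeries S (i + 1)) ⟨a, ha⟩, ?_⟩
  simp [commutatorElement_def, mul_assoc]

theorem exists_upperIn_eq [Fact p.Prime] [Finite S] (hS : IsPGroup p S) : ∃ n, S ≤ upperIn S n := by
  haveI : Group.IsNilpotent S := hS.isNilpotent
  exact ⟨Group.nilpotencyClass S, by simp [upperIn, ← MonoidHom.range_eq_map]⟩

theorem apply_mem_upperIn (α : MulAut S) {i : ℕ} {x : S} (hx : (x : Ω) ∈ upperIn S i) :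
    ((α x : S) : Ω) ∈ upperIn S i := by
  have h1 := (mem_map_iff_mem (x := x) S.subtype_injective).1 hx
  exact mem_map_of_mem S.subtype
    ((Subgroup.characteristic_iff_map_le.1 inferInstance α) (mem_map_of_mem _ h1))

section Cyclic

variable [Fact p.Prime] [Finite S] (hS : IsPGroup p S) (hF : F.IsSaturated p)

include hS hF

theorem exists_cyclic_data {f : Ω → Ω} (hf : IsMap F P f) {x : Ω} (hx : x ∈ P)
    (hxs : SmallElt p x) (hx1 : x ≠ 1) (hxH : x ∈ F.hyperfocalSubgroup p) :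
    ∃ A B : Subgroup Ω, A ≤ F.hyperfocalSubgroup p ∧ B ≤ F.hyperfocalSubgroup p ∧
      (IsCyclic A ∧ (Nat.card A = p ∨ Nat.card A = 4)) ∧
      (IsCyclic B ∧ (Nat.card B = p ∨ Nat.card B = 4)) ∧
      ∃ φ ∈ F.homSet A B, ∃ hxA : x ∈ A, φ ⟨x, hxA⟩ = f x := by
  have hcard : ∀ y : Ω, SmallElt p y → y ≠ 1 → Nat.card (zpowers y) = p ∨ Nat.card (zpowers y) = 4 := by
    intro y hy hy1
    rw [Nat.card_zpowers]
    rcases hy with h | ⟨hp, h⟩
    · exact Or.inl (orderOf_eq_prime h hy1)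
    · subst hp
      obtain ⟨k, hk, hk'⟩ := (Nat.dvd_prime_pow Nat.prime_two).1
        (orderOf_dvd_of_pow_eq_one (show y ^ 2 ^ 2 = 1 from h))
      interval_cases k
      · exact absurd (orderOf_eq_one_iff.1 hk') hy1
      · exact Or.inl hk'
      · exact Or.inr hk'
  have hzP : zpowers x ≤ P := zpowers_le.2 hx
  have hg := hf.mono hzP
  have hsys : F.StronglyClosed (F.hyperfocalSubgroup p) :=
    stronglyClosed_of_hyperfocal_le hS hF (hyperfocal_le F p) le_rfl
      fun a ha y hy => conj_mem_hyperfocal ha hy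
  have hfs : SmallElt p (f x) := by
    have := SmallElt.map hf.toHom (show SmallElt p (⟨x, hx⟩ : P) from
      hxs.imp (fun e => Subtype.ext (by simpa using e)) fun e => ⟨e.1, Subtype.ext (by simpa using e.2)⟩)
    exact this
  have hfx : f x ∈ F.hyperfocalSubgroup p := StronglyClosed.apply_mem hsys hf hx hxH
  refine ⟨zpowers x, zpowers (f x), zpowers_le.2 hxH, zpowers_le.2 hfx,
    ⟨inferInstance, hcard x hxs hx1⟩, ⟨inferInstance, hcard _ hfs fun h => hx1 (hf.eq_one hx h)⟩,
    hg.toHom, ⟨hg.toHom_mem, fun y => ?_⟩, mem_zpowers x, rfl⟩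
  obtain ⟨k, hk⟩ := mem_zpowers_iff.1 y.2
  have e : y = (⟨x, mem_zpowers x⟩ : zpowers x) ^ k := Subtype.ext (by simpa using hk.symm)
  rw [e, map_zpow]
  exact zpow_mem (mem_zpowers _) k

/-- Control by the normalizer of `S` on small cyclic subgroups of the hyperfocal subgroup. -/
theorem isNormal_top_of_cyclic_normalizer
    (h : ∀ A B : Subgroup Ω, A ≤ F.hyperfocalSubgroup p → B ≤ F.hyperfocalSubgroup p →
      IsCyclic A → (Nat.card A = p ∨ Nat.card A = 4) → IsCyclic B →
      (Nat.card B = p ∨ Nat.card B = 4) → F.homSet A B ⊆ F.normalizerHom S A) :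
    F.IsNormal S := by
  obtain ⟨n, hn⟩ := exists_upperIn_eq hS
  refine isNormal_top_of_small_filtration hS n (upperIn S) (upperIn_zero S)
    (fun x hx _ => hn (hyperfocal_le F p hx)) hF (upperIn_mono S)
    (fun P hP i α hα x hxs hxH hxC => ?_) fun i _ x _ _ hx a ha => sub_mem_upperIn hx ha
  by_cases hx1 : (x : Ω) = 1
  · rw [show x = 1 from Subtype.ext hx1, map_one]
    exact one_mem _
  obtain ⟨A, B, hA, hB, ⟨hAc, hAn⟩, ⟨hBc, hBn⟩, φ, hφ, hxA, hφx⟩ :=
    exists_cyclic_data hS hF (isMap_of_autGroup hP hα) x.2 hxs hx1 hxH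
  obtain ⟨-, -, -, ψ, hψ, hψx, hψS⟩ := h A B hA hB hAc hAn hBc hBn hφ
  have hm := (isMap_of_hom hψ).mono (le_sup_right : S ≤ A ⊔ S)
  have hi : img S (toFun ψ) = S := eq_of_le_of_card_le hm.img_le hm.card_img.ge
  have h1 := apply_mem_upperIn (hm.toAut hi) (x := (⟨x, hP x.2⟩ : S)) hxC
  rw [IsMap.toAut_apply] at h1
  have h2 := hψx ⟨x, hxA⟩
  rw [hφx, toFun_aut_apply α x.2] at h2
  rw [toFun_of_mem ψ (mem_sup_right (hP x.2))] at h1
  rw [show ((α x : P) : Ω) = ψ ⟨x, mem_sup_right (hP x.2)⟩ from h2.symm.trans rfl]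
  exact h1

/-- Control by `S` on small cyclic subgroups of the hyperfocal subgroup. -/
theorem eq_inner_of_cyclic_inner
    (h : ∀ A B : Subgroup Ω, A ≤ F.hyperfocalSubgroup p → B ≤ F.hyperfocalSubgroup p →
      IsCyclic A → (Nat.card A = p ∨ Nat.card A = 4) → IsCyclic B →
      (Nat.card B = p ∨ Nat.card B = 4) → F.homSet A B ⊆ (innerFusionSystem S).Hom A) :
    ∀ P : Subgroup Ω, F.Hom P = (innerFusionSystem S).Hom P := by
  have hSn : F.IsNormal S := isNormal_top_of_cyclic_normalizer hS hF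
    fun A B hA hB hAc hAn hBc hBn φ hφ => by
      obtain ⟨hAS, a, ha, hax⟩ := h A B hA hB hAc hAn hBc hBn hφ
      have hle : normalizerIn S S = S := inf_eq_left.2 Subgroup.le_normalizer
      refine ⟨hφ.1, hle.symm ▸ hAS, fun x => hle.symm ▸ (F.le_of_mem hφ.1).2 x,
        conjHom (A ⊔ S) a, F.conj_mem (sup_le hAS le_rfl) ha, fun x => ?_, ?_⟩
      · rw [hax x]; rfl
      · ext y
        constructor
        · rintro ⟨z, hz, rfl⟩
          exact S.mul_mem (S.mul_mem ha hz) (S.inv_mem ha)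
        · intro hy
          exact ⟨⟨a⁻¹ * y * a, mem_sup_right (S.mul_mem (S.mul_mem (S.inv_mem ha) hy) ha)⟩,
            S.mul_mem (S.mul_mem (S.inv_mem ha) hy) ha, by
              show a * (a⁻¹ * y * a) * a⁻¹ = y
              group⟩
  obtain ⟨n, hn⟩ := exists_upperIn_eq hS
  have key : ∀ T : Subgroup Ω, T = S → ∀ α ∈ F.autGroup T, (orderOf α).Coprime p → α = 1 := by
    rintro T rfl α hα hc
    refine eq_one_of_small_filtration hS n (upperIn T) (upperIn_zero T)
      (fun x hx _ => hn (hyperfocal_le F p hx)) le_rfl hα hc fun i _ x hxs hxH hxC => ?_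
    by_cases hx1 : (x : Ω) = 1
    · rw [show x = 1 from Subtype.ext hx1, map_one]
      simp
    obtain ⟨A, B, hA, hB, ⟨hAc, hAn⟩, ⟨hBc, hBn⟩, φ, hφ, hxA, hφx⟩ :=
      exists_cyclic_data hS hF (isMap_of_autGroup le_rfl hα) x.2 hxs hx1 hxH
    obtain ⟨-, a, ha, hax⟩ := h A B hA hB hAc hAn hBc hBn hφ
    have h2 := hax ⟨x, hxA⟩
    rw [hφx, toFun_aut_apply α x.2] at h2
    rw [show ((α x : T) : Ω) = a * x * a⁻¹ from h2]
    exact sub_mem_upperIn hxC ha
  refine eq_inner_of_coprime_trivial hS hF fun R hR α hα hc => ?_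
  obtain ⟨g, hg, hgx, hgS⟩ := (isNormal_iff.1 hSn).2 R _ (isMap_of_autGroup hR.1 hα)
  have e : R ⊔ S = S := sup_eq_right.2 hR.1
  haveI := finite_of_le hg.le
  have hi : img (R ⊔ S) g = R ⊔ S :=
    eq_of_le_of_card_le (hg.img_le.trans le_sup_right) hg.card_img.ge
  exact eq_one_of_extension hg hi le_sup_left
    (fun x => (hgx x x.2).trans (toFun_aut_apply α x.2)) hc fun k hk =>
      key _ e _ (Subgroup.pow_mem _ (hg.toAut_mem hi) _) hk

/-- Small elements of the focal subgroup generating normal subgroups. -/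
theorem isNormal_top_of_small_normal
    (hnorm : ∀ x ∈ F.focalSubgroup, SmallElt p x → ∀ s ∈ S, s * x * s⁻¹ ∈ zpowers x) :
    F.IsNormal S := by
  have hfoc : F.hyperfocalSubgroup p ≤ F.focalSubgroup := hyperfocal_le_focal F p
  set H := F.hyperfocalSubgroup p with hH
  have hHS : H ≤ S := hyperfocal_le F p
  set C₁ := closure {x : Ω | x ∈ H ∧ x ^ p = 1} with hC₁
  have hC₁H : C₁ ≤ H := (closure_le _).2 fun x hx => hx.1
  -- elements of order `p` are central
  have hcen : ∀ x ∈ H, x ^ p = 1 → ∀ s ∈ S, s * x * s⁻¹ = x := by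
    intro x hx hxp s hs
    let Z := zpowers x
    haveI : Finite Z := finite_of_le (zpowers_le.2 (hHS hx))
    have hsn : ∀ t ∈ S, ∀ y ∈ Z, t * y * t⁻¹ ∈ Z := fun t ht y hy => by
      obtain ⟨k, rfl⟩ := mem_zpowers_iff.1 hy
      rw [← conj_zpow]
      exact zpow_mem (hnorm x (hfoc hx) (Or.inl hxp) t ht) k
    by_cases hx1 : x = 1
    · simp [hx1]
    have hn : S ≤ Subgroup.normalizer (Z : Set Ω) := fun t ht => by
      haveI : Finite (Z : Set Ω) := (inferInstance : Finite Z)
      exact Subgroup.mem_normalizer_fintype (hsn t ht)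
    obtain ⟨z, hz, hz1, hzc⟩ := exists_central_mem hS (zpowers_le.2 (hHS hx)) hn
      (fun h => hx1 (zpowers_eq_bot.1 h))
    obtain ⟨k, rfl⟩ := mem_zpowers_iff.1 hz
    -- `x` is a power of `x ^ k`
    have hxz : x ∈ zpowers (x ^ k) := by
      have hcard : Nat.card (zpowers x) = p := by rw [Nat.card_zpowers]; exact orderOf_eq_prime hxp hx1
      haveI : Fact (Nat.card (zpowers x)).Prime := ⟨hcard.symm ▸ Fact.out⟩
      rcases (zpowers (⟨x ^ k, hz⟩ : zpowers x)).eq_bot_or_eq_top_of_prime_card with h | h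
      · exact absurd (congrArg Subtype.val (zpowers_eq_bot.1 h)) hz1
      · obtain ⟨m, hm⟩ := mem_zpowers_iff.1 (h ▸ mem_top (⟨x, mem_zpowers x⟩ : zpowers x))
        exact mem_zpowers_iff.2 ⟨m, by simpa using congrArg Subtype.val hm⟩
    obtain ⟨m, hm⟩ := mem_zpowers_iff.1 hxz
    rw [← hm, ← conj_zpow, hzc s hs]
  have hC₁cen : ∀ s ∈ S, ∀ y ∈ C₁, s * y * s⁻¹ = y := by
    intro s hs y hy
    have hle : C₁ ≤ centralizer ({s} : Set Ω) := (closure_le _).2 fun x hx =>
      mem_centralizer_iff.2 fun t ht => by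
        rw [Set.mem_singleton_iff] at ht
        subst ht
        exact mul_inv_eq_iff_eq_mul.1 (hcen x hx.1 hx.2 t hs)
    rw [mem_centralizer_iff.1 (hle hy) s rfl, mul_inv_cancel_right]
  have hC₁p : ∀ y ∈ C₁, y ^ p = 1 := by
    intro y hy
    induction hy using Subgroup.closure_induction with
    | mem x hx => exact hx.2
    | one => exact one_pow p
    | mul a b ha hb iha ihb =>
      rw [Commute.mul_pow (mul_inv_eq_iff_eq_mul.1 (hC₁cen a (hHS (hC₁H ha)) b hb)) p, iha, ihb,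
        one_mul]
    | inv a ha iha => rw [inv_pow, iha, inv_one]
  let C : ℕ → Subgroup Ω := fun i => if i = 0 then ⊥ else if i = 1 then C₁ else S
  have hmono : Monotone C := monotone_nat_of_le_succ fun i => by
    match i with
    | 0 => exact bot_le
    | 1 => exact hC₁H.trans hHS
    | i + 2 => exact le_rfl
  refine isNormal_top_of_small_filtration hS 2 C (if_pos rfl) (fun x hx _ => hHS hx) hF hmono
    (fun P hP i α hα x hxs hxH hxC => ?_) fun i hi x hx hxs hxC a ha => ?_
  · rcases i with _ | _ | i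
    · change (x : Ω) ∈ (⊥ : Subgroup Ω) at hxC
      rw [mem_bot] at hxC
      rw [show x = 1 from Subtype.ext hxC, map_one]
      exact one_mem _
    · change (x : Ω) ∈ C₁ at hxC
      refine subset_closure ⟨?_, ?_⟩
      · have := StronglyClosed.apply_mem (stronglyClosed_of_hyperfocal_le hS hF (hyperfocal_le F p)
          le_rfl fun a ha y hy => conj_mem_hyperfocal ha hy) (isMap_of_autGroup hP hα) x.2 hxH
        rwa [toFun_aut_apply α x.2] at this
      · have h1 : x ^ p = 1 := Subtype.ext (by simpa using hC₁p _ hxC)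
        rw [← Subgroup.coe_pow, ← map_pow, h1, map_one, Subgroup.coe_one]
    · exact hP (α x).2
  · obtain rfl | rfl : i = 0 ∨ i = 1 := by omega
    · change x ∈ C₁ at hxC
      change x⁻¹ * (a * x * a⁻¹) ∈ (⊥ : Subgroup Ω)
      rw [hC₁cen a ha x hxC, inv_mul_cancel]
      exact one_mem _
    · show x⁻¹ * (a * x * a⁻¹) ∈ C₁
      rcases hxs with hxp | ⟨hp2, hx4⟩
      · rw [hcen x hx hxp a ha, inv_mul_cancel]
        exact one_mem _
      · subst hp2
        obtain ⟨k, hk⟩ := mem_zpowers_iff.1 (hnorm x (hfoc hx) (Or.inr ⟨rfl, hx4⟩) a ha)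
        rw [← hk]
        refine subset_closure ⟨H.mul_mem (H.inv_mem hx) (H.zpow_mem hx k), ?_⟩
        -- the square of `x` is central, so `k` is odd or `x ^ 2 = 1`
        have hx2 := hcen (x ^ 2) (H.pow_mem hx 2) (by rw [← pow_mul]; exact hx4) a ha
        have h2 : (x ^ k) ^ 2 = x ^ 2 := by rw [hk, conj_pow, hx2]
        rw [((Commute.refl x).inv_left.zpow_right k).mul_pow 2, h2, inv_pow, inv_mul_cancel]

end Cyclic

end CfsgLib.Fusion
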