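import Cfsg.Agent.Lib.Fusion.SolvableSystem

/-!
Solvability of a system from a normal subsystem and the factor system modulo its subgroup.
-/

set_option autoImplicit false
set_option linter.unusedVariables false
set_option linter.unusedSectionVars false
set_option linter.style.haveILetI false

namespace CfsgLib.Fusion

open Cfsg Cfsg.FusionSystem Subgroup
open scoped commutatorElement

variable {Ω Ω' : Type*} [Group Ω] [Group Ω'] {S T R C : Subgroup Ω} {S' : Subgroup Ω'}
  {F : FusionSystem S} {E : FusionSystem T} {D : FusionSystem S'} {θ : S →* Ω'} {p : ℕ}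

/-- An automorphism of the invariant subsystem carries strongly closed subgroups to strongly
closed subgroups. -/
theorem IsInvariantIn.stronglyClosed_img (h : E.IsInvariantIn F) {α : MulAut T}
    (hα : α ∈ F.autGroup T) (hC : E.StronglyClosed C) :
    E.StronglyClosed (img C (autFun α)) := by
  have hT : T ≤ S := h.2.1.1
  have hm : IsMap F T (autFun α) := isMap_autFun hT hα
  have hm' : IsMap F T (autFun α⁻¹) := isMap_autFun hT (inv_mem hα)
  refine stronglyClosed_iff.2 ⟨fun y hy => ?_, fun X f hX hf x hx => ?_⟩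
  · obtain ⟨c, hc, rfl⟩ := (mem_img_autFun hm hC.1).1 hy
    exact autFun_mem α (hC.1 hc)
  obtain ⟨g, hg, hgx⟩ := IsInvariantIn.transport h (inv_mem hα) hf
  obtain ⟨c, hc, rfl⟩ := (mem_img_autFun hm hC.1).1 (hX hx)
  have h1 := hgx _ hx
  rw [autFun_inv_apply α (hC.1 hc)] at h1
  have hmem : c ∈ img X (autFun α⁻¹) := by
    have := (hm'.mono hf.le).apply_mem_img hx
    rwa [autFun_inv_apply α (hC.1 hc)] at this
  have h2 := StronglyClosed.apply_mem hC hg hmem hc
  rw [h1] at h2
  refine (mem_img_autFun hm hC.1).2 ⟨_, h2, ?_⟩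
  exact autFun_apply_inv α (hf.mem hx)

/-- A strongly closed subgroup of an invariant subsystem preserved by the automorphisms is
strongly closed in the system. -/
theorem IsInvariantIn.stronglyClosed_of_inv (h : E.IsInvariantIn F) {X : Subgroup Ω}
    (hX : E.StronglyClosed X) (hinv : ∀ α ∈ F.autGroup T, ∀ x ∈ X, autFun α x ∈ X) :
    F.StronglyClosed X := by
  obtain ⟨-, hT, -, hfr⟩ := h
  refine ⟨hX.1.trans hT.1, fun Y hY φ hφ y => ?_⟩
  obtain ⟨α, hα, φ₀, hφ₀, heq⟩ := hfr Y (hY.trans hX.1) φ hφ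
  have h1 : φ₀ y ∈ X := hX.2 Y hY φ₀ hφ₀ y
  rw [heq y (hX.1 h1), ← autFun_apply α (hX.1 h1)]
  exact hinv α hα _ h1

variable [Fact p.Prime] [Finite S] (hS : IsPGroup p S) (hF : F.IsSaturated p)

include hS hF

/-- Inside a solvable normal subsystem there is a next strongly closed subgroup. -/
theorem exists_step_below (hE : E.IsWeaklyNormalIn F p) (hEsol : E.IsSolvableSystem)
    (hR : F.StronglyClosed R) (hRT : R ≤ T) (hne : R ≠ T) :
    ∃ X, F.StronglyClosed X ∧ R < X ∧ X ≤ T ∧ ⁅X, X⁆ ≤ R := by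
  obtain ⟨hEs, -, hinv⟩ := hE
  have hT : T ≤ S := hinv.2.1.1
  haveI := finite_of_le hT
  have hTp : IsPGroup p T := hS.to_le hT
  have hRE : E.StronglyClosed R := stronglyClosed_subsystem hinv.1 hR hRT
  haveI hn : (R.subgroupOf T).Normal := ⟨fun a ha g =>
    mem_subgroupOf.2 (StronglyClosed.conj_mem hRE g.2 (mem_subgroupOf.1 ha))⟩
  set π := QuotientGroup.mk' (R.subgroupOf T) with hπ
  have hker : ∀ s : T, π s = 1 ↔ (s : Ω) ∈ R := fun s => QuotientGroup.eq_one_iff s
  have hrange : π.range = ⊤ := MonoidHom.range_eq_top.2 (QuotientGroup.mk'_surjective _)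
  set B := castSys hrange (factorSys E hRE π hker) with hBdef
  have hB : E.IsFactorSystem R π B := by
    refine ⟨hRT, hker, hrange, fun P' φ' => ?_⟩
    rw [hBdef, castSys_hom]
    exact ⟨fun h => ⟨le_top, h.2⟩, fun h => ⟨hrange.ge.trans' le_top, h.2⟩⟩
  have hBs := isSaturated_factor hTp hEs hRE hB
  have hBp : IsPGroup p (⊤ : Subgroup (T ⧸ R.subgroupOf T)) :=
    (hTp.to_quotient _).to_subgroup ⊤
  have hK := hEsol R hRE hne B hB
  set K := B.core with hKdef
  have hKn : B.IsNormal K := core_isNormal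
  -- the preimage of the core is kept by the automorphisms
  set K₀ := preimageAlong π K with hK₀
  have hK₀T : K₀ ≤ T := preimageAlong_le
  have hK₀inv : ∀ α ∈ F.autGroup T, ∀ x ∈ K₀, autFun α x ∈ K₀ := by
    intro α hα
    have hm : IsMap F T (autFun α) := isMap_autFun hT hα
    obtain ⟨n, C, h0, hn, hmono, hcomm, hnorm⟩ := IsNormal.exists_series hBp hKn
    set C' : ℕ → Subgroup (T ⧸ R.subgroupOf T) :=
      fun i => imageAlong π (img (preimageAlong π (C i)) (autFun α)) with hC'
    have hsc : ∀ i, B.StronglyClosed (C' i) := fun i =>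
      stronglyClosed_imageAlong hB (IsInvariantIn.stronglyClosed_img hinv hα
        (stronglyClosed_preimageAlong hTp hEs hRE hB (IsNormal.stronglyClosed (hnorm i))))
    have hC0 : C' 0 = ⊥ := by
      rw [eq_bot_iff]
      intro y hy
      obtain ⟨x, hx, hxi, rfl⟩ := mem_imageAlong.1 hy
      obtain ⟨c, hc, rfl⟩ := (mem_img_autFun hm preimageAlong_le).1 hxi
      obtain ⟨hcT, hc1⟩ := mem_preimageAlong.1 hc
      rw [h0, Subgroup.mem_bot] at hc1
      exact (hker _).2 (StronglyClosed.apply_mem hR hm hcT ((hker ⟨c, hcT⟩).1 hc1))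
    have hcm : ∀ i < n, ⁅C' (i + 1), C' n⁆ ≤ C' i := by
      intro i _
      refine commutator_imageAlong_le (fun y hy => ?_) (fun y hy => ?_) ?_
      · obtain ⟨c, hc, rfl⟩ := (mem_img_autFun hm preimageAlong_le).1 hy
        exact autFun_mem α (preimageAlong_le hc)
      · obtain ⟨c, hc, rfl⟩ := (mem_img_autFun hm preimageAlong_le).1 hy
        exact autFun_mem α (preimageAlong_le hc)
      refine commutator_le.2 fun a ha b hb => ?_
      obtain ⟨c, hc, rfl⟩ := (mem_img_autFun hm preimageAlong_le).1 ha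
      obtain ⟨d, hd, rfl⟩ := (mem_img_autFun hm preimageAlong_le).1 hb
      refine (mem_img_autFun hm preimageAlong_le).2 ⟨⁅c, d⁆,
        commutator_preimageAlong_le ((hn.symm ▸ hcomm i : ⁅C (i + 1), C n⁆ ≤ C i))
          (commutator_mem_commutator hc hd), ?_⟩
      have hcT : c ∈ T := preimageAlong_le hc
      have hdT : d ∈ T := preimageAlong_le hd
      rw [commutatorElement_def, commutatorElement_def, hm.map_mul
        (T.mul_mem (T.mul_mem hcT hdT) (T.inv_mem hcT)) (T.inv_mem hdT), hm.map_inv hdT,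
        hm.map_conj hcT hdT]
    have hnor : B.IsNormal (C' n) := by
      refine isNormal_of_le_centricRadical hBp hBs (hsc n) fun P hc hr => ?_
      exact le_centricRadical_of_series hBp (hsc n) n C' hC0 rfl
        (fun i _ => imageAlong_mono (img_mono (preimageAlong_mono (hmono (Nat.le_succ i)))))
        hcm (fun i _ => StronglyClosed.weaklyClosed (hsc i)) hc hr
    intro x hx
    refine mem_preimageAlong.2 ⟨autFun_mem α (hK₀T hx), IsNormal.le_core hnor ?_⟩
    refine mem_imageAlong.2 ⟨_, autFun_mem α (hK₀T hx), ?_, rfl⟩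
    rw [hn]
    exact (mem_img_autFun hm preimageAlong_le).2 ⟨x, hx, rfl⟩
  -- the preimage of the centre of the core
  set Z : Subgroup (T ⧸ R.subgroupOf T) := (Subgroup.center K).map K.subtype with hZ
  have hZn : B.IsNormal Z := IsNormal.center hKn
  have hZne : Z ≠ ⊥ := by
    haveI : Nontrivial K := (Subgroup.nontrivial_iff_ne_bot K).2 hK
    haveI := ((hTp.to_quotient (R.subgroupOf T)).to_subgroup K).center_nontrivial
    intro hb
    rw [hZ, Subgroup.map_eq_bot_iff_of_injective _ K.subtype_injective] at hb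
    exact (Subgroup.nontrivial_iff_ne_bot _).1 inferInstance hb
  have hmemX : ∀ x, x ∈ preimageAlong π Z ↔ x ∈ K₀ ∧ ∀ y ∈ K₀, ⁅x, y⁆ ∈ R := by
    intro x
    constructor
    · intro hx
      obtain ⟨hxT, ⟨a, ha, hax⟩⟩ := mem_preimageAlong.1 hx
      refine ⟨mem_preimageAlong.2 ⟨hxT, hax ▸ a.2⟩, fun y hy => ?_⟩
      obtain ⟨hyT, hyK⟩ := mem_preimageAlong.1 hy
      refine (hker ⁅(⟨x, hxT⟩ : T), (⟨y, hyT⟩ : T)⁆).1 ?_
      rw [map_commutatorElement, commutatorElement_eq_one_iff_commute, ← hax]
      exact (congrArg Subtype.val (Subgroup.mem_center_iff.1 ha ⟨_, hyK⟩)).symm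
    · rintro ⟨hx, hxy⟩
      obtain ⟨hxT, hxK⟩ := mem_preimageAlong.1 hx
      refine mem_preimageAlong.2 ⟨hxT, ⟨⟨_, hxK⟩, Subgroup.mem_center_iff.2 fun b => ?_, rfl⟩⟩
      obtain ⟨t, ht⟩ := QuotientGroup.mk'_surjective (R.subgroupOf T) (b : T ⧸ R.subgroupOf T)
      have h1 := (hker ⁅(⟨x, hxT⟩ : T), t⁆).2
        (hxy t (mem_preimageAlong.2 ⟨t.2, ht.symm ▸ b.2⟩))
      rw [map_commutatorElement, commutatorElement_eq_one_iff_commute] at h1
      apply Subtype.ext
      show (b : T ⧸ R.subgroupOf T) * π ⟨x, hxT⟩ = π ⟨x, hxT⟩ * b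
      rw [← ht]
      exact h1.symm
  refine ⟨preimageAlong π Z, IsInvariantIn.stronglyClosed_of_inv hinv
    (stronglyClosed_preimageAlong hTp hEs hRE hB (IsNormal.stronglyClosed hZn)) ?_,
    lt_of_le_of_ne (le_preimageAlong_of_ker hker hRT) fun he => hZne ?_, preimageAlong_le, ?_⟩
  · intro α hα x hx
    rw [hmemX] at hx ⊢
    refine ⟨hK₀inv α hα x hx.1, fun y hy => ?_⟩
    have hm : IsMap F T (autFun α) := isMap_autFun hT hα
    set y₀ := autFun α⁻¹ y with hy₀
    have hy₀K : y₀ ∈ K₀ := hK₀inv _ (inv_mem hα) y hy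
    have hxT := hK₀T hx.1
    have hyT := hK₀T hy₀K
    have h1 := StronglyClosed.apply_mem hR hm
      (show ⁅x, y₀⁆ ∈ T from T.mul_mem (T.mul_mem (T.mul_mem hxT hyT) (T.inv_mem hxT))
        (T.inv_mem hyT)) (hx.2 y₀ hy₀K)
    rw [commutatorElement_def, hm.map_mul (T.mul_mem (T.mul_mem hxT hyT) (T.inv_mem hxT))
      (T.inv_mem hyT), hm.map_inv hyT, hm.map_conj hxT hyT, hy₀,
      autFun_apply_inv α (hK₀T hy)] at h1
    rwa [commutatorElement_def]
  · rw [← imageAlong_preimageAlong (θ := π) (P' := Z) (hrange ▸ le_top), ← he, eq_bot_iff]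
    intro y hy
    obtain ⟨x, hx, hxR, rfl⟩ := mem_imageAlong.1 hy
    exact (hker ⟨x, hx⟩).2 hxR
  · exact commutator_le.2 fun a ha b hb => ((hmemX a).1 ha).2 b ((hmemX b).1 hb).1

/-- A system with a solvable normal subsystem and solvable factor system is solvable, and
conversely. -/
theorem solvable_iff_of_normal {θ : S →* Ω'} (hE : E.IsNormalIn F p)
    (hD : F.IsFactorSystem T θ D) :
    F.IsSolvableSystem ↔ (E.IsSolvableSystem ∧ D.IsSolvableSystem) := by
  obtain ⟨hEs, -, hinv⟩ := hE.1
  have hT := hinv.2.1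
  haveI := finite_of_le hT.1
  have hTp : IsPGroup p T := hS.to_le hT.1
  have hDs := isSaturated_factor hS hF hT hD
  obtain ⟨-, hker, hθ, hmem⟩ := id hD
  haveI : Finite S' := hθ ▸ Finite.of_surjective θ.rangeRestrict θ.rangeRestrict_surjective
  have hS' : IsPGroup p S' :=
    hθ ▸ IsPGroup.of_surjective hS θ.rangeRestrict θ.rangeRestrict_surjective
  constructor
  · intro h
    obtain ⟨n, C, h0, hn, hmono, hsc, hcomm⟩ := (solvable_iff_seriesFrom hS hF).1 h
    constructor
    · refine (solvable_iff_seriesFrom hTp hEs).2 ⟨n, fun i => C i ⊓ T, by simp [h0],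
        by simp [hn, inf_eq_right.2 hT.1], fun i j hij => inf_le_inf_right _ (hmono hij),
        fun i => stronglyClosed_subsystem hinv.1 (stronglyClosed_inf (hsc i) hT) inf_le_right,
        fun i => le_inf ((commutator_mono inf_le_left inf_le_left).trans (hcomm i))
          ((commutator_mono inf_le_right inf_le_right).trans (Subgroup.commutator_le_self T))⟩
    · refine (solvable_iff_seriesFrom hS' hDs).2 ⟨n, fun i => imageAlong θ (C i), ?_, ?_,
        fun i j hij => imageAlong_mono (hmono hij),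
        fun i => stronglyClosed_imageAlong hD (hsc i),
        fun i => commutator_imageAlong_le (hsc _).1 (hsc _).1 (hcomm i)⟩
      · simp [h0, imageAlong]
      · simp only [hn]
        rw [imageAlong, Subgroup.subgroupOf_self, ← MonoidHom.range_eq_map]; exact hθ
  · rintro ⟨hEsol, hDsol⟩
    have hFT : SeriesFrom F T := by
      obtain ⟨n, C, h0, hn, hmono, hsc, hcomm⟩ := (solvable_iff_seriesFrom hS' hDs).1 hDsol
      refine ⟨n, fun i => preimageAlong θ (C i), ?_, ?_, fun i j hij =>
        preimageAlong_mono (hmono hij), fun i => stronglyClosed_preimageAlong hS hF hT hD (hsc i),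
        fun i => commutator_preimageAlong_le (hcomm i)⟩
      · simp only [h0]; exact preimageAlong_bot hT.1 hker
      · simp only [hn]
        refine le_antisymm preimageAlong_le fun x hx => mem_preimageAlong.2 ⟨hx, ?_⟩
        exact hθ ▸ ⟨_, rfl⟩
    suffices h : ∀ (k : ℕ) (R : Subgroup Ω), F.StronglyClosed R → R ≤ T →
        Nat.card T ≤ Nat.card R + k → SeriesFrom F R from
      (solvable_iff_seriesFrom hS hF).2 (h (Nat.card T) ⊥
        (IsNormal.stronglyClosed isNormal_bot) bot_le (Nat.le_add_left _ _))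
    intro k
    induction k with
    | zero =>
      intro R hR hRT hk
      rw [eq_of_le_of_card_le hRT (by omega)]
      exact hFT
    | succ k ih =>
      intro R hR hRT hk
      by_cases hne : R = T
      · rw [hne]; exact hFT
      obtain ⟨X, hX, hlt, hXT, hc⟩ := exists_step_below hS hF hE.1 hEsol hR hRT hne
      haveI := finite_of_le hX.1
      have hcard : Nat.card R < Nat.card X := by
        by_contra hge
        exact hlt.ne (eq_of_le_of_card_le hlt.le (by omega))
      exact SeriesFrom.cons (ih X hX hXT (by omega)) hR hlt.le hc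

end CfsgLib.Fusion
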