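import Cfsg.Agent.Lib.Fusion.CoprimeExtension
import Cfsg.Agent.Lib.Fusion.SolvableSystem
import Mathlib.GroupTheory.FiniteAbelian.Basic
import Mathlib.Data.ZMod.Basic

/-!
Abelian groups with pairwise distinct invariants: a characteristic series with cyclic steps, and
the failure of such a series invariant under automorphisms of order prime to `p` otherwise.
-/

set_option autoImplicit false
set_option linter.unusedVariables false
set_option linter.unusedSectionVars false
set_option linter.style.haveILetI false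

namespace CfsgLib.Fusion

open Cfsg Cfsg.FusionSystem Subgroup

/-! ### Splitting off two equal invariants -/

theorem exists_split_pair {ι : Type} (M : ι → Type) [∀ j, CommGroup (M j)] {i k : ι} (hik : i ≠ k) :
    Nonempty (((j : ι) → M j) ≃*
      (M i × M k) × ((j : {j : ι // j ≠ i ∧ j ≠ k}) → M j)) := by
  classical
  let Φ : ((j : ι) → M j) →* (M i × M k) × ((j : {j : ι // j ≠ i ∧ j ≠ k}) → M j) :=
    { toFun := fun f => ((f i, f k), fun j => f j)
      map_one' := rfl
      map_mul' := fun _ _ => rfl }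
  refine ⟨MulEquiv.ofBijective Φ ⟨fun f g h => funext fun j => ?_, fun y => ?_⟩⟩
  · have h1 : f i = g i := congrArg (fun z : (M i × M k) × _ => z.1.1) h
    have h2 : f k = g k := congrArg (fun z : (M i × M k) × _ => z.1.2) h
    by_cases hji : j = i
    · subst hji; exact h1
    by_cases hjk : j = k
    · subst hjk; exact h2
    exact congrFun (congrArg Prod.snd h) ⟨j, hji, hjk⟩
  · refine ⟨fun j => if hji : j = i then hji.symm ▸ y.1.1 else
      if hjk : j = k then hjk.symm ▸ y.1.2 else y.2 ⟨j, hji, hjk⟩, Prod.ext (Prod.ext ?_ ?_) ?_⟩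
    · simp [Φ]
    · simp [Φ, hik.symm]
    · funext j
      simp [Φ, j.2.1, j.2.2]

/-! ### Distinct invariants -/

section Layers

variable {A : Type*} [CommGroup A] {p : ℕ} [Fact p.Prime] {ι : Type} {a : ι → ℕ}

/-- The elements of order `p` with a `p ^ j`-th root. -/
def socLayer (A : Type*) [CommGroup A] (p j : ℕ) : Subgroup A :=
  (powMonoidHom (p ^ j) : A →* A).range ⊓ (powMonoidHom p : A →* A).ker

theorem exists_socLayer_gen (ha : Function.Injective a)
    (e : A ≃* ((i : ι) → Multiplicative (ZMod (p ^ a i)))) (j : ℕ) :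
    ∃ g : A, socLayer A p j ≤ socLayer A p (j + 1) ⊔ zpowers g := by
  classical
  have hp : p.Prime := Fact.out
  haveI : ∀ i, NeZero (p ^ a i) := fun i => ⟨pow_ne_zero _ hp.ne_zero⟩
  let c : A → (i : ι) → ZMod (p ^ a i) := fun x i => Multiplicative.toAdd (e x i)
  have hcpow : ∀ (x : A) (m : ℕ) i, c (x ^ m) i = m * c x i := fun x m i => by
    simp [c, nsmul_eq_mul]
  have hcmul : ∀ (x y : A) i, c (x * y) i = c x i + c y i := fun x y i => by simp [c]
  have hc1 : ∀ i, c 1 i = 0 := fun i => by simp [c]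
  have hcinj : ∀ {x y : A}, (∀ i, c x i = c y i) → x = y := fun h =>
    e.injective (funext fun i => Multiplicative.toAdd.injective (h i))
  let mkA : ((i : ι) → ZMod (p ^ a i)) → A := fun f => e.symm fun i => Multiplicative.ofAdd (f i)
  have hcmk : ∀ f i, c (mkA f) i = f i := fun f i => by simp [c, mkA]
  set g := mkA fun i => if a i = j + 1 then ((p ^ j : ℕ) : ZMod (p ^ a i)) else 0 with hg
  refine ⟨g, fun u hu => ?_⟩
  obtain ⟨⟨y, rfl⟩, hu⟩ := hu
  replace hu : (y ^ p ^ j) ^ p = 1 := hu
  -- the exponent on the single coordinate of exponent `j + 1`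
  obtain ⟨k, hk⟩ : ∃ k : ℕ, ∀ i, a i = j + 1 → (k : ZMod (p ^ a i)) = c y i := by
    by_cases h : ∃ i, a i = j + 1
    · obtain ⟨i₀, hi₀⟩ := h
      refine ⟨(c y i₀).val, fun i hi => ?_⟩
      obtain rfl : i = i₀ := ha (hi.trans hi₀.symm)
      exact ZMod.natCast_zmod_val _
    · exact ⟨0, fun i hi => absurd ⟨i, hi⟩ h⟩
  have hdiv : ∀ i, j + 2 ≤ a i → p ∣ (c y i).val := fun i hi => by
    have h1 : ((p ^ (j + 1) * (c y i).val : ℕ) : ZMod (p ^ a i)) = 0 := by
      have h2 := hcpow y (p ^ (j + 1)) i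
      rw [pow_succ, pow_mul, hu, hc1] at h2
      rw [Nat.cast_mul, ZMod.natCast_zmod_val, pow_succ]
      exact h2.symm
    have h3 := (ZMod.natCast_eq_zero_iff _ _).1 h1
    have h4 : p ^ (j + 1) * p ∣ p ^ (j + 1) * (c y i).val := by
      rw [← pow_succ]
      exact (pow_dvd_pow p hi).trans h3
    exact Nat.dvd_of_mul_dvd_mul_left (pow_pos hp.pos _) h4
  set z := mkA fun i => if j + 2 ≤ a i then (((c y i).val / p : ℕ) : ZMod (p ^ a i)) else 0 with hz
  have hkey : y ^ p ^ j = z ^ p ^ (j + 1) * g ^ k := hcinj fun i => by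
    rw [hcpow, hcmul, hcpow, hcpow, hz, hg, hcmk, hcmk]
    rcases Nat.lt_trichotomy (a i) (j + 1) with h | h | h
    · rw [if_neg (by omega), if_neg (by omega), mul_zero, mul_zero, add_zero]
      have : ((p ^ j : ℕ) : ZMod (p ^ a i)) = 0 :=
        (ZMod.natCast_eq_zero_iff _ _).2 (pow_dvd_pow p (by omega))
      rw [this, zero_mul]
    · rw [if_neg (by omega), if_pos h, mul_zero, zero_add, hk i h, mul_comm]
    · rw [if_pos (by omega), if_neg (by omega), mul_zero, add_zero, ← Nat.cast_mul, pow_succ,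
        mul_assoc, Nat.mul_div_cancel' (hdiv i (by omega)), Nat.cast_mul, ZMod.natCast_zmod_val]
  have hgp : g ^ p = 1 := hcinj fun i => by
    rw [hcpow, hg, hcmk, hc1]
    by_cases h : a i = j + 1
    · rw [if_pos h, ← Nat.cast_mul, ← pow_succ', ← h]
      exact ZMod.natCast_self _
    · rw [if_neg h, mul_zero]
  have hzmem : z ^ p ^ (j + 1) ∈ socLayer A p (j + 1) := by
    refine ⟨⟨z, rfl⟩, ?_⟩
    show (z ^ p ^ (j + 1)) ^ p = 1
    have h1 : (y ^ p ^ j) ^ p = 1 := hu
    rw [hkey, mul_pow, ← pow_mul g k p, mul_comm k p, pow_mul g p k, hgp, one_pow, mul_one] at h1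
    exact h1
  rw [powMonoidHom_apply, hkey]
  exact mul_mem (mem_sup_left hzmem) (mem_sup_right (Subgroup.pow_mem _ (mem_zpowers g) k))

theorem map_socLayer_le (φ : A ≃* A) (j : ℕ) {x : A} (hx : x ∈ socLayer A p j) :
    φ x ∈ socLayer A p j := by
  obtain ⟨⟨y, rfl⟩, h⟩ := hx
  replace h : (y ^ p ^ j) ^ p = 1 := h
  refine ⟨⟨φ y, by simp⟩, ?_⟩
  show φ (y ^ p ^ j) ^ p = 1
  rw [← map_pow, h, map_one]

/-- Above every proper subgroup some characteristic subgroup adds a cyclic step. -/
theorem exists_char_cyclic_step [Finite A] (hA : IsPGroup p A) (ha : Function.Injective a)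
    (e : A ≃* ((i : ι) → Multiplicative (ZMod (p ^ a i)))) {R : Subgroup A} (hR : R ≠ ⊤) :
    ∃ (C : Subgroup A) (x : A), C.Characteristic ∧ ¬ C ≤ R ∧ x ∈ C ∧ C ≤ R ⊔ zpowers x := by
  obtain ⟨N, hN⟩ := hA.exists_card_eq
  have hpowN : ∀ x : A, x ^ p ^ N = 1 := fun x => by rw [← hN]; exact pow_card_eq_one'
  set K : ℕ → Subgroup A := fun i => (powMonoidHom (p ^ i) : A →* A).ker with hK
  obtain ⟨i, hi, hi'⟩ : ∃ i, K i ≤ R ∧ ¬ K (i + 1) ≤ R := by
    by_contra hne
    push Not at hne
    have hall : ∀ i, K i ≤ R := fun i => by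
      induction i with
      | zero => intro x hx; simp [hK] at hx; rw [hx]; exact R.one_mem
      | succ i ih => exact hne i ih
    exact hR (top_le_iff.1 fun x _ => hall N (by simp [hK, hpowN]))
  set f : A →* A := powMonoidHom (p ^ i) with hf
  set C : ℕ → Subgroup A := fun j => (socLayer A p j).comap f with hC
  obtain ⟨j, hj, hj'⟩ : ∃ j, ¬ C j ≤ R ∧ C (j + 1) ≤ R := by
    by_contra hne
    push Not at hne
    have hall : ∀ j, ¬ C j ≤ R := fun j => by
      induction j with
      | zero =>
        refine fun h => hi' (le_trans (fun x hx => ?_) h)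
        simp only [hK, MonoidHom.mem_ker, powMonoidHom_apply] at hx
        refine ⟨⟨f x, by simp [hf]⟩, ?_⟩
        show (x ^ p ^ i) ^ p = 1
        rw [← pow_mul, ← pow_succ, hx]
      | succ j ih => exact hne j ih
    refine hall N (le_trans (fun x hx => ?_) hi)
    obtain ⟨⟨y, hy⟩, -⟩ := hx
    simp only [powMonoidHom_apply, hpowN] at hy
    exact hy.symm
  obtain ⟨g, hg⟩ := exists_socLayer_gen ha e j
  let π := QuotientGroup.mk' (socLayer A p (j + 1))
  let η : C j →* A ⧸ socLayer A p (j + 1) := (π.comp f).comp (C j).subtype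
  have hle : η.range ≤ zpowers (π g) := by
    rintro _ ⟨x, rfl⟩
    obtain ⟨d, hd, w, ⟨m, rfl⟩, hdw⟩ := mem_sup.1 (hg x.2)
    refine ⟨m, ?_⟩
    show (π g) ^ m = π (f x)
    rw [← hdw, map_mul, map_zpow, show π d = 1 from (QuotientGroup.eq_one_iff d).2 hd, one_mul]
  haveI : IsCyclic η.range := Subgroup.isCyclic_of_le hle
  obtain ⟨⟨_, x, rfl⟩, hgen⟩ := IsCyclic.exists_generator (α := η.range)
  refine ⟨C j, x, characteristic_iff_le_comap.2 fun φ y hy => ?_, hj, x.2, fun y hy => ?_⟩
  · show f (φ y) ∈ socLayer A p j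
    rw [show f (φ y) = φ (f y) by simp [hf]]
    exact map_socLayer_le φ j hy
  · obtain ⟨m, hm⟩ := hgen ⟨η ⟨y, hy⟩, _, rfl⟩
    have hm' : (η x) ^ m = η ⟨y, hy⟩ := congrArg Subtype.val hm
    have h1 : ((x : A) ^ m)⁻¹ * y ∈ C (j + 1) := by
      show f (((x : A) ^ m)⁻¹ * y) ∈ socLayer A p (j + 1)
      rw [← QuotientGroup.eq_one_iff]
      show π (f (((x : A) ^ m)⁻¹ * y)) = 1
      rw [map_mul, map_mul, map_inv, map_inv, map_zpow, map_zpow]
      exact inv_mul_eq_one.2 hm'
    have h2 : y = (x : A) ^ m * (((x : A) ^ m)⁻¹ * y) := by group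
    rw [h2]
    exact mul_mem (mem_sup_right ⟨m, rfl⟩) (mem_sup_left (hj' h1))

end Layers

/-! ### Series with cyclic steps -/

section Series

variable {Ω : Type*} [Group Ω] {S R : Subgroup Ω} {F : FusionSystem S} {p : ℕ} [Fact p.Prime]

/-- A series of strongly closed subgroups with cyclic steps from `R` to `S`. -/
def CyclicFrom (F : FusionSystem S) (R : Subgroup Ω) : Prop :=
  ∃ (m : ℕ) (c : Fin (m + 1) → Subgroup Ω), c 0 = R ∧ c (Fin.last m) = S ∧
    (∀ i : Fin (m + 1), F.StronglyClosed (c i)) ∧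
      ∀ i : Fin m, c i.castSucc ≤ c i.succ ∧ ∃ x ∈ S, c i.succ = c i.castSucc ⊔ zpowers x

theorem cyclicFrom_self : CyclicFrom F S :=
  ⟨0, fun _ => S, rfl, rfl, fun _ => stronglyClosed_top_self, fun i => i.elim0⟩

theorem CyclicFrom.cons {X : Subgroup Ω} (h : CyclicFrom F X) (hR : F.StronglyClosed R)
    {x : Ω} (hx : x ∈ S) (he : X = R ⊔ zpowers x) : CyclicFrom F R := by
  obtain ⟨m, c, h0, hm, hsc, hstep⟩ := h
  refine ⟨m + 1, Fin.cons R c, rfl, ?_, fun i => ?_, fun i => ?_⟩
  · rw [show Fin.last (m + 1) = (Fin.last m).succ from rfl, Fin.cons_succ, hm]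
  · refine Fin.cases ?_ (fun k => ?_) i
    · exact hR
    · rw [Fin.cons_succ]; exact hsc k
  · refine Fin.cases ?_ (fun k => ?_) i
    · rw [Fin.castSucc_zero, Fin.cons_zero, Fin.cons_succ, h0, he]
      exact ⟨le_sup_left, x, hx, rfl⟩
    · rw [Fin.castSucc_succ, Fin.cons_succ, Fin.cons_succ]
      exact hstep k

variable [Finite S]

/-- An abelian group with distinct invariants gives every system such a series. -/
theorem cyclicFrom_bot_of_distinct {ι : Type} {a : ι → ℕ} [IsMulCommutative S] (hS : IsPGroup p S)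
    (ha : Function.Injective a) (e : S ≃* ((i : ι) → Multiplicative (ZMod (p ^ a i))))
    (hF : F.IsSaturated p) : CyclicFrom F ⊥ := by
  letI : CommGroup S :=
    { (inferInstance : Group S) with mul_comm := (IsMulCommutative.is_comm (M := S)).comm }
  have hSn : F.IsNormal S := by
    refine isNormal_of_commutator_eq_bot hS hF stronglyClosed_top_self ?_
    rw [Subgroup.commutator_eq_bot_iff_le_centralizer]
    intro x hx y hy
    exact congrArg Subtype.val
      ((IsMulCommutative.is_comm (M := S)).comm ⟨y, hy⟩ ⟨x, hx⟩)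
  suffices h : ∀ (k : ℕ) (R : Subgroup S), R.Characteristic → Nat.card S ≤ Nat.card R + k →
      CyclicFrom F (R.map S.subtype) by
    simpa using h (Nat.card S) ⊥ inferInstance (Nat.le_add_left _ _)
  intro k
  induction k with
  | zero =>
    intro R hR hk
    have : R = ⊤ := Subgroup.eq_top_of_le_card _ (by omega)
    subst this
    rw [← MonoidHom.range_eq_map, Subgroup.range_subtype]
    exact cyclicFrom_self
  | succ k ih =>
    intro R hR hk
    by_cases hne : R = ⊤
    · subst hne
      rw [← MonoidHom.range_eq_map, Subgroup.range_subtype]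
      exact cyclicFrom_self
    obtain ⟨C, x, hC, hCR, hxC, hle⟩ := exists_char_cyclic_step hS ha e hne
    have he : R ⊔ C = R ⊔ zpowers x :=
      le_antisymm (sup_le le_sup_left hle) (sup_le_sup_left (zpowers_le.2 hxC) R)
    have hXc : (R ⊔ C).Characteristic := characteristic_iff_map_eq.2 fun φ => by
      rw [Subgroup.map_sup, characteristic_iff_map_eq.1 hR φ, characteristic_iff_map_eq.1 hC φ]
    have hlt : R < R ⊔ C := left_lt_sup.2 hCR
    have hcard : Nat.card R < Nat.card (R ⊔ C : Subgroup S) := by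
      by_contra hge
      exact hlt.ne (eq_of_le_of_card_le hlt.le (by omega))
    refine CyclicFrom.cons (ih (R ⊔ C) hXc (by omega)) ?_ x.2 ?_
    · refine IsNormal.stronglyClosed (isNormal_characteristic hSn (map_subtype_le R) ?_)
      rw [Subgroup.subgroupOf, comap_map_eq_self_of_injective S.subtype_injective]
      exact hR
    · rw [he, Subgroup.map_sup, MonoidHom.map_zpowers]
      rfl

end Series

/-! ### Two equal invariants -/

section Pair

variable {Z H : Type*} [CommGroup Z] [CommGroup H]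

/-- An automorphism of the pair, extended to the whole product. -/
def extPair (φ : MulAut (Z × Z)) : MulAut ((Z × Z) × H) := φ.prodCongr (MulEquiv.refl H)

/-- `(x, y) ↦ (y, x⁻¹)`. -/
def rotFour : MulAut (Z × Z) where
  toFun v := (v.2, v.1⁻¹)
  invFun v := (v.2⁻¹, v.1)
  left_inv v := Prod.ext (inv_inv _) rfl
  right_inv v := Prod.ext rfl (inv_inv _)
  map_mul' u v := Prod.ext rfl (mul_inv _ _)

/-- `(x, y) ↦ (y, (x y)⁻¹)`. -/
def rotThree : MulAut (Z × Z) where
  toFun v := (v.2, (v.1 * v.2)⁻¹)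
  invFun v := ((v.1 * v.2)⁻¹, v.1)
  left_inv v := Prod.ext (by simp) rfl
  right_inv v := Prod.ext rfl (by simp)
  map_mul' u v := Prod.ext rfl (by
    show (u.1 * v.1 * (u.2 * v.2))⁻¹ = (u.1 * u.2)⁻¹ * (v.1 * v.2)⁻¹
    rw [← mul_inv, mul_mul_mul_comm])

end Pair

section Converse

variable {Ω : Type*} [Group Ω] {S : Subgroup Ω} [Finite S] {p : ℕ} [Fact p.Prime]
  {Z H : Type*} [CommGroup Z] [CommGroup H]

set_option maxHeartbeats 1600000 in
/-- With two equal invariants some saturated system has no series with cyclic steps. -/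
theorem exists_not_cyclicFrom (hS : IsPGroup p S) (e : S ≃* (Z × Z) × H) {z : Z} (hz : z ≠ 1)
    (hzp : z ^ p = 1) : ∃ F : FusionSystem S, F.IsSaturated p ∧ ¬ CyclicFrom F ⊥ := by
  have hp : p.Prime := Fact.out
  let Λ : MulAut (Z × Z) →* MulAut S :=
    (MulAut.congr e.symm).toMonoidHom.comp
      { toFun := fun φ => extPair φ
        map_one' := MulEquiv.ext fun _ => rfl
        map_mul' := fun _ _ => MulEquiv.ext fun _ => rfl }
  have hΛ : ∀ (φ : MulAut (Z × Z)) (s : S),
      e (Λ φ s) = (φ (e s).1, (e s).2) := fun φ s => by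
    show e (e.symm (extPair φ (e s))) = _
    rw [MulEquiv.apply_symm_apply]
    rfl
  -- a group of order prime to `p` fixing no line of the socle of the pair
  obtain ⟨L, hL, hirr⟩ : ∃ L : Subgroup (MulAut (Z × Z)), (Nat.card (L.map Λ)).Coprime p ∧
      ∀ v : Z × Z, v ^ p = 1 → (∀ φ ∈ L, φ v ∈ zpowers v) → v = 1 := by
    rcases eq_or_ne p 2 with hp2 | hp2
    · subst hp2
      set τ : MulAut (Z × Z) := rotThree
      have hτ3 : τ ^ 3 = 1 := MulEquiv.ext fun v => by
        simp only [pow_succ, pow_zero, one_mul, MulAut.mul_apply, MulAut.one_apply]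
        exact Prod.ext (by simp [τ, rotThree]) (by simp [τ, rotThree])
      refine ⟨zpowers τ, ?_, fun v hv hinv => ?_⟩
      · rw [MonoidHom.map_zpowers, Nat.card_zpowers]
        have h3 : (Λ τ) ^ 3 = 1 := by rw [← map_pow, hτ3, map_one]
        exact Nat.Coprime.coprime_dvd_left (orderOf_dvd_of_pow_eq_one h3) (by norm_num)
      · obtain ⟨m, hm⟩ := hinv τ (mem_zpowers τ)
        have hv2 : v ^ (2 : ℤ) = 1 := by rw [show (2 : ℤ) = ((2 : ℕ) : ℤ) from rfl, zpow_natCast, hv]
        rcases Int.even_or_odd m with ⟨k, hk⟩ | ⟨k, hk⟩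
        · have h1 : τ v = 1 := by
            rw [← hm]
            show v ^ m = 1
            rw [hk, show k + k = 2 * k by ring, zpow_mul, hv2, one_zpow]
          simpa using congrArg τ.symm h1
        · have h1 : τ v = v := by
            rw [← hm]
            show v ^ m = v
            rw [hk, zpow_add, zpow_mul, hv2, one_zpow, one_mul, zpow_one]
          have h2 : v.2 = v.1 := congrArg Prod.fst h1
          have h3 : (v.1 * v.2)⁻¹ = v.2 := congrArg Prod.snd h1
          have h4 : v.1 * v.1 = 1 := by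
            have := congrArg Prod.fst hv
            simpa [pow_two] using this
          rw [h2, h4, inv_one] at h3
          exact Prod.ext h3.symm (h2.trans h3.symm)
    · set ρ : MulAut (Z × Z) := rotFour
      set σ : MulAut (Z × Z) := MulEquiv.prodComm
      have hρ4 : ρ ^ 4 = 1 := MulEquiv.ext fun v => by
        simp only [pow_succ, pow_zero, one_mul, MulAut.mul_apply, MulAut.one_apply]
        exact Prod.ext (by simp [ρ, rotFour]) (by simp [ρ, rotFour])
      have hσ2 : σ ^ 2 = 1 := MulEquiv.ext fun v => by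
        simp only [pow_succ, pow_zero, one_mul, MulAut.mul_apply, MulAut.one_apply]
        rfl
      have hrel : σ * ρ * σ⁻¹ = ρ⁻¹ := by
        rw [eq_comm, inv_eq_iff_mul_eq_one]
        have hσi : σ⁻¹ = σ := inv_eq_of_mul_eq_one_left (by rw [← pow_two]; exact hσ2)
        rw [hσi]
        refine MulEquiv.ext fun v => ?_
        simp only [MulAut.mul_apply, MulAut.one_apply]
        exact Prod.ext (by simp [ρ, σ, rotFour]) (by simp [ρ, σ, rotFour])
      refine ⟨zpowers ρ ⊔ zpowers σ, ?_, fun v hv hinv => ?_⟩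
      · rw [Subgroup.map_sup, MonoidHom.map_zpowers, MonoidHom.map_zpowers]
        set r := Λ ρ with hr
        set s := Λ σ with hs
        have hr4 : r ^ 4 = 1 := by rw [hr, ← map_pow, hρ4, map_one]
        have hs2 : s ^ 2 = 1 := by rw [hs, ← map_pow, hσ2, map_one]
        have hrel' : s * r * s⁻¹ = r⁻¹ := by rw [hr, hs, ← map_inv, ← map_mul, ← map_mul, hrel, map_inv]
        have hnorm : zpowers s ≤ normalizer (zpowers r : Set (MulAut S)) := by
          rw [zpowers_le, Subgroup.mem_normalizer_iff_map_conj_eq, MonoidHom.map_zpowers]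
          show zpowers (s * r * s⁻¹) = zpowers r
          rw [hrel', zpowers_inv]
        have hr2 : IsPGroup 2 (zpowers r) := by
          obtain ⟨i, -, hi⟩ := (Nat.dvd_prime_pow Nat.prime_two).1
            (show orderOf r ∣ 2 ^ 2 from orderOf_dvd_of_pow_eq_one hr4)
          exact IsPGroup.of_card (n := i) (by rw [Nat.card_zpowers, hi])
        have hs' : IsPGroup 2 (zpowers s) := by
          obtain ⟨i, -, hi⟩ := (Nat.dvd_prime_pow Nat.prime_two).1
            (show orderOf s ∣ 2 ^ 1 from orderOf_dvd_of_pow_eq_one (by simpa using hs2))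
          exact IsPGroup.of_card (n := i) (by rw [Nat.card_zpowers, hi])
        obtain ⟨i, hi⟩ := (IsPGroup.to_sup_of_normal_left' hr2 hs' hnorm).exists_card_eq
        rw [hi]
        exact Nat.Coprime.pow_left i ((Nat.coprime_primes Nat.prime_two hp).2 hp2.symm)
      · obtain ⟨k, hk⟩ := hinv ρ (mem_sup_left (mem_zpowers ρ))
        obtain ⟨l, hl⟩ := hinv σ (mem_sup_right (mem_zpowers σ))
        have k1 : v.1 ^ k = v.2 := congrArg Prod.fst hk
        have k2 : v.2 ^ k = v.1⁻¹ := congrArg Prod.snd hk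
        have l1 : v.1 ^ l = v.2 := congrArg Prod.fst hl
        have l2 : v.2 ^ l = v.1 := congrArg Prod.snd hl
        have h1 : v.1⁻¹ = v.1 := by
          rw [← k2]
          conv_lhs => rw [← l1, ← zpow_mul, mul_comm, zpow_mul, k1]
          exact l2
        have h2 : v.1 ^ 2 = 1 := by
          rw [pow_two]
          nth_rewrite 1 [← h1]
          exact inv_mul_cancel _
        have h3 : v.1 = 1 := by
          have := Nat.Coprime.gcd_eq_one ((Nat.coprime_primes Nat.prime_two hp).2 hp2.symm)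
          have h4 := pow_gcd_eq_one.2 ⟨h2, (by simpa using congrArg Prod.fst hv : v.1 ^ p = 1)⟩
          rwa [this, pow_one] at h4
        exact Prod.ext h3 (by rw [← k1, h3, one_zpow]; rfl)
  obtain ⟨F, hF, hFL⟩ := exists_saturated_of_coprime_aut hS (L.map Λ) hL
  refine ⟨F, hF, ?_⟩
  rintro ⟨m, c, h0, hm, hsc, hstep⟩
  have hinvc : ∀ (i : Fin (m + 1)) (φ : MulAut (Z × Z)), φ ∈ L → ∀ s : S,
      (s : Ω) ∈ c i → ((Λ φ s : S) : Ω) ∈ c i := fun i φ hφ s hs => by
    have h1 := StronglyClosed.apply_mem (hsc i)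
      (isMap_of_hom (hFL (Λ φ) ⟨φ, hφ, rfl⟩)) s.2 hs
    rw [toFun_of_mem _ s.2] at h1
    exact h1
  let ins : Z × Z →* S := e.symm.toMonoidHom.comp (MonoidHom.inl (Z × Z) H)
  have hins : ∀ v, e (ins v) = (v, 1) := fun v => e.apply_symm_apply _
  have hinsΛ : ∀ φ v, Λ φ (ins v) = ins (φ v) := fun φ v => e.injective (by
    rw [hΛ, hins, hins])
  have hinsj : Function.Injective ins := fun u v h => by
    have := congrArg e h
    rw [hins, hins] at this
    exact congrArg Prod.fst this
  have hall : ∀ i : Fin (m + 1), ∀ v : Z × Z, v ^ p = 1 → ((ins v : S) : Ω) ∈ c i → v = 1 := by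
    intro i
    induction i using Fin.induction with
    | zero =>
      intro v _ hv
      rw [h0, Subgroup.mem_bot] at hv
      exact hinsj ((Subtype.ext hv : ins v = 1).trans (map_one ins).symm)
    | succ i ih =>
      obtain ⟨hle, x, hxS, hxe⟩ := hstep i
      haveI : IsMulCommutative S := ⟨⟨fun a b => e.injective (by rw [map_mul, map_mul, mul_comm])⟩⟩
      let π := QuotientGroup.mk' ((c i.castSucc).subgroupOf S)
      let N : Subgroup (Z × Z) :=
        (powMonoidHom p : Z × Z →* Z × Z).ker ⊓ ((c i.succ).subgroupOf S).comap ins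
      let η : N →* S ⧸ (c i.castSucc).subgroupOf S := (π.comp ins).comp N.subtype
      have hηi : Function.Injective η := (injective_iff_map_eq_one η).2 fun v hv =>
        Subtype.ext (ih v v.2.1 ((QuotientGroup.eq_one_iff (ins v)).1 hv))
      have hrange : η.range ≤ zpowers (π ⟨x, hxS⟩) := by
        rintro _ ⟨v, rfl⟩
        have h1 : ins v ∈ (c i.castSucc).subgroupOf S ⊔ zpowers (⟨x, hxS⟩ : S) := by
          have h2 : (c i.succ).subgroupOf S =
              (c i.castSucc).subgroupOf S ⊔ zpowers (⟨x, hxS⟩ : S) := by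
            rw [hxe, Subgroup.subgroupOf_sup (hsc _).1 (zpowers_le.2 hxS)]
            congr 1
            apply Subgroup.map_injective S.subtype_injective
            rw [Subgroup.map_subgroupOf_eq_of_le (zpowers_le.2 hxS), MonoidHom.map_zpowers]
            rfl
          rw [← h2]
          exact v.2.2
        obtain ⟨d, hd, w, ⟨k, rfl⟩, hdw⟩ := mem_sup_of_normal_left.1 h1
        refine ⟨k, ?_⟩
        show (π ⟨x, hxS⟩) ^ k = π (ins v)
        rw [← hdw, map_mul, map_zpow, show π d = 1 from (QuotientGroup.eq_one_iff d).2 hd, one_mul]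
      haveI : IsCyclic η.range := Subgroup.isCyclic_of_le hrange
      haveI : IsCyclic N :=
        isCyclic_of_surjective (MonoidHom.ofInjective hηi).symm (MulEquiv.surjective _)
      intro v hv hvc
      by_contra hv1
      have hvN : v ∈ N := ⟨hv, hvc⟩
      obtain ⟨g, hg⟩ := IsCyclic.exists_generator (α := N)
      have hg1 : g ≠ 1 := fun hg1 => hv1 (by
        obtain ⟨k, hk⟩ := hg ⟨v, hvN⟩
        simp only [hg1, one_zpow] at hk
        exact (congrArg Subtype.val hk).symm)
      have hgp : orderOf g = p := orderOf_eq_prime (Subtype.ext g.2.1) hg1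
      have hvz : ∀ w ∈ N, w ∈ zpowers v := by
        intro w hw
        have hcardN : Nat.card N = p := by rw [← orderOf_eq_card_of_forall_mem_zpowers hg, hgp]
        have h1 : zpowers (⟨v, hvN⟩ : N) = ⊤ := zpowers_eq_top_of_prime_card hcardN
          (fun h => hv1 (congrArg Subtype.val h))
        have h2 : (⟨w, hw⟩ : N) ∈ zpowers (⟨v, hvN⟩ : N) := by
          rw [h1]; exact Subgroup.mem_top _
        obtain ⟨k, hk⟩ := h2
        exact ⟨k, congrArg Subtype.val hk⟩
      refine hv1 (hirr v hv fun φ hφ => hvz _ ⟨?_, ?_⟩)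
      · show φ v ^ p = 1
        rw [← map_pow, hv, map_one]
      · show ((ins (φ v) : S) : Ω) ∈ c i.succ
        rw [← hinsΛ]
        exact hinvc _ φ hφ _ hvc
  refine hz (congrArg Prod.fst (hall (Fin.last m) (z, 1) (Prod.ext hzp (one_pow p)) ?_))
  rw [hm]
  exact SetLike.coe_mem _

end Converse

end CfsgLib.Fusion
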