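import Cfsg.Agent.Lib.Fusion.CommonLine
import Cfsg.Agent.Lib.Fusion.SupersolubleAbelian
import Cfsg.Agent.Lib.PGroup.GInvariantCritical
import Cfsg.Agent.Lib.Solvable.Nilpotent
import Cfsg.Agent.Lib.Fusion.Alperin
import Mathlib.GroupTheory.SchurZassenhaus

/-!
Groups all of whose saturated systems have strongly closed series with cyclic steps.
-/

set_option autoImplicit false
set_option linter.unusedVariables false
set_option linter.unusedSectionVars false
set_option linter.style.haveILetI false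

namespace CfsgLib.Fusion

open Cfsg Cfsg.FusionSystem Subgroup
open scoped commutatorElement

variable {Ω : Type*} [Group Ω] {S R : Subgroup Ω} {F : FusionSystem S} {p : ℕ} [Fact p.Prime]
  [Finite S]

/-- A series of strongly closed subgroups from `R` to `S` with central steps of order at most
`p`. -/
def CentralFrom (F : FusionSystem S) (p : ℕ) (R : Subgroup Ω) : Prop :=
  ∃ (n : ℕ) (C : ℕ → Subgroup Ω), C 0 = R ∧ C n = S ∧ Monotone C ∧ (∀ i, F.StronglyClosed (C i)) ∧
    ∀ i, ⁅C (i + 1), S⁆ ≤ C i ∧ ∃ y ∈ C (i + 1), C (i + 1) ≤ C i ⊔ zpowers y ∧ y ^ p ∈ C i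

theorem centralFrom_self : CentralFrom F p S :=
  ⟨0, fun _ => S, rfl, rfl, monotone_const, fun _ => stronglyClosed_top_self,
    fun _ => ⟨Subgroup.commutator_le_self S, 1, S.one_mem, le_sup_left, by simp⟩⟩

theorem CentralFrom.cons {X : Subgroup Ω} (h : CentralFrom F p X) (hR : F.StronglyClosed R)
    (hle : R ≤ X) (hc : ⁅X, S⁆ ≤ R) {y : Ω} (hy : y ∈ X) (hgen : X ≤ R ⊔ zpowers y)
    (hyp : y ^ p ∈ R) : CentralFrom F p R := by
  obtain ⟨n, C, h0, hn, hmono, hsc, hstep⟩ := h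
  refine ⟨n + 1, fun i => Nat.casesOn i R C, rfl, hn, monotone_nat_of_le_succ fun i => ?_,
    fun i => ?_, fun i => ?_⟩
  · cases i with
    | zero => show R ≤ C 0; rw [h0]; exact hle
    | succ i => exact hmono (Nat.le_succ i)
  · cases i with
    | zero => exact hR
    | succ i => exact hsc i
  · cases i with
    | zero =>
      show ⁅C 0, S⁆ ≤ R ∧ ∃ y ∈ C 0, C 0 ≤ R ⊔ zpowers y ∧ y ^ p ∈ R
      rw [h0]
      exact ⟨hc, y, hy, hgen, hyp⟩
    | succ i => exact hstep i

variable (hS : IsPGroup p S) (hF : F.IsSaturated p)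

include hS hF

/-- A cyclic step refines to a central step of order `p`. -/
theorem exists_central_step (h : CyclicFrom F ⊥) (hR : F.StronglyClosed R) (hne : R ≠ S) :
    ∃ X y, F.StronglyClosed X ∧ R < X ∧ ⁅X, S⁆ ≤ R ∧ y ∈ X ∧ X ≤ R ⊔ zpowers y ∧ y ^ p ∈ R := by
  obtain ⟨m, c, h0, hm, hsc, hstep⟩ := h
  obtain ⟨i, hi, hi'⟩ : ∃ i : Fin m, c i.castSucc ≤ R ∧ ¬ c i.succ ≤ R := by
    by_contra hcon
    push Not at hcon
    have hall : ∀ i : Fin (m + 1), c i ≤ R := fun i => by
      induction i using Fin.induction with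
      | zero => rw [h0]; exact bot_le
      | succ i ih => exact hcon i ih
    exact hne (le_antisymm hR.1 (hm ▸ hall (Fin.last m)))
  obtain ⟨-, x, hx, hxe⟩ := hstep i
  haveI hn : (R.subgroupOf S).Normal := ⟨fun a ha g =>
    mem_subgroupOf.2 (StronglyClosed.conj_mem hR g.2 (mem_subgroupOf.1 ha))⟩
  set θ := QuotientGroup.mk' (R.subgroupOf S) with hθ
  have hker : ∀ s : S, θ s = 1 ↔ (s : Ω) ∈ R := fun s => QuotientGroup.eq_one_iff s
  have hrange : θ.range = ⊤ := MonoidHom.range_eq_top.2 (QuotientGroup.mk'_surjective _)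
  set E := castSys hrange (factorSys F hR θ hker) with hEdef
  have hE : F.IsFactorSystem R θ E := by
    refine ⟨hR.1, hker, hrange, fun P' φ' => ?_⟩
    rw [hEdef, castSys_hom]
    exact ⟨fun h => ⟨le_top, h.2⟩, fun h => ⟨hrange.ge.trans' le_top, h.2⟩⟩
  have hEs := isSaturated_factor hS hF hR hE
  have hQp := hS.to_quotient (R.subgroupOf S)
  have hEp : IsPGroup p (⊤ : Subgroup (S ⧸ R.subgroupOf S)) := hQp.to_subgroup ⊤
  set Q := imageAlong θ (c i.succ) with hQdef
  have hQsc : E.StronglyClosed Q := stronglyClosed_imageAlong hE (hsc _)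
  have hQcyc : Q ≤ zpowers (θ ⟨x, hx⟩) := by
    have h1 : c i.succ ≤ preimageAlong θ (zpowers (θ ⟨x, hx⟩)) := by
      rw [hxe]
      exact sup_le (hi.trans (le_preimageAlong_of_ker hker hR.1))
        (zpowers_le.2 (mem_preimageAlong.2 ⟨hx, mem_zpowers _⟩))
    intro a ha
    obtain ⟨z, hz, hzc, rfl⟩ := mem_imageAlong.1 ha
    exact (mem_preimageAlong.1 (h1 hzc)).2
  have hQne : Q ≠ ⊥ := fun hb => hi' fun z hz => by
    refine (hker ⟨z, (hsc _).1 hz⟩).1 ?_
    rw [← Subgroup.mem_bot, ← hb]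
    exact mem_imageAlong.2 ⟨z, _, hz, rfl⟩
  have hQn : E.IsNormal Q := by
    refine isNormal_of_commutator_eq_bot hEp hEs hQsc ?_
    rw [Subgroup.commutator_eq_bot_iff_le_centralizer]
    intro a ha b hb
    obtain ⟨k, rfl⟩ := hQcyc ha
    obtain ⟨l, rfl⟩ := hQcyc hb
    exact ((Commute.refl (θ ⟨x, hx⟩)).zpow_zpow l k).eq
  -- a central subgroup of order `p` inside `Q`
  haveI : Group.IsNilpotent (S ⧸ R.subgroupOf S) := hQp.isNilpotent
  haveI : Q.Normal := ⟨fun a ha g => StronglyClosed.conj_mem hQsc (Subgroup.mem_top g) ha⟩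
  have hne' : Q ⊓ center (S ⧸ R.subgroupOf S) ≠ ⊥ :=
    CfsgLib.Solvable.normal_inf_center_ne_bot Q hQne
  haveI : Nontrivial (Q ⊓ center (S ⧸ R.subgroupOf S) : Subgroup (S ⧸ R.subgroupOf S)) :=
    (Subgroup.nontrivial_iff_ne_bot _).2 hne'
  obtain ⟨k, hk, hcard⟩ := (hQp.to_subgroup (Q ⊓ center (S ⧸ R.subgroupOf S))).nontrivial_iff_card.1
    inferInstance
  obtain ⟨⟨y', hy'⟩, hy'o⟩ := exists_prime_orderOf_dvd_card'
    (G := (Q ⊓ center (S ⧸ R.subgroupOf S) : Subgroup (S ⧸ R.subgroupOf S))) p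
    (hcard ▸ dvd_pow_self p hk.ne')
  have hy'p : orderOf y' = p := by rw [← hy'o, Subgroup.orderOf_mk]
  set K := zpowers y' with hK
  have hKn : E.IsNormal K := by
    refine isNormal_characteristic hQn (zpowers_le.2 hy'.1)
      (characteristic_iff_le_comap.2 fun φ a ha => ?_)
    rw [Subgroup.mem_comap, Subgroup.mem_subgroupOf]
    rw [Subgroup.mem_subgroupOf] at ha
    haveI : IsCyclic Q := Subgroup.isCyclic_of_le hQcyc
    obtain ⟨t, ht⟩ := MonoidHom.map_cyclic φ.toMonoidHom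
    rw [show φ.toMonoidHom a = φ a from rfl] at *
    have h1 : φ a = a ^ t := ht a
    show ((φ a : Q) : S ⧸ R.subgroupOf S) ∈ K
    rw [h1, SubgroupClass.coe_zpow]
    exact Subgroup.zpow_mem _ ha t
  obtain ⟨y, hy⟩ := QuotientGroup.mk'_surjective (R.subgroupOf S) y'
  have hypre : (y : Ω) ∈ preimageAlong θ K :=
    mem_preimageAlong.2 ⟨y.2, by rw [Subtype.coe_eta]; exact hy.symm ▸ mem_zpowers y'⟩
  refine ⟨preimageAlong θ K, y, stronglyClosed_preimageAlong hS hF hR hE
    (IsNormal.stronglyClosed hKn), lt_of_le_of_ne (le_preimageAlong_of_ker hker hR.1) fun he => ?_,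
    ?_, hypre, fun z hz => ?_, ?_⟩
  · have h1 : y' = 1 := by
      rw [← hy]
      exact (hker y).2 (he.ge hypre)
    rw [h1, orderOf_one] at hy'p
    exact (Fact.out : p.Prime).ne_one hy'p.symm
  · refine commutator_le.2 fun a ha b hb => ?_
    obtain ⟨haS, j, hj⟩ := mem_preimageAlong.1 ha
    refine (hker ⁅(⟨a, haS⟩ : S), (⟨b, hb⟩ : S)⁆).1 ?_
    rw [map_commutatorElement, commutatorElement_eq_one_iff_commute, ← hj]
    exact (Commute.zpow_left (show Commute y' (θ ⟨b, hb⟩) from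
      ((Subgroup.mem_center_iff.1 hy'.2) _).symm) j)
  · obtain ⟨hzS, j, hj⟩ := mem_preimageAlong.1 hz
    have h1 : ((y : Ω) ^ j)⁻¹ * z ∈ R := by
      refine (hker ((y ^ j)⁻¹ * ⟨z, hzS⟩)).1 ?_
      rw [map_mul, map_inv, map_zpow, hy]
      exact inv_mul_eq_one.2 hj
    have h2 := Subgroup.mul_mem (R ⊔ zpowers (y : Ω)) (mem_sup_right ⟨j, rfl⟩) (mem_sup_left h1)
    rwa [mul_inv_cancel_left] at h2
  · refine (hker (y ^ p)).1 ?_
    rw [map_pow, hy, ← hy'p, pow_orderOf_eq_one]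

theorem centralFrom_of_cyclicFrom (h : CyclicFrom F ⊥) :
    ∀ (k : ℕ) (R : Subgroup Ω), F.StronglyClosed R → Nat.card S ≤ Nat.card R + k →
      CentralFrom F p R := by
  intro k
  induction k with
  | zero =>
    intro R hR hk
    rw [eq_of_le_of_card_le hR.1 (by omega)]
    exact centralFrom_self
  | succ k ih =>
    intro R hR hk
    by_cases hRS : R = S
    · subst hRS; exact centralFrom_self
    obtain ⟨X, y, hX, hlt, hc, hy, hgen, hyp⟩ := exists_central_step hS hF h hR hRS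
    haveI := finite_of_le hX.1
    have hcard : Nat.card R < Nat.card X := by
      by_contra hge
      exact hlt.ne (eq_of_le_of_card_le hlt.le (by omega))
    exact CentralFrom.cons (ih X hX (by omega)) hR hlt.le hc hy hgen hyp

theorem isNormal_of_centralFrom (h : CentralFrom F p ⊥) : F.IsNormal S := by
  obtain ⟨n, C, h0, hn, hmono, hsc, hstep⟩ := h
  refine isNormal_of_le_centricRadical hS hF stronglyClosed_top_self fun P hc hr => ?_
  exact le_centricRadical_of_series hS stronglyClosed_top_self n C h0 hn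
    (fun i _ => hmono (Nat.le_succ i)) (fun i _ => (hstep i).1)
    (fun i _ => StronglyClosed.weaklyClosed (hsc i)) hc hr

omit hF in
/-- Automorphisms of order prime to `p` preserving a series with steps of order `p` commute and
have exponent dividing `p - 1`. -/
theorem abelian_of_series (H : Subgroup (MulAut S)) (hH : (Nat.card H).Coprime p) {n : ℕ}
    {C : ℕ → Subgroup Ω} (h0 : C 0 = ⊥) (hn : C n = S)
    (hnorm : ∀ i, ∀ a : S, ∀ z : S, (z : Ω) ∈ C i → ((a * z * a⁻¹ : S) : Ω) ∈ C i)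
    (hinv : ∀ i, ∀ α ∈ H, ∀ z : S, (z : Ω) ∈ C i → ((α z : S) : Ω) ∈ C i)
    (hCS : ∀ i, C i ≤ S)
    (hstep : ∀ i, ∃ y ∈ C (i + 1), C (i + 1) ≤ C i ⊔ zpowers y ∧ y ^ p ∈ C i) :
    IsMulCommutative H ∧ ∀ h ∈ H, h ^ (p - 1) = 1 := by
  have hp : p.Prime := Fact.out
  -- an element acting trivially on every step is trivial
  have htriv : ∀ γ ∈ H, (∀ i, ∀ z : S, (z : Ω) ∈ C (i + 1) → ((z⁻¹ * γ z : S) : Ω) ∈ C i) →
      γ = 1 := by
    intro γ hγ hfix
    have hc : (orderOf γ).Coprime p :=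
      Nat.Coprime.coprime_dvd_left (Subgroup.orderOf_dvd_natCard _ hγ) hH
    have key : ∀ i, ∀ z : S, (z : Ω) ∈ C i → γ z = z := by
      intro i
      induction i with
      | zero =>
        intro z hz
        rw [h0, Subgroup.mem_bot] at hz
        rw [show z = 1 from Subtype.ext hz, map_one]
      | succ i ih => exact fun z hz => CfsgLib.PGroup.eq_of_fixed_diff hS hc (ih _ (hfix i z hz))
    exact MulEquiv.ext fun z => key n z (hn.symm ▸ z.2)
  -- each element is a power map on each step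
  have hscal : ∀ i, ∀ α ∈ H, ∃ k : ℤ,
      ∀ z : S, (z : Ω) ∈ C (i + 1) → (((z ^ k)⁻¹ * α z : S) : Ω) ∈ C i := by
    intro i α hα
    obtain ⟨y, hy, hgen, hyp⟩ := hstep i
    haveI : ((C i).subgroupOf S).Normal := ⟨fun z hz a => hnorm i a z hz⟩
    set π := QuotientGroup.mk' ((C i).subgroupOf S)
    have hπ : ∀ z : S, π z = 1 ↔ (z : Ω) ∈ C i := fun z => QuotientGroup.eq_one_iff z
    have hyS : y ∈ S := hCS _ hy
    have hcyc : ∀ z : S, (z : Ω) ∈ C (i + 1) → π z ∈ zpowers (π ⟨y, hyS⟩) := by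
      intro z hz
      have h2 : C i ⊔ zpowers y ≤ (((zpowers (π ⟨y, hyS⟩)).comap π).map S.subtype) := by
        refine sup_le (fun a ha => ⟨⟨a, hCS i ha⟩, ?_, rfl⟩)
          (zpowers_le.2 ⟨⟨y, hyS⟩, mem_zpowers _, rfl⟩)
        show π _ ∈ zpowers _
        rw [(hπ ⟨a, hCS i ha⟩).2 ha]
        exact Subgroup.one_mem _
      obtain ⟨z', hz', he⟩ := h2 (hgen hz)
      rw [← show z' = z from Subtype.ext he]
      exact hz'
    obtain ⟨k, hk⟩ := hcyc _ (hinv (i + 1) α hα ⟨y, hyS⟩ hy)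
    refine ⟨k, fun z hz => ?_⟩
    obtain ⟨j, hj⟩ := hcyc z hz
    have h1 : ((((⟨y, hyS⟩ : S) ^ j)⁻¹ * z : S) : Ω) ∈ C i := by
      refine (hπ _).1 ?_
      rw [map_mul, map_inv, map_zpow]
      exact inv_mul_eq_one.2 hj
    have h2 := hinv i α hα _ h1
    rw [← hπ] at h2
    refine (hπ _).1 ?_
    rw [map_mul, map_inv, map_zpow, ← hj, ← zpow_mul, mul_comm j k, zpow_mul,
      show π (⟨y, hyS⟩ : S) ^ k = π (α ⟨y, hyS⟩) from hk]
    rw [map_mul, map_inv, map_zpow, map_mul, map_inv, map_zpow] at h2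
    exact h2
  choose k hk using hscal
  -- products act by products
  have hmod : ∀ i, ∀ α ∈ H, ∀ z : S, (z : Ω) ∈ C (i + 1) → ∀ z' : S,
      ((z⁻¹ * z' : S) : Ω) ∈ C i → (((α z)⁻¹ * α z' : S) : Ω) ∈ C i := by
    intro i α hα z hz z' hd
    rw [← map_inv, ← map_mul]
    exact hinv i α hα _ hd
  have hcompose : ∀ i, ∀ α (hα : α ∈ H) (β : MulAut S) (hβ : β ∈ H), ∀ z : S,
      (z : Ω) ∈ C (i + 1) → (((z ^ (k i α hα * k i β hβ))⁻¹ * α (β z) : S) : Ω) ∈ C i := by
    intro i α hα β hβ z hz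
    have hzk : ((z ^ k i β hβ : S) : Ω) ∈ C (i + 1) := by
      rw [SubgroupClass.coe_zpow]; exact Subgroup.zpow_mem _ hz _
    have h1 := hmod i α hα _ hzk (β z) (hk i β hβ z hz)
    have h2 := hk i α hα _ hzk
    have h3 := (C i).mul_mem h2 h1
    rw [← Subgroup.coe_mul] at h3
    rw [mul_comm (k i α hα), zpow_mul]
    convert h3 using 2
    group
  refine ⟨⟨⟨fun a b => Subtype.ext ?_⟩⟩, fun h hh => htriv _ (H.pow_mem hh _) fun i z hz => ?_⟩
  · have h1 : (b.1 * a.1)⁻¹ * (a.1 * b.1) = 1 := by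
      refine htriv _ (H.mul_mem (H.inv_mem (H.mul_mem b.2 a.2)) (H.mul_mem a.2 b.2))
        fun i z hz => ?_
      have e1 := hcompose i a.1 a.2 b.1 b.2 z hz
      have e2 := hcompose i b.1 b.2 a.1 a.2 z hz
      rw [mul_comm (k i b.1 b.2)] at e2
      have e5 : (((b.1 (a.1 z))⁻¹ * a.1 (b.1 z) : S) : Ω) ∈ C i := by
        have := (C i).mul_mem ((C i).inv_mem e2) e1
        rw [← Subgroup.coe_inv, ← Subgroup.coe_mul] at this
        convert this using 2
        group
      have e4 : z = (b.1 * a.1)⁻¹ (b.1 (a.1 z)) := by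
        rw [show b.1 (a.1 z) = (b.1 * a.1) z from rfl, MulAut.inv_apply_self]
      have e3 := hinv i _ (H.inv_mem (H.mul_mem b.2 a.2)) _ e5
      rw [map_mul, map_inv, ← e4] at e3
      exact e3
    exact (inv_mul_eq_one.1 h1).symm
  · obtain ⟨y, hy, hgen, hyp⟩ := hstep i
    -- iterate
    have hit : ∀ m : ℕ, (((z ^ (k i h hh ^ m))⁻¹ * (h ^ m) z : S) : Ω) ∈ C i := by
      intro m
      induction m with
      | zero => simp
      | succ m ih =>
        have hzk : ((z ^ (k i h hh ^ m) : S) : Ω) ∈ C (i + 1) := by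
          rw [SubgroupClass.coe_zpow]; exact Subgroup.zpow_mem _ hz _
        have h3 := (C i).mul_mem (hk i h hh _ hzk) (hmod i h hh _ hzk _ ih)
        rw [← Subgroup.coe_mul] at h3
        rw [pow_succ (k i h hh), zpow_mul, pow_succ' h, MulAut.mul_apply]
        convert h3 using 2
        group
    haveI : ((C i).subgroupOf S).Normal := ⟨fun z hz a => hnorm i a z hz⟩
    set π := QuotientGroup.mk' ((C i).subgroupOf S)
    have hπ : ∀ z : S, π z = 1 ↔ (z : Ω) ∈ C i := fun z => QuotientGroup.eq_one_iff z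
    have hzp : π z ^ p = 1 := by
      have hyS : y ∈ S := hCS _ hy
      have h2 : C i ⊔ zpowers y ≤ (((zpowers (π ⟨y, hyS⟩)).comap π).map S.subtype) := by
        refine sup_le (fun a ha => ⟨⟨a, hCS i ha⟩, ?_, rfl⟩)
          (zpowers_le.2 ⟨⟨y, hyS⟩, mem_zpowers _, rfl⟩)
        show π _ ∈ zpowers _
        rw [(hπ ⟨a, hCS i ha⟩).2 ha]
        exact Subgroup.one_mem _
      obtain ⟨z', ⟨j, hj⟩, he⟩ := h2 (hgen hz)
      rw [← show z' = z from Subtype.ext he, ← show π (⟨y, hyS⟩ : S) ^ j = π z' from hj,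
        ← zpow_natCast, zpow_comm, zpow_natCast, ← map_pow, (hπ _).2 hyp, one_zpow]
    rw [← hπ, map_mul, map_inv, inv_mul_eq_one]
    by_cases hz1 : π z = 1
    · have := hinv i _ (H.pow_mem hh (p - 1)) z ((hπ z).1 hz1)
      rw [hz1, ← hπ] at *
      exact this.symm
    have hord : orderOf (π z) = p := orderOf_eq_prime hzp hz1
    have h1 := (hπ _).2 (hit (p - 1))
    rw [map_mul, map_inv, map_zpow, inv_mul_eq_one] at h1
    rw [← h1]
    have hkne : ((k i h hh : ℤ) : ZMod p) ≠ 0 := by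
      intro hk0
      obtain ⟨d, hd⟩ := (ZMod.intCast_zmod_eq_zero_iff_dvd _ _).1 hk0
      have h4 := (hπ _).2 (hk i h hh z hz)
      rw [map_mul, map_inv, map_zpow, hd, zpow_mul, zpow_natCast, hzp, one_zpow, inv_one,
        one_mul, hπ] at h4
      refine hz1 ((hπ z).2 ?_)
      have h5 := hinv i _ (H.inv_mem hh) _ h4
      rwa [MulAut.inv_apply_self] at h5
    have hfermat : ((p : ℤ)) ∣ k i h hh ^ (p - 1) - 1 := by
      rw [← ZMod.intCast_zmod_eq_zero_iff_dvd]
      push_cast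
      rw [ZMod.pow_card_sub_one_eq_one hkne, sub_self]
    obtain ⟨d, hd⟩ := hfermat
    rw [show k i h hh ^ (p - 1) = 1 + (p : ℤ) * d by linarith, zpow_add, zpow_one, zpow_mul,
      zpow_natCast, hzp, one_zpow, mul_one]

/-- With `S` normal and small automorphism groups of order prime to `p` there is a series with
cyclic steps. -/
theorem cyclicFrom_of_small_aut (hn : F.IsNormal S)
    (hH : ∀ H : Subgroup (MulAut S), (Nat.card H).Coprime p →
      IsMulCommutative H ∧ ∀ h ∈ H, h ^ (p - 1) = 1) : CyclicFrom F ⊥ := by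
  classical
  -- a complement to the inner automorphisms
  set A := F.autGroup S with hA
  haveI : Finite A := inferInstance
  obtain ⟨H, hHc, hHA, hdec⟩ : ∃ H : Subgroup (MulAut S), (Nat.card H).Coprime p ∧ H ≤ A ∧
      ∀ α ∈ A, ∃ a : S, ∃ h ∈ H, α = MulAut.conj a * h := by
    obtain ⟨T, hT⟩ := (fullyAutomized_of_fullyNormalized hS hF (fullyNormalized_top F)).2
    haveI : ((Inn S).subgroupOf A).Normal := by
      refine ⟨fun b hb g => ?_⟩
      obtain ⟨a, ha⟩ := hb
      refine ⟨(g : MulAut S) a, ?_⟩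
      rw [Subgroup.subtype_apply] at ha ⊢
      rw [Subgroup.coe_mul, Subgroup.coe_mul, Subgroup.coe_inv, ← ha]
      ext z
      simp [MulAut.mul_apply, MulAut.conj_apply, map_mul, map_inv]
    have hinn : autInducedBy S S = Inn S := by
      refine le_antisymm ?_ (inn_le_autInducedBy le_rfl)
      intro α hα
      obtain ⟨a, ha, hax⟩ := mem_autInducedBy_iff.1 hα
      exact ⟨⟨a, ha⟩, MulEquiv.ext fun x => Subtype.ext (hax x).symm⟩
    rw [hinn] at hT
    have hcop : Nat.Coprime (Nat.card ((Inn S).subgroupOf A)) ((Inn S).subgroupOf A).index := by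
      rw [← hT]
      exact T.card_coprime_index
    obtain ⟨K, hK⟩ := Subgroup.exists_right_complement'_of_coprime hcop
    refine ⟨K.map A.subtype, ?_, Subgroup.map_subtype_le _, fun α hα => ?_⟩
    · rw [← Nat.card_congr (Subgroup.equivMapOfInjective K A.subtype A.subtype_injective).toEquiv]
      have h1 : Nat.card K = ((Inn S).subgroupOf A).index := hK.symm.index_eq_card.symm
      rw [h1]
      have h2 := T.not_dvd_index
      rw [hT] at h2
      exact ((Fact.out : p.Prime).coprime_iff_not_dvd.2 h2).symm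
    · obtain ⟨⟨⟨b, hb⟩, c⟩, hbc⟩ := hK.2 ⟨α, hα⟩
      obtain ⟨a, ha⟩ := hb
      refine ⟨a, _, ⟨c, c.2, rfl⟩, ?_⟩
      rw [Subgroup.subtype_apply, show MulAut.conj a = (b : MulAut S) from ha, ← Subgroup.coe_mul]
      exact congrArg Subtype.val hbc.symm
  obtain ⟨hHab, hHexp⟩ := hH H hHc
  -- invariant normal subgroups are strongly closed
  have hscl : ∀ R : Subgroup S, R.Normal → (∀ h ∈ H, ∀ z ∈ R, h z ∈ R) →
      F.StronglyClosed (R.map S.subtype) := by
    intro R hRn hRinv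
    refine stronglyClosed_iff.2 ⟨map_subtype_le R, fun X f hX hf x hx => ?_⟩
    obtain ⟨g, hg, hgx, hgS⟩ := (isNormal_iff.1 hn).2 X f hf
    have hgS' := hg.mono (le_sup_right : S ≤ X ⊔ S)
    obtain ⟨z, hz, rfl⟩ := hX hx
    obtain ⟨a, h, hh, he⟩ := hdec _ (hgS'.toAut_mem hgS)
    refine ⟨a * h z * a⁻¹, hRn.conj_mem _ (hRinv h hh z hz) a, ?_⟩
    rw [← hgx _ hx]
    have h3 := hgS'.toAut_apply hgS z
    rw [he] at h3
    exact h3
  suffices h : ∀ (k : ℕ) (R : Subgroup S), R.Normal → (∀ h ∈ H, ∀ z ∈ R, h z ∈ R) →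
      Nat.card S ≤ Nat.card R + k → CyclicFrom F (R.map S.subtype) by
    simpa using h (Nat.card S) ⊥ inferInstance (fun h _ z hz => by
      rw [Subgroup.mem_bot] at hz ⊢; rw [hz, map_one]) (Nat.le_add_left _ _)
  intro k
  induction k with
  | zero =>
    intro R hRn hRinv hk
    rw [show R = ⊤ from Subgroup.eq_top_of_le_card _ (by omega), ← MonoidHom.range_eq_map,
      Subgroup.range_subtype]
    exact cyclicFrom_self
  | succ k ih =>
    intro R hRn hRinv hk
    by_cases hne : R = ⊤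
    · rw [hne, ← MonoidHom.range_eq_map, Subgroup.range_subtype]
      exact cyclicFrom_self
    obtain ⟨x, hxR, hxp, hxc, hxH⟩ := exists_invariant_step hS R hne (H : Set (MulAut S))
      (fun α hα => le_antisymm (by
          rintro _ ⟨z, hz, rfl⟩
          exact hRinv α hα z hz)
        (fun z hz => ⟨α⁻¹ z, hRinv _ (H.inv_mem hα) z hz, MulAut.apply_inv_self _ α z⟩))
      (fun α hα β hβ => congrArg Subtype.val (hHab.is_comm.comm ⟨α, hα⟩ ⟨β, hβ⟩))
      (fun α hα => hHexp α hα)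
    set X := R ⊔ zpowers x with hX
    have hXn : X.Normal := by
      have hcl : ∀ g : S, X.map (MulAut.conj g).toMonoidHom ≤ X := by
        intro g
        rw [hX, Subgroup.map_sup, MonoidHom.map_zpowers]
        refine sup_le ?_ (zpowers_le.2 ?_)
        · rintro _ ⟨z, hz, rfl⟩
          exact mem_sup_left (hRn.conj_mem z hz g)
        · show g * x * g⁻¹ ∈ R ⊔ zpowers x
          rw [show g * x * g⁻¹ = ⁅x, g⁆⁻¹ * x by rw [commutatorElement_def]; group]
          exact mul_mem (mem_sup_left (R.inv_mem (hxc g))) (mem_sup_right (mem_zpowers x))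
      exact ⟨fun z hz g => hcl g ⟨z, hz, rfl⟩⟩
    have hXinv : ∀ h ∈ H, ∀ z ∈ X, h z ∈ X := by
      intro h hh z hz
      have : X.map h.toMonoidHom ≤ X := by
        rw [hX, Subgroup.map_sup, MonoidHom.map_zpowers]
        refine sup_le ?_ (zpowers_le.2 ?_)
        · rintro _ ⟨z, hz, rfl⟩
          exact mem_sup_left (hRinv h hh z hz)
        · obtain ⟨k, hk⟩ := hxH h hh
          have h1 := mul_mem (mem_sup_right (T := zpowers x) (Subgroup.pow_mem _ (mem_zpowers x) k))
            (mem_sup_left (S := R) hk)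
          rw [mul_inv_cancel_left] at h1
          exact h1
      exact this ⟨z, hz, rfl⟩
    have hlt : R < X := left_lt_sup.2 fun hle => hxR (hle (mem_zpowers x))
    have hcard : Nat.card R < Nat.card X := by
      by_contra hge
      exact hlt.ne (eq_of_le_of_card_le hlt.le (by omega))
    refine CyclicFrom.cons (ih X hXn hXinv (by omega)) (hscl R hRn hRinv) x.2 ?_
    rw [hX, Subgroup.map_sup, MonoidHom.map_zpowers]
    rfl

end CfsgLib.Fusion
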