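import Cfsg.Agent.Lib.Fusion.SelfNormalizingCert

/-!
A certificate for the simplicity of the 2-fusion system of a group whose Sylow 2-normalizer acts
transitively on the three cosets of a normal subgroup of index 4, given by a multiplication table.

The elements of the Sylow subgroup are numbered by bit strings: the elements with index divisible by
`2^j` form a series with steps of index 2. Labels computed from squares and numbers of commuting
elements are invariant under the normalizer; after marking one coset they determine the series.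
-/

set_option autoImplicit false
set_option linter.style.haveILetI false
set_option linter.unusedSectionVars false

namespace CfsgLib.Fusion.TableSylow

open Cfsg Subgroup

/-- Binary trees of numbers indexed from the lowest bit. -/
inductive Tree where
  | leaf (v : ℕ) : Tree
  | node (l r : Tree) : Tree

/-- The entry at an index. -/
def Tree.get : Tree → ℕ → ℕ
  | .leaf v, _ => v
  | .node l r, k => bif Nat.beq (k % 2) 0 then l.get (k / 2) else r.get (k / 2)

/-- Search trees. -/
inductive Dict where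
  | nil : Dict
  | node (k v : ℕ) (l r : Dict) : Dict

/-- The value at a key. -/
def Dict.find : Dict → ℕ → ℕ
  | .nil, _ => 1000000
  | .node k v l r, x => bif Nat.beq x k then v else bif Nat.ble x k then l.find x else r.find x

/-- A refinement of labels. -/
inductive Step where
  | sq (tab : Tree) (dict : Dict) : Step
  | comm (cl : List ℕ) (c : ℕ) (tab : Tree) (dict : Dict) : Step

/-- The labels after a step. -/
def Step.out : Step → Tree
  | .sq tab _ => tab
  | .comm _ _ tab _ => tab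

/-- The labels after some steps. -/
def finalTab : List Step → Tree → Tree
  | [], L => L
  | s :: l, _ => finalTab l s.out

/-- A step producing known elements of a strongly closed subgroup. -/
inductive Move where
  | conj (g e d : ℕ) : Move
  | prod (a b : ℕ) : Move

/-- The tables. -/
structure Data where
  m : ℕ
  nxt : Tree
  start : Tree
  steps : List Step
  rClasses : List ℕ
  mark : Tree
  start2 : Tree
  steps2 : List Step
  classes : List (List ℕ)
  inv : Tree
  comm : Tree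
  xc : Tree
  moves : List Move

variable (C : Data)

/-- Product with a generator. -/
def nx (d i : ℕ) : ℕ := C.nxt.get (d * 8 + i)

/-- Product of the leading bits. -/
def mulAux (a b : ℕ) : ℕ → ℕ
  | 0 => a
  | f + 1 => bif Nat.beq (b / 2 ^ (C.m - (f + 1)) % 2) 1 then nx C (mulAux a b f) (C.m - (f + 1))
      else mulAux a b f

/-- The product. -/
def mulT (a b : ℕ) : ℕ := mulAux C a b C.m

/-- Commuting indices. -/
def commT (a b : ℕ) : Bool := Nat.beq (mulT C a b) (mulT C b a)

/-- A step is consistent. -/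
def stepOK (L : Tree) : Step → Bool
  | .sq tab dict => (List.range (2 ^ C.m)).all fun d =>
      Nat.beq (dict.find (L.get d + 256 * L.get (mulT C d d))) (tab.get d)
  | .comm cl c tab dict =>
      (decide (cl = (List.range (2 ^ C.m)).filter fun e => Nat.beq (L.get e) c)) &&
      (List.range (2 ^ C.m)).all fun d =>
        Nat.beq (dict.find (L.get d + 256 * cl.countP fun e => commT C d e)) (tab.get d)

/-- All steps are consistent. -/
def stepsOK : List Step → Tree → Bool
  | [], _ => true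
  | s :: l, L => stepOK C L s && stepsOK l s.out

/-- Membership in the normal subgroup of index 4. -/
def inR (d : ℕ) : Bool := C.rClasses.any fun t => Nat.beq t ((finalTab C.steps C.start).get d)

/-- Membership in the marked coset. -/
def marked (d : ℕ) : Bool := Nat.beq (C.mark.get d) 1

/-- Membership in a class of the series. -/
def inSeries (j d : ℕ) : Bool :=
  (C.classes.getD j []).any fun t => Nat.beq t ((finalTab C.steps2 C.start2).get d)

/-- Products with generators stay in range and respect the series. -/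
def okNxt : Bool :=
  (List.range (2 ^ C.m)).all fun d => (List.range C.m).all fun i =>
    Nat.blt (nx C d i) (2 ^ C.m) &&
    (!Nat.beq (d % 2 ^ (i + 1)) 0 || Nat.beq (nx C d i) (d + 2 ^ i)) &&
    (List.range (i + 1)).all fun j => !Nat.beq (d % 2 ^ j) 0 || Nat.beq (nx C d i % 2 ^ j) 0

/-- Inverses, and distinctness. -/
def okInv : Bool :=
  (List.range (2 ^ C.m)).all fun b => Nat.blt (C.inv.get b) (2 ^ C.m) &&
    Nat.beq (mulT C b (C.inv.get b)) 0 &&
    (List.range (2 ^ C.m)).all fun a => Nat.beq a b || !Nat.beq (mulT C a (C.inv.get b)) 0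

/-- The first labels. -/
def okStart : Bool :=
  ((List.range (2 ^ C.m)).all fun d =>
    Nat.beq (C.start.get d) (bif Nat.beq d 0 then 1 else 0)) &&
  stepsOK C C.steps C.start

/-- The marked coset. -/
def okMark : Bool :=
  ((List.range (2 ^ C.m)).all fun d =>
    (inR C d || marked C d || marked C (C.xc.get d) || marked C (C.xc.get (C.xc.get d))) &&
    (!marked C d || !inR C d) && Nat.blt (C.xc.get d) (2 ^ C.m) &&
    (!marked C d || (List.range (2 ^ C.m)).all fun r => !inR C r || marked C (mulT C d r)) &&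
    (!marked C d || (List.range (2 ^ C.m)).all fun a => !marked C a ||
      (List.range (2 ^ C.m)).any fun r => inR C r && Nat.beq (mulT C a r) d) &&
    (inR C d || (List.range (2 ^ C.m)).any fun r => inR C r && !commT C d r)) &&
  (List.range (2 ^ C.m)).any (marked C)

/-- The series is given by labels. -/
def okSeries : Bool :=
  ((List.range (2 ^ C.m)).all fun d =>
    Nat.beq (C.start2.get d)
      ((finalTab C.steps C.start).get d + 256 * bif marked C d then 1 else 0)) &&
  stepsOK C C.steps2 C.start2 &&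
  (List.range C.m).all fun j => (List.range (2 ^ C.m)).all fun d =>
    bif inSeries C j d then Nat.beq (d % 2 ^ j) 0 else !Nat.beq (d % 2 ^ j) 0

/-- Commutators descend in the series. -/
def okComm : Bool :=
  (List.range (2 ^ C.m)).all fun d => Nat.beq d 0 || Nat.beq d (2 ^ (C.m - 1)) ||
    let e := C.comm.get d
    Nat.blt (e / 256) C.m && Nat.blt (e % 256) (2 ^ C.m) && !Nat.beq (e % 256) 0 &&
    Nat.beq (mulT C (e % 256) (mulT C (2 ^ (e / 256)) d)) (mulT C d (2 ^ (e / 256))) &&
    (List.range (C.m + 1)).all fun j => !Nat.beq (d % 2 ^ j) 0 || Nat.beq (e % 256 % 2 ^ (j + 1)) 0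

/-- The moves are valid. -/
def movesOK : List Move → List ℕ → Bool
  | [], known => (List.range C.m).all fun i => known.any fun e => Nat.beq e (2 ^ i)
  | .conj _ e d :: rest, known =>
    Nat.blt d (2 ^ C.m) && (known.any fun f => Nat.beq f e) && movesOK rest (d :: known)
  | .prod a b :: rest, known =>
    (known.any fun f => Nat.beq f a) && (known.any fun f => Nat.beq f b) &&
      movesOK rest (mulT C a b :: known)

/-! ### Soundness -/

variable {C} {G : Type*} [Group G] {P : ℕ → G}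

theorem beq_iff {a b : ℕ} : Nat.beq a b = true ↔ a = b :=
  ⟨Nat.eq_of_beq_eq_true, fun h => h ▸ Nat.beq_refl a⟩

variable (hN : okNxt C = true) (h0 : P 0 = 1)
  (hP : ∀ d < 2 ^ C.m, ∀ i < C.m, P (nx C d i) = P d * P (2 ^ i))

include hN in
theorem nxt_spec {d i : ℕ} (hd : d < 2 ^ C.m) (hi : i < C.m) :
    nx C d i < 2 ^ C.m ∧ (2 ^ (i + 1) ∣ d → nx C d i = d + 2 ^ i) ∧
      ∀ j ≤ i, 2 ^ j ∣ d → 2 ^ j ∣ nx C d i := by
  simp only [okNxt, Bool.and_eq_true, List.all_eq_true, List.mem_range, Bool.or_eq_true,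
    Bool.not_eq_true', Nat.blt_eq] at hN
  obtain ⟨⟨h1, h2⟩, h3⟩ := hN d hd i hi
  refine ⟨h1, fun h => ?_, fun j hj h => ?_⟩
  · rcases h2 with h2 | h2
    · rw [Nat.mod_eq_zero_of_dvd h] at h2; exact absurd h2 (by decide)
    · exact beq_iff.1 h2
  · rcases h3 j (by omega) with h3 | h3
    · rw [Nat.mod_eq_zero_of_dvd h] at h3; exact absurd h3 (by decide)
    · exact Nat.dvd_of_mod_eq_zero (beq_iff.1 h3)

include hN hP h0 in
theorem mulAux_spec {a b : ℕ} (ha : a < 2 ^ C.m) (hb : b < 2 ^ C.m) {f : ℕ} (hf : f ≤ C.m) :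
    mulAux C a b f < 2 ^ C.m ∧
      P (mulAux C a b f) = P a * P (b / 2 ^ (C.m - f) * 2 ^ (C.m - f)) ∧
      ∀ k, 2 ^ k ∣ a → 2 ^ k ∣ b → 2 ^ k ∣ mulAux C a b f := by
  induction f with
  | zero =>
    refine ⟨ha, ?_, fun k h _ => h⟩
    rw [Nat.sub_zero, Nat.div_eq_of_lt hb, zero_mul, h0, mul_one]; rfl
  | succ f ih =>
    obtain ⟨hr, he, hk⟩ := ih (by omega)
    set i := C.m - (f + 1) with hi
    have hi' : C.m - f = i + 1 := by omega
    rw [hi'] at he
    have hsplit : b / 2 ^ i * 2 ^ i = b / 2 ^ (i + 1) * 2 ^ (i + 1) + b / 2 ^ i % 2 * 2 ^ i := by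
      conv_lhs => rw [← Nat.div_add_mod (b / 2 ^ i) 2, Nat.div_div_eq_div_mul, ← pow_succ]
      ring
    rw [mulAux, ← hi]
    rcases Nat.mod_two_eq_zero_or_one (b / 2 ^ i) with hbit | hbit <;> rw [hbit] at hsplit ⊢
    · rw [show Nat.beq 0 1 = false from rfl, cond_false]
      refine ⟨hr, ?_, hk⟩
      rw [he, hsplit, zero_mul, add_zero]
    · rw [show Nat.beq 1 1 = true from rfl, cond_true]
      obtain ⟨h1, -, h3⟩ := nxt_spec hN hr (show i < C.m by omega)
      refine ⟨h1, ?_, fun k hka hkb => h3 k ?_ (hk k hka hkb)⟩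
      · have hlt : b / 2 ^ (i + 1) * 2 ^ (i + 1) < 2 ^ C.m := (Nat.div_mul_le_self _ _).trans_lt hb
        have hh := hP _ hlt i (by omega)
        rw [(nxt_spec hN hlt (show i < C.m by omega)).2.1 (dvd_mul_left _ _)] at hh
        rw [hP _ hr i (by omega), he, hsplit, one_mul, hh, mul_assoc]
      · by_contra hki
        obtain ⟨c, rfl⟩ := (pow_dvd_pow 2 (show i + 1 ≤ k by omega)).trans hkb
        rw [pow_succ, mul_assoc, Nat.mul_div_cancel_left _ (pow_pos two_pos i),
          Nat.mul_mod_right] at hbit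
        exact absurd hbit (by norm_num)

include hN hP h0 in
theorem mulT_spec {a b : ℕ} (ha : a < 2 ^ C.m) (hb : b < 2 ^ C.m) :
    mulT C a b < 2 ^ C.m ∧ P (mulT C a b) = P a * P b ∧
      ∀ k, 2 ^ k ∣ a → 2 ^ k ∣ b → 2 ^ k ∣ mulT C a b := by
  obtain ⟨h1, h2, h3⟩ := mulAux_spec hN h0 hP ha hb (le_refl C.m)
  refine ⟨h1, ?_, h3⟩
  rw [Nat.sub_self, pow_zero, Nat.div_one, mul_one] at h2
  exact h2

/-- The terms of the series. -/
def series (C : Data) [Finite G] (P : ℕ → G) (hN : okNxt C = true) (h0 : P 0 = 1)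
    (hP : ∀ d < 2 ^ C.m, ∀ i < C.m, P (nx C d i) = P d * P (2 ^ i)) (j : ℕ) : Subgroup G where
  carrier := {x | ∃ d < 2 ^ C.m, 2 ^ j ∣ d ∧ P d = x}
  one_mem' := ⟨0, pow_pos two_pos _, dvd_zero _, h0⟩
  mul_mem' := by
    rintro _ _ ⟨a, ha, hja, rfl⟩ ⟨b, hb, hjb, rfl⟩
    obtain ⟨h1, h2, h3⟩ := mulT_spec hN h0 hP ha hb
    exact ⟨_, h1, h3 j hja hjb, h2⟩
  inv_mem' := by
    rintro x ⟨a, ha, hja, hx⟩
    have key : ∀ n : ℕ, ∃ d < 2 ^ C.m, 2 ^ j ∣ d ∧ P d = x ^ n := by
      intro n
      induction n with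
      | zero => exact ⟨0, pow_pos two_pos _, dvd_zero _, by rw [h0, pow_zero]⟩
      | succ n ih =>
        obtain ⟨d, hd, hjd, e⟩ := ih
        obtain ⟨h1, h2, h3⟩ := mulT_spec hN h0 hP hd ha
        exact ⟨_, h1, h3 j hjd hja, by rw [h2, e, hx, pow_succ]⟩
    obtain ⟨d, hd, hjd, e⟩ := key (orderOf x - 1)
    refine ⟨d, hd, hjd, ?_⟩
    rw [e, eq_inv_iff_mul_eq_one, ← pow_succ, Nat.sub_add_cancel (orderOf_pos x),
      pow_orderOf_eq_one]

variable [Finite G]

local notation "S₀" => series C P hN h0 hP 0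

theorem mem_S {d : ℕ} (hd : d < 2 ^ C.m) : P d ∈ series C P hN h0 hP 0 :=
  ⟨d, hd, one_dvd _, rfl⟩

section

variable (hI : okInv C = true)
include hN h0 hP hI

theorem P_injective {a b : ℕ} (ha : a < 2 ^ C.m) (hb : b < 2 ^ C.m)
    (h : P a = P b) (hone : ∀ d < 2 ^ C.m, P d = 1 → d = 0) : a = b := by
  simp only [okInv, Bool.and_eq_true, List.all_eq_true, List.mem_range, Bool.or_eq_true,
    Bool.not_eq_true', Nat.blt_eq] at hI
  obtain ⟨⟨h1, h2⟩, h3⟩ := hI b hb
  rcases h3 a ha with h3 | h3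
  · exact beq_iff.1 h3
  obtain ⟨hlt, he, -⟩ := mulT_spec hN h0 hP ha h1
  have hb1 := (mulT_spec hN h0 hP hb h1).2.1
  rw [beq_iff.1 h2, h0] at hb1
  have := hone _ hlt (by rw [he, h, ← hb1])
  rw [this] at h3
  exact absurd h3 (by decide)

variable (hone : ∀ d < 2 ^ C.m, P d = 1 → d = 0)
include hone

theorem card_S : Nat.card (series C P hN h0 hP 0) = 2 ^ C.m := by
  have : Function.Bijective
      (fun d : Fin (2 ^ C.m) => (⟨P d, mem_S hN h0 hP d.2⟩ : series C P hN h0 hP 0)) := by
    refine ⟨fun a b h => Fin.ext (P_injective hN h0 hP hI a.2 b.2 (congrArg Subtype.val h) hone), ?_⟩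
    rintro ⟨x, d, hd, -, rfl⟩
    exact ⟨⟨d, hd⟩, rfl⟩
  rw [← Nat.card_congr (Equiv.ofBijective _ this), Nat.card_fin]

/-- Conjugation as a map of indices. -/
theorem conj_index {g : G} (hg : g ∈ Subgroup.normalizer ((S₀ : Subgroup G) : Set G)) :
    ∃ σ : ℕ → ℕ, (∀ d < 2 ^ C.m, σ d < 2 ^ C.m ∧ g * P d * g⁻¹ = P (σ d)) ∧
      (∀ a < 2 ^ C.m, ∀ b < 2 ^ C.m, σ (mulT C a b) = mulT C (σ a) (σ b)) ∧
      (∀ a < 2 ^ C.m, ∀ b < 2 ^ C.m, σ a = σ b → a = b) ∧ σ 0 = 0 := by
  have h : ∀ d, ∃ e, d < 2 ^ C.m → e < 2 ^ C.m ∧ g * P d * g⁻¹ = P e := by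
    intro d
    by_cases hd : d < 2 ^ C.m
    · obtain ⟨e, he, -, h⟩ := (Subgroup.mem_normalizer_iff.1 hg _).1 (mem_S hN h0 hP hd)
      exact ⟨e, fun _ => ⟨he, h.symm⟩⟩
    · exact ⟨0, fun h => absurd h hd⟩
  choose σ hσ using h
  refine ⟨σ, hσ, fun a ha b hb => ?_, fun a ha b hb e => ?_, ?_⟩
  · obtain ⟨h1, e1, -⟩ := mulT_spec hN h0 hP ha hb
    obtain ⟨h2, e2, -⟩ := mulT_spec hN h0 hP (hσ a ha).1 (hσ b hb).1
    refine P_injective hN h0 hP hI (hσ _ h1).1 h2 ?_ hone
    rw [← (hσ _ h1).2, e1, e2, ← (hσ a ha).2, ← (hσ b hb).2, conj_mul]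
  · refine P_injective hN h0 hP hI ha hb ?_ hone
    have h := (hσ a ha).2.trans ((congrArg P e).trans (hσ b hb).2.symm)
    exact mul_left_cancel (mul_right_cancel h)
  · have h1 := hσ 0 (pow_pos two_pos _)
    refine P_injective hN h0 hP hI h1.1 (pow_pos two_pos _) ?_ hone
    rw [← h1.2, h0, mul_one, mul_inv_cancel]

end

/-- The labels are invariant. -/
theorem steps_invariant {σ : ℕ → ℕ} (hσ : ∀ d < 2 ^ C.m, σ d < 2 ^ C.m)
    (hmul : ∀ a < 2 ^ C.m, ∀ b < 2 ^ C.m, σ (mulT C a b) = mulT C (σ a) (σ b))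
    (hinj : ∀ a < 2 ^ C.m, ∀ b < 2 ^ C.m, σ a = σ b → a = b)
    (hlt : ∀ a < 2 ^ C.m, ∀ b < 2 ^ C.m, mulT C a b < 2 ^ C.m) :
    ∀ (l : List Step) (L : Tree), stepsOK C l L = true →
      (∀ d < 2 ^ C.m, L.get (σ d) = L.get d) →
      ∀ d < 2 ^ C.m, (finalTab l L).get (σ d) = (finalTab l L).get d := by
  intro l
  induction l with
  | nil => intro L _ h; exact h
  | cons s l ih =>
    intro L hok hL
    simp only [stepsOK, Bool.and_eq_true] at hok
    refine ih _ hok.2 fun d hd => ?_
    have hs := hok.1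
    cases s with
    | sq tab dict =>
      simp only [stepOK, List.all_eq_true, List.mem_range, beq_iff] at hs
      show tab.get (σ d) = tab.get d
      rw [← hs _ (hσ d hd), ← hs d hd, ← hmul d hd d hd, hL d hd, hL _ (hlt d hd d hd)]
    | comm cl c tab dict =>
      simp only [stepOK, Bool.and_eq_true, decide_eq_true_eq, List.all_eq_true, List.mem_range,
        beq_iff] at hs
      obtain ⟨hcl, hs⟩ := hs
      show tab.get (σ d) = tab.get d
      rw [← hs _ (hσ d hd), ← hs d hd, hL d hd]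
      congr 3
      subst hcl
      have hcount : ∀ d, ((List.range (2 ^ C.m)).filter fun e => Nat.beq (L.get e) c).countP
            (fun e => commT C d e) =
          ((Finset.range (2 ^ C.m)).filter fun e => L.get e = c ∧ commT C d e = true).card := by
        intro d
        rw [List.countP_eq_length_filter, List.filter_filter, ← List.toFinset_range,
          ← List.toFinset_card_of_nodup (List.nodup_range.filter _)]
        congr 1
        ext e
        simp [beq_iff, and_comm]
      rw [hcount, hcount]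
      have hmaps : Set.MapsTo σ (Finset.range (2 ^ C.m)) (Finset.range (2 ^ C.m) : Set ℕ) :=
        fun x hx => by simp only [Finset.coe_range, Set.mem_Iio] at hx ⊢; exact hσ x hx
      have hinj' : Set.InjOn σ (Finset.range (2 ^ C.m) : Set ℕ) := fun a ha b hb e => by
        simp only [Finset.coe_range, Set.mem_Iio] at ha hb; exact hinj a ha b hb e
      have hsurj := Finset.surjOn_of_injOn_of_card_le σ hmaps hinj' le_rfl
      have hcomm : ∀ a < 2 ^ C.m, ∀ b < 2 ^ C.m, commT C (σ a) (σ b) = commT C a b := by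
        intro a ha b hb
        rw [Bool.eq_iff_iff, commT, commT, beq_iff, beq_iff, ← hmul a ha b hb, ← hmul b hb a ha]
        exact ⟨hinj _ (hlt a ha b hb) _ (hlt b hb a ha), fun h => by rw [h]⟩
      symm
      refine Finset.card_bij (fun e _ => σ e) (fun e he => ?_) (fun a ha b hb h => ?_) (fun b hb => ?_)
      · simp only [Finset.mem_filter, Finset.mem_range] at he ⊢
        exact ⟨hσ e he.1, by rw [hL e he.1]; exact he.2.1, by rw [hcomm d hd e he.1]; exact he.2.2⟩
      · simp only [Finset.mem_filter, Finset.mem_range] at ha hb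
        exact hinj a ha.1 b hb.1 h
      · simp only [Finset.mem_filter, Finset.mem_range] at hb
        obtain ⟨a, ha, rfl⟩ := hsurj (Finset.mem_coe.2 (Finset.mem_range.2 hb.1))
        rw [Finset.mem_coe, Finset.mem_range] at ha
        refine ⟨a, ?_, rfl⟩
        simp only [Finset.mem_filter, Finset.mem_range]
        exact ⟨ha, by rw [← hL a ha]; exact hb.2.1, by rw [← hcomm d hd a ha]; exact hb.2.2⟩

/-- The facts needed about the certificate. -/
structure Facts (C : Data) (P : ℕ → G) (x : G) (ys : List G) (gs : ℕ → G) : Prop where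
  nxt : okNxt C = true
  inv : okInv C = true
  start : okStart C = true
  mark : okMark C = true
  series : okSeries C = true
  comm : okComm C = true
  moves : movesOK C C.moves [0, 2 ^ (C.m - 1)] = true
  pos : 1 ≤ C.m
  zero : P 0 = 1
  mul : ∀ d < 2 ^ C.m, ∀ i < C.m, P (nx C d i) = P d * P (2 ^ i)
  one : ∀ d < 2 ^ C.m, P d = 1 → d = 0
  conj_x : ∀ d < 2 ^ C.m, x * P d * x⁻¹ = P (C.xc.get d)
  prod_x : x = ys.prod
  two : ∀ y ∈ ys, y ^ 2 ^ C.m = 1
  norm_ys : ∀ y ∈ ys, ∀ r < 2 ^ C.m, inR C r = true →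
    ∃ r' < 2 ^ C.m, inR C r' = true ∧ y * P r * y⁻¹ = P r'
  conj_moves : ∀ g e d : ℕ, Move.conj g e d ∈ C.moves → gs g * P e * (gs g)⁻¹ = P d

variable {x : G} {ys : List G} {gs : ℕ → G} (H : Facts C P x ys gs)
include H

/-- The Sylow subgroup of the certificate. -/
def sylow : Subgroup G := series C P H.nxt H.zero H.mul 0

theorem sylow_card : Nat.card (sylow H) = 2 ^ C.m := card_S H.nxt H.zero H.mul H.inv H.one

theorem x_normalizes : x ∈ Subgroup.normalizer ((sylow H : Subgroup G) : Set G) := by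
  classical
  have hm := H.mark
  simp only [okMark, Bool.and_eq_true, List.all_eq_true, List.mem_range, Nat.blt_eq] at hm
  have hle : (sylow H).map (MulAut.conj x).toMonoidHom ≤ sylow H := by
    rintro _ ⟨_, ⟨d, hd, -, rfl⟩, rfl⟩
    exact ⟨C.xc.get d, (hm.1 d hd).1.1.1.2, one_dvd _, (H.conj_x d hd).symm⟩
  have heq := Subgroup.eq_of_le_of_card_ge hle
    (le_of_eq (Subgroup.card_map_of_injective (MulAut.conj x).injective).symm)
  rw [Subgroup.mem_normalizer_iff]
  intro h
  constructor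
  · exact fun hh => hle ⟨h, hh, rfl⟩
  · intro hh
    rw [← heq] at hh
    obtain ⟨k, hk, e⟩ := hh
    have : k = h := (MulAut.conj x).injective e
    exact this ▸ hk

/-- The normal subgroup of index 4. -/
def rSub (C : Data) (P : ℕ → G) : Subgroup G :=
  Subgroup.closure {y | ∃ r < 2 ^ C.m, inR C r = true ∧ P r = y}

theorem rSub_le : rSub C P ≤ sylow H :=
  (Subgroup.closure_le _).2 fun _ ⟨r, hr, _, e⟩ => ⟨r, hr, one_dvd _, e⟩

theorem inR_invariant {σ : ℕ → ℕ} (hσ : ∀ d < 2 ^ C.m, σ d < 2 ^ C.m)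
    (hmul : ∀ a < 2 ^ C.m, ∀ b < 2 ^ C.m, σ (mulT C a b) = mulT C (σ a) (σ b))
    (hinj : ∀ a < 2 ^ C.m, ∀ b < 2 ^ C.m, σ a = σ b → a = b) (hz : σ 0 = 0) {d : ℕ}
    (hd : d < 2 ^ C.m) :
    (finalTab C.steps C.start).get (σ d) = (finalTab C.steps C.start).get d := by
  have hs := H.start
  simp only [okStart, Bool.and_eq_true, List.all_eq_true, List.mem_range, beq_iff] at hs
  refine steps_invariant hσ hmul hinj (fun a ha b hb => (mulT_spec H.nxt H.zero H.mul ha hb).1)
    _ _ hs.2 (fun e he => ?_) d hd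
  rw [hs.1 e he, hs.1 _ (hσ e he)]
  rcases eq_or_ne e 0 with rfl | hne
  · rw [hz]
  · have : σ e ≠ 0 := fun h => hne (hinj e he 0 (pow_pos two_pos _) (h.trans hz.symm))
    rw [show Nat.beq e 0 = false from by cases e <;> simp_all [Nat.beq],
      show Nat.beq (σ e) 0 = false from by cases h : σ e <;> simp_all [Nat.beq]]

theorem normalizer_rSub {g : G}
    (h : ∀ r < 2 ^ C.m, inR C r = true → ∃ r' < 2 ^ C.m, inR C r' = true ∧ g * P r * g⁻¹ = P r') :
    g ∈ Subgroup.normalizer ((rSub C P : Subgroup G) : Set G) := by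
  have hle : (rSub C P).map (MulAut.conj g).toMonoidHom ≤ rSub C P := by
    rw [rSub, MonoidHom.map_closure]
    refine Subgroup.closure_mono ?_
    rintro _ ⟨_, ⟨r, hr, hi, rfl⟩, rfl⟩
    obtain ⟨r', hr', hi', e⟩ := h r hr hi
    exact ⟨r', hr', hi', e.symm⟩
  have heq := Subgroup.eq_of_le_of_card_ge hle
    (le_of_eq (Subgroup.card_map_of_injective (MulAut.conj g).injective).symm)
  rw [Subgroup.mem_normalizer_iff]
  intro k
  constructor
  · exact fun hk => hle ⟨k, hk, rfl⟩
  · intro hk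
    rw [← heq] at hk
    obtain ⟨l, hl, e⟩ := hk
    exact (MulAut.conj g).injective e ▸ hl

theorem x_mem_normalGenSet : x ∈ normalGenSet 2 (sylow H) := by
  refine ⟨x_normalizes H, rSub C P, rSub_le H, ?_, ?_, ?_⟩
  · intro s hs
    refine normalizer_rSub H fun r hr hi => ?_
    obtain ⟨σ, h1, h2, h3, h4⟩ :=
      conj_index H.nxt H.zero H.mul H.inv H.one (Subgroup.le_normalizer hs)
    refine ⟨σ r, (h1 r hr).1, ?_, (h1 r hr).2⟩
    rw [inR, inR_invariant H (fun d hd => (h1 d hd).1) h2 h3 h4 hr]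
    exact hi
  · rintro s ⟨hs, hc⟩
    obtain ⟨d, hd, -, rfl⟩ := hs
    have hm := H.mark
    simp only [okMark, Bool.and_eq_true, List.all_eq_true, List.mem_range, Bool.or_eq_true,
      List.any_eq_true, Bool.not_eq_true'] at hm
    rcases (hm.1 d hd).2 with h | ⟨r, hr, hi, hnc⟩
    · exact Subgroup.subset_closure ⟨d, hd, h, rfl⟩
    · exfalso
      have e := hc (P r) (Subgroup.subset_closure ⟨r, hr, hi, rfl⟩)
      obtain ⟨l1, p1, -⟩ := mulT_spec H.nxt H.zero H.mul hd hr
      obtain ⟨l2, p2, -⟩ := mulT_spec H.nxt H.zero H.mul hr hd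
      have := P_injective H.nxt H.zero H.mul H.inv l1 l2 (by rw [p1, p2]; exact e.symm) H.one
      rw [commT, this, Nat.beq_refl] at hnc
      exact absurd hnc (by decide)
  · rw [H.prod_x]
    refine list_prod_mem fun y hy => Subgroup.subset_closure ⟨normalizer_rSub H (H.norm_ys y hy), ?_⟩
    obtain ⟨k, -, hk⟩ := (Nat.dvd_prime_pow Nat.prime_two).1 (orderOf_dvd_of_pow_eq_one (H.two y hy))
    exact ⟨k, hk⟩

/-- An element of the normalizer preserving the marked coset. -/
def Marks (_H : Facts C P x ys gs) (g : G) : Prop :=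
  g ∈ Subgroup.normalizer ((series C P _H.nxt _H.zero _H.mul 0 : Subgroup G) : Set G) ∧
    ∀ d < 2 ^ C.m, marked C d = true →
      ∃ d' < 2 ^ C.m, marked C d' = true ∧ g * P d * g⁻¹ = P d'

theorem Marks.pow {g : G} (h : Marks H g) (n : ℕ) : Marks H (g ^ n) := by
  induction n with
  | zero =>
    exact ⟨by rw [pow_zero]; exact one_mem _, fun d hd hm => ⟨d, hd, hm, by simp⟩⟩
  | succ n ih =>
    refine ⟨by rw [pow_succ]; exact mul_mem ih.1 h.1, fun d hd hm => ?_⟩
    obtain ⟨d1, hd1, hm1, e1⟩ := h.2 d hd hm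
    obtain ⟨d2, hd2, hm2, e2⟩ := ih.2 d1 hd1 hm1
    refine ⟨d2, hd2, hm2, ?_⟩
    rw [← e2, ← e1, pow_succ]
    group

theorem centralizes {g : G} (h : Marks H g) (hodd : Odd (orderOf g)) :
    ∀ s ∈ sylow H, g * s * g⁻¹ = s := by
  obtain ⟨σ, h1, h2, h3, h4⟩ := conj_index H.nxt H.zero H.mul H.inv H.one h.1
  have hs := H.series
  simp only [okSeries, Bool.and_eq_true, List.all_eq_true, List.mem_range, beq_iff] at hs
  obtain ⟨⟨hs1, hs2⟩, hs3⟩ := hs
  -- marks are preserved both ways
  have hmk : ∀ d < 2 ^ C.m, marked C (σ d) = marked C d := by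
    have hfwd : ∀ d < 2 ^ C.m, marked C d = true → marked C (σ d) = true := by
      intro d hd hm
      obtain ⟨d', hd', hm', e⟩ := h.2 d hd hm
      rwa [P_injective H.nxt H.zero H.mul H.inv (h1 d hd).1 hd' ((h1 d hd).2.symm.trans e) H.one]
    let M := (Finset.range (2 ^ C.m)).filter fun d => marked C d = true
    have hmaps : Set.MapsTo σ (M : Set ℕ) (M : Set ℕ) := fun a ha => by
      simp only [M, Finset.coe_filter, Finset.mem_range, Set.mem_setOf_eq] at ha ⊢
      exact ⟨(h1 a ha.1).1, hfwd a ha.1 ha.2⟩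
    have hinj : Set.InjOn σ (M : Set ℕ) := fun a ha b hb e => by
      simp only [M, Finset.coe_filter, Finset.mem_range, Set.mem_setOf_eq] at ha hb
      exact h3 a ha.1 b hb.1 e
    have hsurj := Finset.surjOn_of_injOn_of_card_le σ hmaps hinj le_rfl
    intro d hd
    rw [Bool.eq_iff_iff]
    refine ⟨fun hm => ?_, hfwd d hd⟩
    obtain ⟨a, ha, e⟩ := hsurj (show σ d ∈ (M : Set ℕ) by simp [M, (h1 d hd).1, hm])
    simp only [M, Finset.coe_filter, Finset.mem_range, Set.mem_setOf_eq] at ha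
    exact h3 a ha.1 d hd e ▸ ha.2
  have hL : ∀ d < 2 ^ C.m, (finalTab C.steps2 C.start2).get (σ d) =
      (finalTab C.steps2 C.start2).get d := by
    refine steps_invariant (fun d hd => (h1 d hd).1) h2 h3
      (fun a ha b hb => (mulT_spec H.nxt H.zero H.mul ha hb).1) _ _ hs2 fun e he => ?_
    rw [hs1 e he, hs1 _ (h1 e he).1, hmk e he,
      inR_invariant H (fun d hd => (h1 d hd).1) h2 h3 h4 he]
  have hp : IsPGroup 2 (sylow H) := IsPGroup.of_card (sylow_card H)
  refine commute_of_series hp hodd (series C P H.nxt H.zero H.mul) C.m le_rfl ?_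
    (fun j _ y ⟨d, hd, _, e⟩ => ⟨d, hd, one_dvd _, e⟩) ?_ ?_
  · rw [Subgroup.eq_bot_iff_forall]
    rintro y ⟨d, hd, hj, rfl⟩
    rw [Nat.eq_zero_of_dvd_of_lt hj hd, H.zero]
  · rintro j hj y ⟨d, hd, hjd, rfl⟩
    rcases hj.lt_or_eq with hj | rfl
    · refine ⟨σ d, (h1 d hd).1, ?_, (h1 d hd).2.symm⟩
      have e1 := hs3 j hj d hd
      have e2 := hs3 j hj (σ d) (h1 d hd).1
      rw [show inSeries C j (σ d) = inSeries C j d by rw [inSeries, inSeries, hL d hd]] at e2
      rw [Nat.mod_eq_zero_of_dvd hjd] at e1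
      refine Nat.dvd_of_mod_eq_zero ?_
      cases hh : inSeries C j d <;> rw [hh] at e1 e2
      · exact absurd e1 (by decide)
      · exact beq_iff.1 e2
    · rw [Nat.eq_zero_of_dvd_of_lt hjd hd, H.zero, mul_one, mul_inv_cancel]
      exact ⟨0, pow_pos two_pos _, dvd_zero _, H.zero⟩
  · intro j hj a ha b hb han hbn
    have key : ∀ y ∈ series C P H.nxt H.zero H.mul j, y ∉ series C P H.nxt H.zero H.mul (j + 1) →
        ∃ k ∈ series C P H.nxt H.zero H.mul (j + 1), y = k * P (2 ^ j) := by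
      rintro y ⟨d, hd, ⟨c, hc⟩, rfl⟩ hn
      rcases Nat.even_or_odd c with ⟨c', rfl⟩ | ⟨c', rfl⟩
      · exact absurd ⟨d, hd, ⟨c', by rw [hc, pow_succ]; ring⟩, rfl⟩ hn
      · have hk : 2 ^ (j + 1) * c' < 2 ^ C.m := by
          refine lt_of_le_of_lt ?_ hd
          rw [hc, pow_succ]
          nlinarith
        refine ⟨P (2 ^ (j + 1) * c'), ⟨_, hk, dvd_mul_right _ _, rfl⟩, ?_⟩
        rw [← H.mul _ hk j hj, (nxt_spec H.nxt hk hj).2.1 (dvd_mul_right _ _), hc, pow_succ]
        congr 1
        ring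
    obtain ⟨k, hk, rfl⟩ := key a ha han
    obtain ⟨l, hl, rfl⟩ := key b hb hbn
    rw [mul_inv_rev, mul_assoc, mul_inv_cancel_left]
    exact mul_mem hl (inv_mem hk)

theorem normalizerGenerated (hidx : ¬ 2 ∣ (sylow H).index) : NormalizerGenerated 2 (sylow H) := by
  intro g hg
  set N := Subgroup.closure ((Subgroup.centralizer ((sylow H : Subgroup G) : Set G) : Set G) ∪
    ((sylow H : Subgroup G) : Set G) ∪ normalGenSet 2 (sylow H))
  have hx : x ∈ N := Subgroup.subset_closure (Or.inr (x_mem_normalGenSet H))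
  obtain ⟨σ, h1, h2, h3, h4⟩ := conj_index H.nxt H.zero H.mul H.inv H.one hg
  have hm := H.mark
  simp only [okMark, Bool.and_eq_true, List.all_eq_true, List.mem_range, Bool.or_eq_true,
    List.any_eq_true, Bool.not_eq_true', Nat.blt_eq] at hm
  obtain ⟨hm, a0, ha0, hma0⟩ := hm
  have hR : inR C (σ a0) = false := by
    rw [inR, inR_invariant H (fun d hd => (h1 d hd).1) h2 h3 h4 ha0]
    exact (hm a0 ha0).1.1.1.1.2.resolve_left (by rw [hma0]; decide)
  have hxc : ∀ d < 2 ^ C.m, C.xc.get d < 2 ^ C.m := fun d hd => (hm d hd).1.1.1.2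
  have hcase : ∃ i : ℕ, ∃ d < 2 ^ C.m, marked C d = true ∧
      (x ^ i * g) * P a0 * (x ^ i * g)⁻¹ = P d := by
    have hσa := h1 a0 ha0
    have h5 := (hm (σ a0) hσa.1).1.1.1.1.1
    have hb1 := hxc _ hσa.1
    rcases h5 with ((h5 | h5) | h5) | h5
    · rw [hR] at h5; exact absurd h5 (by decide)
    · exact ⟨0, σ a0, hσa.1, h5, by rw [pow_zero, one_mul, hσa.2]⟩
    · refine ⟨1, _, hb1, h5, ?_⟩
      rw [← H.conj_x _ hσa.1, ← hσa.2]; group
    · refine ⟨2, _, hxc _ hb1, h5, ?_⟩
      rw [← H.conj_x _ hb1, ← H.conj_x _ hσa.1, ← hσa.2, pow_two]; group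
  obtain ⟨i, d0, hd0, hmd0, e0⟩ := hcase
  set g' := x ^ i * g with hg'
  have hgN : g' ∈ Subgroup.normalizer ((sylow H : Subgroup G) : Set G) :=
    mul_mem (pow_mem (x_normalizes H) i) hg
  obtain ⟨τ, t1, t2, t3, t4⟩ := conj_index H.nxt H.zero H.mul H.inv H.one hgN
  have hM : Marks H g' := by
    refine ⟨hgN, fun d hd hmd => ?_⟩
    obtain ⟨r, hr, hri, e⟩ : ∃ r < 2 ^ C.m, inR C r = true ∧ mulT C a0 r = d := by
      have h5 := (hm d hd).1.2.resolve_left (by rw [hmd]; decide)
      obtain ⟨r, hr, hri, e⟩ := (h5 a0 ha0).resolve_left (by rw [hma0]; decide)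
      exact ⟨r, hr, hri, beq_iff.1 e⟩
    have ha : τ a0 = d0 :=
      P_injective H.nxt H.zero H.mul H.inv (t1 a0 ha0).1 hd0 ((t1 a0 ha0).2.symm.trans e0) H.one
    refine ⟨τ d, (t1 d hd).1, ?_, (t1 d hd).2⟩
    rw [← e, t2 a0 ha0 r hr, ha]
    refine ((hm d0 hd0).1.1.2.resolve_left (by rw [hmd0]; decide) (τ r) (t1 r hr).1).resolve_left ?_
    rw [inR, inR_invariant H (fun d hd => (t1 d hd).1) t2 t3 t4 hr,
      show (C.rClasses.any fun t => Nat.beq t ((finalTab C.steps C.start).get r)) = true from hri]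
    decide
  suffices hg'N : g' ∈ N by
    have := mul_mem (inv_mem (pow_mem hx i)) hg'N
    rwa [hg', inv_mul_cancel_left] at this
  obtain ⟨a, b, hb, hab⟩ := Nat.exists_eq_two_pow_mul_odd (n := orderOf g') (orderOf_pos g').ne'
  have hy : g' ^ 2 ^ a ∈ N := by
    have ho : Odd (orderOf (g' ^ 2 ^ a)) := by
      rwa [orderOf_pow' _ (pow_ne_zero a two_ne_zero), hab, Nat.gcd_mul_right_left,
        Nat.mul_div_cancel_left _ (pow_pos two_pos a)]
    refine Subgroup.subset_closure (Or.inl (Or.inl fun s hs => ?_))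
    have h := centralizes H (hM.pow H (2 ^ a)) ho s hs
    exact (mul_inv_eq_iff_eq_mul.1 h).symm
  have hz : g' ^ b ∈ N := by
    have hpz : IsPGroup 2 (Subgroup.zpowers (g' ^ b)) := by
      have h1 : orderOf (g' ^ b) = 2 ^ a := by
        rw [orderOf_pow' _ hb.pos.ne', hab, Nat.gcd_mul_left_left, Nat.mul_div_cancel _ hb.pos]
      exact IsPGroup.of_card (n := a) ((Nat.card_zpowers _).trans h1)
    have hS : IsPGroup 2 (sylow H) := IsPGroup.of_card (sylow_card H)
    have hsup : IsPGroup 2 (Subgroup.zpowers (g' ^ b) ⊔ sylow H : Subgroup G) :=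
      hpz.to_sup_of_normal_right' hS (Subgroup.zpowers_le.2 (pow_mem hgN b))
    have : Fact (Nat.Prime 2) := ⟨Nat.prime_two⟩
    have hmax := (hS.toSylow hidx).is_maximal' hsup le_sup_right
    exact Subgroup.subset_closure (Or.inl (Or.inr
      ((show Subgroup.zpowers (g' ^ b) ⊔ sylow H = sylow H from hmax) ▸
        Subgroup.mem_sup_left (Subgroup.mem_zpowers _))))
  have hbez : ∃ u v : ℤ, ((2 ^ a : ℕ) : ℤ) * u + (b : ℤ) * v = 1 :=
    ⟨Nat.gcdA (2 ^ a) b, Nat.gcdB (2 ^ a) b, by
      rw [← Nat.gcd_eq_gcd_ab, ((Nat.coprime_two_left.2 hb).pow_left a).gcd_eq_one, Nat.cast_one]⟩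
  obtain ⟨u, v, huv⟩ := hbez
  have : g' = (g' ^ 2 ^ a) ^ u * (g' ^ b) ^ v := by
    rw [← zpow_natCast, ← zpow_natCast g' b, ← zpow_mul, ← zpow_mul, ← zpow_add, huv, zpow_one]
  rw [this]
  exact mul_mem (zpow_mem hy u) (zpow_mem hz v)

theorem noStronglyClosed : NoStronglyClosed (sylow H) := by
  intro T hT hcl
  by_cases hbot : T = ⊥
  · exact Or.inl hbot
  right
  have hc := H.comm
  simp only [okComm, Bool.and_eq_true, List.all_eq_true, List.mem_range, Bool.or_eq_true,
    Bool.not_eq_true', Nat.blt_eq, beq_iff] at hc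
  have hz : P (2 ^ (C.m - 1)) ∈ T := by
    have key : ∀ k j d, C.m ≤ j + k → d < 2 ^ C.m → 2 ^ j ∣ d → d ≠ 0 → P d ∈ T →
        P (2 ^ (C.m - 1)) ∈ T := by
      intro k
      induction k with
      | zero =>
        intro j d hj hd hjd hne _
        exact absurd (Nat.eq_zero_of_dvd_of_lt ((pow_dvd_pow 2 (show C.m ≤ j by omega)).trans hjd) hd) hne
      | succ k ih =>
        intro j d hj hd hjd hne hdT
        rcases hc d hd with (h5 | h5) | h5
        · exact absurd h5 hne
        · exact h5 ▸ hdT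
        obtain ⟨⟨⟨⟨hi, hlt⟩, hc0⟩, he⟩, hdesc⟩ := h5
        set c := C.comm.get d % 256
        set i := C.comm.get d / 256
        have hc0' : c ≠ 0 := fun h => by rw [h] at hc0; exact absurd hc0 (by decide)
        have hjm : j ≤ C.m := by
          by_contra h'
          exact hne (Nat.eq_zero_of_dvd_of_lt ((pow_dvd_pow 2 (show C.m ≤ j by omega)).trans hjd) hd)
        have hd' : c % 2 ^ (j + 1) = 0 := (hdesc j (by omega)).resolve_left
          (by rw [Nat.mod_eq_zero_of_dvd hjd]; decide)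
        refine ih (j + 1) c (by omega) hlt (Nat.dvd_of_mod_eq_zero hd') hc0' ?_
        have hbi : 2 ^ i < 2 ^ C.m := Nat.pow_lt_pow_right one_lt_two hi
        obtain ⟨l1, p1, -⟩ := mulT_spec H.nxt H.zero H.mul hbi hd
        obtain ⟨-, p2, -⟩ := mulT_spec H.nxt H.zero H.mul hlt l1
        obtain ⟨-, p3, -⟩ := mulT_spec H.nxt H.zero H.mul hd hbi
        rw [he] at p2
        have hd'' : P d * P (2 ^ i) = P c * (P (2 ^ i) * P d) := by rw [← p1, ← p2, p3]
        have hce : P c = P d * (P (2 ^ i) * (P d)⁻¹ * (P (2 ^ i))⁻¹) := by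
          calc P c = P c * (P (2 ^ i) * P d) * ((P d)⁻¹ * (P (2 ^ i))⁻¹) := by group
            _ = P d * P (2 ^ i) * ((P d)⁻¹ * (P (2 ^ i))⁻¹) := by rw [hd'']
            _ = _ := by group
        rw [hce]
        have hb : P (2 ^ i) ∈ sylow H := mem_S H.nxt H.zero H.mul hbi
        exact mul_mem hdT (hcl _ (inv_mem hdT) _
          (mul_mem (mul_mem hb (inv_mem (hT hdT))) (inv_mem hb)))
    obtain ⟨t, htT, htne⟩ := T.bot_or_exists_ne_one.resolve_left hbot
    obtain ⟨d, hd, -, rfl⟩ := hT htT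
    exact key C.m 0 d (by omega) hd (one_dvd _) (fun h => htne (by rw [h]; exact H.zero)) htT
  have hmv : ∀ (l : List Move), (∀ mv ∈ l, mv ∈ C.moves) → ∀ known : List ℕ,
      movesOK C l known = true → (∀ e ∈ known, e < 2 ^ C.m ∧ P e ∈ T) →
      ∀ i < C.m, P (2 ^ i) ∈ T := by
    intro l
    induction l with
    | nil =>
      intro _ known h hk i hi
      simp only [movesOK, List.all_eq_true, List.mem_range, List.any_eq_true, beq_iff] at h
      obtain ⟨e, he, rfl⟩ := h i hi
      exact (hk _ he).2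
    | cons mv l ih =>
      intro hsub known h hk
      have hsub' : ∀ mv' ∈ l, mv' ∈ C.moves := fun mv' h' => hsub mv' (List.mem_cons_of_mem _ h')
      cases mv with
      | conj g e d =>
        simp only [movesOK, Bool.and_eq_true, List.any_eq_true, beq_iff, Nat.blt_eq] at h
        obtain ⟨⟨hd, f, hf, rfl⟩, hrest⟩ := h
        refine ih hsub' _ hrest fun q hq => ?_
        rcases List.mem_cons.1 hq with rfl | hq
        · have h' := H.conj_moves g f q (hsub _ List.mem_cons_self)
          refine ⟨hd, ?_⟩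
          rw [← h']
          exact hcl _ (hk f hf).2 _ (by rw [h']; exact mem_S H.nxt H.zero H.mul hd)
        · exact hk q hq
      | prod a b =>
        simp only [movesOK, Bool.and_eq_true, List.any_eq_true, beq_iff] at h
        obtain ⟨⟨⟨f, hf, rfl⟩, f', hf', rfl⟩, hrest⟩ := h
        refine ih hsub' _ hrest fun q hq => ?_
        rcases List.mem_cons.1 hq with rfl | hq
        · obtain ⟨l1, p1, -⟩ := mulT_spec H.nxt H.zero H.mul (hk f hf).1 (hk f' hf').1
          exact ⟨l1, p1 ▸ mul_mem (hk f hf).2 (hk f' hf').2⟩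
        · exact hk q hq
  have hgen := hmv C.moves (fun _ h => h) _ H.moves (fun e he => by
    simp only [List.mem_cons, List.not_mem_nil, or_false] at he
    rcases he with rfl | rfl
    · exact ⟨pow_pos two_pos _, H.zero ▸ one_mem T⟩
    · exact ⟨Nat.pow_lt_pow_right one_lt_two (by have := H.pos; omega), hz⟩)
  refine le_antisymm hT ?_
  rintro _ ⟨d, hd, -, rfl⟩
  have : ∀ f ≤ C.m, P (d / 2 ^ (C.m - f) * 2 ^ (C.m - f)) ∈ T := by
    intro f hf
    induction f with
    | zero => rw [Nat.sub_zero, Nat.div_eq_of_lt hd, zero_mul, H.zero]; exact one_mem T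
    | succ f ih =>
      set i := C.m - (f + 1) with hi
      have hi' : C.m - f = i + 1 := by omega
      have ih' := ih (by omega)
      rw [hi'] at ih'
      have hsplit : d / 2 ^ i * 2 ^ i = d / 2 ^ (i + 1) * 2 ^ (i + 1) + d / 2 ^ i % 2 * 2 ^ i := by
        conv_lhs => rw [← Nat.div_add_mod (d / 2 ^ i) 2, Nat.div_div_eq_div_mul, ← pow_succ]
        ring
      rcases Nat.mod_two_eq_zero_or_one (d / 2 ^ i) with hbit | hbit <;> rw [hbit] at hsplit
      · rw [hsplit, zero_mul, add_zero]; exact ih'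
      · have hlt : d / 2 ^ (i + 1) * 2 ^ (i + 1) < 2 ^ C.m := (Nat.div_mul_le_self _ _).trans_lt hd
        rw [hsplit, one_mul, ← (nxt_spec H.nxt hlt (show i < C.m by omega)).2.1 (dvd_mul_left _ _),
          H.mul _ hlt i (by omega)]
        exact mul_mem ih' (hgen i (by omega))
  have h := this C.m le_rfl
  rwa [Nat.sub_self, pow_zero, Nat.div_one, mul_one] at h

/-- The certificate gives simplicity at every Sylow subgroup. -/
theorem isSimple (hidx : ¬ 2 ∣ (sylow H).index) (S : Sylow 2 G) :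
    (groupFusionSystem (S : Subgroup G)).IsSimple 2 := by
  haveI : Fact (Nat.Prime 2) := ⟨Nat.prime_two⟩
  refine group_isSimple (sylow H) (IsPGroup.of_card (sylow_card H)) hidx ?_
    (noStronglyClosed H) (normalizerGenerated H hidx) S
  intro h
  have hc := sylow_card H
  rw [h, Subgroup.card_bot] at hc
  exact absurd hc (Nat.one_lt_two_pow (by have := H.pos; omega)).ne

end CfsgLib.Fusion.TableSylow
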