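import Cfsg.Agent.Lib.Fusion.FunctorNormal
import Cfsg.Agent.Lib.Fusion.ConstrainedPart
import Cfsg.Agent.Lib.Complement.ThompsonFree

/-!
Thompson's criterion with `Z(S)` and `J(S)` for fusion systems: `p` odd or no section `S₄`.
-/

set_option autoImplicit false
set_option linter.style.haveILetI false
set_option linter.unusedVariables false
set_option linter.unusedSectionVars false

universe u

namespace CfsgLib.Fusion

open Cfsg Cfsg.FusionSystem Subgroup

/-- `J(T)` or `Z(T)`. -/
def thompsonPair (j : Bool) {G : Type u} [Group G] (T : Subgroup G) : Subgroup G :=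
  bif j then Cfsg.thompsonSubgroupAOf T else T ⊓ Subgroup.centralizer (T : Set G)

theorem thompsonPair_le (j : Bool) {G : Type u} [Group G] (T : Subgroup G) :
    thompsonPair j T ≤ T := by
  cases j
  · exact inf_le_left
  · exact CfsgLib.Complement.thompsonAOf_le T

theorem thompsonPair_map (j : Bool) {G H : Type u} [Group G] [Group H] (f : G →* H)
    (T : Subgroup G) (hf : Set.InjOn f (T : Set G)) :
    (thompsonPair j T).map f = thompsonPair j (T.map f) := by
  cases j
  · exact CfsgLib.PLocal.center_map_of_injOn f hf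
  · exact CfsgLib.Complement.thompsonAOf_map f hf

theorem thompsonPair_ne_bot (j : Bool) {G : Type u} [Group G] {p : ℕ} [Fact p.Prime]
    (T : Subgroup G) [Finite T] (hT : IsPGroup p T) (hne : T ≠ ⊥) : thompsonPair j T ≠ ⊥ := by
  have htop : (⊤ : Subgroup T) ≠ ⊥ := fun h => hne <| (Subgroup.eq_bot_iff_forall _).2 fun x hx => by
    have : (⟨x, hx⟩ : T) ∈ (⊥ : Subgroup T) := h ▸ Subgroup.mem_top _
    exact congrArg Subtype.val (Subgroup.mem_bot.1 this)
  have h1 : (thompsonPair j (⊤ : Subgroup T)).map T.subtype = thompsonPair j T := by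
    rw [thompsonPair_map j _ _ T.subtype_injective.injOn, ← MonoidHom.range_eq_map,
      Subgroup.range_subtype]
  rw [← h1, Ne, Subgroup.map_eq_bot_iff_of_injective _ T.subtype_injective]
  cases j
  · exact CfsgLib.Complement.center_inf_ne_bot (hT.to_subgroup _) htop
  · exact CfsgLib.Complement.thompsonAOf_ne_bot htop

theorem thompsonPair_normalizer_le (j : Bool) {G : Type u} [Group G] (T : Subgroup G) :
    Subgroup.normalizer (T : Set G) ≤ Subgroup.normalizer (thompsonPair j T : Set G) := by
  intro g hg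
  rw [Subgroup.mem_normalizer_iff_map_conj_eq] at hg ⊢
  rw [thompsonPair_map j _ _ (fun a _ b _ h => (MulAut.conj g).injective h), hg]

variable {Ω : Type u} [Group Ω] {S : Subgroup Ω} {F : FusionSystem S} {p : ℕ}

/-- Automorphisms of order prime to `p` normalizing `X` are trivial. -/
def TrivialAt (F : FusionSystem S) (p : ℕ) (X : Subgroup Ω) : Prop :=
  ∀ P : Subgroup Ω, P ≤ normalizerIn S X → X ≤ P → ∀ α ∈ F.autGroup P,
    (∀ x : P, (x : Ω) ∈ X → ((α x : P) : Ω) ∈ X) → (orderOf α).Coprime p → α = 1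

/-- No automorphism of order prime to `p` centralizes `Z(S)` or normalizes `J(S)`. -/
def ThompsonLocal (F : FusionSystem S) (p : ℕ) : Prop :=
  ∀ (j : Bool) (P : Subgroup Ω), P ≤ S → thompsonPair j S ≤ P → ∀ α ∈ F.autGroup P,
    (∀ x : P, (x : Ω) ∈ thompsonPair j S → ((α x : P) : Ω) ∈ thompsonPair j S) →
    (j = false → ∀ x : P, (x : Ω) ∈ thompsonPair j S → α x = x) →
    (orderOf α).Coprime p → α = 1

/-- `p` is odd or there is no section `S₄`. -/
def ThompsonFreeSys (F : FusionSystem S) (p : ℕ) : Prop :=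
  p ≠ 2 ∨ F.IsSectionFree p (Equiv.Perm (Fin 4))

/-- Modulo a normal subgroup, automorphisms of order prime to `p` are controlled by two larger
subgroups. -/
theorem mod_of_thompson [Fact p.Prime] [Finite S] (hS : IsPGroup p S) (hF : F.IsSaturated p)
    (hfree : ThompsonFreeSys F p) {Q : Subgroup Ω} (hQn : F.IsNormal Q) (hne : Q ≠ S)
    (hrec : ∀ (Ω' : Type u) [Group Ω'] (S' : Subgroup Ω') [Finite S'] (F' : FusionSystem S'),
      (Q ≠ ⊥ → Nat.card S' < Nat.card S) → IsPGroup p S' → F'.IsSaturated p →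
      ThompsonFreeSys F' p → ThompsonLocal F' p → CoprimeTrivial F' p)
    (htriv : ∀ X : Subgroup Ω, X ≤ S → normalizerIn S X = S → Q < X →
      ((Q.subgroupOf S).Characteristic → (X.subgroupOf S).Characteristic) → TrivialAt F p X) :
    ∀ R ≤ S, Q ≤ R → ∀ β ∈ F.autGroup R, (orderOf β).Coprime p →
      ∀ x : R, (x : Ω)⁻¹ * ((β x : R) : Ω) ∈ Q := by
  have hQc := IsNormal.stronglyClosed hQn
  haveI hQnn : (Q.subgroupOf S).Normal := by
    rw [Subgroup.normal_subgroupOf_iff_le_normalizer hQn.1]
    exact StronglyClosed.le_normalizer hQc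
  set θ := QuotientGroup.mk' (Q.subgroupOf S) with hθ
  have hker : ∀ s : S, θ s = 1 ↔ (s : Ω) ∈ Q := fun s => QuotientGroup.eq_one_iff s
  set E := factorSys F hQc θ hker with hEdef
  have hEf : F.IsFactorSystem Q θ E := ⟨hQn.1, hker, rfl, fun P' φ' => Iff.rfl⟩
  have hiff := fun (Y : Subgroup (S ⧸ Q.subgroupOf S))
      (k : S ⧸ Q.subgroupOf S → S ⧸ Q.subgroupOf S) =>
    isMap_induced_iff (P' := Y) (f' := k) (S' := θ.range) (E := E) (fun P' φ' => Iff.rfl) rfl
  have hEs : E.IsSaturated p := isSaturated_image hS hF (isSurjectiveMorphism_factor hS hF hQc hEf)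
  haveI : Finite θ.range := Subtype.finite
  have hp' : IsPGroup p θ.range := hS.of_surjective θ.rangeRestrict θ.rangeRestrict_surjective
  have hbot : θ.range ≠ ⊥ := fun h => hne (le_antisymm hQn.1 fun s hs =>
    (hker ⟨s, hs⟩).1 (Subgroup.mem_bot.1 (h ▸ ⟨⟨s, hs⟩, rfl⟩)))
  have hEfree : ThompsonFreeSys E p := hfree.imp_right fun h => isSectionFree_factor hS hF hQn hEf h
  have hcardlt : Q ≠ ⊥ → Nat.card θ.range < Nat.card S := by
    intro hQ
    have hk : θ.ker = Q.subgroupOf S := QuotientGroup.ker_mk' _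
    rw [Nat.card_congr (QuotientGroup.quotientKerEquivRange θ).symm.toEquiv,
      Nat.card_congr (QuotientGroup.quotientMulEquivOfEq hk).toEquiv]
    refine lt_of_le_of_ne
      (Nat.card_le_card_of_surjective θ (QuotientGroup.mk'_surjective _)) fun h => hQ ?_
    have h1 := Subgroup.card_eq_card_quotient_mul_card_subgroup (Q.subgroupOf S)
    rw [h] at h1
    have h2 : Nat.card (Q.subgroupOf S) = 1 := (Nat.mul_eq_left Nat.card_pos.ne').1 h1.symm
    rw [Nat.card_congr (Subgroup.subgroupOfEquivOfLe hQn.1).toEquiv] at h2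
    exact Subgroup.card_eq_one.1 h2
  have hEloc : ThompsonLocal E p := by
    intro j P' hP' hWP' α' hα' hinv' _ hc'
    set X := preimageAlong θ (thompsonPair j θ.range) with hXdef
    have hX : X ≤ S := preimageAlong_le
    have hXn : normalizerIn S X = S := by
      refine inf_eq_left.2 fun a ha => ?_
      haveI : Finite (X : Set Ω) := (finite_of_le hX : Finite X)
      refine Subgroup.mem_normalizer_fintype fun y hy => ?_
      obtain ⟨hyS, hy'⟩ := mem_preimageAlong.1 hy
      refine mem_preimageAlong.2 ⟨S.mul_mem (S.mul_mem ha hyS) (S.inv_mem ha), ?_⟩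
      exact ((thompsonPair_normalizer_le j θ.range) (Subgroup.le_normalizer ⟨⟨a, ha⟩, rfl⟩) _).1 hy'
    have hXQ : ¬ X ≤ Q := fun h => by
      refine thompsonPair_ne_bot j θ.range hp' hbot ((Subgroup.eq_bot_iff_forall _).2 fun y hy => ?_)
      obtain ⟨s, rfl⟩ := thompsonPair_le j θ.range hy
      exact (hker s).2 (h (mem_preimageAlong.2 ⟨s.2, hy⟩))
    have hXlt : Q < X := lt_of_le_not_ge (fun q hq => mem_preimageAlong.2 ⟨hQn.1 hq, by
      rw [(hker ⟨q, hQn.1 hq⟩).2 hq]
      exact Subgroup.one_mem _⟩) hXQ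
    have hXchar : (Q.subgroupOf S).Characteristic → (X.subgroupOf S).Characteristic := by
      intro hQchar
      have hXeq : X.subgroupOf S = (thompsonPair j θ.range).comap θ :=
        Subgroup.comap_map_eq_self_of_injective S.subtype_injective _
      rw [hXeq]
      refine Subgroup.characteristic_iff_comap_eq.2 fun e => ?_
      have he : (Q.subgroupOf S).map e.toMonoidHom = Q.subgroupOf S :=
        Subgroup.characteristic_iff_map_eq.1 hQchar e
      set e' := QuotientGroup.congr (Q.subgroupOf S) (Q.subgroupOf S) e he with he'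
      have hcomp : ∀ s : S, θ (e s) = e' (θ s) := fun s => rfl
      have hrange : θ.range = ⊤ := MonoidHom.range_eq_top.2 (QuotientGroup.mk'_surjective _)
      have hW : (thompsonPair j θ.range).map e'.toMonoidHom = thompsonPair j θ.range := by
        rw [thompsonPair_map j e'.toMonoidHom θ.range (fun a _ b _ h => e'.injective h), hrange,
          ← MonoidHom.range_eq_map, (MonoidHom.range_eq_top (f := e'.toMonoidHom)).2 e'.surjective]
      ext s
      simp only [Subgroup.mem_comap, MulEquiv.coe_toMonoidHom]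
      rw [hcomp]
      conv_lhs => rw [← hW]
      exact Subgroup.mem_map_iff_mem (f := e'.toMonoidHom) e'.injective
    obtain ⟨-, g, hg, hgx⟩ := (hiff _ _).1 (isMap_of_autGroup hP' hα')
    set P := preimageAlong θ P'
    haveI := finite_of_le (preimageAlong_le : P ≤ S)
    have hXP : X ≤ P := fun y hy => by
      obtain ⟨hyS, hy'⟩ := mem_preimageAlong.1 hy
      exact mem_preimageAlong.2 ⟨hyS, hWP' hy'⟩
    have hgθ : ∀ (y : Ω) (hy : y ∈ P), θ ⟨g y, hg.mem hy⟩ =
        ((α' ⟨θ ⟨y, preimageAlong_le hy⟩, (mem_preimageAlong.1 hy).2⟩ : P') :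
          S ⧸ Q.subgroupOf S) := fun y hy => by
      rw [← hgx y hy, toFun_aut_apply _ (mem_preimageAlong.1 hy).2]
    have hi : img P g = P := hg.img_eq_of_forall le_rfl fun y hy => mem_preimageAlong.2
      ⟨hg.mem hy, by rw [hgθ y hy]; exact SetLike.coe_mem _⟩
    have hgX : ∀ y ∈ X, g y ∈ X := fun y hy => by
      refine mem_preimageAlong.2 ⟨hg.mem (hXP hy), ?_⟩
      rw [hgθ y (hXP hy)]
      exact hinv' _ (mem_preimageAlong.1 hy).2
    set a := hg.toAut hi with hadef
    have hval : ∀ (n : ℕ) (y : P), θ ⟨((a ^ n) y : P), preimageAlong_le (SetLike.coe_mem _)⟩ =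
        (((α' ^ n) ⟨θ ⟨y, preimageAlong_le y.2⟩, (mem_preimageAlong.1 y.2).2⟩ : P') :
          S ⧸ Q.subgroupOf S) := by
      intro n
      induction n with
      | zero => intro y; rfl
      | succ n ih =>
        intro y
        simp only [pow_succ, MulAut.mul_apply]
        rw [ih (a y)]
        congr 2
        exact Subtype.ext (hgθ y y.2)
    obtain ⟨k, hk⟩ := exists_coprime_pow (p := p) a (isOfFinOrder_of_finite _)
    have h1 : a ^ p ^ k = 1 := htriv X hX hXn hXlt hXchar P
      (hXn.symm ▸ preimageAlong_le) hXP _ (Subgroup.pow_mem _ (hg.toAut_mem hi) _)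
      (IsMap.toAut_pow_mem hg hi hgX _) hk
    refine eq_one_of_pow_prime_pow (k := k) hc' (MulEquiv.ext fun y => Subtype.ext ?_)
    obtain ⟨s, hs⟩ := hP' y.2
    have hsP : (s : Ω) ∈ P := mem_preimageAlong.2 ⟨s.2, hs ▸ y.2⟩
    have h2 := hval (p ^ k) ⟨s, hsP⟩
    rw [h1] at h2
    have e : y = ⟨θ s, hs ▸ y.2⟩ := Subtype.ext hs.symm
    rw [e]
    exact h2.symm
  have hEt : CoprimeTrivial E p := hrec _ θ.range E hcardlt hp' hEs hEfree hEloc
  intro R hR hQR β hβ hc x
  have hpre : preimageAlong θ (imageAlong θ R) = R := by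
    refine le_antisymm (fun t ht => ?_) fun t ht =>
      mem_preimageAlong.2 ⟨hR ht, mem_imageAlong.2 ⟨t, hR ht, ht, rfl⟩⟩
    obtain ⟨htS, ht⟩ := mem_preimageAlong.1 ht
    obtain ⟨y, hy, hyR, hyt⟩ := mem_imageAlong.1 ht
    have h1 := (hker ((⟨y, hy⟩ : S)⁻¹ * ⟨t, htS⟩)).1
      (by rw [map_mul, map_inv, hyt, inv_mul_cancel])
    have := R.mul_mem hyR (hQR h1)
    simpa using this
  have hm := isMap_of_autGroup hR hβ
  set R' := imageAlong θ R
  have hR' : R' ≤ θ.range := fun y hy => by
    obtain ⟨z, hz, -, rfl⟩ := mem_imageAlong.1 hy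
    exact ⟨_, rfl⟩
  obtain ⟨χ, hχ⟩ := exists_inducedAlong (θ := θ) hR hm fun y hy hy1 =>
    (hker _).2 (StronglyClosed.apply_mem hQc hm hy ((hker _).1 hy1))
  have hm' : IsMap F (preimageAlong θ R') (toFun (R.subtype.comp β.toMonoidHom)) :=
    hm.mono hpre.le
  have hχmem : χ ∈ E.Hom R' := ⟨hR', hm'.toHom, hm'.toHom_mem, preimageAlong_le,
    fun y => hm'.mem y.2, fun y => (mem_preimageAlong.1 y.2).2, fun y => hχ y (hpre.le y.2)⟩
  have hmχ := isMap_of_hom hχmem
  haveI := finite_of_le hR'
  have hχv : ∀ (y : Ω) (hy : y ∈ R), toFun χ (θ ⟨y, hR hy⟩) =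
      θ ⟨(β ⟨y, hy⟩ : R), hR (β ⟨y, hy⟩).2⟩ :=
    fun y hy => by
      rw [toFun_of_mem χ (mem_imageAlong.2 ⟨y, hR hy, hy, rfl⟩), hχ y hy]
      exact congrArg θ (Subtype.ext (toFun_aut_apply _ hy))
  have hχi : img R' (toFun χ) = R' := hmχ.img_eq_of_forall le_rfl fun y hy => by
    obtain ⟨z, hz, hzR, rfl⟩ := mem_imageAlong.1 hy
    rw [hχv z hzR]
    exact mem_imageAlong.2 ⟨_, _, SetLike.coe_mem _, rfl⟩
  set γ := hmχ.toAut hχi with hγ
  have hγval : ∀ (n : ℕ) (y : R), (((γ ^ n) ⟨θ ⟨y, hR y.2⟩,
      mem_imageAlong.2 ⟨y, hR y.2, y.2, rfl⟩⟩ : R') : S ⧸ Q.subgroupOf S) =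
        θ ⟨((β ^ n) y : R), hR (SetLike.coe_mem _)⟩ := by
    intro n
    induction n with
    | zero => intro y; rfl
    | succ n ih =>
      intro y
      simp only [pow_succ, MulAut.mul_apply]
      rw [← ih (β y)]
      congr 2
      refine Subtype.ext ?_
      rw [hγ, IsMap.toAut_apply]
      exact hχv y y.2
  have hγ1 : γ = 1 := by
    refine hEt R' hR' γ (hmχ.toAut_mem hχi) (hc.coprime_dvd_left ?_)
    refine orderOf_dvd_of_pow_eq_one (MulEquiv.ext fun y => Subtype.ext ?_)
    obtain ⟨z, hz, hzR, hzy⟩ := mem_imageAlong.1 y.2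
    have h2 := hγval (orderOf β) ⟨z, hzR⟩
    rw [pow_orderOf_eq_one] at h2
    have e : y = ⟨θ ⟨z, hz⟩, hzy.symm ▸ y.2⟩ := Subtype.ext hzy.symm
    rw [e]
    exact h2
  have h := hγval 1 x
  rw [hγ1] at h
  simp only [pow_one, MulAut.one_apply] at h
  exact (hker ((⟨x, hR x.2⟩ : S)⁻¹ * ⟨(β x : R), hR (SetLike.coe_mem _)⟩)).1
    (by rw [map_mul, map_inv, ← h, inv_mul_cancel])

section Step

variable [Fact p.Prime] [Finite S] (hS : IsPGroup p S) (hF : F.IsSaturated p)
  (hfree : ThompsonFreeSys F p) (hloc : ThompsonLocal F p)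
  (hsmall : ∀ (Ω' : Type u) [Group Ω'] (S' : Subgroup Ω') [Finite S'] (F' : FusionSystem S'),
    Nat.card S' < Nat.card S → IsPGroup p S' → F'.IsSaturated p → ThompsonFreeSys F' p →
    ThompsonLocal F' p → CoprimeTrivial F' p)
  (hcore : ∀ E : FusionSystem S, E.IsSaturated p → ThompsonFreeSys E p → ThompsonLocal E p →
    Nat.card F.core < Nat.card E.core → CoprimeTrivial E p)

include hS hF hfree hloc hcore

/-- A subgroup normalized by `S` outside the core is handled by induction. -/
theorem trivialAt_of_not_le_core {X : Subgroup Ω} (hX : X ≤ S) (hXn : normalizerIn S X = S)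
    (hXQ : ¬ X ≤ F.core) : TrivialAt F p X := by
  intro P hP hXP α hα hinv hc
  rw [hXn] at hP
  have hXfn : F.IsFullyNormalized X :=
    ⟨hX, fun R _ => by rw [hXn]; exact Subgroup.card_le_of_le inf_le_left⟩
  have hlt : Nat.card F.core < Nat.card (normSys F X hX hXn).core := by
    haveI := finite_of_le (core_le (normSys F X hX hXn))
    have h1 : F.core ⊔ X ≤ (normSys F X hX hXn).core :=
      sup_le (IsNormal.le_core (isNormal_normSys_of_isNormal hX hXn core_isNormal))
        (IsNormal.le_core (isNormal_normSys_self hX hXn))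
    refine lt_of_not_ge fun h => hXQ ?_
    rw [eq_of_le_of_card_le (le_sup_left.trans h1) h]
    exact le_sup_right.trans h1
  refine eq_one_of_coprimeTrivial_normSys (hcore (normSys F X hX hXn)
    (isSaturated_normSys hS hF hX hXn) ?_ ?_ hlt) hXP hP hα hinv hc
  · exact hfree.imp_right fun h => isSectionFree_castSys hXn
      (isSectionFree_normalizer hS hF hXfn (isNormalizerSystem_normalizerSys F X hX) h)
  · intro j R hR hWR β hβ h1 h2 h3
    refine hloc j R hR hWR β ?_ h1 h2 h3
    exact (autGroup_iff_isMap hR fun x => (toFun_aut_apply β x.2).symm).2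
      (isMap_of_autGroup hR hβ).of_normSys

include hsmall

/-- With trivial core every nontrivial subgroup has a trivial normalizer system. -/
theorem trivialAt_of_core_eq_bot (hQ : F.core = ⊥) :
    ∀ n, ∀ U : Subgroup Ω, U ≤ S → U ≠ ⊥ → Nat.card S - Nat.card (normalizerIn S U) = n →
      TrivialAt F p U := by
  intro n
  induction n using Nat.strong_induction_on with
  | _ n ih =>
    intro U hU hUne hn P hP hUP α hα hinv hc
    haveI := finite_of_le hU
    have hm := isMap_of_autGroup (F := F) (hP.trans inf_le_left) hα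
    have hUi : img U (toFun (P.subtype.comp α.toMonoidHom)) = U :=
      hm.img_eq_of_forall hUP fun x hx => by
        rw [toFun_aut_apply α (hUP hx)]
        exact hinv ⟨x, hUP hx⟩ hx
    haveI : Finite ↥(normalizerIn S U) := finite_normalizerIn
    have hle : Nat.card (normalizerIn S U) ≤ Nat.card S := Subgroup.card_le_of_le inf_le_left
    by_cases hUn : F.IsFullyNormalized U
    · rcases (inf_le_left : normalizerIn S U ≤ S).eq_or_lt with hT | hT
      · refine trivialAt_of_not_le_core hS hF hfree hloc hcore hU hT (fun h => hUne ?_)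
          P hP hUP α hα hinv hc
        exact le_bot_iff.1 (hQ ▸ h)
      set T := normalizerIn S U with hTdef
      have hNs := isNormalizerSystem_normalizerSys F U hU
      have hlt : Nat.card T < Nat.card S :=
        lt_of_not_ge fun h => hT.ne (eq_of_le_of_card_le hT.le h)
      have hE : CoprimeTrivial (normalizerSys F U hU) p := by
        refine hsmall Ω T _ hlt (hS.to_le hT.le) (isSaturated_normalizerSystem hS hF hUn hNs)
          (hfree.imp_right fun h => isSectionFree_normalizer hS hF hUn hNs h) ?_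
        intro j R hR hWR β hβ h1 _ h3
        have hVS : thompsonPair j T ≤ S := (thompsonPair_le j T).trans hT.le
        have hTne : T ≠ ⊥ := fun hb => hUne (le_bot_iff.1 (hb ▸ le_normalizerIn hU))
        have hNV : normalizerIn S T ≤ normalizerIn S (thompsonPair j T) :=
          inf_le_inf_left S (thompsonPair_normalizer_le j T)
        haveI : Finite ↥(normalizerIn S (thompsonPair j T)) := finite_normalizerIn
        have hlt' : Nat.card T < Nat.card (normalizerIn S (thompsonPair j T)) := by
          have h2 := lt_of_lt_of_le (lt_normalizerIn hS hT) hNV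
          exact lt_of_not_ge fun h => h2.ne (eq_of_le_of_card_le h2.le h)
        have hle' : Nat.card (normalizerIn S (thompsonPair j T)) ≤ Nat.card S :=
          Subgroup.card_le_of_le inf_le_left
        refine ih _ (by omega) _ hVS (thompsonPair_ne_bot j T (hS.to_le hT.le) hTne) rfl R
          (hR.trans ((le_normalizerIn hT.le).trans hNV)) hWR β ?_ h1 h3
        refine (autGroup_iff_isMap (hR.trans hT.le) fun x => (toFun_aut_apply β x.2).symm).2 ?_
        obtain ⟨-, -, g, hg, hgx, -⟩ :=
          (isMap_normalizerSystem_iff hNs).1 (isMap_of_autGroup hR hβ)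
        exact (hg.mono le_sup_left).congr hgx
      refine hE P hP α ?_ hc
      refine (autGroup_iff_isMap (F := normalizerSys F U hU) hP
        fun x => (toFun_aut_apply α x.2).symm).2 ?_
      refine (isMap_normalizerSystem_iff hNs).2 ⟨hP, fun x hx => ?_, _,
        by rwa [sup_eq_left.2 hUP], fun _ _ => rfl, hUi⟩
      rw [toFun_aut_apply α hx]
      exact hP (SetLike.coe_mem _)
    · -- pass to a fully normalized conjugate
      obtain ⟨U', hUU', hU'⟩ := exists_fullyNormalized_conj F hU
      obtain ⟨ψ, hψ, hψi, hψN⟩ := exists_map_normalizerIn_of_fullyNormalized hS hF hU' hUU'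
      subst hψi
      have hlt : Nat.card (normalizerIn S U) < Nat.card (normalizerIn S (img U ψ)) := by
        by_contra hge
        refine hUn ⟨hU, fun V hV => ?_⟩
        exact (hU'.2 V (isConj_trans (isConj_symm hUU') hV)).trans (not_lt.1 hge)
      haveI : Finite ↥(normalizerIn S (img U ψ)) := finite_normalizerIn
      have hle' : Nat.card (normalizerIn S (img U ψ)) ≤ Nat.card S :=
        Subgroup.card_le_of_le inf_le_left
      have hψP := hψ.mono hP
      have hUne' : img U ψ ≠ ⊥ := fun h => hUne <| by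
        refine (Subgroup.eq_bot_iff_forall _).2 fun x hx => hψ.eq_one (le_normalizerIn hU hx) ?_
        have := (hψ.mono (le_normalizerIn hU)).apply_mem_img hx
        rwa [h, Subgroup.mem_bot] at this
      let e := hψP.equivImg
      let β : MulAut (img P ψ) := MulAut.congr e α
      have hβ : β ∈ F.autGroup (img P ψ) := hψP.congr_mem_autGroup hα
      have h1 : β = 1 := by
        refine ih _ (by omega) _ hU'.1 hUne' rfl (img P ψ) ?_ (img_mono hUP) β hβ ?_ ?_
        · intro y hy
          obtain ⟨x, hx, rfl⟩ := hψP.mem_img.1 hy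
          exact hψN x (hP hx)
        · intro y hy
          obtain ⟨x, hx, hxy⟩ := (hψ.mono (le_normalizerIn hU)).mem_img.1 hy
          have hyx : e.symm y = ⟨x, hUP hx⟩ := by
            rw [MulEquiv.symm_apply_eq]
            exact Subtype.ext hxy.symm
          show ((e (α (e.symm y)) : img P ψ) : Ω) ∈ _
          rw [hyx]
          exact (hψ.mono (le_normalizerIn hU)).apply_mem_img (hinv ⟨x, hUP hx⟩ hx)
        · rwa [MulEquiv.orderOf_eq]
      exact (MulAut.congr e).injective (h1.trans (map_one _).symm)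

/-- A centric core is handled in the model. -/
theorem coprimeTrivial_of_centric_core (hcen : F.IsCentric F.core) : CoprimeTrivial F p := by
  set Q := F.core with hQdef
  have hQn : F.IsNormal Q := core_isNormal
  have hn := IsNormal.fullyNormalized hQn
  have hT : normalizerIn S Q = S := IsNormal.normalizerIn_eq hQn
  have hNs := isNormalizerSystem_normalizerSys F Q hQn.1
  haveI : Finite ↥(normalizerIn S Q) := finite_normalizerIn
  have hTS : normalizerIn S Q ≤ S := inf_le_left
  obtain ⟨G, hG, ι, hfin, hr, ⟨Ps, hPs⟩, hM, hc⟩ :=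
    Model.exists_model_normalizer F hS hF hcen hn hNs
  haveI := hfin
  have hm := isModel_of_normal_centric (hS.to_le hTS) hr ⟨Ps, hPs⟩ (le_normalizerIn hQn.1) hM hc
  have hG4 : p ≠ 2 ∨ ¬ Cfsg.Involves (Equiv.Perm (Fin 4)) G :=
    hfree.imp_right fun h => h Q hn hcen _ hNs G ι hm
  set M := (Q.subgroupOf (normalizerIn S Q)).map ι with hMdef
  -- no nontrivial element of order prime to `p` in the two local subgroups
  have hlocal : ∀ (j : Bool) (g : G), (orderOf g).Coprime p →
      g ∈ Subgroup.normalizer (thompsonPair j (Ps : Subgroup G) : Set G) →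
      (j = false → g ∈ Subgroup.centralizer (thompsonPair j (Ps : Subgroup G) : Set G)) →
      g = 1 := by
    intro j g hg hgn hgc
    set V := thompsonPair j S with hVdef
    have hVS : V ≤ S := thompsonPair_le j S
    have hVimg : (V.subgroupOf (normalizerIn S Q)).map ι = thompsonPair j (Ps : Subgroup G) := by
      have e1 : thompsonPair j (⊤ : Subgroup (normalizerIn S Q)) = V.subgroupOf (normalizerIn S Q) := by
        apply Subgroup.map_injective (normalizerIn S Q).subtype_injective
        rw [thompsonPair_map j _ _ (normalizerIn S Q).subtype_injective.injOn,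
          ← MonoidHom.range_eq_map, Subgroup.range_subtype,
          Subgroup.map_subgroupOf_eq_of_le (hVS.trans hT.ge),
          show thompsonPair j (normalizerIn S Q) = thompsonPair j S from
            congrArg (fun T => thompsonPair j T) hT]
      rw [← e1, thompsonPair_map j _ _ hr.1.injOn, ← MonoidHom.range_eq_map, hPs]
    set U := Q ⊔ V with hUdef
    have hU : U ≤ S := sup_le hQn.1 hVS
    have hU' : U ≤ normalizerIn S Q := hT.symm ▸ hU
    haveI := finite_of_le hU
    have hmem : ∀ (x : Ω) (hx : x ∈ U), g * ι ⟨x, hU' hx⟩ * g⁻¹ ∈ (U.subgroupOf _).map ι := by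
      have hle : U.subgroupOf (normalizerIn S Q) ≤
          ((U.subgroupOf (normalizerIn S Q)).map ι).comap
            ((MulAut.conj g).toMonoidHom.comp ι) := by
        rw [hUdef, Subgroup.subgroupOf_sup (le_normalizerIn hQn.1) (hVS.trans hT.ge)]
        refine sup_le (fun x hx => ?_) fun x hx => ?_
        · obtain ⟨y, hy, hye⟩ := hM.conj_mem _ ⟨x, hx, rfl⟩ g
          exact ⟨y, Subgroup.mem_sup_left hy, hye⟩
        · have h1 := (Subgroup.mem_normalizer_iff.1 hgn (ι x)).1 (hVimg ▸ ⟨x, hx, rfl⟩)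
          rw [← hVimg] at h1
          obtain ⟨y, hy, hye⟩ := h1
          exact ⟨y, Subgroup.mem_sup_right hy, hye⟩
      exact fun x hx => hle (x := ⟨x, hU' hx⟩) hx
    obtain ⟨f, hf, hfx⟩ := realized_exists_map hr hU' g fun x hx => by
      obtain ⟨y, -, hy⟩ := hmem x hx
      exact ⟨y, hy⟩
    have hfU : img U f = U := by
      refine hf.img_eq_of_forall le_rfl fun x hx => ?_
      obtain ⟨hfT, he⟩ := hfx x hx
      obtain ⟨y, hy, hye⟩ := hmem x hx
      have h0 := hr.1 (hye.trans he.symm)
      rw [h0] at hy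
      exact hy
    obtain ⟨-, -, f2, hf2, hf2x, -⟩ := (isMap_normalizerSystem_iff hNs).1 hf
    have hfF : IsMap F U f := (hf2.mono le_sup_left).congr hf2x
    set a := hfF.toAut hfU with hadef
    have hval : ∀ (n : ℕ) (x : U), ι ⟨((a ^ n) x : U), hU' (SetLike.coe_mem _)⟩ =
        g ^ n * ι ⟨x, hU' x.2⟩ * (g ^ n)⁻¹ := by
      intro n
      induction n with
      | zero => intro x; simp
      | succ n ih =>
        intro x
        simp only [pow_succ, MulAut.mul_apply]
        rw [ih (a x)]
        obtain ⟨hfT, he⟩ := hfx x x.2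
        rw [show (⟨((a x : U) : Ω), hU' (SetLike.coe_mem _)⟩ : normalizerIn S Q) = ⟨f x, hfT⟩ from
          Subtype.ext (IsMap.toAut_apply hfF hfU x), he]
        group
    have hac : (orderOf a).Coprime p := by
      refine hg.coprime_dvd_left (orderOf_dvd_of_pow_eq_one (MulEquiv.ext fun x => Subtype.ext ?_))
      have h1 := hval (orderOf g) x
      rw [pow_orderOf_eq_one] at h1
      simp only [one_mul, inv_one, mul_one] at h1
      exact congrArg (fun t : normalizerIn S Q => (t : Ω)) (hr.1 h1)
    have ha1 : a = 1 := by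
      refine hloc j U hU le_sup_right a (hfF.toAut_mem hfU) (fun x hx => ?_) (fun hj x hx => ?_) hac
      · have h1 := hval 1 x
        rw [pow_one, pow_one] at h1
        have h2 := (Subgroup.mem_normalizer_iff.1 hgn (ι ⟨x, hU' x.2⟩)).1
          (hVimg ▸ ⟨⟨x, hU' x.2⟩, hx, rfl⟩)
        rw [← h1, ← hVimg] at h2
        obtain ⟨y, hy, hye⟩ := h2
        rw [hr.1 hye] at hy
        exact hy
      · have h1 := hval 1 x
        rw [pow_one, pow_one] at h1
        have h2 := Subgroup.mem_centralizer_iff.1 (hgc hj) (ι ⟨x, hU' x.2⟩)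
          (hVimg ▸ ⟨⟨x, hU' x.2⟩, hx, rfl⟩)
        rw [← h2, mul_inv_cancel_right] at h1
        exact Subtype.ext (congrArg (fun t : normalizerIn S Q => (t : Ω)) (hr.1 h1))
    have hgM : g ∈ M := by
      refine hc ?_
      rintro _ ⟨q, hq, rfl⟩
      have h1 := hval 1 ⟨q, Subgroup.mem_sup_left hq⟩
      rw [ha1, one_pow, pow_one] at h1
      exact (mul_inv_eq_iff_eq_mul.1 h1.symm).symm
    obtain ⟨q, -, rfl⟩ := hgM
    rw [orderOf_injective ι hr.1] at hg
    obtain ⟨k, hk⟩ := (hS.to_le hTS) q
    rw [eq_one_of_pow_prime_pow hg hk, map_one]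
  have hcompl : ∀ H : Subgroup G, (∀ h ∈ H, (orderOf h).Coprime p → h = 1) →
      Cfsg.HasNormalPComplement p H := by
    intro H hH
    obtain ⟨P⟩ := (inferInstance : Nonempty (Sylow p H))
    have hP : (P : Subgroup H) = ⊤ := by
      have hHp : IsPGroup p H := fun h => by
        obtain ⟨j, hj⟩ := exists_coprime_pow (p := p) h (isOfFinOrder_of_finite _)
        refine ⟨j, Subtype.ext (hH _ (SetLike.coe_mem _) ?_)⟩
        rwa [Subgroup.orderOf_coe]
      exact (P.is_maximal' (hHp.to_subgroup ⊤) le_top).symm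
    refine ⟨P, ⊥, inferInstance, ?_⟩
    rw [hP]
    exact Subgroup.isComplement'_bot_top
  have hGc : Cfsg.HasNormalPComplement p G :=
    CfsgLib.Complement.hasNormalPComplement_of_thompsonA hG4 Ps
      (hcompl _ fun h hh hcp => hlocal true h hcp hh fun e => Bool.noConfusion e)
      (hcompl _ fun h hh hcp => hlocal false h hcp (Subgroup.centralizer_le_normalizer _ hh)
        fun _ => hh)
  obtain ⟨P₀, N, hN, hcN⟩ := hGc
  haveI := hN
  have hMp : IsPGroup p M :=
    ((hS.to_le hTS).to_subgroup (Q.subgroupOf (normalizerIn S Q))).map ι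
  have hNcop : ∀ x ∈ N, (orderOf x).Coprime p := fun x hx => by
    have hcN' := hcN.index_eq_card
    have h1 : (Nat.card N).Coprime p := by
      rw [← hcN']
      exact ((Fact.out : p.Prime).coprime_iff_not_dvd.2 P₀.not_dvd_index).symm
    refine h1.coprime_dvd_left ?_
    have := orderOf_dvd_natCard (⟨x, hx⟩ : N)
    rwa [Subgroup.orderOf_mk] at this
  have hN1 : N = ⊥ := by
    refine (Subgroup.eq_bot_iff_forall _).2 fun n hn' => ?_
    have hnc : n ∈ M := hc fun q hq => by
      have h1 : n * q * n⁻¹ * q⁻¹ ∈ M := M.mul_mem (hM.conj_mem q hq n) (M.inv_mem hq)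
      have h2 : n * q * n⁻¹ * q⁻¹ ∈ N := by
        rw [mul_assoc n q, mul_assoc n (q * n⁻¹)]
        exact N.mul_mem hn' (hN.conj_mem _ (N.inv_mem hn') q)
      obtain ⟨k, hk⟩ := hMp ⟨_, h1⟩
      have h3 := eq_one_of_pow_prime_pow (hNcop _ h2) (congrArg Subtype.val hk)
      exact (mul_inv_eq_iff_eq_mul.1 (mul_inv_eq_one.1 h3)).symm
    obtain ⟨k, hk⟩ := hMp ⟨n, hnc⟩
    exact eq_one_of_pow_prime_pow (hNcop n hn') (congrArg Subtype.val hk)
  have hP₀ : (P₀ : Subgroup G) = ⊤ := by
    rw [← Subgroup.isComplement'_bot_left]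
    rwa [hN1] at hcN
  have hGp : IsPGroup p G := by
    intro x
    obtain ⟨k, hk⟩ := P₀.isPGroup' ⟨x, hP₀ ▸ Subgroup.mem_top x⟩
    exact ⟨k, congrArg Subtype.val hk⟩
  have hsurj : ∀ g : G, ∃ t : normalizerIn S Q, ι t = g := fun g => by
    have : (Ps : Subgroup G) = ⊤ := (Ps.is_maximal' (hGp.to_subgroup ⊤) le_top).symm
    exact MonoidHom.mem_range.1 (hPs ▸ this ▸ Subgroup.mem_top g)
  intro R hR α hα hcop
  obtain ⟨g, hg, hgx, hgQ⟩ := (isNormal_iff.1 hQn).2 R _ (isMap_of_autGroup hR hα)
  have hR' : R ≤ normalizerIn S Q := hT.symm ▸ hR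
  have hmN : IsMap (normalizerSys F Q hQn.1) R (toFun (R.subtype.comp α.toMonoidHom)) :=
    (isMap_normalizerSystem_iff hNs).2 ⟨hR', fun x hx => by
      rw [toFun_aut_apply α hx]
      exact hR' (SetLike.coe_mem _), g, hg, hgx, hgQ⟩
  obtain ⟨g0, hg0⟩ := realized_exists_elem hr hmN
  obtain ⟨t, rfl⟩ := hsurj g0
  refine eq_one_of_conj hS hcop (hTS t.2) fun x => ?_
  have h1 := hg0 x x.2 (hR' x.2) (by rw [toFun_aut_apply α x.2]; exact hR' (SetLike.coe_mem _))
  rw [← map_inv, ← map_mul, ← map_mul] at h1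
  have h2 := congrArg Subtype.val (hr.1 h1)
  simp only [toFun_aut_apply α x.2] at h2
  exact h2

/-- One step of the induction. -/
theorem coprimeTrivial_thompson_step : CoprimeTrivial F p := by
  by_cases hQ : F.core = ⊥
  · intro R hR α hα hc
    by_cases hR1 : R = ⊥
    · subst hR1
      exact MulEquiv.ext fun x => Subsingleton.elim _ _
    exact trivialAt_of_core_eq_bot hS hF hfree hloc hsmall hcore hQ _ R hR hR1 rfl R
      (le_normalizerIn hR) le_rfl α hα (fun x _ => SetLike.coe_mem _) hc
  by_cases hcen : F.IsCentric F.core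
  · exact coprimeTrivial_of_centric_core hS hF hfree hloc hsmall hcore hcen
  set Q := F.core with hQdef
  have hQn : F.IsNormal Q := core_isNormal
  have hQc := IsNormal.stronglyClosed hQn
  have hQfn := IsNormal.fullyNormalized hQn
  -- `Q C_S(Q)` makes automorphisms fix `Q`
  set C := centralizerIn S Q with hC
  have hCS : C ≤ S := inf_le_left
  have hCc : F.StronglyClosed C := by
    refine stronglyClosed_iff.2 ⟨hCS, fun X f hX hf x hx => ?_⟩
    obtain ⟨g, hg, hgx, hgQ⟩ := (isNormal_iff.1 hQn).2 X f hf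
    have h1 := hg.apply_mem_centralizerIn le_sup_right (Subgroup.mem_sup_left hx) (hX hx).2
    rw [hgQ, hgx x hx] at h1
    exact h1
  have hYc : F.StronglyClosed (Q ⊔ C) := StronglyClosed.sup hS hF hQc hCc
  have hY : Q ⊔ C ≤ S := sup_le hQn.1 hCS
  have hYQ : ¬ Q ⊔ C ≤ Q := fun h => hcen ((IsNormal.centric_iff hQn).2 (le_sup_right.trans h))
  haveI := finite_of_le hY
  have hYt : CoprimeTrivial (normSys F (Q ⊔ C) hY (StronglyClosed.normalizerIn_eq hYc)) p := by
    intro R hR α hα hc
    have hm := isMap_of_autGroup hR hα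
    obtain ⟨-, -, g, hg, hgx, hgY⟩ := (isMap_normSys_iff hY _).1 hm
    haveI := finite_of_le hg.le
    have hi : img (R ⊔ (Q ⊔ C)) g = R ⊔ (Q ⊔ C) := by
      rw [hg.img_sup le_sup_left le_sup_right, hgY, img_congr hgx, img_toFun_aut]
    refine eq_one_of_extension hg hi le_sup_left
      (fun x => (hgx x x.2).trans (toFun_aut_apply α x.2)) hc fun n hn => ?_
    exact trivialAt_of_not_le_core hS hF hfree hloc hcore hY (StronglyClosed.normalizerIn_eq hYc)
      hYQ _ (by rw [StronglyClosed.normalizerIn_eq hYc]; exact hg.le) le_sup_right _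
      (Subgroup.pow_mem _ (hg.toAut_mem hi) _)
      (IsMap.toAut_pow_mem hg hi (fun x hx => hgY.le ((hg.mono le_sup_right).apply_mem_img hx)) _) hn
  refine coprimeTrivial_of_normal hS hF hQn (fun R hR hQR α hα hc x hx => ?_)
    fun R hR hQR β hβ hc x => ?_
  · -- the restriction to `Q`
    haveI := finite_of_le hQn.1
    have hm := (isMap_of_autGroup hR hα).mono hQR
    have hiQ : img Q (toFun (R.subtype.comp α.toMonoidHom)) = Q :=
      StronglyClosed.img_eq hQc hm le_rfl
    obtain ⟨g, hg, hgx⟩ := receptive_extend_centralizer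
      (receptive_of_fullyNormalized hS hF hQfn) hm hiQ
    have hiY : img (Q ⊔ C) g = Q ⊔ C := StronglyClosed.img_eq hYc hg le_rfl
    obtain ⟨k, hk⟩ : ∃ k, hg.toAut hiY ^ p ^ k = 1 := by
      obtain ⟨i, hi⟩ := exists_coprime_pow (p := p) (hg.toAut hiY) (isOfFinOrder_of_finite _)
      exact ⟨i, eq_one_of_coprimeTrivial_normSys hYt le_rfl hY
        (Subgroup.pow_mem _ (hg.toAut_mem hiY) _) (fun y _ => SetLike.coe_mem _) hi⟩
    have hval : ∀ (n : ℕ) (y : Ω) (hy : y ∈ Q),
        (((hg.toAut hiY ^ n) ⟨y, Subgroup.mem_sup_left hy⟩ : ↥(Q ⊔ C)) : Ω) =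
          ((α ^ n) ⟨y, hQR hy⟩ : R) := by
      intro n
      induction n with
      | zero => intro y hy; rfl
      | succ n ih =>
        intro y hy
        rw [pow_succ, MulAut.mul_apply, pow_succ, MulAut.mul_apply]
        have h1 : g y ∈ Q := by
          rw [hgx y hy]
          exact StronglyClosed.apply_mem hQc hm hy hy
        rw [show hg.toAut hiY ⟨y, Subgroup.mem_sup_left hy⟩ = ⟨g y, Subgroup.mem_sup_left h1⟩ from
          Subtype.ext (IsMap.toAut_apply hg hiY _), ih (g y) h1]
        congr 2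
        refine Subtype.ext ?_
        show g y = _
        rw [hgx y hy, toFun_aut_apply α (hQR hy)]
    obtain ⟨m, hm'⟩ := exists_pow_eq_self_of_coprime (hc.pow_right k).symm
    have h1 := hval (p ^ k * m) x hx
    rw [pow_mul, hk, one_pow, pow_mul, hm'] at h1
    exact h1.symm
  · exact mod_of_thompson hS hF hfree hQn
      (fun h => hcen ((IsNormal.centric_iff hQn).2 (h.symm ▸ inf_le_left)))
      (fun Ω' _ S' _ F' h => hsmall Ω' S' F' (h hQ))
      (fun X hX hXn hlt _ => trivialAt_of_not_le_core hS hF hfree hloc hcore hX hXn hlt.not_ge)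
      R hR hQR β hβ hc x

end Step

/-- Thompson's criterion for fusion systems. -/
theorem coprimeTrivial_of_thompson {p : ℕ} [Fact p.Prime] :
    ∀ (Ω : Type u) [Group Ω] (S : Subgroup Ω) [Finite S] (F : FusionSystem S), IsPGroup p S →
      F.IsSaturated p → ThompsonFreeSys F p → ThompsonLocal F p → CoprimeTrivial F p := by
  suffices h : ∀ n m, ∀ (Ω : Type u) [Group Ω] (S : Subgroup Ω) [Finite S] (F : FusionSystem S),
      Nat.card S = n → Nat.card S - Nat.card F.core = m →
      IsPGroup p S → F.IsSaturated p → ThompsonFreeSys F p → ThompsonLocal F p →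
      CoprimeTrivial F p from
    fun Ω _ S _ F => h _ _ Ω S F rfl rfl
  intro n
  induction n using Nat.strong_induction_on with
  | _ n ihn =>
    intro m
    induction m using Nat.strong_induction_on with
    | _ m ihm =>
      intro Ω _ S _ F hn hm hS hF hfree hloc
      refine coprimeTrivial_thompson_step hS hF hfree hloc
        (fun Ω' _ S' _ F' hlt hS' hF' hf' hl' =>
          ihn _ (hn ▸ hlt) _ Ω' S' F' rfl rfl hS' hF' hf' hl')
        fun E hE hEf hEl hlt => ihm _ ?_ Ω S E hn rfl hS hE hEf hEl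
      haveI := finite_of_le (core_le E)
      have := Subgroup.card_le_of_le (core_le E)
      omega

end CfsgLib.Fusion
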