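import Cfsg.Agent.Lib.Fusion.ThompsonCriterion

/-!
Consequences of Thompson's criterion: constrained parts and characteristic subgroups, `p` odd or no
section `S₄`.
-/

set_option autoImplicit false
set_option linter.style.haveILetI false
set_option linter.unusedVariables false
set_option linter.unusedSectionVars false

universe u

namespace CfsgLib.Fusion

open Cfsg Cfsg.FusionSystem Subgroup

variable {Ω : Type u} [Group Ω] {S : Subgroup Ω} {F : FusionSystem S} {Q : Subgroup Ω} {p : ℕ}

theorem trivialAt_of_normSys [Finite S] {X : Subgroup Ω} (hn : normalizerIn S X = S) (hX : X ≤ S)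
    (h : CoprimeTrivial (normSys F X hX hn) p) : TrivialAt F p X := fun P hP hXP α hα hinv hc =>
  eq_one_of_coprimeTrivial_normSys h hXP (hP.trans inf_le_left) hα hinv hc

section Quotient

variable [Fact p.Prime] [Finite S] (hS : IsPGroup p S) (hF : F.IsSaturated p)

include hS hF

theorem thompsonFreeSys_normSys {X : Subgroup Ω} (hX : X ≤ S) (hn : normalizerIn S X = S)
    (h : ThompsonFreeSys F p) : ThompsonFreeSys (normSys F X hX hn) p :=
  h.imp_right fun h => isSectionFree_castSys hn (isSectionFree_normalizer hS hF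
    ⟨hX, fun R _ => by rw [hn]; exact Subgroup.card_le_of_le inf_le_left⟩
    (isNormalizerSystem_normalizerSys F X hX) h)

/-- A non-trivial system contains a non-trivial constrained one. -/
theorem exists_constrained_of_not_trivial_free (h : ¬ CoprimeTrivial F p) (hfree : ThompsonFreeSys F p) :
    ∃ E : FusionSystem S, E ≤ F ∧ E.IsConstrained p ∧ ¬ CoprimeTrivial E p := by
  suffices H : ∀ (n : ℕ) (E : FusionSystem S), Nat.card S - Nat.card E.core = n → E ≤ F →
      E.IsSaturated p → ThompsonFreeSys E p → ¬ CoprimeTrivial E p →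
      ∃ E' : FusionSystem S, E' ≤ F ∧ E'.IsConstrained p ∧ ¬ CoprimeTrivial E' p from
    H _ F rfl (fun _ => Set.Subset.rfl) hF hfree h
  intro n
  induction n using Nat.strong_induction_on with
  | _ n ih =>
    intro E hn hle hE hEfree hEt
    set Q := E.core with hQ
    have hQn : E.IsNormal Q := core_isNormal
    by_cases hcen : E.IsCentric Q
    · exact ⟨E, hle, ⟨hE, Q, hQn, hcen⟩, hEt⟩
    have hQc := IsNormal.stronglyClosed hQn
    set C := centralizerIn S Q with hC
    have hCQ : ¬ C ≤ Q := fun hC => hcen ((IsNormal.centric_iff hQn).2 hC)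
    have hrec : ∀ (Y : Subgroup Ω) (hY : Y ≤ S) (hYn : normalizerIn S Y = S),
        ¬ Y ≤ Q → ¬ CoprimeTrivial (normSys E Y hY hYn) p →
        ∃ E' : FusionSystem S, E' ≤ F ∧ E'.IsConstrained p ∧ ¬ CoprimeTrivial E' p := by
      intro Y hY hYn hYQ hYt
      refine ih _ ?_ (normSys E Y hY hYn) rfl (fun P => (normSys_le hY hYn P).trans (hle P))
        (isSaturated_normSys hS hE hY hYn) (thompsonFreeSys_normSys hS hE hY hYn hEfree) hYt
      have h1 : Q ⊔ Y ≤ (normSys E Y hY hYn).core :=
        sup_le (IsNormal.le_core (isNormal_normSys_of_isNormal hY hYn hQn))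
          (IsNormal.le_core (isNormal_normSys_self hY hYn))
      haveI := finite_of_le (core_le (normSys E Y hY hYn))
      have h2 : Nat.card Q < Nat.card (normSys E Y hY hYn).core := lt_of_not_ge fun h3 => hYQ <| by
        rw [eq_of_le_of_card_le (le_sup_left.trans h1) h3]
        exact le_sup_right.trans h1
      have h3 := Subgroup.card_le_of_le (core_le (normSys E Y hY hYn))
      omega
    have hCc : E.StronglyClosed C := by
      refine stronglyClosed_iff.2 ⟨inf_le_left, fun X f hX hf x hx => ?_⟩
      obtain ⟨g, hg, hgx, hgQ⟩ := (isNormal_iff.1 hQn).2 X f hf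
      have h1 := hg.apply_mem_centralizerIn le_sup_right (Subgroup.mem_sup_left hx) (hX hx).2
      rw [hgQ, hgx x hx] at h1
      exact h1
    set Y := Q ⊔ C with hYdef
    have hY : Y ≤ S := sup_le hQn.1 inf_le_left
    have hYc : E.StronglyClosed Y := StronglyClosed.sup hS hE hQc hCc
    by_cases hYt : CoprimeTrivial (normSys E Y hY (StronglyClosed.normalizerIn_eq hYc)) p
    swap
    · exact hrec Y hY _ (fun h => hCQ (le_sup_right.trans h)) hYt
    have hne : Q ≠ S := fun h => hCQ (h ▸ inf_le_left)
    by_cases hXt : ∀ (X : Subgroup Ω) (hX : X ≤ S) (hXn : normalizerIn S X = S), Q < X →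
        CoprimeTrivial (normSys E X hX hXn) p
    swap
    · push Not at hXt
      obtain ⟨X, hX, hXn, hQX, hXt⟩ := hXt
      exact hrec X hX hXn (fun h => hQX.not_ge h) hXt
    refine absurd (coprimeTrivial_of_normal hS hE hQn (fun R hR hQR α hα hc x hx => ?_)
      (mod_of_thompson hS hE hEfree hQn hne (fun Ω' _ S' _ F' _ => coprimeTrivial_of_thompson Ω' S' F') fun X hX hXn hQX _ => trivialAt_of_normSys hXn hX (hXt X hX hXn hQX))) hEt
    haveI := finite_of_le hQn.1
    haveI := finite_of_le hY
    have hm := (isMap_of_autGroup hR hα).mono hQR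
    have hiQ : img Q (toFun (R.subtype.comp α.toMonoidHom)) = Q :=
      StronglyClosed.img_eq hQc hm le_rfl
    obtain ⟨g, hg, hgx⟩ := receptive_extend_centralizer
      (receptive_of_fullyNormalized hS hE (IsNormal.fullyNormalized hQn)) hm hiQ
    have hiY : img Y g = Y := StronglyClosed.img_eq hYc hg le_rfl
    -- the restriction of `α` to `Q`
    obtain ⟨k, hk⟩ : ∃ k, hg.toAut hiY ^ p ^ k = 1 := by
      obtain ⟨j, hj⟩ := exists_coprime_pow (p := p) (hg.toAut hiY) (isOfFinOrder_of_finite _)
      exact ⟨j, eq_one_of_coprimeTrivial_normSys hYt le_rfl hY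
        (Subgroup.pow_mem _ (hg.toAut_mem hiY) _) (fun y _ => SetLike.coe_mem _) hj⟩
    have hval : ∀ (n : ℕ) (y : Ω) (hy : y ∈ Q), (((hg.toAut hiY ^ n) ⟨y, Subgroup.mem_sup_left hy⟩ : Y) :
        Ω) = ((α ^ n) ⟨y, hQR hy⟩ : R) := by
      intro n
      induction n with
      | zero => intro y hy; rfl
      | succ n ih =>
        intro y hy
        rw [pow_succ, MulAut.mul_apply, pow_succ, MulAut.mul_apply]
        have h1 : g y ∈ Q := by
          rw [hgx y hy]
          exact StronglyClosed.apply_mem hQc hm hy hy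
        rw [show hg.toAut hiY ⟨y, Subgroup.mem_sup_left hy⟩ = ⟨g y, Subgroup.mem_sup_left h1⟩ from
          Subtype.ext (IsMap.toAut_apply hg hiY _), ih (g y) h1]
        congr 2
        refine Subtype.ext ?_
        show g y = _
        rw [hgx y hy, toFun_aut_apply α (hQR hy)]
    obtain ⟨m, hm'⟩ := exists_pow_eq_self_of_coprime (hc.pow_right k).symm
    have h1 := hval (p ^ k * m) x hx
    rw [pow_mul, hk, one_pow, pow_mul, hm'] at h1
    exact h1.symm

/-- If every characteristic subgroup of `S` has a `p`-group of automorphisms, the system has no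
automorphisms of order prime to `p`. -/
theorem coprimeTrivial_of_characteristic_free (hfree : ThompsonFreeSys F p)
    (h : ∀ Q : Subgroup Ω, Q ≤ S → Q ≠ ⊥ → (Q.subgroupOf S).Characteristic →
      IsPGroup p (F.autGroup Q)) : CoprimeTrivial F p := by
  suffices H : ∀ (n : ℕ) (Q : Subgroup Ω) (E : FusionSystem S), Nat.card S - Nat.card Q = n →
      E ≤ F → E.IsSaturated p → ThompsonFreeSys E p → E.IsNormal Q → (Q.subgroupOf S).Characteristic →
      CoprimeTrivial E p from
    H _ ⊥ F rfl (fun _ => Set.Subset.rfl) hF hfree isNormal_bot (by rw [Subgroup.bot_subgroupOf]; infer_instance)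
  intro n
  induction n using Nat.strong_induction_on with
  | _ n ih =>
    intro Q E hn hle hE hEfree hQn hQchar
    have hfix : ∀ R ≤ S, Q ≤ R → ∀ α ∈ E.autGroup R, (orderOf α).Coprime p →
        ∀ x : R, (x : Ω) ∈ Q → ((α x : R) : Ω) = x := by
      intro R hR hQR α hα hc x hx
      rcases eq_or_ne Q ⊥ with rfl | hQ0
      · rw [Subgroup.mem_bot] at hx
        have : x = 1 := Subtype.ext hx
        rw [this, map_one]
      refine fixes_of_pGroup (F := F) hQn.1 hQR hR (h Q hQn.1 hQ0 hQchar) ?_ hc
        (fun y hy => ?_) x hx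
      · exact (autGroup_iff_isMap hR fun y => (toFun_aut_apply α y.2).symm).2
          (le_iff_isMap.1 hle _ _ (isMap_of_autGroup hR hα))
      · have := StronglyClosed.apply_mem (IsNormal.stronglyClosed hQn) (isMap_of_autGroup hR hα)
          y.2 hy
        rwa [toFun_aut_apply α y.2] at this
    by_cases hne : Q = S
    · intro R hR α hα hc
      obtain ⟨g, hg, hgx, hgQ⟩ := (isNormal_iff.1 hQn).2 R _ (isMap_of_autGroup hR hα)
      have hRQ : R ⊔ Q = S := by rw [hne, sup_eq_right.2 hR]
      haveI := finite_of_le hg.le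
      have hi : img (R ⊔ Q) g = R ⊔ Q := by
        rw [hg.img_sup le_sup_left le_sup_right, hgQ, img_congr hgx, img_toFun_aut]
      refine eq_one_of_extension hg hi le_sup_left
        (fun x => (hgx x x.2).trans (toFun_aut_apply α x.2)) hc fun n hn => ?_
      refine MulEquiv.ext fun x => Subtype.ext ?_
      exact hfix _ hRQ.le le_sup_right _ (Subgroup.pow_mem _ (hg.toAut_mem hi) _) hn x
        (hne.ge (hRQ.le x.2))
    refine coprimeTrivial_of_normal hS hE hQn hfix (mod_of_thompson hS hE hEfree hQn hne
      (fun Ω' _ S' _ F' _ => coprimeTrivial_of_thompson Ω' S' F') fun X hX hXn hQX hchar =>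
      trivialAt_of_normSys hXn hX (ih _ ?_ X (normSys E X hX hXn) rfl
        (fun P => (normSys_le hX hXn P).trans (hle P)) (isSaturated_normSys hS hE hX hXn)
        (thompsonFreeSys_normSys hS hE hX hXn hEfree) (isNormal_normSys_self hX hXn) (hchar hQchar)))
    haveI := finite_of_le hX
    have h2 : Nat.card Q < Nat.card X :=
      lt_of_not_ge fun h3 => hQX.ne (eq_of_le_of_card_le hQX.le h3)
    have h3 := Subgroup.card_le_of_le hX
    omega

end Quotient

end CfsgLib.Fusion
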