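import Cfsg.Agent.Lib.Fusion.Biset
import Cfsg.Agent.Lib.Fusion.HyperFocal
import Cfsg.Agent.Lib.Fusion.Center
import Cfsg.Agent.Lib.Solvable.Nilpotent

/-!
Transfer in saturated fusion systems through the characteristic biset, and Tate's theorem: the
hyperfocal subgroup has no proper subgroup normal in `S` supplementing it modulo the Frattini
subgroup.
-/

set_option autoImplicit false
set_option linter.style.haveILetI false
set_option linter.unusedVariables false
set_option linter.unusedSectionVars false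

namespace CfsgLib.Fusion

open Cfsg Cfsg.FusionSystem Subgroup MulAction
open scoped commutatorElement

universe u

variable {Ω : Type u} [Group Ω] {S : Subgroup Ω} {F : FusionSystem S}
  {P : Subgroup Ω} {f : Ω → Ω} {p : ℕ} [Finite S] {c : Subgroup (↥S × ↥S) → ℕ}

/-! ### The orbits of the right action -/

/-- The relation of lying in one orbit of `1 × S`. -/
def rightSetoid (c : Subgroup (↥S × ↥S) → ℕ) : Setoid (BSet c) where
  r w w' := ∃ s : S, ((1, s) : ↥S × ↥S) • w = w'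
  iseqv := ⟨fun w => ⟨1, one_smul _ w⟩, fun {w w'} ⟨s, h⟩ => ⟨s⁻¹, by
    rw [← h, ← mul_smul]
    simp [Prod.mk_mul_mk, Prod.mk_one_one]⟩, fun {a b d} ⟨s, h⟩ ⟨t, h'⟩ => ⟨t * s, by
    rw [← h', ← h, ← mul_smul]
    simp [Prod.mk_mul_mk, Prod.mk_one_one]⟩⟩

/-- The orbits of `1 × S`. -/
def RightOrb (c : Subgroup (↥S × ↥S) → ℕ) : Type u := Quotient (rightSetoid c)

/-- The orbit of a point. -/
def toOrb (w : BSet c) : RightOrb c := Quotient.mk (rightSetoid c) w

theorem toOrb_eq {w w' : BSet c} : toOrb w = toOrb w' ↔ ∃ s : S, ((1, s) : ↥S × ↥S) • w = w' :=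
  ⟨fun h => Quotient.exact h, fun h => Quotient.sound h⟩

theorem toOrb_right (s : S) (w : BSet c) : toOrb (((1, s) : ↥S × ↥S) • w) = toOrb w :=
  (toOrb_eq.2 ⟨s, rfl⟩).symm

theorem toOrb_surjective : Function.Surjective (toOrb (c := c)) :=
  Quotient.mk_surjective

noncomputable instance : Finite (RightOrb c) := Finite.of_surjective _ toOrb_surjective

noncomputable instance : MulAction S (RightOrb c) where
  smul x := Quotient.map (fun w => ((x, 1) : ↥S × ↥S) • w) fun w w' ⟨s, h⟩ => ⟨s, by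
    rw [← h, ← mul_smul, ← mul_smul]
    simp [Prod.mk_mul_mk, Prod.mk_one_one]⟩
  one_smul q := by
    obtain ⟨w, rfl⟩ := toOrb_surjective q
    exact congrArg toOrb (one_smul (↥S × ↥S) w)
  mul_smul x y q := by
    obtain ⟨w, rfl⟩ := toOrb_surjective q
    show toOrb (((x * y, 1) : ↥S × ↥S) • w) = toOrb (((x, 1) : ↥S × ↥S) • ((y, 1) : ↥S × ↥S) • w)
    congr 1
    rw [← mul_smul]
    simp [Prod.mk_mul_mk]

theorem smul_toOrb (x s : S) (w : BSet c) :
    x • toOrb w = toOrb (((x, s) : ↥S × ↥S) • w) := by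
  have h : ((x, s) : ↥S × ↥S) • w = ((1, s) : ↥S × ↥S) • ((x, 1) : ↥S × ↥S) • w := by
    rw [← mul_smul]
    simp [Prod.mk_mul_mk, Prod.mk_one_one]
  rw [h, toOrb_right]
  rfl

/-- A section of the orbits. -/
def IsSection (σ : RightOrb c → BSet c) : Prop := ∀ ω, toOrb (σ ω) = ω

theorem right_free (hsupp : Supported F c) {s t : S} {w : BSet c}
    (h : ((1, s) : ↥S × ↥S) • w = ((1, t) : ↥S × ↥S) • w) : s = t := by
  have h1 : ((1, t⁻¹ * s) : ↥S × ↥S) ∈ stabilizer (↥S × ↥S) w := by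
    rw [mem_stabilizer_iff, show ((1, t⁻¹ * s) : ↥S × ↥S) = (1, t⁻¹) * (1, s) by simp,
      mul_smul, h, ← mul_smul]
    simp [Prod.mk_mul_mk, Prod.mk_one_one]
  exact (inv_mul_eq_one.1 ((isGraph_stabilizer hsupp w).eq_one_of_fst h1)).symm

theorem exists_shift {σ : RightOrb c → BSet c} (hσ : IsSection σ) (x : S) (ω : RightOrb c) :
    ∃ s : S, ((x, s) : ↥S × ↥S) • σ ω = σ (x • ω) := by
  have h : toOrb (((x, 1) : ↥S × ↥S) • σ ω) = toOrb (σ (x • ω)) := by
    rw [hσ, ← smul_toOrb, hσ]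
  obtain ⟨s, hs⟩ := toOrb_eq.1 h
  refine ⟨s, ?_⟩
  rw [← hs, ← mul_smul]
  simp [Prod.mk_mul_mk, Prod.mk_one_one]

open Classical in
/-- The second component of the cocycle of a section. -/
noncomputable def shift (σ : RightOrb c → BSet c) (x : S) (ω : RightOrb c) : S :=
  Classical.epsilon fun s : S => ((x, s) : ↥S × ↥S) • σ ω = σ (x • ω)

theorem shift_spec {σ : RightOrb c → BSet c} (hσ : IsSection σ) (x : S) (ω : RightOrb c) :
    ((x, shift σ x ω) : ↥S × ↥S) • σ ω = σ (x • ω) :=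
  Classical.epsilon_spec (p := fun s : S => ((x, s) : ↥S × ↥S) • σ ω = σ (x • ω))
    (exists_shift hσ x ω)

theorem shift_unique (hsupp : Supported F c) {σ : RightOrb c → BSet c} (hσ : IsSection σ)
    {x s : S} {ω : RightOrb c} (h : ((x, s) : ↥S × ↥S) • σ ω = σ (x • ω)) :
    shift σ x ω = s := by
  have h' := shift_spec hσ x ω
  refine right_free hsupp (w := ((x, 1) : ↥S × ↥S) • σ ω) ?_
  rw [← mul_smul, ← mul_smul]
  simp only [Prod.mk_mul_mk, one_mul, mul_one]
  rw [h', h]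

theorem shift_mul (hsupp : Supported F c) {σ : RightOrb c → BSet c} (hσ : IsSection σ)
    (y x : S) (ω : RightOrb c) :
    shift σ (y * x) ω = shift σ y (x • ω) * shift σ x ω := by
  refine shift_unique hsupp hσ ?_
  rw [show ((y * x, shift σ y (x • ω) * shift σ x ω) : ↥S × ↥S) =
    (y, shift σ y (x • ω)) * (x, shift σ x ω) from rfl, mul_smul, shift_spec hσ, shift_spec hσ,
    mul_smul]

/-- The number of orbits of `1 × S`. -/
theorem card_rightOrb (hsupp : Supported F c) :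
    Nat.card (RightOrb c) = ∑ᶠ E, c E * (Nat.card S / Nat.card E) := by
  classical
  haveI : Fintype (Subgroup (↥S × ↥S)) := Fintype.ofFinite _
  choose σ hσ using fun ω => toOrb_surjective (c := c) ω
  have e : RightOrb c × S ≃ BSet c := Equiv.ofBijective
    (fun q => ((1, q.2) : ↥S × ↥S) • σ q.1) ⟨fun ⟨ω, s⟩ ⟨ω', t⟩ h => by
      have h1 : ω = ω' := by
        have := congrArg toOrb h
        simpa only [toOrb_right, hσ] using this
      subst h1
      exact Prod.ext rfl (right_free hsupp h), fun w => by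
      obtain ⟨s, hs⟩ := toOrb_eq.1 (hσ (toOrb w))
      exact ⟨(toOrb w, s), hs⟩⟩
  have hX : Nat.card (BSet c) = ∑ E, c E * E.index := by
    have e2 : BSet c ≃ Σ E : Subgroup (↥S × ↥S), Fin (c E) × ((↥S × ↥S) ⧸ E) :=
      { toFun := fun w => ⟨w.orb, w.idx, w.pt⟩
        invFun := fun z => ⟨z.1, z.2.1, z.2.2⟩
        left_inv := fun w => rfl
        right_inv := fun z => rfl }
    rw [Nat.card_congr e2, Nat.card_sigma]
    simp only [Nat.card_prod, Nat.card_fin, Subgroup.index]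
  have hidx : ∀ E, c E * E.index = c E * (Nat.card S / Nat.card E) * Nat.card S := by
    intro E
    by_cases h : c E = 0
    · simp [h]
    · have hg := hsupp E h
      have hdvd : Nat.card E ∣ Nat.card S := hg.card_pr₁ ▸ Subgroup.card_dvd_of_le (pr₁_le E)
      have h2 := E.card_mul_index
      rw [Nat.card_prod] at h2
      rw [mul_assoc]
      congr 1
      refine Nat.eq_of_mul_eq_mul_left (n := Nat.card E) Nat.card_pos ?_
      rw [h2, ← mul_assoc, Nat.mul_div_cancel' hdvd]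
  have h3 := Nat.card_congr e
  rw [Nat.card_prod, hX, Finset.sum_congr rfl fun E _ => hidx E, ← Finset.sum_mul] at h3
  rw [finsum_eq_sum_of_fintype]
  exact Nat.eq_of_mul_eq_mul_right Nat.card_pos h3

/-- The shifts of `σ` on `H` are congruent to the acting elements modulo `T`. -/
def Adapted (σ : RightOrb c → BSet c) (H T : Subgroup S) : Prop :=
  ∀ x ∈ H, ∀ ω, x⁻¹ * shift σ x ω ∈ T

open Classical in
theorem exists_adapted (hsupp : Supported F c) (H T : Subgroup S) [T.Normal]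
    (hG : ∀ w : BSet c, ∃ a : S, ∀ q ∈ stabilizer (↥S × ↥S) w, q.1 ∈ H →
      (a * q.1 * a⁻¹)⁻¹ * q.2 ∈ T) :
    ∃ σ : RightOrb c → BSet c, IsSection σ ∧ Adapted σ H T := by
  have hbase : ∀ ω : RightOrb c, ∃ w₀, toOrb w₀ = ω ∧ ∀ q ∈ stabilizer (↥S × ↥S) w₀, q.1 ∈ H →
      q.1⁻¹ * q.2 ∈ T := by
    intro ω
    obtain ⟨w, rfl⟩ := toOrb_surjective ω
    obtain ⟨a, ha⟩ := hG w
    refine ⟨((1, a⁻¹) : ↥S × ↥S) • w, toOrb_right _ _, fun q hq hqH => ?_⟩
    have h1 : ((1, a) : ↥S × ↥S) * q * (1, a⁻¹) ∈ stabilizer (↥S × ↥S) w := by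
      rw [mem_stabilizer_iff, mul_smul, mul_smul, hq, ← mul_smul]
      simp [Prod.mk_mul_mk, Prod.mk_one_one]
    have h2 := ha _ h1 (by simpa using hqH)
    have h3 := (‹T.Normal›).conj_mem _ h2 a⁻¹
    simpa [mul_assoc] using h3
  choose w₀ hw₀ hstab using hbase
  set base : RightOrb c → RightOrb c := fun ω => (Quotient.mk (orbitRel H (RightOrb c)) ω).out
    with hbasedef
  have hrep : ∀ ω, ∃ h : H, h • base ω = ω := fun ω => by
    have h1 : (orbitRel H (RightOrb c)) (base ω) ω := Quotient.exact (Quotient.out_eq _)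
    obtain ⟨h, hh⟩ := orbitRel_apply.1 h1
    exact ⟨h⁻¹, by rw [inv_smul_eq_iff]; exact hh.symm⟩
  choose hel hhel using hrep
  set σ : RightOrb c → BSet c :=
    fun ω => (((hel ω : S), (hel ω : S)) : ↥S × ↥S) • w₀ (base ω) with hσdef
  have hσ : IsSection σ := fun ω => by
    rw [hσdef, ← smul_toOrb, hw₀]
    exact hhel ω
  refine ⟨σ, hσ, fun y hy ω => ?_⟩
  have hb : base (y • ω) = base ω := by
    simp only [hbasedef]
    congr 1
    exact Quotient.sound (orbitRel_apply.2 ⟨⟨y, hy⟩, rfl⟩)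
  have h1 := shift_spec hσ y ω
  simp only [hσdef, hb] at h1
  set h := (hel ω : S)
  set h' := (hel (y • ω) : S)
  set s := shift σ y ω
  have hq : (h'⁻¹ * (y * h), h'⁻¹ * (s * h)) ∈ stabilizer (↥S × ↥S) (w₀ (base ω)) := by
    rw [mem_stabilizer_iff, show ((h'⁻¹ * (y * h), h'⁻¹ * (s * h)) : ↥S × ↥S) =
      ((h', h') : ↥S × ↥S)⁻¹ * ((y, s) * (h, h)) from rfl, mul_smul, mul_smul, h1, inv_smul_smul]
  have h2 := hstab (base ω) _ hq (H.mul_mem (H.inv_mem (hel _).2) (H.mul_mem hy (hel ω).2))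
  have h3 : h⁻¹ * (y⁻¹ * s) * h ∈ T := by simpa [mul_assoc] using h2
  have h4 := (‹T.Normal›).conj_mem _ h3 h
  simpa [mul_assoc] using h4

/-- The stabilizers of a characteristic biset are conjugations modulo the hyperfocal subgroup. -/
theorem stabilizer_conj_mod [Fact p.Prime] (hS : IsPGroup p S) (hF : F.IsSaturated p)
    (hsupp : Supported F c) (T : Subgroup S)
    (hT : (F.hyperfocalSubgroup p).subgroupOf S ≤ T) (w : BSet c) :
    ∃ a : S, ∀ q ∈ stabilizer (↥S × ↥S) w, (a * q.1 * a⁻¹)⁻¹ * q.2 ∈ T := by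
  obtain ⟨f, hf, hfx⟩ := isGraph_stabilizer hsupp w
  obtain ⟨a, ha, hax⟩ := exists_conj_mod_hyperfocal hS hF hf
  refine ⟨⟨a, ha⟩, fun q hq => hT ?_⟩
  have h1 := hax _ (mem_pr₁.2 ⟨q, hq, rfl⟩)
  rw [← hfx q hq] at h1
  exact h1

/-! ### The product over a section -/

section Prod

variable {A : Type*} [CommGroup A] {hh : S → A} {T : Subgroup S}

theorem prod_shift_eq_of_sections [T.Normal] [Fintype (RightOrb c)] (hsupp : Supported F c)
    (hmul : ∀ a ∈ T, ∀ b ∈ T, hh (a * b) = hh a * hh b)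
    (hconj : ∀ g : S, ∀ t ∈ T, hh (g * t * g⁻¹) = hh t)
    {σ σ' : RightOrb c → BSet c} (hσ : IsSection σ) (hσ' : IsSection σ') {x : S}
    (h : ∀ ω, shift σ x ω ∈ T) (h' : ∀ ω, shift σ' x ω ∈ T) :
    ∏ ω, hh (shift σ' x ω) = ∏ ω, hh (shift σ x ω) := by
  choose u hu using fun ω => toOrb_eq.1 ((hσ ω).trans (hσ' ω).symm)
  have hs : ∀ ω, shift σ' x ω = u (x • ω) * shift σ x ω * (u ω)⁻¹ := fun ω => by
    refine shift_unique hsupp hσ' ?_
    rw [← hu ω, ← hu (x • ω), ← shift_spec hσ x ω, ← mul_smul, ← mul_smul]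
    simp [Prod.mk_mul_mk, mul_assoc]
  set r : RightOrb c → S := fun ω => (QuotientGroup.mk (u ω) : S ⧸ T).out with hr
  set t : RightOrb c → S := fun ω => (r ω)⁻¹ * u ω with ht
  have htT : ∀ ω, t ω ∈ T := fun ω => QuotientGroup.eq.1 (QuotientGroup.out_eq' _)
  have hrr : ∀ ω, r (x • ω) = r ω := fun ω => by
    simp only [hr]
    congr 1
    rw [QuotientGroup.eq]
    have h1 := h' ω
    rw [hs] at h1
    have h2 := T.mul_mem (T.inv_mem h1) (‹T.Normal›.conj_mem _ (h ω) (u (x • ω)))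
    have h3 := ‹T.Normal›.conj_mem _ h2 (u (x • ω))⁻¹
    simpa [mul_assoc] using h3
  have heach : ∀ ω, hh (shift σ' x ω) * hh (t ω) = hh (t (x • ω)) * hh (shift σ x ω) := by
    intro ω
    have e1 : shift σ' x ω =
        r ω * (t (x • ω) * shift σ x ω * (t ω)⁻¹) * (r ω)⁻¹ := by
      rw [hs, ht]
      simp only [hrr, mul_inv_rev, inv_inv, mul_assoc, mul_inv_cancel_left, mul_inv_cancel, mul_one]
    have hm1 : t (x • ω) * shift σ x ω ∈ T := T.mul_mem (htT _) (h ω)
    rw [e1, hconj _ _ (T.mul_mem hm1 (T.inv_mem (htT ω))), ← hmul _ (T.mul_mem hm1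
      (T.inv_mem (htT ω))) _ (htT ω), inv_mul_cancel_right, hmul _ (htT _) _ (h ω)]
  have hprod := Finset.prod_congr (s₁ := Finset.univ) rfl fun ω _ => heach ω
  rw [Finset.prod_mul_distrib, Finset.prod_mul_distrib,
    show (∏ ω, hh (t (x • ω))) = ∏ ω, hh (t ω) from
      Equiv.prod_comp (MulAction.toPerm x) (fun ω => hh (t ω)),
    mul_comm (∏ ω, hh (t ω))] at hprod
  exact mul_right_cancel hprod

/-- The product is invariant under the maps of the system. -/
theorem prod_shift_stable [T.Normal] [Fintype (RightOrb c)] (hsupp : Supported F c)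
    (hst : StableAbove F c 0)
    (hmul : ∀ a ∈ T, ∀ b ∈ T, hh (a * b) = hh a * hh b)
    (hconj : ∀ g : S, ∀ t ∈ T, hh (g * t * g⁻¹) = hh t)
    {σ : RightOrb c → BSet c} (hσ : IsSection σ) (hT : ∀ x ∈ T, ∀ ω, shift σ x ω ∈ T)
    (hf : IsMap F P f) {x y : S} (hx : (x : Ω) ∈ P) (hy : (y : Ω) = f x) (hxT : x ∈ T)
    (hyT : y ∈ T) :
    ∏ ω, hh (shift σ y ω) = ∏ ω, hh (shift σ x ω) := by
  obtain ⟨e, he1, he2⟩ := exists_stable_equiv hsupp hst hf
  let ebar : RightOrb c ≃ RightOrb c := Quotient.congr e fun w w' => by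
    constructor
    · rintro ⟨s, rfl⟩
      exact ⟨s, (he1 s w).symm⟩
    · rintro ⟨s, hs⟩
      exact ⟨s, e.injective (by rw [he1, hs])⟩
  have hebar : ∀ w, ebar (toOrb w) = toOrb (e w) := fun w => rfl
  set σ' : RightOrb c → BSet c := fun ω => e (σ (ebar.symm ω)) with hσ'def
  have hσ' : IsSection σ' := fun ω => by
    show toOrb (e (σ (ebar.symm ω))) = ω
    rw [← hebar, hσ, Equiv.apply_symm_apply]
  have hact : ∀ (s : S) (w : BSet c),
      e (((x, s) : ↥S × ↥S) • w) = ((y, s) : ↥S × ↥S) • e w := fun s w => by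
    rw [show ((x, s) : ↥S × ↥S) = (1, s) * (x, 1) by simp,
      show ((y, s) : ↥S × ↥S) = (1, s) * (y, 1) by simp, mul_smul, mul_smul, he1,
      he2 x y hx hy]
  have hsh : ∀ ω, shift σ' y ω = shift σ x (ebar.symm ω) := by
    intro ω
    obtain ⟨ν, rfl⟩ := ebar.surjective ω
    refine shift_unique hsupp hσ' ?_
    have hν : y • ebar ν = ebar (x • ν) := by
      obtain ⟨w, rfl⟩ := toOrb_surjective ν
      rw [smul_toOrb x 1 w, hebar, hebar, smul_toOrb y 1, hact]
    show _ • e (σ (ebar.symm (ebar ν))) = e (σ (ebar.symm (y • ebar ν)))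
    rw [hν, Equiv.symm_apply_apply, Equiv.symm_apply_apply, ← shift_spec hσ x ν, hact]
  rw [← prod_shift_eq_of_sections hsupp hmul hconj hσ hσ' (hT y hyT)
    fun ω => hsh ω ▸ hT x hxT _, Finset.prod_congr rfl fun ω _ => by rw [hsh ω]]
  exact Equiv.prod_comp ebar.symm fun ω => hh (shift σ x ω)

end Prod

/-! ### Transfer to a commutative group -/

section Transfer

variable [Fact p.Prime] (hS : IsPGroup p S) (hF : F.IsSaturated p)

include hS hF

/-- The transfer of a homomorphism into a commutative group: invariant under the maps of the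
system, and a power prime to `p` of the homomorphism on the centre of the system. -/
theorem exists_transfer {A : Type*} [CommGroup A] (χ : S →* A) :
    ∃ (m : ℕ) (V : S →* A), ¬ p ∣ m ∧
      (∀ (P : Subgroup Ω) (f : Ω → Ω) (x y : S), IsMap F P f → (x : Ω) ∈ P → (y : Ω) = f x →
        V y = V x) ∧
      ∀ z : S, (z : Ω) ∈ F.center → V z = χ z ^ m := by
  classical
  obtain ⟨c, hsupp, hst, hm⟩ := exists_charBiset hS hF
  rw [← card_rightOrb hsupp] at hm
  haveI : Fintype (RightOrb c) := Fintype.ofFinite _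
  choose σ hσ using fun ω => toOrb_surjective (c := c) ω
  let V : S →* A := MonoidHom.mk' (fun x => ∏ ω, χ (shift σ x ω)) fun y x => by
    simp only [shift_mul hsupp hσ, map_mul, Finset.prod_mul_distrib]
    congr 1
    exact Equiv.prod_comp (MulAction.toPerm x) fun ω => χ (shift σ y ω)
  have hmul : ∀ a ∈ (⊤ : Subgroup S), ∀ b ∈ (⊤ : Subgroup S), χ (a * b) = χ a * χ b :=
    fun a _ b _ => map_mul χ a b
  have hconj : ∀ g : S, ∀ t ∈ (⊤ : Subgroup S), χ (g * t * g⁻¹) = χ t := fun g t _ => by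
    rw [map_mul, map_mul, map_inv, mul_inv_cancel_comm]
  refine ⟨Nat.card (RightOrb c), V, hm, fun P f x y hf hx hy => ?_, fun z hz => ?_⟩
  · exact prod_shift_stable hsupp hst hmul hconj hσ (fun _ _ _ => Subgroup.mem_top _) hf hx hy
      (Subgroup.mem_top _) (Subgroup.mem_top _)
  · obtain ⟨σ', hσ', had⟩ := exists_adapted hsupp (Subgroup.zpowers z) ⊥ fun w => by
      refine ⟨1, fun q hq hqz => ?_⟩
      obtain ⟨f, hf, hfx⟩ := isGraph_stabilizer hsupp w
      have hq1 : (q.1 : Ω) ∈ F.center := by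
        obtain ⟨i, hi⟩ := Subgroup.mem_zpowers_iff.1 hqz
        rw [← hi, Subgroup.coe_zpow]
        exact Subgroup.zpow_mem _ hz i
      have h1 := ((mem_center_iff hS hF).1 hq1).2 _ f hf (mem_pr₁.2 ⟨q, hq, rfl⟩)
      rw [← hfx q hq] at h1
      rw [Subgroup.mem_bot, Subtype.ext h1]
      group
    show ∏ ω, χ (shift σ z ω) = _
    rw [← prod_shift_eq_of_sections (T := ⊤) hsupp hmul hconj hσ hσ' (fun _ => Subgroup.mem_top _)
      (fun _ => Subgroup.mem_top _), Finset.prod_congr rfl fun ω _ => by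
        rw [← inv_mul_eq_one.1 (Subgroup.mem_bot.1 (had z (Subgroup.mem_zpowers z) ω))],
      Finset.prod_const, Finset.card_univ, Nat.card_eq_fintype_card]

/-- Tate: a normal subgroup of index `p` in the hyperfocal subgroup does not supplement it modulo
the Frattini subgroup. -/
theorem hyperfocal_not_le_sup_frattini (M : Subgroup S) [M.Normal]
    (hM : M ≤ (F.hyperfocalSubgroup p).subgroupOf S)
    (hidx : M.relIndex ((F.hyperfocalSubgroup p).subgroupOf S) = p) :
    ¬ (F.hyperfocalSubgroup p).subgroupOf S ≤ M ⊔ frattini S := by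
  classical
  intro hle
  set T := (F.hyperfocalSubgroup p).subgroupOf S with hTdef
  haveI : T.Normal := hyperfocal_subgroupOf_normal F p
  set π := QuotientGroup.mk' M
  set A := T.map π with hAdef
  haveI hAn : A.Normal := Subgroup.Normal.map inferInstance π (QuotientGroup.mk'_surjective M)
  haveI : Group.IsNilpotent (S ⧸ M) := (hS.to_quotient M).isNilpotent
  have hcardA : Nat.card A = p := by
    rw [hAdef, ← hidx, Subgroup.relIndex, Subgroup.index]
    refine Nat.card_congr ((?_ : T ⧸ M.subgroupOf T ≃ A)).symm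
    refine ((QuotientGroup.quotientMulEquivOfEq ?_).trans
      (QuotientGroup.quotientKerEquivRange (π.comp T.subtype))).toEquiv.trans (Equiv.setCongr ?_)
    · rw [← MonoidHom.comap_ker, QuotientGroup.ker_mk']
      rfl
    · rw [MonoidHom.range_comp, Subgroup.range_subtype]
  have hA1 : A ≠ ⊥ := fun h => by
    rw [h, Subgroup.card_bot] at hcardA
    exact (Fact.out : p.Prime).one_lt.ne hcardA
  have hAc : A ≤ Subgroup.center (S ⧸ M) := by
    have hne := CfsgLib.Solvable.normal_inf_center_ne_bot A hA1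
    haveI : Finite A := inferInstance
    have hd := Subgroup.card_dvd_of_le (inf_le_left : A ⊓ Subgroup.center (S ⧸ M) ≤ A)
    rw [hcardA] at hd
    rcases (Nat.dvd_prime Fact.out).1 hd with h | h
    · exact absurd (Subgroup.card_eq_one.1 h) hne
    · exact (eq_of_le_of_card_le (inf_le_left : A ⊓ Subgroup.center (S ⧸ M) ≤ A)
        (hcardA.trans h.symm).le) ▸ inf_le_right
  have hApow : ∀ a ∈ A, a ^ p = 1 := fun a ha => by
    have h := pow_card_eq_one' (x := (⟨a, ha⟩ : A))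
    rw [hcardA] at h
    exact congrArg Subtype.val h
  letI : CommGroup (Subgroup.center (S ⧸ M)) :=
    { (inferInstance : Group (Subgroup.center (S ⧸ M))) with
      mul_comm := fun a b => Subtype.ext (Subgroup.mem_center_iff.1 b.2 a) }
  let hh : S → Subgroup.center (S ⧸ M) := fun s =>
    if h : π s ∈ Subgroup.center (S ⧸ M) then ⟨π s, h⟩ else 1
  have hval : ∀ t ∈ T, (hh t : S ⧸ M) = π t := fun t ht => by
    show ((if h : π t ∈ Subgroup.center (S ⧸ M) then (⟨π t, h⟩ : Subgroup.center (S ⧸ M)) else 1 :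
      Subgroup.center (S ⧸ M)) : S ⧸ M) = π t
    rw [dif_pos (hAc ⟨t, ht, rfl⟩)]
  have hmul : ∀ a ∈ T, ∀ b ∈ T, hh (a * b) = hh a * hh b := fun a ha b hb => Subtype.ext (by
    rw [Subgroup.coe_mul, hval _ (T.mul_mem ha hb), hval a ha, hval b hb, map_mul])
  have hconj : ∀ g : S, ∀ t ∈ T, hh (g * t * g⁻¹) = hh t := fun g t ht => Subtype.ext (by
    rw [hval _ (‹T.Normal›.conj_mem t ht g), hval t ht, map_mul, map_mul, map_inv,
      Subgroup.mem_center_iff.1 (hAc ⟨t, ht, rfl⟩) (π g), mul_inv_cancel_right])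
  have hhpow : ∀ t ∈ T, hh t ^ p = 1 := fun t ht => Subtype.ext (by
    rw [Subgroup.coe_pow, hval t ht]
    exact hApow _ ⟨t, ht, rfl⟩)
  obtain ⟨c, hsupp, hst, hm⟩ := exists_charBiset hS hF
  rw [← card_rightOrb hsupp] at hm
  haveI : Fintype (RightOrb c) := Fintype.ofFinite _
  rw [Nat.card_eq_fintype_card] at hm
  set m := Fintype.card (RightOrb c)
  obtain ⟨σ, hσ, had⟩ := exists_adapted hsupp ⊤ T fun w => by
    obtain ⟨a, ha⟩ := stabilizer_conj_mod hS hF hsupp T le_rfl w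
    exact ⟨a, fun q hq _ => ha q hq⟩
  have hsT : ∀ x ω, x⁻¹ * shift σ x ω ∈ T := fun x ω => had x (Subgroup.mem_top x) ω
  have hTT : ∀ x ∈ T, ∀ ω, shift σ x ω ∈ T := fun x hx ω => by
    simpa using T.mul_mem hx (hsT x ω)
  let D : S →* Subgroup.center (S ⧸ M) :=
    MonoidHom.mk' (fun x => ∏ ω, hh (x⁻¹ * shift σ x ω)) fun y x => by
      have key : ∀ ω, hh ((y * x)⁻¹ * shift σ (y * x) ω) =
          hh (y⁻¹ * shift σ y (x • ω)) * hh (x⁻¹ * shift σ x ω) := fun ω => by
        rw [← hconj x⁻¹ _ (hsT y (x • ω)), ← hmul _ (‹T.Normal›.conj_mem _ (hsT y _) _) _ (hsT x ω),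
          shift_mul hsupp hσ]
        congr 1
        group
      simp only [key, Finset.prod_mul_distrib]
      congr 1
      exact Equiv.prod_comp (MulAction.toPerm x) fun ω => hh (y⁻¹ * shift σ y ω)
  have hV : ∀ x ∈ T, ∏ ω, hh (shift σ x ω) = hh x ^ m * D x := by
    intro x hx
    show _ = hh x ^ m * ∏ ω, hh (x⁻¹ * shift σ x ω)
    rw [show m = (Finset.univ : Finset (RightOrb c)).card from Finset.card_univ.symm,
      ← Finset.prod_const, ← Finset.prod_mul_distrib]
    exact Finset.prod_congr rfl fun ω _ => by rw [← hmul _ hx _ (hsT x ω), mul_inv_cancel_left]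
  have hone : hh 1 = 1 := by simpa using hmul 1 T.one_mem 1 T.one_mem
  let W : T →* Subgroup.center (S ⧸ M) :=
    MonoidHom.mk' (fun t => hh t ^ m * D t) fun a b => by
      rw [Subgroup.coe_mul, hmul _ a.2 _ b.2, map_mul, mul_pow]
      exact mul_mul_mul_comm _ _ _ _
  have hWp : ∀ t : T, W t ^ p = 1 := fun t => by
    show (hh (t : S) ^ m * D t) ^ p = 1
    rw [← hV _ t.2, ← Finset.prod_pow]
    exact Finset.prod_eq_one fun ω _ => hhpow _ (hTT _ t.2 ω)
  have hWker : ∀ t : T, W t = 1 := by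
    set K := (W.ker.map T.subtype).map S.subtype with hK
    suffices h : F.hyperfocalSubgroup p ≤ K by
      rintro ⟨t, ht⟩
      obtain ⟨_, ⟨t', ht', rfl⟩, htt⟩ := h ht
      obtain rfl : t' = ⟨t, ht⟩ := Subtype.ext (Subtype.ext htt)
      exact ht'
    refine hyperfocal_le_of _ fun P hP α hα hc x => ?_
    have hmem : ∀ j : ℕ, ∀ z : P, (z : Ω)⁻¹ * (((α ^ j) z : P) : Ω) ∈ F.hyperfocalSubgroup p :=
      fun j z => sub_mem_hyperfocal_of_coprime hP (Subgroup.pow_mem _ hα j)
        (Nat.Coprime.coprime_dvd_left (orderOf_pow_dvd j) hc) z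
    let el : ℕ → T := fun j => ⟨⟨(x : Ω)⁻¹ * (((α ^ j) x : P) : Ω),
      hyperfocal_le F p (hmem j x)⟩, hmem j x⟩
    have hel : ∀ j, (((el j : T) : S) : Ω) = (x : Ω)⁻¹ * (((α ^ j) x : P) : Ω) := fun j => rfl
    have hstep : ∀ j, W (el (j + 1)) = W (el j) * W (el 1) := by
      intro j
      set y : P := x⁻¹ * α x with hy
      have hα1 : ((y : P) : Ω) = (x : Ω)⁻¹ * ((α x : P) : Ω) := rfl
      have hyh : (((α ^ j) y : P) : Ω) ∈ F.hyperfocalSubgroup p := by
        have h1 := (F.hyperfocalSubgroup p).mul_mem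
          (show ((y : P) : Ω) ∈ F.hyperfocalSubgroup p by
            rw [hα1]
            simpa using hmem 1 x) (hmem j y)
        rwa [mul_inv_cancel_left] at h1
      set yj : T := ⟨⟨_, hP ((α ^ j) y).2⟩, hyh⟩
      have hWj : W yj = W (el 1) := by
        show hh (yj : S) ^ m * D yj = hh (el 1 : S) ^ m * D (el 1)
        rw [← hV _ yj.2, ← hV _ (el 1).2]
        refine prod_shift_stable hsupp hst hmul hconj hσ hTT
          (isMap_of_autGroup hP (Subgroup.pow_mem _ hα j)) (P := P) ?_ ?_ (el 1).2 yj.2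
        · show (x : Ω)⁻¹ * (((α ^ 1) x : P) : Ω) ∈ P
          exact P.mul_mem (P.inv_mem x.2) (SetLike.coe_mem _)
        · show (((α ^ j) y : P) : Ω) = toFun _ ((x : Ω)⁻¹ * (((α ^ 1) x : P) : Ω))
          rw [pow_one, ← hα1, toFun_aut_apply _ y.2]
      have he : el (j + 1) = el j * yj := by
        refine Subtype.ext (Subtype.ext ?_)
        show (x : Ω)⁻¹ * (((α ^ (j + 1)) x : P) : Ω) =
          (x : Ω)⁻¹ * (((α ^ j) x : P) : Ω) * (((α ^ j) y : P) : Ω)
        rw [pow_succ, MulAut.mul_apply, hy, map_mul, map_inv, Subgroup.coe_mul, Subgroup.coe_inv]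
        group
      rw [he, map_mul, hWj]
    have hj : ∀ j, W (el j) = W (el 1) ^ j := by
      intro j
      induction j with
      | zero =>
        have h0 : el 0 = 1 := Subtype.ext (Subtype.ext (by rw [hel]; simp))
        rw [h0, map_one, pow_zero]
      | succ j ih => rw [hstep, ih, pow_succ]
    have hn : W (el (orderOf α)) = 1 := by
      have h0 : el (orderOf α) = 1 := Subtype.ext (Subtype.ext (by
        rw [hel, pow_orderOf_eq_one]
        simp))
      rw [h0, map_one]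
    have h1 : W (el 1) = 1 := by
      refine orderOf_eq_one_iff.1 (Nat.eq_one_of_dvd_coprimes hc
        (orderOf_dvd_of_pow_eq_one ((hj _).symm.trans hn)) (orderOf_dvd_of_pow_eq_one (hWp _)))
    refine ⟨_, ⟨el 1, h1, rfl⟩, ?_⟩
    show (((el 1 : T) : S) : Ω) = _
    rw [hel, pow_one]
  obtain ⟨k, -, hk⟩ := Nat.exists_mul_mod_eq_one_of_coprime
    (((Fact.out : p.Prime).coprime_iff_not_dvd.2 hm).symm) (Fact.out : p.Prime).one_lt
  let Ψ : S →* S ⧸ M := MonoidHom.mk' (fun x => π x * ((D x ^ k : Subgroup.center (S ⧸ M)) : S ⧸ M))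
    fun a b => by
      have hc1 := Subgroup.mem_center_iff.1 (D a ^ k).2 (π b)
      rw [map_mul, map_mul, mul_pow, Subgroup.coe_mul]
      rw [show π a * π b * (((D a ^ k : Subgroup.center (S ⧸ M)) : S ⧸ M) *
        ((D b ^ k : Subgroup.center (S ⧸ M)) : S ⧸ M)) =
        π a * (π b * ((D a ^ k : Subgroup.center (S ⧸ M)) : S ⧸ M)) *
        ((D b ^ k : Subgroup.center (S ⧸ M)) : S ⧸ M) by simp only [mul_assoc], hc1]
      simp only [mul_assoc]
  have hker : T ≤ Ψ.ker := by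
    intro t ht
    have h1 : hh t ^ m * D t = 1 := hWker ⟨t, ht⟩
    show π t * ((D t ^ k : Subgroup.center (S ⧸ M)) : S ⧸ M) = 1
    have h2 : D t ^ k = (hh t ^ (m * k))⁻¹ := by
      rw [eq_inv_of_mul_eq_one_right h1, inv_pow, pow_mul]
    rw [h2, ← Nat.mod_add_div (m * k) p, hk, pow_add, pow_one, pow_mul, hhpow t ht, one_pow,
      mul_one, Subgroup.coe_inv, hval t ht, mul_inv_cancel]
  have hDA : ∀ x, ((D x : Subgroup.center (S ⧸ M)) : S ⧸ M) ∈ A := fun x => by
    show ((∏ ω, hh (x⁻¹ * shift σ x ω) : Subgroup.center (S ⧸ M)) : S ⧸ M) ∈ A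
    refine Finset.prod_induction _ (fun z : Subgroup.center (S ⧸ M) => (z : S ⧸ M) ∈ A)
      (fun a b ha hb => A.mul_mem ha hb) A.one_mem fun ω _ => ?_
    rw [hval _ (hsT x ω)]
    exact ⟨_, hsT x ω, rfl⟩
  have hAΦ : A ≤ frattini (S ⧸ M) := by
    refine le_iInf₂ fun K hK => ?_
    intro a ha
    obtain ⟨t, ht, rfl⟩ := ha
    have h1 : M ⊔ frattini S ≤ K.comap π := by
      refine sup_le (fun z hz => ?_) (frattini_le_coatom ?_)
      · show π z ∈ K
        rw [show π z = 1 from (QuotientGroup.eq_one_iff z).2 hz]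
        exact K.one_mem
      · exact Subgroup.isCoatom_comap_of_surjective (QuotientGroup.mk'_surjective M) hK
    exact h1 (hle ht)
  have htop : Ψ.range = ⊤ := frattini_nongenerating (top_le_iff.1 fun y _ => by
    obtain ⟨x, rfl⟩ := QuotientGroup.mk'_surjective M y
    have h1 : π x = Ψ x * (((D x ^ k : Subgroup.center (S ⧸ M)) : S ⧸ M))⁻¹ := by
      show π x = π x * _ * _
      rw [mul_inv_cancel_right]
    rw [show QuotientGroup.mk' M x = π x from rfl, h1]
    refine Subgroup.mul_mem_sup ⟨x, rfl⟩ (Subgroup.inv_mem _ (hAΦ ?_))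
    rw [Subgroup.coe_pow]
    exact A.pow_mem (hDA x) k)
  have h1 : Nat.card (S ⧸ M) ≤ T.index := by
    have e : Nat.card Ψ.range = Nat.card (S ⧸ Ψ.ker) :=
      Nat.card_congr (QuotientGroup.quotientKerEquivRange Ψ).toEquiv.symm
    rw [htop, Subgroup.card_top] at e
    rw [e]
    exact Nat.le_of_dvd (Nat.pos_of_ne_zero Subgroup.index_ne_zero_of_finite)
      (Subgroup.index_dvd_of_le hker)
  have h2 : p * T.index = Nat.card (S ⧸ M) := by
    rw [← hidx, Subgroup.relIndex_mul_index hM]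
    rfl
  have h3 : 0 < T.index := Nat.pos_of_ne_zero Subgroup.index_ne_zero_of_finite
  have := Nat.mul_le_mul_right T.index (Fact.out : p.Prime).two_le
  omega

/-- Tate: a subgroup of the hyperfocal subgroup normal in `S` supplementing it modulo the Frattini
subgroup is the whole of it. -/
theorem hyperfocal_eq_of_le_sup_frattini (U : Subgroup S) [U.Normal]
    (hU : U ≤ (F.hyperfocalSubgroup p).subgroupOf S)
    (hle : (F.hyperfocalSubgroup p).subgroupOf S ≤ U ⊔ frattini S) :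
    U = (F.hyperfocalSubgroup p).subgroupOf S := by
  set T := (F.hyperfocalSubgroup p).subgroupOf S
  haveI : T.Normal := hyperfocal_subgroupOf_normal F p
  by_contra hne
  obtain ⟨M, ⟨hMn, hUM, hMT⟩, hmax⟩ := (Set.toFinite {M : Subgroup S | M.Normal ∧ U ≤ M ∧ M < T})
    |>.exists_maximal ⟨U, ‹_›, le_rfl, lt_of_le_of_ne hU hne⟩
  haveI := hMn
  haveI : Group.IsNilpotent (S ⧸ M) := (hS.to_quotient M).isNilpotent
  set π := QuotientGroup.mk' M
  haveI : (T.map π).Normal :=
    Subgroup.Normal.map inferInstance π (QuotientGroup.mk'_surjective M)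
  have hne' : T.map π ⊓ Subgroup.center (S ⧸ M) ≠ ⊥ :=
    CfsgLib.Solvable.normal_inf_center_ne_bot _ fun h => hMT.not_ge (fun t ht =>
      (QuotientGroup.eq_one_iff t).1 ((Subgroup.eq_bot_iff_forall _).1 h _ ⟨t, ht, rfl⟩))
  obtain ⟨z, hz⟩ := (Subgroup.ne_bot_iff_exists_ne_one).1 hne'
  haveI : Nontrivial (T.map π ⊓ Subgroup.center (S ⧸ M) : Subgroup (S ⧸ M)) := ⟨⟨z, 1, hz⟩⟩
  obtain ⟨n, hn, hcard⟩ := ((hS.to_quotient M).to_subgroup
    (T.map π ⊓ Subgroup.center (S ⧸ M))).nontrivial_iff_card.1 inferInstance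
  obtain ⟨x, hx⟩ := exists_prime_orderOf_dvd_card'
    (G := (T.map π ⊓ Subgroup.center (S ⧸ M) : Subgroup (S ⧸ M))) p (hcard ▸ dvd_pow_self p hn.ne')
  set Z := Subgroup.zpowers (x : S ⧸ M)
  haveI : Z.Normal := ⟨fun a ha g => by
    have hac : a ∈ Subgroup.center (S ⧸ M) := (Subgroup.zpowers_le.2 x.2.2) ha
    rwa [Subgroup.mem_center_iff.1 hac g, mul_inv_cancel_right]⟩
  have hZcard : Nat.card Z = p := by rw [Nat.card_zpowers, Subgroup.orderOf_coe, hx]
  have hMle : M ≤ Z.comap π := fun a ha => by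
    show π a ∈ Z
    rw [show π a = 1 from (QuotientGroup.eq_one_iff a).2 ha]
    exact Z.one_mem
  have hZT : Z.comap π ≤ T := by
    intro a ha
    obtain ⟨t, ht, hta⟩ : π a ∈ T.map π := (Subgroup.zpowers_le.2 x.2.1) ha
    have h1 : t⁻¹ * a ∈ T := hMT.le (QuotientGroup.eq.1 hta)
    simpa using T.mul_mem ht h1
  have hlt : M < Z.comap π := lt_of_le_of_ne hMle fun h => by
    obtain ⟨a, ha⟩ := QuotientGroup.mk'_surjective M (x : S ⧸ M)
    have h1 : a ∈ Z.comap π := by
      show π a ∈ Z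
      rw [ha]
      exact Subgroup.mem_zpowers _
    rw [← h] at h1
    have h2 : (x : S ⧸ M) = 1 := ha ▸ (QuotientGroup.eq_one_iff a).2 h1
    have h3 := hx
    rw [← Subgroup.orderOf_coe, h2, orderOf_one] at h3
    exact (Fact.out : p.Prime).one_lt.ne h3
  have hidx : M.relIndex (Z.comap π) = p := by
    have h := Subgroup.relIndex_comap (f := π) (⊥ : Subgroup (S ⧸ M)) (Z.comap π)
    rw [MonoidHom.comap_bot, QuotientGroup.ker_mk', Subgroup.map_comap_eq_self_of_surjective
      (QuotientGroup.mk'_surjective M), Subgroup.relIndex_bot_left, hZcard] at h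
    exact h
  rcases hZT.eq_or_lt with h | h
  · refine hyperfocal_not_le_sup_frattini hS hF M hMT.le (by rwa [h] at hidx) ?_
    exact hle.trans (sup_le_sup_right hUM _)
  · exact hlt.not_ge (hmax ⟨inferInstance, hUM.trans hMle, h⟩ hlt.le)

theorem hyperfocal_eq_bot_of_le_frattini
    (h : (F.hyperfocalSubgroup p).subgroupOf S ≤ frattini S) : F.hyperfocalSubgroup p = ⊥ := by
  have h1 := hyperfocal_eq_of_le_sup_frattini hS hF ⊥ bot_le (h.trans le_sup_right)
  rw [eq_comm, Subgroup.subgroupOf_eq_bot] at h1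
  exact h1.eq_bot_of_le (hyperfocal_le F p)

theorem mem_commutator_of_focal_center {x : Ω} (hx : x ∈ F.focalSubgroup) (hz : x ∈ F.center) :
    x ∈ ⁅(S : Subgroup Ω), (S : Subgroup Ω)⁆ := by
  obtain ⟨m, V, hm, hVf, hVz⟩ := exists_transfer hS hF (Abelianization.of (G := S))
  have hfoc : F.focalSubgroup ≤ V.ker.map S.subtype := by
    refine (Subgroup.closure_le _).2 ?_
    rintro _ ⟨P, φ, u, hφ, rfl⟩
    have hP := F.le_of_mem hφ
    refine ⟨(⟨u, hP.1 u.2⟩ : S)⁻¹ * ⟨φ u, hP.2 u⟩, ?_, rfl⟩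
    show V _ = 1
    rw [map_mul, map_inv, hVf P _ ⟨u, hP.1 u.2⟩ ⟨φ u, hP.2 u⟩ (isMap_of_hom hφ) u.2
      (toFun_apply φ u).symm, inv_mul_cancel]
  obtain ⟨s, hs, rfl⟩ := hfoc hx
  have h1 : Abelianization.of s ^ m = 1 := (hVz s hz).symm.trans hs
  rw [← map_pow] at h1
  have h2 : s ^ m ∈ commutator S := (QuotientGroup.eq_one_iff _).1 h1
  obtain ⟨j, hj⟩ := hS s
  obtain ⟨a, -, ha⟩ := Nat.exists_mul_mod_eq_one_of_coprime
    ((((Fact.out : p.Prime).coprime_iff_not_dvd.2 hm).pow_left (j + 1)).symm)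
    (Nat.one_lt_pow (by omega) (Fact.out : p.Prime).one_lt)
  have h3 : s = (s ^ m) ^ a := by
    rw [← pow_mul, ← Nat.mod_add_div (m * a) (p ^ (j + 1)), ha, pow_add, pow_one, pow_mul,
      pow_succ, pow_mul, hj, one_pow, one_pow, mul_one]
  have h4 : s ∈ commutator S := h3 ▸ Subgroup.pow_mem _ h2 a
  have h5 : S.subtype s ∈ (commutator S).map S.subtype := Subgroup.mem_map_of_mem _ h4
  rwa [_root_.commutator_def, Subgroup.map_commutator, ← MonoidHom.range_eq_map, Subgroup.range_subtype] at h5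

end Transfer

end CfsgLib.Fusion
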