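import Cfsg.Agent.Lib.Fusion.PStableLocal
import Cfsg.Agent.Lib.Fusion.FactorSystem
import Cfsg.Agent.Lib.Fusion.ConstrainedPart
import Cfsg.Agent.Lib.Fusion.Functor
import Cfsg.Agent.Lib.Fusion.Transfer
import Cfsg.Agent.Lib.Fusion.ModelMain
import Cfsg.Agent.Lib.Fusion.ModelSection

/-!
A positive characteristic functor controlling transfer in constrained groups controls transfer in
all saturated systems.
-/

set_option autoImplicit false
set_option linter.style.haveILetI false
set_option linter.unusedVariables false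
set_option linter.unusedSectionVars false

universe u

namespace CfsgLib.Fusion

open Cfsg Cfsg.FusionSystem Subgroup
open scoped commutatorElement

section Focal

variable {Ω : Type u} [Group Ω] {S : Subgroup Ω} {F E : FusionSystem S} {P : Subgroup Ω}
  {f : Ω → Ω} {p : ℕ}

theorem diff_mem_focal (hf : IsMap F P f) {x : Ω} (hx : x ∈ P) :
    x⁻¹ * f x ∈ F.focalSubgroup :=
  Subgroup.subset_closure ⟨P, hf.toHom, ⟨x, hx⟩, hf.toHom_mem, rfl⟩

theorem focal_le_of {L : Subgroup Ω}
    (h : ∀ (P : Subgroup Ω) (f : Ω → Ω), IsMap F P f → ∀ x ∈ P, x⁻¹ * f x ∈ L) :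
    F.focalSubgroup ≤ L := by
  refine (Subgroup.closure_le _).2 ?_
  rintro _ ⟨P, φ, x, hφ, rfl⟩
  have h1 := h P _ (isMap_of_hom hφ) x x.2
  rwa [toFun_apply] at h1

theorem focal_le_self (F : FusionSystem S) : F.focalSubgroup ≤ S :=
  focal_le_of fun P f hf x hx => S.mul_mem (S.inv_mem (hf.le hx)) (hf.mem hx)

theorem focal_mono (h : E ≤ F) : E.focalSubgroup ≤ F.focalSubgroup :=
  focal_le_of fun P f hf x hx => diff_mem_focal (le_iff_isMap.1 h P f hf) hx

theorem commutator_le_focal (F : FusionSystem S) : ⁅S, S⁆ ≤ F.focalSubgroup := by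
  refine Subgroup.commutator_le.2 fun a ha b hb => ?_
  have h := diff_mem_focal (isMap_conj F le_rfl hb) (S.inv_mem ha)
  simpa [commutatorElement_def, mul_assoc] using h

theorem conj_mem_of_commutator_le {L : Subgroup Ω} (hL : ⁅S, S⁆ ≤ L) {a y : Ω} (ha : a ∈ S)
    (hy : y ∈ S) (hyL : y ∈ L) : a * y * a⁻¹ ∈ L := by
  have h := L.mul_mem (hL (commutator_mem_commutator ha hy)) hyL
  simpa [commutatorElement_def, mul_assoc] using h

/-- The maps which, on large sources, move elements inside `L` only. -/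
noncomputable def diffSys (F : FusionSystem S) [Finite S] (L : Subgroup Ω) (hL : ⁅S, S⁆ ≤ L)
    (m : ℕ) : FusionSystem S where
  Hom P := {φ | φ ∈ F.Hom P ∧ (m ≤ Nat.card P → ∀ x : P, (x : Ω)⁻¹ * φ x ∈ L)}
  le_of_mem h := F.le_of_mem h.1
  injective_of_mem h := F.injective_of_mem h.1
  conj_mem {P a} hP ha := ⟨F.conj_mem hP ha, fun _ x => by
    have h := hL (commutator_mem_commutator (S.inv_mem (hP x.2)) ha)
    show (x : Ω)⁻¹ * (a * (x : Ω) * a⁻¹) ∈ L
    simpa [commutatorElement_def, mul_assoc] using h⟩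
  comp_mem {P Q φ ψ} hφ hψ h := by
    refine ⟨F.comp_mem hφ.1 hψ.1 h, fun hm x => ?_⟩
    haveI := finite_of_le (F.le_of_mem hψ.1).1
    have hinj : Function.Injective (fun y : P => (⟨φ y, h y⟩ : Q)) := fun a b hab =>
      F.injective_of_mem hφ.1 (congrArg Subtype.val hab)
    have h1 := L.mul_mem (hφ.2 hm x)
      (hψ.2 (hm.trans (Nat.card_le_card_of_injective _ hinj)) ⟨φ x, h x⟩)
    show (x : Ω)⁻¹ * ψ ⟨φ x, h x⟩ ∈ L
    simpa [mul_assoc] using h1
  inv_mem {P φ} hφ := by
    obtain ⟨ψ, hψ, hψx⟩ := F.inv_mem hφ.1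
    refine ⟨ψ, ⟨hψ, fun hm y => ?_⟩, hψx⟩
    obtain ⟨_, x, rfl⟩ := y
    have hc : Nat.card φ.range = Nat.card P :=
      (Nat.card_congr (MonoidHom.ofInjective (F.injective_of_mem hφ.1)).toEquiv).symm
    have h1 := L.inv_mem (hφ.2 (hc ▸ hm) x)
    show (φ x)⁻¹ * ψ ⟨φ x, ⟨x, rfl⟩⟩ ∈ L
    rw [hψx]
    simpa using h1

/-- Local differences on large subgroups give all differences on large subgroups. -/
theorem diff_mem_of_local [Fact p.Prime] [Finite S] (hS : IsPGroup p S) (hF : F.IsSaturated p)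
    {L : Subgroup Ω} (hL : ⁅S, S⁆ ≤ L) (m : ℕ)
    (hloc : ∀ R, F.IsFullyNormalized R → m ≤ Nat.card R →
      ∀ α ∈ F.autGroup R, ∀ x : R, (x : Ω)⁻¹ * ((α x : R) : Ω) ∈ L)
    (hf : IsMap F P f) (hm : m ≤ Nat.card P) {x : Ω} (hx : x ∈ P) : x⁻¹ * f x ∈ L := by
  have h : F ≤ diffSys F L hL m := by
    refine alperin_inductive hS hF fun R hR _ α hα => ?_
    exact (autGroup_mem_iff hR.1).2 ⟨(autGroup_mem_iff hR.1).1 hα, fun hm y => hloc R hR hm α hα y⟩
  obtain ⟨φ, hφ, hφf⟩ := le_iff_isMap.1 h P f hf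
  rw [← hφf ⟨x, hx⟩]
  exact hφ.2 hm ⟨x, hx⟩

/-- Transfer: an element of the focal subgroup moved only inside `L` lies in `L`. -/
theorem mem_of_focal_of_fixed_mod [Fact p.Prime] [Finite S] (hS : IsPGroup p S)
    (hF : F.IsSaturated p) {L : Subgroup Ω} (hL : ⁅S, S⁆ ≤ L) {z : Ω}
    (hz : z ∈ F.focalSubgroup)
    (hfix : ∀ (P : Subgroup Ω) (f : Ω → Ω), IsMap F P f →
      ∀ y ∈ Subgroup.zpowers z, y ∈ P → y⁻¹ * f y ∈ L) : z ∈ L := by
  classical
  set χ : S →* Abelianization S ⧸ (L.subgroupOf S).map Abelianization.of :=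
    (QuotientGroup.mk' _).comp Abelianization.of with hχ
  have hker : ∀ s : S, χ s = 1 ↔ (s : Ω) ∈ L := by
    intro s
    constructor
    · intro h
      obtain ⟨t, ht, hts⟩ := (QuotientGroup.eq_one_iff _).1 h
      have h1 : t⁻¹ * s ∈ commutator S := (QuotientGroup.eq (s := commutator S)).1 hts
      have h2 : ((t⁻¹ * s : S) : Ω) ∈ L := by
        refine hL ?_
        have h5 : S.subtype (t⁻¹ * s) ∈ (commutator S).map S.subtype := mem_map_of_mem _ h1
        rwa [Subgroup.map_subtype_commutator] at h5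
      have h3 := L.mul_mem ht h2
      simpa using h3
    · exact fun h => (QuotientGroup.eq_one_iff _).2 ⟨s, h, rfl⟩
  obtain ⟨c, hsupp, hst, hm⟩ := exists_charBiset hS hF
  rw [← card_rightOrb hsupp] at hm
  haveI : Fintype (RightOrb c) := Fintype.ofFinite _
  choose σ hσ using fun ω => toOrb_surjective (c := c) ω
  let V : S →* Abelianization S ⧸ (L.subgroupOf S).map Abelianization.of :=
    MonoidHom.mk' (fun x => ∏ ω, χ (shift σ x ω)) fun y x => by
      simp only [shift_mul hsupp hσ, map_mul, Finset.prod_mul_distrib]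
      congr 1
      exact Equiv.prod_comp (MulAction.toPerm x) fun ω => χ (shift σ y ω)
  have hmul : ∀ a ∈ (⊤ : Subgroup S), ∀ b ∈ (⊤ : Subgroup S), χ (a * b) = χ a * χ b :=
    fun a _ b _ => map_mul χ a b
  have hconj : ∀ g : S, ∀ t ∈ (⊤ : Subgroup S), χ (g * t * g⁻¹) = χ t := fun g t _ => by
    rw [map_mul, map_mul, map_inv, mul_inv_cancel_comm]
  have hfoc : F.focalSubgroup ≤ V.ker.map S.subtype := by
    refine focal_le_of fun P f hf x hx => ⟨(⟨x, hf.le hx⟩ : S)⁻¹ * ⟨f x, hf.mem hx⟩, ?_, rfl⟩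
    show V _ = 1
    rw [map_mul, map_inv]
    exact inv_mul_eq_one.2 (prod_shift_stable hsupp hst hmul hconj hσ
      (fun _ _ _ => Subgroup.mem_top _) hf hx rfl (Subgroup.mem_top _) (Subgroup.mem_top _)).symm
  obtain ⟨s, hs, rfl⟩ := hfoc hz
  obtain ⟨σ', hσ', had⟩ := exists_adapted hsupp (Subgroup.zpowers s) χ.ker fun w => by
    refine ⟨1, fun q hq hqz => ?_⟩
    obtain ⟨f, hf, hfx⟩ := isGraph_stabilizer hsupp w
    have hqz' : (q.1 : Ω) ∈ Subgroup.zpowers (S.subtype s) := by
      rw [← MonoidHom.map_zpowers]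
      exact mem_map_of_mem _ hqz
    have h1 := hfix _ f hf (q.1 : Ω) hqz' (mem_pr₁.2 ⟨q, hq, rfl⟩)
    rw [← hfx q hq] at h1
    rw [MonoidHom.mem_ker, hker]
    simpa using h1
  have hsh : ∀ ω, χ (shift σ' s ω) = χ s := fun ω => by
    have h := had s (Subgroup.mem_zpowers s) ω
    rw [MonoidHom.mem_ker, map_mul, map_inv, inv_mul_eq_one] at h
    exact h.symm
  have hV : V s = χ s ^ Nat.card (RightOrb c) := by
    show ∏ ω, χ (shift σ s ω) = _
    rw [← prod_shift_eq_of_sections (T := ⊤) hsupp hmul hconj hσ hσ' (fun _ => Subgroup.mem_top _)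
      (fun _ => Subgroup.mem_top _), Finset.prod_congr rfl fun ω _ => hsh ω,
      Finset.prod_const, Finset.card_univ, Nat.card_eq_fintype_card]
  obtain ⟨j, hj⟩ := hS s
  refine (hker s).1 (orderOf_eq_one_iff.1 (Nat.eq_one_of_dvd_coprimes
    (((Fact.out : p.Prime).coprime_iff_not_dvd.2 hm).pow_left j)
    (orderOf_dvd_of_pow_eq_one (by rw [← map_pow, hj, map_one]))
    (orderOf_dvd_of_pow_eq_one (hV.symm.trans hs))))

end Focal

variable (p : ℕ) [Fact p.Prime] (W : ∀ (Q : Type u) [Group Q], Subgroup Q)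

/-- The local transfer condition on a functor. -/
def LocalTransfer : Prop :=
  ∀ (G : Type u) [Group G] [Finite G] (P : Sylow p G),
    Subgroup.centralizer ((Cfsg.pCore p G : Subgroup G) : Set G) ≤ Cfsg.pCore p G →
    Cfsg.pCore p G ⊓ commutator G ≤
      ⁅normalizer (((W ↥(P : Subgroup G)).map (P : Subgroup G).subtype : Subgroup G) : Set G),
        normalizer (((W ↥(P : Subgroup G)).map (P : Subgroup G).subtype : Subgroup G) : Set G)⁆

variable (hW1 : ∀ (Q : Type u) [Group Q] [Finite Q], IsPGroup p Q → Nontrivial Q → W Q ≠ ⊥)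
  (hW2 : ∀ (Q R : Type u) [Group Q] [Group R] [Finite Q], IsPGroup p Q → ∀ φ : Q ≃* R,
    (W Q).map φ.toMonoidHom = W R)
  (hT : LocalTransfer p W)
variable {p}

section Local

variable {Ω : Type u} [Group Ω] {S : Subgroup Ω} [Finite S] (hS : IsPGroup p S)
  {F : FusionSystem S} (hF : F.IsSaturated p)

/-- The normalizer system of the value of the functor on `S`. -/
noncomputable abbrev funcSys (F : FusionSystem S) : FusionSystem S :=
  normSys F (funcOn W S) (funcOn_le W S) (normalizerIn_funcOn_top W hW2 hS)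

/-- `W` controls transfer in `F`. -/
def Transfers (F : FusionSystem S) : Prop :=
  F.focalSubgroup ≤ (funcSys W hW2 hS F).focalSubgroup

theorem funcSys_mono {E : FusionSystem S} (h : E ≤ F) :
    (funcSys W hW2 hS E).focalSubgroup ≤ (funcSys W hW2 hS F).focalSubgroup := by
  refine focal_mono (le_iff_isMap.2 fun P f hf => ?_)
  obtain ⟨h1, h2, g, hg, hgx, hgi⟩ := (isMap_normSys_iff _ _).1 hf
  exact (isMap_normSys_iff _ _).2 ⟨h1, h2, g, le_iff_isMap.1 h _ _ hg, hgx, hgi⟩

include hW1 in
theorem funcOn_ne_bot' {T : Subgroup Ω} [Finite T] (hT : IsPGroup p T) (hne : T ≠ ⊥) :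
    funcOn W T ≠ ⊥ := fun h =>
  hW1 T hT ((Subgroup.nontrivial_iff_ne_bot T).2 hne)
    ((Subgroup.map_eq_bot_iff_of_injective (W T) T.subtype_injective).1 h)

include hT hF in
/-- Automorphisms of a normal subgroup move its elements inside the controlled focal subgroup. -/
theorem diff_mem_of_isNormal {Q : Subgroup Ω} (hQ : F.IsNormal Q) {α : MulAut Q}
    (hα : α ∈ F.autGroup Q) (x : Q) :
    (x : Ω)⁻¹ * ((α x : Q) : Ω) ∈ (funcSys W hW2 hS F).focalSubgroup := by
  have hQc := fullyCentralized_of_fullyNormalized hS hF (IsNormal.fullyNormalized hQ)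
  set R := Q ⊔ centralizerIn S Q with hRdef
  have hcen : F.IsCentric R := centric_sup_centralizerIn hS hF hQc
  obtain ⟨-, hlift⟩ := autLifts_sup_centralizerIn hS hF hQc
  obtain ⟨g, hg, hgi, hgx⟩ := hlift α hα
  have hQn : S ≤ Subgroup.normalizer (Q : Set Ω) :=
    StronglyClosed.le_normalizer (IsNormal.stronglyClosed hQ)
  have hRS : normalizerIn S R = S := by
    refine inf_eq_left.2 fun a ha => ?_
    have hm := isMap_conj F (hcen.1) ha
    have hiQ : img Q (fun y => a * y * a⁻¹) = Q := by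
      haveI := finite_of_le hQ.1
      exact StronglyClosed.img_eq (IsNormal.stronglyClosed hQ) hm le_sup_left
    haveI := finite_of_le hcen.1
    have hi : img R (fun y => a * y * a⁻¹) = R := eq_of_le_of_card_le
      (hm.img_sup_le le_sup_left le_sup_right (hiQ.le.trans le_sup_left) fun y hy => by
        obtain ⟨b, hb, rfl⟩ := (hm.mono le_sup_right).mem_img.1 hy
        have h1 := hm.apply_mem_centralizerIn le_sup_left (mem_sup_right hb) hb.2
        rw [hiQ] at h1
        exact mem_sup_right h1) hm.card_img.ge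
    exact mem_normalizer_of_aut (α := hm.toAut hi) fun y => hm.toAut_apply hi y
  have hRn : F.IsFullyNormalized R :=
    ⟨hcen.1, fun T _ => by rw [hRS]; exact Subgroup.card_le_of_le inf_le_left⟩
  have hN := isNormalizerSystem_normalizerSys F R hcen.1
  haveI : Finite ↥(normalizerIn S R) := finite_normalizerIn
  have hTp : IsPGroup p (normalizerIn S R) := hS.to_le inf_le_left
  obtain ⟨G, hG, ι, hfin, hr, ⟨Ps, hPs⟩, hM, hc⟩ :=
    Model.exists_model_normalizer F hS hF hcen hRn hN
  haveI := hfin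
  have hm := isModel_of_normal_centric hTp hr ⟨Ps, hPs⟩ (le_normalizerIn hcen.1) hM hc
  have hxR : (x : Ω) ∈ R := mem_sup_left x.2
  have hgE : IsMap (normalizerSys F R hcen.1) R g := (isMap_normalizerSystem_iff hN).2
    ⟨le_normalizerIn hcen.1, fun y hy => le_normalizerIn hcen.1 (hgi.le (hg.apply_mem_img hy)), g,
      by rwa [sup_idem], fun _ _ => rfl, hgi⟩
  obtain ⟨γ, hγ⟩ := realized_exists_elem hr hgE
  have hyR : g x ∈ R := hgi.le (hg.apply_mem_img hxR)
  have hαx : ((α x : Q) : Ω) = g x := (hgx x).symm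
  set z : normalizerIn S R := (⟨(x : Ω), le_normalizerIn hcen.1 hxR⟩ : normalizerIn S R)⁻¹ *
    ⟨g x, le_normalizerIn hcen.1 hyR⟩ with hz
  have hzW : (z : Ω) = (x : Ω)⁻¹ * ((α x : Q) : Ω) := by rw [hαx]; rfl
  have hmem : ι z ∈ Cfsg.pCore p G ⊓ commutator G := by
    refine ⟨?_, ?_⟩
    · refine CfsgLib.Solvable.le_pCore hM
        (((hS.to_le hcen.1).of_equiv (Subgroup.subgroupOfEquivOfLe (le_normalizerIn hcen.1)).symm).map ι)
        (mem_map_of_mem ι (x := z) ?_)
      exact R.mul_mem (R.inv_mem hxR) hyR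
    · have h1 := hγ (x : Ω) hxR (le_normalizerIn hcen.1 hxR) (le_normalizerIn hcen.1 hyR)
      rw [hz, map_mul, map_inv, h1]
      have h2 := commutator_mem_commutator
        (mem_top (ι ⟨(x : Ω), le_normalizerIn hcen.1 hxR⟩)⁻¹) (mem_top γ)
      rw [← _root_.commutator_def] at h2
      simpa [commutatorElement_def, mul_assoc] using h2
  have h3 := hT G Ps hm.2.2.2 hmem
  set Wb := (W ↥(Ps : Subgroup G)).map (Ps : Subgroup G).subtype with hWb
  set NW := normalizer (Wb : Set G) with hNW
  have hWbe : Wb = ((funcOn W (normalizerIn S R)).subgroupOf (normalizerIn S R)).map ι :=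
    funcOn_map_embedding W hW2 hTp hr.1 hPs
  have hWS : funcOn W (normalizerIn S R) = funcOn W S := congrArg (fun T => funcOn W T) hRS
  have hPN : (Ps : Subgroup G) ≤ NW := by
    rintro _ hy
    rw [hPs] at hy
    obtain ⟨⟨a, ha⟩, rfl⟩ := hy
    have han : a ∈ Subgroup.normalizer (funcOn W (normalizerIn S R) : Set Ω) := by
      rw [hWS]
      exact ((normalizerIn_funcOn_top W hW2 hS).ge ha.1).2
    have h4 : (⟨a, ha⟩ : normalizerIn S R) ∈ Subgroup.normalizer
        (((funcOn W (normalizerIn S R)).subgroupOf (normalizerIn S R) :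
          Subgroup (normalizerIn S R)) : Set (normalizerIn S R)) :=
      mem_normalizer_iff.2 fun y => (mem_normalizer_iff.1 han (y : Ω))
    rw [hNW, hWbe]
    exact le_normalizer_map ι ⟨_, h4, rfl⟩
  have h5 : (⟨ι z, Subgroup.commutator_le_self NW h3⟩ : NW) ∈
      commutator NW ⊓ ((Ps.subtype hPN : Sylow p NW) : Subgroup NW) := by
    refine ⟨?_, ?_⟩
    · rw [← Subgroup.map_subtype_commutator] at h3
      obtain ⟨w, hw, hwe⟩ := h3
      rwa [show (⟨ι z, _⟩ : NW) = w from Subtype.ext hwe.symm]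
    · rw [Sylow.coe_subtype]
      show ι z ∈ (Ps : Subgroup G)
      rw [hPs]
      exact ⟨z, rfl⟩
  rw [Subgroup.commutator_inf_eq_focalSubgroup] at h5
  have key : (((Ps.subtype hPN : Sylow p NW) : Subgroup NW).focalSubgroup).map NW.subtype ≤
      ((funcSys W hW2 hS F).focalSubgroup.subgroupOf (normalizerIn S R)).map ι := by
    rw [Subgroup.focalSubgroup_def, MonoidHom.map_closure, closure_le]
    rintro _ ⟨_, ⟨hmemP, a, ha, n, rfl⟩, rfl⟩
    rw [Sylow.coe_subtype, mem_subgroupOf, hPs] at ha hmemP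
    obtain ⟨b, hb⟩ := ha
    obtain ⟨w, hw⟩ := hmemP
    set U := Subgroup.zpowers (b : Ω) ⊔ funcOn W S with hU
    have hbS : (b : Ω) ∈ S := b.2.1
    have hUT : U ≤ normalizerIn S R :=
      hRS.symm ▸ sup_le (zpowers_le.2 hbS) (funcOn_le W S)
    let K : Subgroup (normalizerIn S R) :=
      ι.range.comap ((MulAut.conj (n : G)).toMonoidHom.comp ι)
    have hbw : (n : G) * ι b * (n : G)⁻¹ = ι (w⁻¹ * b) := by
      rw [map_mul, map_inv, hw, hb]
      show _ = (⁅a, n⁆ : NW).1⁻¹ * (a : G)
      simp [commutatorElement_def, mul_assoc]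
    have hWU : ∀ y ∈ funcOn W S, ∀ hy : y ∈ normalizerIn S R,
        ∃ y', ∃ hy' : y' ∈ normalizerIn S R, y' ∈ funcOn W S ∧
          ι ⟨y', hy'⟩ = (n : G) * ι ⟨y, hy⟩ * (n : G)⁻¹ := by
      intro y hy hy'
      have h6 : ι ⟨y, hy'⟩ ∈ Wb := by
        rw [hWbe]
        exact mem_map_of_mem ι (x := (⟨y, hy'⟩ : normalizerIn S R)) (mem_subgroupOf.2 (hWS.symm ▸ hy))
      have h7 := (mem_normalizer_iff.1 n.2 _).1 h6
      rw [hWbe] at h7
      obtain ⟨⟨y', hy''⟩, hy2, hy3⟩ := h7
      exact ⟨y', hy'', hWS ▸ (mem_subgroupOf.1 hy2), hy3⟩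
    have hK : U ≤ K.map (normalizerIn S R).subtype := sup_le
      (zpowers_le.2 ⟨b, ⟨w⁻¹ * b, hbw.symm⟩, rfl⟩) fun y hy => by
        obtain ⟨y', hy', -, he⟩ := hWU y hy (hUT (mem_sup_right hy))
        exact ⟨⟨y, hUT (mem_sup_right hy)⟩, ⟨_, he⟩, rfl⟩
    obtain ⟨f, hf, hfx⟩ := realized_exists_map hr hUT (n : G) fun y hy => by
      obtain ⟨v, hv, hve⟩ := hK hy
      rw [show (⟨y, hUT hy⟩ : normalizerIn S R) = v from Subtype.ext hve.symm]
      exact hv
    obtain ⟨-, -, f', hf', hf'x, -⟩ := (isMap_normalizerSystem_iff hN).1 hf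
    have hfF : IsMap F U f := (hf'.mono le_sup_left).congr hf'x
    have hfW : img (funcOn W S) f = funcOn W S := by
      haveI := finite_of_le (funcOn_le W S)
      refine eq_of_le_of_card_le (fun y hy => ?_) (hfF.mono le_sup_right).card_img.ge
      obtain ⟨v, hv, rfl⟩ := (hfF.mono le_sup_right).mem_img.1 hy
      obtain ⟨y', hy', hy'W, he⟩ := hWU v hv (hUT (mem_sup_right hv))
      obtain ⟨hfv, hfe⟩ := hfx v (mem_sup_right hv)
      have : (⟨f v, hfv⟩ : normalizerIn S R) = ⟨y', hy'⟩ := hr.1 (hfe.trans he.symm)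
      rw [show f v = y' from congrArg Subtype.val this]
      exact hy'W
    have hbU : (b : Ω) ∈ U := mem_sup_left (mem_zpowers _)
    have h8 := diff_mem_focal (F := funcSys W hW2 hS F) (P := U) (f := f)
      ((isMap_normSys_iff _ _).2 ⟨hfF.le, fun y hy => hfF.mem hy, f,
        by rwa [show U ⊔ funcOn W S = U from sup_eq_left.2 le_sup_right], fun _ _ => rfl, hfW⟩) hbU
    obtain ⟨hfb, hfbe⟩ := hfx (b : Ω) hbU
    have h9 : (⟨f b, hfb⟩ : normalizerIn S R) = w⁻¹ * b := hr.1 (hfbe.trans hbw)
    refine ⟨w, mem_subgroupOf.2 ?_, hw⟩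
    have h10 : f b = (w : Ω)⁻¹ * b := congrArg Subtype.val h9
    have h11 := conj_mem_of_commutator_le (commutator_le_focal (funcSys W hW2 hS F)) hbS
      (S.mul_mem (S.inv_mem hbS) (hfF.mem hbU)) h8
    rw [h10] at h11
    simpa [mul_assoc] using (inv_mem h11)
  obtain ⟨t, ht, hte⟩ := key (mem_map_of_mem NW.subtype h5)
  rw [← hzW, ← hr.1 hte]
  exact ht

include hW1 hF in
/-- Reduction to systems with a nontrivial normal subgroup and to smaller systems. -/
theorem transfers_step
    (hsmall : ∀ (T : Subgroup Ω) [Finite T] (hTp : IsPGroup p T) (E : FusionSystem T),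
      Nat.card T < Nat.card S → E.IsSaturated p → Transfers W hW2 hTp E)
    (hnormal : ∀ (E : FusionSystem S) (U : Subgroup Ω), E.IsSaturated p → U ≠ ⊥ → E.IsNormal U →
      Transfers W hW2 hS E) :
    Transfers W hW2 hS F := by
  set L := (funcSys W hW2 hS F).focalSubgroup with hLdef
  have hL : ⁅S, S⁆ ≤ L := commutator_le_focal _
  have hlocal : ∀ (R : Subgroup Ω) (hR : R ≤ S), F.IsFullyNormalized R →
      (normalizerSys F R hR).focalSubgroup ≤ L →
      ∀ α ∈ F.autGroup R, ∀ x : R, (x : Ω)⁻¹ * ((α x : R) : Ω) ∈ L := by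
    intro R hR hRn hle α hα x
    have hm := isMap_of_autGroup hR hα
    refine hle ?_
    have h := diff_mem_focal (F := normalizerSys F R hR) (P := R)
      (f := toFun (R.subtype.comp α.toMonoidHom))
      ((isMap_normalizerSystem_iff (isNormalizerSystem_normalizerSys F R hR)).2
        ⟨le_normalizerIn hR, fun y hy => le_normalizerIn hR ((img_toFun_aut α).le (hm.apply_mem_img hy)),
          _, by rwa [sup_idem], fun _ _ => rfl, img_toFun_aut α⟩) x.2
    rwa [toFun_apply] at h
  have hclaim : ∀ (n : ℕ) (U : Subgroup Ω) (hU : F.IsFullyNormalized U), U ≠ ⊥ →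
      Nat.card S - Nat.card (normalizerIn S U) = n → (normalizerSys F U hU.1).focalSubgroup ≤ L := by
    intro n
    induction n using Nat.strong_induction_on with
    | _ n ih =>
      intro U hU hne hn
      haveI : Finite ↥(normalizerIn S U) := finite_normalizerIn
      by_cases hT : normalizerIn S U = S
      · have hsat := isSaturated_normSys hS hF hU.1 hT
        have h1 : (normalizerSys F U hU.1).focalSubgroup ≤
            (normSys F U hU.1 hT).focalSubgroup :=
          focal_le_of fun P f hf x hx =>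
            diff_mem_focal (P := P) ((isMap_castSys hT _).2 hf) hx
        exact h1.trans ((hnormal _ U hsat hne (isNormal_normSys_self hU.1 hT)).trans
          (funcSys_mono W hW2 hS (normSys_le hU.1 hT)))
      · set R := normalizerIn S U with hRdef
        have hRp : IsPGroup p R := hS.to_le inf_le_left
        have hEs := isSaturated_normalizerSystem hS hF hU (isNormalizerSystem_normalizerSys F U hU.1)
        have hlt : Nat.card R < Nat.card S :=
          lt_of_not_ge fun h => hT (eq_of_le_of_card_le inf_le_left h)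
        refine (hsmall R hRp _ hlt hEs).trans (focal_le_of fun P f hf x hx => ?_)
        obtain ⟨hPR, hfR, g, hg, hgx, hgV⟩ := (isMap_normSys_iff _ _).1 hf
        set V := funcOn W R with hV
        have hVS : V ≤ S := (funcOn_le W R).trans inf_le_left
        obtain ⟨h1, h2, g', hg', hg'x, -⟩ :=
          (isMap_normalizerSystem_iff (isNormalizerSystem_normalizerSys F U hU.1)).1 hg
        have hgF : IsMap F (P ⊔ V) g := (hg'.mono le_sup_left).congr hg'x
        have hne' : V ≠ ⊥ := funcOn_ne_bot' W hW1 hRp fun h =>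
          hne (eq_bot_iff.2 (h ▸ le_normalizerIn hU.1))
        have hRV : R ≤ normalizerIn S V :=
          (le_normalizerIn inf_le_left).trans (normalizer_le_funcOn W hW2 hS inf_le_left)
        haveI : Finite ↥(normalizerIn S V) := finite_normalizerIn
        have hcardV : Nat.card R < Nat.card (normalizerIn S V) := by
          haveI : Finite ↥(normalizerIn S R) := finite_normalizerIn
          refine lt_of_lt_of_le (lt_of_not_ge fun h => ?_)
            (Subgroup.card_le_of_le (normalizer_le_funcOn W hW2 hS inf_le_left))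
          exact (lt_normalizerIn hS (show R < S from lt_of_le_of_ne inf_le_left hT)).ne
            (eq_of_le_of_card_le (le_normalizerIn (P := R) inf_le_left) h)
        obtain ⟨V', hVV', hV'⟩ := exists_fullyNormalized_conj F hVS
        obtain ⟨h, hh, hhi, hhN⟩ := exists_map_normalizerIn_of_fullyNormalized hS hF hV' hVV'
        haveI : Finite ↥(normalizerIn S V') := finite_normalizerIn
        have hcardV' : Nat.card R < Nat.card (normalizerIn S V') :=
          lt_of_lt_of_le hcardV (hh.card_img ▸ Subgroup.card_le_of_le fun y hy => by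
            obtain ⟨a, ha, rfl⟩ := hh.mem_img.1 hy
            exact hhN a ha)
        have hne'' : V' ≠ ⊥ := fun he => hne' (Subgroup.card_eq_one.1 (by
          rw [← isConj_card hVV', he, Subgroup.card_bot]))
        have hS' : Nat.card (normalizerIn S V') ≤ Nat.card S := Subgroup.card_le_of_le inf_le_left
        have ihV := ih _ (by omega) V' hV' hne'' rfl
        have hdiff : ∀ y ∈ normalizerIn S V, y⁻¹ * h y ∈ L := fun y hy =>
          diff_mem_of_local hS hF hL (Nat.card R + 1) (fun R' hR' hm' α hα z =>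
            hlocal R' hR'.1 hR' (ih (Nat.card S - Nat.card (normalizerIn S R')) (by
              haveI : Finite ↥(normalizerIn S R') := finite_normalizerIn
              have h1 := Subgroup.card_le_of_le (le_normalizerIn (S := S) hR'.1)
              have h2 : Nat.card (normalizerIn S R') ≤ Nat.card S := Subgroup.card_le_of_le inf_le_left
              omega) R' hR' (fun he => by
              have : Nat.card R' = 1 := by rw [he, Subgroup.card_bot]
              have := Nat.card_pos (α := R)
              omega) rfl) α hα z) hh hcardV hy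
        have hPN : P ⊔ V ≤ normalizerIn S V := sup_le (hPR.trans hRV) ((funcOn_le W R).trans hRV)
        have hmem : ∀ y ∈ P ⊔ V, g y ∈ normalizerIn S V := fun y hy => by
          refine ⟨hgF.mem hy, ?_⟩
          have h3 := hgF.apply_mem_normalizerIn le_sup_right hy (hPN hy).2
          rw [hgV] at h3
          exact h3.2
        have hh' := hh.mono hPN
        obtain ⟨k, hk, hkx, hky, hki⟩ := hh'.exists_inv
        have hc1 : IsMap F (img (P ⊔ V) h) (fun y => g (k y)) := hk.comp hgF fun y hy => (hky y hy).1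
        have hc2 : IsMap F (img (P ⊔ V) h) (fun y => h (g (k y))) :=
          hc1.comp hh fun y hy => hmem _ (hky y hy).1
        have hV'img : img V h = V' := hhi
        have hxV : x ∈ P ⊔ V := mem_sup_left hx
        have hfx : g x = f x := hgx x hx
        have hmap : IsMap (normalizerSys F V' hV'.1) (img (P ⊔ V) h) (fun y => h (g (k y))) := by
          refine (isMap_normalizerSystem_iff (isNormalizerSystem_normalizerSys F V' hV'.1)).2
            ⟨fun y hy => ?_, fun y hy => hhN _ (hmem _ (hky y hy).1), fun y => h (g (k y)), ?_,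
              fun _ _ => rfl, ?_⟩
          · obtain ⟨a, ha, rfl⟩ := hh'.mem_img.1 hy
            exact hhN a (hPN ha)
          · have : img (P ⊔ V) h ⊔ V' = img (P ⊔ V) h :=
              sup_eq_left.2 (hV'img ▸ img_mono le_sup_right)
            rwa [this]
          · haveI := finite_of_le hV'.1
            refine hc2.img_eq_of_forall (hV'img ▸ img_mono le_sup_right) fun y hy => ?_
            rw [← hV'img] at hy ⊢
            obtain ⟨v, hv, rfl⟩ := (hh'.mono le_sup_right).mem_img.1 hy
            rw [hkx v (mem_sup_right hv)]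
            exact (hh'.mono le_sup_right).apply_mem_img
              (hgV.le ((hgF.mono le_sup_right).apply_mem_img hv))
        have h4 := ihV (diff_mem_focal hmap (hh'.apply_mem_img hxV))
        rw [hkx x hxV, hfx] at h4
        have h5 := L.mul_mem (L.mul_mem (hdiff x (hPN hxV)) h4)
          (L.inv_mem (hdiff (f x) (hfx ▸ hmem x hxV)))
        simpa [mul_assoc] using h5
  refine focal_le_of fun P f hf x hx => diff_mem_of_local hS hF hL 0 (fun R hR _ α hα z => ?_) hf
    (Nat.zero_le _) hx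
  by_cases hne : R = ⊥
  · subst hne
    have e : ((α z : (⊥ : Subgroup Ω)) : Ω) = 1 := mem_bot.1 (α z).2
    rw [e, mem_bot.1 z.2]
    simp
  · exact hlocal R hR.1 hR (hclaim _ R hR hne rfl) α hα z

end Local

include hW1 hT in
/-- Systems with a nontrivial normal subgroup, given all smaller systems. -/
theorem transfers_of_isNormal (n : ℕ)
    (hsmall : ∀ (Ω : Type u) [Group Ω] (S : Subgroup Ω) [Finite S] (hS : IsPGroup p S)
      (F : FusionSystem S), Nat.card S < n → F.IsSaturated p → Transfers W hW2 hS F) :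
    ∀ (k : ℕ) (Ω : Type u) [Group Ω] (S : Subgroup Ω) [Finite S] (hS : IsPGroup p S)
      (F : FusionSystem S) (Q : Subgroup Ω), Nat.card S = n → Nat.card S - Nat.card Q = k →
      F.IsSaturated p → Q ≠ ⊥ → F.IsNormal Q → Transfers W hW2 hS F := by
  intro k
  induction k using Nat.strong_induction_on with
  | _ k ih =>
    intro Ω _ S _ hS F Q hSn hk hF hQ hQn
    set L := (funcSys W hW2 hS F).focalSubgroup with hLdef
    have hL : ⁅S, S⁆ ≤ L := commutator_le_focal _
    have hWS := normalizerIn_funcOn_top W hW2 hS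
    by_cases hQS : Q = S
    · refine focal_le_of fun P f hf x hx => ?_
      obtain ⟨g, hg, hgx, hgQ⟩ := (isNormal_iff.1 hQn).2 P f hf
      rw [hQS] at hgQ
      have hgS : IsMap F S g := hg.mono (hQS ▸ le_sup_right)
      rw [← hgx x hx]
      refine diff_mem_focal (P := P) ((isMap_normSys_iff _ _).2
        ⟨hf.le, fun y hy => hg.mem (mem_sup_left hy), g,
          hgS.mono (sup_le hf.le (funcOn_le W S)), fun _ _ => rfl, ?_⟩) hx
      exact img_funcOn W hW2 hS hgS hgQ
    have hdiffQ : ∀ (P : Subgroup Ω) (f : Ω → Ω), IsMap F P f → ∀ y ∈ P, y ∈ Q →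
        y⁻¹ * f y ∈ L := by
      intro P f hf y hy hyQ
      obtain ⟨g, hg, hgx, hgQ⟩ := (isNormal_iff.1 hQn).2 P f hf
      have hgQ' : IsMap F Q g := hg.mono le_sup_right
      have h := diff_mem_of_isNormal W hW2 hT hS hF hQn (hgQ'.toAut_mem hgQ) ⟨y, hyQ⟩
      rw [IsMap.toAut_apply] at h
      rwa [← hgx y hy]
    -- the quotient
    have hQc := IsNormal.stronglyClosed hQn
    haveI : (Q.subgroupOf S).Normal :=
      (Subgroup.normal_subgroupOf_iff_le_normalizer hQn.1).2 (StronglyClosed.le_normalizer hQc)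
    set θ := QuotientGroup.mk' (Q.subgroupOf S) with hθ
    have hker : ∀ s : S, θ s = 1 ↔ (s : Ω) ∈ Q := fun s => QuotientGroup.eq_one_iff s
    set E := factorSys F hQc θ hker with hE
    have hEf : F.IsFactorSystem Q θ E := ⟨hQn.1, hker, rfl, fun P' φ' => Iff.rfl⟩
    have hsurj := isSurjectiveMorphism_factor hS hF hQc hEf
    have hEs : E.IsSaturated p := isSaturated_image hS hF hsurj
    haveI : Finite θ.range := Subtype.finite
    have hp' : IsPGroup p θ.range := hS.of_surjective θ.rangeRestrict θ.rangeRestrict_surjective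
    have hlt : Nat.card θ.range < Nat.card S := by
      rw [Nat.card_congr (QuotientGroup.quotientKerEquivRange θ).symm.toEquiv,
        Nat.card_congr (QuotientGroup.quotientMulEquivOfEq (QuotientGroup.ker_mk' _)).toEquiv]
      rw [Subgroup.card_eq_card_quotient_mul_card_subgroup (Q.subgroupOf S),
        Nat.card_congr (Subgroup.subgroupOfEquivOfLe hQn.1).toEquiv]
      refine lt_mul_of_one_lt_right Nat.card_pos ?_
      haveI := finite_of_le hQn.1
      exact (Subgroup.one_lt_card_iff_ne_bot _).2 hQ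
    have hEW := hsmall _ θ.range hp' E (hSn ▸ hlt) hEs
    set Wb := funcOn W θ.range with hWb
    set X := preimageAlong θ Wb with hXdef
    have hXS : X ≤ S := preimageAlong_le
    have hQX : Q ≤ X := le_preimageAlong_of_ker hker hQn.1
    have hXn : normalizerIn S X = S := by
      refine inf_eq_left.2 fun a ha => ?_
      have hb : θ ⟨a, ha⟩ ∈ normalizerIn θ.range Wb :=
        (normalizerIn_funcOn_top W hW2 hp').ge ⟨_, rfl⟩
      refine mem_normalizer_iff.2 fun y => ?_
      constructor
      · intro hy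
        obtain ⟨hyS, hy⟩ := mem_preimageAlong.1 hy
        refine mem_preimageAlong.2 ⟨S.mul_mem (S.mul_mem ha hyS) (S.inv_mem ha), ?_⟩
        have h1 := (mem_normalizer_iff.1 hb.2 _).1 hy
        rwa [← map_mul, ← map_inv, ← map_mul] at h1
      · intro hy
        obtain ⟨hyS', hy⟩ := mem_preimageAlong.1 hy
        have hyS : y ∈ S := by simpa [mul_assoc] using S.mul_mem (S.mul_mem (S.inv_mem ha) hyS') ha
        refine mem_preimageAlong.2 ⟨hyS, (mem_normalizer_iff.1 hb.2 _).2 ?_⟩
        rw [← map_mul, ← map_inv, ← map_mul]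
        exact hy
    set M := normSys F X hXS hXn with hMdef
    have hθne : θ.range ≠ ⊥ := fun h => hQS (le_antisymm hQn.1 fun s hs =>
      (hker ⟨s, hs⟩).1 (Subgroup.mem_bot.1 (h ▸ ⟨⟨s, hs⟩, rfl⟩)))
    have hQltX : Q < X := by
      refine lt_of_le_of_ne hQX fun he => funcOn_ne_bot' W hW1 hp' hθne ?_
      refine (Subgroup.eq_bot_iff_forall _).2 fun y hy => ?_
      obtain ⟨s, rfl⟩ := funcOn_le W _ hy
      exact (hker s).2 (he.ge (mem_preimageAlong.2 ⟨s.2, hy⟩))
    have hM : M.focalSubgroup ≤ L := by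
      haveI := finite_of_le hXS
      have h1 : Nat.card Q < Nat.card X :=
        lt_of_not_ge fun h => hQltX.ne (eq_of_le_of_card_le hQltX.le h)
      have h2 : Nat.card X ≤ Nat.card S := Subgroup.card_le_of_le hXS
      exact (ih _ (by omega) Ω S hS M X hSn rfl (isSaturated_normSys hS hF hXS hXn)
        (ne_bot_of_gt (lt_of_le_of_lt bot_le hQltX)) (isNormal_normSys_self hXS hXn)).trans
        (funcSys_mono W hW2 hS (normSys_le hXS hXn))
    set L' := (M.focalSubgroup.subgroupOf S).map θ with hL'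
    have hfocE : E.focalSubgroup ≤ L' := by
      refine hEW.trans (focal_le_of fun P' f' hf' y hy => ?_)
      obtain ⟨hP', -, g', hg', hgx', hgW'⟩ := (isMap_normSys_iff _ _).1 hf'
      obtain ⟨-, g, hg, hge⟩ := (isMap_induced_iff (fun _ _ => Iff.rfl) rfl).1 hg'
      obtain ⟨s, rfl⟩ := hP' hy
      set U := preimageAlong θ (P' ⊔ Wb) with hU
      have hsU : (s : Ω) ∈ U := mem_preimageAlong.2 ⟨s.2, mem_sup_left hy⟩
      have hXU : X ≤ U := fun t ht => by
        obtain ⟨htS, ht⟩ := mem_preimageAlong.1 ht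
        exact mem_preimageAlong.2 ⟨htS, mem_sup_right ht⟩
      have hgX : img X g = X := by
        haveI := finite_of_le hXS
        refine hg.img_eq_of_forall hXU fun t ht => mem_preimageAlong.2 ⟨hg.mem (hXU ht), ?_⟩
        rw [← hge t (hXU ht)]
        exact hgW'.le ((hg'.mono le_sup_right).apply_mem_img (mem_preimageAlong.1 ht).2)
      have h3 := diff_mem_focal (F := M) (P := U) ((isMap_normSys_iff hXS hXn).2
        ⟨hg.le, fun t ht => hg.mem ht, g, by rwa [sup_eq_left.2 hXU], fun _ _ => rfl, hgX⟩) hsU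
      refine ⟨s⁻¹ * ⟨g s, hg.mem hsU⟩, h3, ?_⟩
      rw [map_mul, map_inv, ← hge _ hsU, hgx' _ hy]
    intro z hz
    have hzS : z ∈ S := focal_le_self F hz
    obtain ⟨a, ha, hae⟩ : θ ⟨z, hzS⟩ ∈ L' := by
      refine hfocE ?_
      have h1 : F.focalSubgroup ≤ preimageAlong θ E.focalSubgroup := by
        refine focal_le_of fun P f hf x hx => mem_preimageAlong.2
          ⟨S.mul_mem (S.inv_mem (hf.le hx)) (hf.mem hx), ?_⟩
        obtain ⟨φ', hφ', hind⟩ := hsurj.1.2 P _ hf.toHom_mem
        have hmem : θ ⟨x, hf.le hx⟩ ∈ imageAlong θ P := mem_imageAlong.2 ⟨x, hf.le hx, hx, rfl⟩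
        have h2 := diff_mem_focal (isMap_of_hom hφ') hmem
        rw [toFun_of_mem φ' hmem, inducedAlong_apply hind hx (hf.le hx) (hf.mem hx) hmem] at h2
        rw [← map_inv, ← map_mul] at h2
        exact h2
      exact (mem_preimageAlong.1 (h1 hz)).2
    have haL : (a : Ω) ∈ L := hM ha
    have hq : (a : Ω)⁻¹ * z ∈ Q :=
      (hker (a⁻¹ * ⟨z, hzS⟩)).1 (by rw [map_mul, map_inv, hae, inv_mul_cancel])
    have hLF : L ≤ F.focalSubgroup := focal_mono (normSys_le _ _)
    have h6 : (a : Ω)⁻¹ * z ∈ L :=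
      mem_of_focal_of_fixed_mod hS hF hL (F.focalSubgroup.mul_mem (inv_mem (hLF haL)) hz)
        fun P f hf y hy hyP => hdiffQ P f hf y hyP (zpowers_le.2 hq hy)
    have := L.mul_mem haL h6
    simpa using this

include hW1 hT in
/-- The transfer control theorem. -/
theorem transfers_all : ∀ (n : ℕ) (Ω : Type u) [Group Ω] (S : Subgroup Ω) [Finite S]
    (hS : IsPGroup p S) (F : FusionSystem S), Nat.card S = n → F.IsSaturated p →
    Transfers W hW2 hS F := by
  intro n
  induction n using Nat.strong_induction_on with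
  | _ n ih =>
    intro Ω _ S _ hS F hSn hF
    refine transfers_step W hW1 hW2 hS hF
      (fun T _ hTp E hlt hE => ih _ (hSn ▸ hlt) Ω T hTp E rfl hE) fun E U hE hU hUn => ?_
    exact transfers_of_isNormal W hW1 hW2 hT n
      (fun Ω' _ S' _ hS' F' hlt hF' => ih _ hlt Ω' S' hS' F' rfl hF') _ Ω S hS E U hSn rfl hE hU hUn

end CfsgLib.Fusion
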