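import Cfsg.Agent.Lib.Fusion.Transfer

/-!
A group with a map of `S` realizing all maps of a saturated system, with a character extending an
invariant character of exponent `p` whose values on the centralizer of a subgroup `P` are those on
`C_S(P)`: the transfer through the characteristic biset.
-/

set_option autoImplicit false
set_option linter.style.haveILetI false
set_option linter.unusedVariables false
set_option linter.unusedSectionVars false

namespace CfsgLib.Fusion

open Cfsg Cfsg.FusionSystem Subgroup MulAction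

universe u

variable {Ω : Type u} [Group Ω] {S : Subgroup Ω} {F : FusionSystem S}
  {P : Subgroup Ω} {f : Ω → Ω} {p : ℕ}

/-- A product of an invariant function of exponent `p` reduces to the fixed points. -/
theorem prod_eq_prod_fixed {H X A : Type*} [Group H] [Fintype X] [MulAction H X] [CommGroup A]
    [Fact p.Prime] (hH : IsPGroup p H) (hA : ∀ a : A, a ^ p = 1) (φ : X → A)
    (hφ : ∀ (h : H) (x : X), φ (h • x) = φ x) [DecidablePred (· ∈ fixedPoints H X)] :
    ∏ x, φ x = ∏ x ∈ Finset.univ.filter (· ∈ fixedPoints H X), φ x := by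
  classical
  rw [← Finset.prod_fiberwise_of_maps_to (t := Finset.univ.image φ) (g := φ)
      (fun x _ => Finset.mem_image_of_mem φ (Finset.mem_univ x)) φ,
    ← Finset.prod_fiberwise_of_maps_to
      (s := Finset.univ.filter (· ∈ fixedPoints H X)) (t := Finset.univ.image φ) (g := φ)
      (fun x _ => Finset.mem_image_of_mem φ (Finset.mem_univ x)) φ]
  refine Finset.prod_congr rfl fun a _ => ?_
  rw [Finset.prod_eq_pow_card (b := a) fun x hx => (Finset.mem_filter.1 hx).2,
    Finset.prod_eq_pow_card (b := a) fun x hx => (Finset.mem_filter.1 hx).2]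
  let Y : SubMulAction H X :=
    { carrier := {x | φ x = a}
      smul_mem' := fun h {x} hx => (hφ h x).trans hx }
  haveI : Fintype Y := Fintype.ofFinite _
  have h1 := hH.card_modEq_card_fixedPoints Y
  have e1 : Nat.card Y = (Finset.univ.filter fun x => φ x = a).card := by
    rw [← Fintype.card_subtype]
    exact Nat.card_eq_fintype_card.trans (Fintype.card_congr (Equiv.refl _))
  have e2 : Nat.card (fixedPoints H Y) =
      ((Finset.univ.filter (· ∈ fixedPoints H X)).filter fun x => φ x = a).card := by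
    rw [Finset.filter_filter, ← Fintype.card_subtype, ← Nat.card_eq_fintype_card]
    exact Nat.card_congr
      { toFun := fun y => ⟨y.1.1, fun h => congrArg Subtype.val (y.2 h), y.1.2⟩
        invFun := fun x => ⟨⟨x.1, x.2.2⟩, fun h => Subtype.ext (x.2.1 h)⟩
        left_inv := fun y => rfl
        right_inv := fun x => rfl }
  rw [e1, e2] at h1
  exact pow_eq_pow_of_modEq h1 (hA a)

variable [Finite S] {c : Subgroup (↥S × ↥S) → ℕ}

/-- The permutations commuting with the right action. -/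
def rightPerms (c : Subgroup (↥S × ↥S) → ℕ) : Subgroup (Equiv.Perm (BSet c)) where
  carrier := {g | ∀ (s : S) (w : BSet c),
    g (((1, s) : ↥S × ↥S) • w) = ((1, s) : ↥S × ↥S) • g w}
  one_mem' := fun _ _ => rfl
  mul_mem' := fun {a b} ha hb s w => by
    rw [Equiv.Perm.mul_apply, hb, ha, ← Equiv.Perm.mul_apply]
  inv_mem' := fun {a} ha s w => by
    apply a.injective
    rw [ha, Equiv.Perm.coe_inv, Equiv.apply_symm_apply, Equiv.apply_symm_apply]

/-- The left action of `S` as permutations commuting with the right action. -/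
noncomputable def leftHom (c : Subgroup (↥S × ↥S) → ℕ) : ↥S →* rightPerms c :=
  ((MulAction.toPermHom (↥S × ↥S) (BSet c)).comp (MonoidHom.inl ↥S ↥S)).codRestrict _ fun x s w => by
    show ((x, 1) : ↥S × ↥S) • ((1, s) : ↥S × ↥S) • w = ((1, s) : ↥S × ↥S) • ((x, 1) : ↥S × ↥S) • w
    rw [smul_smul, smul_smul, Prod.mk_mul_mk, Prod.mk_mul_mk, one_mul, mul_one, one_mul, mul_one]

/-- The permutation of the right orbits. -/
noncomputable def orbMap (g : rightPerms c) : RightOrb c → RightOrb c :=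
  Quotient.map (fun w => (g : Equiv.Perm (BSet c)) w) fun w w' ⟨s, h⟩ => ⟨s, by rw [← g.2 s w, h]⟩

theorem orbMap_toOrb (g : rightPerms c) (w : BSet c) :
    orbMap g (toOrb w) = toOrb ((g : Equiv.Perm (BSet c)) w) := rfl

theorem orbMap_mul (g h : rightPerms c) (ω : RightOrb c) :
    orbMap (g * h) ω = orbMap g (orbMap h ω) := by
  obtain ⟨w, rfl⟩ := toOrb_surjective ω
  rfl

theorem orbMap_bijective (g : rightPerms c) : Function.Bijective (orbMap g) := by
  refine Function.bijective_iff_has_inverse.2 ⟨orbMap g⁻¹, fun ω => ?_, fun ω => ?_⟩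
  · rw [← orbMap_mul, inv_mul_cancel]
    obtain ⟨w, rfl⟩ := toOrb_surjective ω
    rfl
  · rw [← orbMap_mul, mul_inv_cancel]
    obtain ⟨w, rfl⟩ := toOrb_surjective ω
    rfl

theorem orbMap_leftHom (x : S) (ω : RightOrb c) : orbMap (leftHom c x) ω = x • ω := by
  obtain ⟨w, rfl⟩ := toOrb_surjective ω
  rfl

theorem exists_gsh {σ : RightOrb c → BSet c} (hσ : IsSection σ) (g : rightPerms c)
    (ω : RightOrb c) :
    ∃ s : S, ((1, s) : ↥S × ↥S) • (g : Equiv.Perm (BSet c)) (σ ω) = σ (orbMap g ω) := by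
  refine toOrb_eq.1 ?_
  rw [hσ, ← orbMap_toOrb, hσ]

open Classical in
/-- The cocycle of a section on the permutations. -/
noncomputable def gsh (σ : RightOrb c → BSet c) (g : rightPerms c) (ω : RightOrb c) : S :=
  Classical.epsilon fun s : S =>
    ((1, s) : ↥S × ↥S) • (g : Equiv.Perm (BSet c)) (σ ω) = σ (orbMap g ω)

theorem gsh_spec {σ : RightOrb c → BSet c} (hσ : IsSection σ) (g : rightPerms c) (ω : RightOrb c) :
    ((1, gsh σ g ω) : ↥S × ↥S) • (g : Equiv.Perm (BSet c)) (σ ω) = σ (orbMap g ω) :=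
  Classical.epsilon_spec (p := fun s : S =>
    ((1, s) : ↥S × ↥S) • (g : Equiv.Perm (BSet c)) (σ ω) = σ (orbMap g ω)) (exists_gsh hσ g ω)

theorem gsh_unique (hsupp : Supported F c) {σ : RightOrb c → BSet c} (hσ : IsSection σ)
    {g : rightPerms c} {ω : RightOrb c} {s : S}
    (h : ((1, s) : ↥S × ↥S) • (g : Equiv.Perm (BSet c)) (σ ω) = σ (orbMap g ω)) :
    gsh σ g ω = s :=
  right_free hsupp ((gsh_spec hσ g ω).trans h.symm)

theorem gsh_mul (hsupp : Supported F c) {σ : RightOrb c → BSet c} (hσ : IsSection σ)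
    (g h : rightPerms c) (ω : RightOrb c) :
    gsh σ (g * h) ω = gsh σ g (orbMap h ω) * gsh σ h ω := by
  refine gsh_unique hsupp hσ ?_
  rw [orbMap_mul, ← gsh_spec hσ g, ← gsh_spec hσ h, g.2, Subgroup.coe_mul, Equiv.Perm.mul_apply,
    smul_smul, Prod.mk_mul_mk, one_mul]

theorem gsh_leftHom (hsupp : Supported F c) {σ : RightOrb c → BSet c} (hσ : IsSection σ) (x : S)
    (ω : RightOrb c) : gsh σ (leftHom c x) ω = shift σ x ω := by
  refine gsh_unique hsupp hσ ?_
  rw [orbMap_leftHom, ← shift_spec hσ x ω]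
  show ((1, shift σ x ω) : ↥S × ↥S) • ((x, 1) : ↥S × ↥S) • σ ω = _
  rw [smul_smul, Prod.mk_mul_mk, one_mul, mul_one]

section Char

variable {A : Type*} [CommGroup A] [Fintype (RightOrb c)] (χ : S →* A)

/-- The transfer of a character to the permutations. -/
noncomputable def gTransfer (hsupp : Supported F c) {σ : RightOrb c → BSet c} (hσ : IsSection σ) :
    rightPerms c →* A :=
  MonoidHom.mk' (fun g => ∏ ω, χ (gsh σ g ω)) fun g h => by
    simp only [gsh_mul hsupp hσ, map_mul, Finset.prod_mul_distrib]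
    congr 1
    exact Equiv.prod_comp (Equiv.ofBijective _ (orbMap_bijective h)) fun ω => χ (gsh σ g ω)

theorem gTransfer_eq_of_section (hsupp : Supported F c) {σ σ' : RightOrb c → BSet c}
    (hσ : IsSection σ) (hσ' : IsSection σ') (g : rightPerms c) :
    gTransfer χ hsupp hσ g = gTransfer χ hsupp hσ' g := by
  choose u hu using fun ω => toOrb_eq.1 ((hσ ω).trans (hσ' ω).symm)
  have h : ∀ ω, gsh σ' g ω = u (orbMap g ω) * gsh σ g ω * (u ω)⁻¹ := fun ω => by
    refine gsh_unique hsupp hσ' ?_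
    rw [← hu (orbMap g ω), ← gsh_spec hσ g ω, ← hu ω, g.2, smul_smul, smul_smul, Prod.mk_mul_mk,
      Prod.mk_mul_mk]
    simp [mul_assoc]
  show ∏ ω, χ (gsh σ g ω) = ∏ ω, χ (gsh σ' g ω)
  simp only [h, map_mul, map_inv, Finset.prod_mul_distrib]
  rw [show (∏ ω, χ (u (orbMap g ω))) = ∏ ω, χ (u ω) from
      Equiv.prod_comp (Equiv.ofBijective _ (orbMap_bijective g)) fun ω => χ (u ω),
    mul_comm (∏ ω, χ (u ω)), mul_assoc, Finset.prod_inv_distrib, mul_inv_cancel, mul_one]

end Char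

section Centralizer

variable [Fact p.Prime] (hS : IsPGroup p S) {A : Type*} [CommGroup A] (hA : ∀ a : A, a ^ p = 1)
  (χ : S →* A)
  (hχ : ∀ (P : Subgroup Ω) (f : Ω → Ω) (x y : S), IsMap F P f → (x : Ω) ∈ P → (y : Ω) = f x →
    χ y = χ x)

include hS hA hχ

/-- The transfer on the centralizer of a fully centralized subgroup. -/
theorem gTransfer_mem_of_commute [Fintype (RightOrb c)] (hsupp : Supported F c)
    {σ₀ : RightOrb c → BSet c} (hσ₀ : IsSection σ₀) (hP : F.IsFullyCentralized P)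
    (hrec : ∀ (Q : Subgroup Ω) (u : Ω → Ω), IsMap F Q u → img Q u = P →
      ∃ v, IsMap F (Q ⊔ centralizerIn S Q) v ∧ ∀ x ∈ Q, v x = u x)
    (g : rightPerms c) (hg : ∀ x : S, (x : Ω) ∈ P → g * leftHom c x = leftHom c x * g) :
    ∃ z : S, (z : Ω) ∈ centralizerIn S P ∧ gTransfer χ hsupp hσ₀ g = χ z := by
  classical
  set H := P.subgroupOf S with hH
  have hcomm : ∀ x ∈ H, ∀ (s : S) (w : BSet c),
      (g : Equiv.Perm (BSet c)) (((x, s) : ↥S × ↥S) • w) =
        ((x, s) : ↥S × ↥S) • (g : Equiv.Perm (BSet c)) w := fun x hx s w => by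
    have h1 : (g : Equiv.Perm (BSet c)) (((x, 1) : ↥S × ↥S) • w) =
        ((x, 1) : ↥S × ↥S) • (g : Equiv.Perm (BSet c)) w :=
      Equiv.congr_fun (congrArg (fun k : rightPerms c => (k : Equiv.Perm (BSet c))) (hg x hx)) w
    rw [show ((x, s) : ↥S × ↥S) = (1, s) * (x, 1) by simp, mul_smul, mul_smul, g.2, h1]
  have hgω : ∀ x ∈ H, ∀ ω, orbMap g (x • ω) = x • orbMap g ω := fun x hx ω => by
    rw [← orbMap_leftHom, ← orbMap_leftHom, ← orbMap_mul, ← orbMap_mul, hg x hx]
  have hinj : Function.Injective (g : Equiv.Perm (BSet c)) := Equiv.injective _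
  let part : BSet c → Subgroup (↥S × ↥S) := fun w => stabilizer (↥S × ↥S) w ⊓ H.prod ⊤
  have hpart : ∀ w, part ((g : Equiv.Perm (BSet c)) w) = part w := fun w => by
    ext q
    refine and_congr_left fun hq => ?_
    obtain ⟨x, s⟩ := q
    show ((x, s) : ↥S × ↥S) • _ = _ ↔ ((x, s) : ↥S × ↥S) • w = w
    rw [← hcomm x hq.1 s w]
    exact hinj.eq_iff
  set parts : RightOrb c → Set (Subgroup (↥S × ↥S)) :=
    fun ω => {D | ∃ w, toOrb w = ω ∧ part w = D} with hparts
  have hne : ∀ ω, (parts ω).Nonempty := fun ω =>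
    let ⟨w, hw⟩ := toOrb_surjective ω
    ⟨_, w, hw, rfl⟩
  have hpartsg : ∀ ω, parts (orbMap g ω) = parts ω := fun ω => by
    refine Set.ext fun D => ⟨?_, ?_⟩
    · rintro ⟨w, hw, rfl⟩
      obtain ⟨v, rfl⟩ := (g : Equiv.Perm (BSet c)).surjective w
      exact ⟨v, (orbMap_bijective g).1 hw, (hpart v).symm⟩
    · rintro ⟨w, rfl, rfl⟩
      exact ⟨_, (orbMap_toOrb g w).symm, hpart w⟩
  let canon : Set (Subgroup (↥S × ↥S)) → Subgroup (↥S × ↥S) := fun T =>
    if h : T.Nonempty then h.some else ⊥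
  have hcanon : ∀ ω, ∃ w, toOrb w = ω ∧ part w = canon (parts ω) := fun ω => by
    simp only [canon, dif_pos (hne ω)]
    exact (hne ω).some_mem
  choose τ hτ hτD using hcanon
  obtain ⟨σ₁, hσ₁, had⟩ := exists_adapted hsupp H χ.ker fun w => ⟨1, fun q hq _ => by
    obtain ⟨f, hf, hfx⟩ := isGraph_stabilizer hsupp w
    rw [MonoidHom.mem_ker, map_mul, map_inv, one_mul, inv_one, mul_one,
      hχ _ f q.1 q.2 hf (mem_pr₁.2 ⟨q, hq, rfl⟩) (hfx q hq), inv_mul_cancel]⟩
  set σ : RightOrb c → BSet c := fun ω => if ω ∈ fixedPoints H (RightOrb c) then τ ω else σ₁ ω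
    with hσdef
  have hσ : IsSection σ := fun ω => by
    simp only [hσdef]
    split_ifs
    · exact hτ ω
    · exact hσ₁ ω
  have hfixg : ∀ ω, orbMap g ω ∈ fixedPoints H (RightOrb c) ↔ ω ∈ fixedPoints H (RightOrb c) :=
    fun ω => by
      constructor
      · intro h x
        refine (orbMap_bijective g).1 ?_
        show orbMap g ((x : S) • ω) = _
        rw [hgω x x.2]
        exact h x
      · intro h x
        show (x : S) • orbMap g ω = _
        rw [← hgω x x.2]
        exact congrArg (orbMap g) (h x)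
  have hfixed : ∀ ω ∈ fixedPoints H (RightOrb c), ∀ x ∈ H,
      ((x, shift σ x ω) : ↥S × ↥S) • σ ω = σ ω := fun ω hω x hx => by
    rw [shift_spec hσ, show x • ω = ω from hω ⟨x, hx⟩]
  have hshift : ∀ x ∈ H, ∀ ω, χ (shift σ x ω) = χ x := fun x hx ω => by
    by_cases hω : ω ∈ fixedPoints H (RightOrb c)
    · have h1 := hfixed ω hω x hx
      obtain ⟨f, hf, hfx⟩ := isGraph_stabilizer hsupp (σ ω)
      exact hχ _ f _ _ hf (mem_pr₁.2 ⟨_, h1, rfl⟩) (hfx _ h1)
    · have hω' : x • ω ∉ fixedPoints H (RightOrb c) := fun h => hω fun y => by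
        refine MulAction.injective (x : S) ?_
        show x • (y : S) • ω = x • ω
        rw [← mul_smul]
        have e : x * (y : S) = ((⟨x * y * x⁻¹, H.mul_mem (H.mul_mem hx y.2) (H.inv_mem hx)⟩ : H) : S) *
            x := by simp
        rw [e, mul_smul]
        exact h _
      have h1 : shift σ x ω = shift σ₁ x ω := by
        refine shift_unique hsupp hσ ?_
        simp only [hσdef, if_neg hω, if_neg hω']
        exact shift_spec hσ₁ x ω
      have h2 := had x hx ω
      rw [MonoidHom.mem_ker, map_mul, map_inv, inv_mul_eq_one] at h2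
      rw [h1, ← h2]
  rw [gTransfer_eq_of_section χ hsupp hσ₀ hσ]
  show ∃ z : S, (z : Ω) ∈ centralizerIn S P ∧ ∏ ω, χ (gsh σ g ω) = χ z
  rw [prod_eq_prod_fixed (hS.to_subgroup H) hA _ fun x ω => ?_]
  · suffices h : ∏ ω ∈ Finset.univ.filter (· ∈ fixedPoints H (RightOrb c)), χ (gsh σ g ω) ∈
        ((centralizerIn S P).subgroupOf S).map χ by
      obtain ⟨z, hz, hzχ⟩ := h
      exact ⟨z, hz, hzχ.symm⟩
    refine prod_mem fun ω hω => ?_
    have hω' : ω ∈ fixedPoints H (RightOrb c) := (Finset.mem_filter.1 hω).2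
    set s := gsh σ g ω
    have e : part (σ (orbMap g ω)) = part ((g : Equiv.Perm (BSet c)) (σ ω)) := by
      rw [hpart]
      simp only [hσdef, if_pos hω', if_pos ((hfixg ω).2 hω')]
      rw [hτD, hτD, hpartsg]
    obtain ⟨ψ, hψ, hψx⟩ := isGraph_stabilizer hsupp (σ ω)
    have hPS := hP.1
    have hPd : P ≤ pr₁ (stabilizer (↥S × ↥S) (σ ω)) := fun a ha =>
      mem_pr₁.2 ⟨_, hfixed ω hω' ⟨a, hPS ha⟩ ha, rfl⟩
    have hu := hψ.mono hPd
    set Q := img P ψ with hQ
    have hs : (s : Ω) ∈ centralizerIn S Q := by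
      refine ⟨s.2, fun b hb => ?_⟩
      obtain ⟨a, ha, rfl⟩ := hu.mem_img.1 hb
      set t := shift σ ⟨a, hPS ha⟩ ω
      have h1 := hfixed ω hω' ⟨a, hPS ha⟩ ha
      have ht : (t : Ω) = ψ a := hψx _ h1
      have h2 : ((⟨a, hPS ha⟩, t) : ↥S × ↥S) ∈ part ((g : Equiv.Perm (BSet c)) (σ ω)) := by
        rw [hpart]
        exact ⟨h1, ha, Subgroup.mem_top _⟩
      have h3 := h2
      rw [← e] at h3
      have h4 : ((1, s) : ↥S × ↥S)⁻¹ * ((⟨a, hPS ha⟩, t) : ↥S × ↥S) * (1, s) ∈
          stabilizer (↥S × ↥S) ((g : Equiv.Perm (BSet c)) (σ ω)) := by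
        rw [mem_stabilizer_iff, mul_smul, mul_smul, gsh_spec hσ g ω, h3.1, ← gsh_spec hσ g ω,
          inv_smul_smul]
      have h5 := congrArg (fun q : ↥S × ↥S => (q.2 : Ω))
        ((isGraph_stabilizer hsupp _).eq_of_fst h2.1 h4 (by simp))
      simp only [Prod.inv_mk, Prod.mk_mul_mk, Subgroup.coe_mul, Subgroup.coe_inv] at h5
      rw [← ht]
      calc (t : Ω) * s = (s : Ω) * ((s : Ω)⁻¹ * t * s) := by group
        _ = s * t := by rw [← h5]
    obtain ⟨k, hk, hkx, -, hki⟩ := hu.exists_inv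
    obtain ⟨v, hv, hvx⟩ := hrec Q k hk hki
    have hvi : img Q v = P := (img_congr hvx).trans hki
    have hsm : (s : Ω) ∈ Q ⊔ centralizerIn S Q := Subgroup.mem_sup_right hs
    have hvs : v s ∈ centralizerIn S P := hvi ▸ hv.apply_mem_centralizerIn le_sup_left hsm hs.2
    exact ⟨⟨v s, hvs.1⟩, hvs, hχ _ v s ⟨v s, hvs.1⟩ hv hsm rfl⟩
  · have h1 := congrArg χ (gsh_mul hsupp hσ g (leftHom c x) ω)
    rw [hg x x.2, gsh_mul hsupp hσ, gsh_leftHom hsupp hσ, gsh_leftHom hsupp hσ, map_mul, map_mul,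
      hshift x x.2, hshift x x.2, orbMap_leftHom, mul_comm] at h1
    exact (mul_right_cancel h1).symm

end Centralizer

section Detector

variable [Fact p.Prime] (hS : IsPGroup p S) (hF : F.IsSaturated p)

include hS hF

/-- A group realizing the maps of `F` with a character extending an invariant one. -/
theorem exists_detector {A : Type*} [CommGroup A] (hA : ∀ a : A, a ^ p = 1) (χ : S →* A)
    (hχ : ∀ (P : Subgroup Ω) (f : Ω → Ω) (x y : S), IsMap F P f → (x : Ω) ∈ P → (y : Ω) = f x →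
      χ y = χ x) :
    ∃ (G : Type u) (_ : Group G) (ι : S →* G) (Λ : G →* A) (k : ℕ), ¬ p ∣ k ∧
      (∀ s : S, Λ (ι s) = χ s ^ k) ∧
      (∀ (P : Subgroup Ω) (f : Ω → Ω), IsMap F P f →
        ∃ g : G, ∀ x y : S, (x : Ω) ∈ P → (y : Ω) = f x → g * ι x * g⁻¹ = ι y) ∧
      ∀ P : Subgroup Ω, F.IsFullyCentralized P → ∀ g : G,
        (∀ x : S, (x : Ω) ∈ P → g * ι x = ι x * g) →
        ∃ z : S, (z : Ω) ∈ centralizerIn S P ∧ Λ g = χ z := by
  classical
  obtain ⟨c, hsupp, hst, hm⟩ := exists_charBiset hS hF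
  rw [← card_rightOrb hsupp] at hm
  haveI : Fintype (RightOrb c) := Fintype.ofFinite _
  obtain ⟨σ, hσ, had⟩ := exists_adapted hsupp (⊤ : Subgroup S) χ.ker fun w => ⟨1, fun q hq _ => by
    obtain ⟨f, hf, hfx⟩ := isGraph_stabilizer hsupp w
    rw [MonoidHom.mem_ker, map_mul, map_inv, one_mul, inv_one, mul_one,
      hχ _ f q.1 q.2 hf (mem_pr₁.2 ⟨q, hq, rfl⟩) (hfx q hq), inv_mul_cancel]⟩
  refine ⟨rightPerms c, inferInstance, leftHom c, gTransfer χ hsupp hσ, Nat.card (RightOrb c), hm,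
    fun s => ?_, fun P f hf => ?_, fun P hP g hg => gTransfer_mem_of_commute hS hA χ hχ hsupp hσ hP
      (fun Q u hu hi => receptive_extend_centralizer (receptive_of_fullyCentralized hS hF hP) hu hi)
      g hg⟩
  · show ∏ ω, χ (gsh σ (leftHom c s) ω) = _
    rw [Finset.prod_congr rfl fun ω _ => ?_, Finset.prod_const, Finset.card_univ,
      Nat.card_eq_fintype_card]
    rw [gsh_leftHom hsupp hσ]
    have := had s (Subgroup.mem_top _) ω
    rw [MonoidHom.mem_ker, map_mul, map_inv, inv_mul_eq_one] at this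
    exact this.symm
  · obtain ⟨e, he1, he2⟩ := exists_stable_equiv hsupp hst hf
    refine ⟨⟨e, he1⟩, fun x y hx hy => ?_⟩
    rw [mul_inv_eq_iff_eq_mul]
    refine Subtype.ext (Equiv.ext fun w => ?_)
    exact he2 x y hx hy w

end Detector

end CfsgLib.Fusion
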