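import Cfsg.Agent.Lib.Fusion.TransferControl
import Cfsg.Agent.Lib.PLocal.KTransfer

/-!
For `p ≥ 5` a system whose top automizer is a `p`-group has proper focal subgroup.
-/

set_option autoImplicit false
set_option linter.style.haveILetI false
set_option linter.unusedVariables false
set_option linter.unusedSectionVars false

universe u

namespace CfsgLib.Fusion

open Cfsg Cfsg.FusionSystem Subgroup
open scoped commutatorElement

variable {p : ℕ} [Fact p.Prime]

theorem kInfLower_localTransfer (hp : 5 ≤ p) : LocalTransfer.{u} p Cfsg.kInfLower := by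
  intro G _ _ P _ x hx
  have h := (CfsgLib.PLocal.ctrlT_iff CfsgLib.PLocal.kInfLower_singleton_functor P).1
    (CfsgLib.PLocal.ctrlT_kInfLower hp (G := G) G (CfsgLib.PLocal.isSec_self G))
  have h1 := h ⟨CfsgLib.Solvable.pCore_le_sylow P (mem_inf.1 hx).1, (mem_inf.1 hx).2⟩
  simp only [CfsgLib.PLocal.transferJoin, Set.mem_singleton_iff, iSup_iSup_eq_left] at h1
  exact (mem_inf.1 h1).2

section Top

variable {Ω : Type u} [Group Ω] {S : Subgroup Ω} [Finite S] (hS : IsPGroup p S)
  {F : FusionSystem S} (hF : F.IsSaturated p) (haut : IsPGroup p (F.autGroup S))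

include hS hF haut in
/-- A `p`-group automizer of `S` consists of inner automorphisms. -/
theorem exists_conj_of_top {g : Ω → Ω} (hg : IsMap F S g) :
    ∃ a ∈ S, ∀ x ∈ S, g x = a * x * a⁻¹ := by
  haveI := finite_autGroup (F := F) (le_refl S)
  obtain ⟨-, T, hT⟩ := fullyAutomized_of_fullyNormalized hS hF (fullyNormalized_top F)
  have htop : (T : Subgroup (F.autGroup S)) = ⊤ :=
    (T.is_maximal' (haut.to_subgroup ⊤) le_top).symm
  have hi : img S g = S := eq_of_le_of_card_le hg.img_le hg.card_img.ge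
  have h1 : (⟨hg.toAut hi, hg.toAut_mem hi⟩ : F.autGroup S) ∈ (T : Subgroup (F.autGroup S)) :=
    htop ▸ mem_top _
  rw [hT, mem_subgroupOf] at h1
  obtain ⟨a, ha, hax⟩ := mem_autInducedBy_iff.1 h1
  exact ⟨a, ha, fun x hx => (hg.toAut_apply hi ⟨x, hx⟩).symm.trans (hax ⟨x, hx⟩)⟩

end Top

theorem focal_lt (hp : 5 ≤ p) :
    ∀ (n : ℕ) (Ω : Type u) [Group Ω] (S : Subgroup Ω) [Finite S] (hS : IsPGroup p S)
      (F : FusionSystem S), Nat.card S = n → F.IsSaturated p → S ≠ ⊥ →
      IsPGroup p (F.autGroup S) → F.focalSubgroup < S := by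
  intro n
  induction n using Nat.strong_induction_on with
  | _ n ih =>
    intro Ω _ S _ hS F hSn hF hne haut
    have hW := CfsgLib.PLocal.kInfLower_isCharPFunctor.{u} (p := p)
    set W : ∀ (Q : Type u) [Group Q], Subgroup Q := Cfsg.kInfLower with hWdef
    have hctl := transfers_all W hW.1 hW.2 (kInfLower_localTransfer hp) n Ω S hS F hSn hF
    set M := funcSys W hW.2 hS F with hMdef
    have hMs : M.IsSaturated p := isSaturated_normSys hS hF _ _
    have hMle : M ≤ F := normSys_le _ _
    refine lt_of_le_of_lt hctl ?_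
    set Q := funcOn W S with hQdef
    have hQn : M.IsNormal Q := isNormal_normSys_self _ _
    have hQne : Q ≠ ⊥ := funcOn_ne_bot' W hW.1 hS hne
    have hinner : ∀ g, IsMap M S g → ∃ a ∈ S, ∀ x ∈ S, g x = a * x * a⁻¹ := fun g hg =>
      exists_conj_of_top hS hF haut (le_iff_isMap.1 hMle _ _ hg)
    by_cases hQS : Q = S
    · refine lt_of_le_of_lt (b := ⁅S, S⁆) (focal_le_of fun P f hf x hx => ?_) ?_
      · obtain ⟨g, hg, hgx, -⟩ := (isNormal_iff.1 hQn).2 P f hf
        obtain ⟨a, ha, hax⟩ := hinner g (hg.mono (hQS ▸ le_sup_right))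
        have h1 := commutator_mem_commutator (S.inv_mem (hf.le hx)) ha
        rw [← hgx x hx, hax x (hf.le hx)]
        simpa [commutatorElement_def, mul_assoc] using h1
      · haveI : Nontrivial S := (Subgroup.nontrivial_iff_ne_bot S).2 hne
        haveI : Group.IsNilpotent S := hS.isNilpotent
        have h2 := Group.IsSolvable.commutator_lt_top_of_nontrivial (G := S)
        have h3 := (Subgroup.map_lt_map_iff_of_injective S.subtype_injective).2 h2
        rwa [Subgroup.map_subtype_commutator, ← MonoidHom.range_eq_map, Subgroup.range_subtype] at h3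
    have hQc := IsNormal.stronglyClosed hQn
    haveI : (Q.subgroupOf S).Normal :=
      (Subgroup.normal_subgroupOf_iff_le_normalizer hQn.1).2 (StronglyClosed.le_normalizer hQc)
    set θ := QuotientGroup.mk' (Q.subgroupOf S) with hθ
    have hker : ∀ s : S, θ s = 1 ↔ (s : Ω) ∈ Q := fun s => QuotientGroup.eq_one_iff s
    set E := factorSys M hQc θ hker with hE
    have hEf : M.IsFactorSystem Q θ E := ⟨hQn.1, hker, rfl, fun P' φ' => Iff.rfl⟩
    have hsurj := isSurjectiveMorphism_factor hS hMs hQc hEf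
    have hEs : E.IsSaturated p := isSaturated_image hS hMs hsurj
    haveI : Finite θ.range := Subtype.finite
    have hp' : IsPGroup p θ.range := hS.of_surjective θ.rangeRestrict θ.rangeRestrict_surjective
    have hlt : Nat.card θ.range < Nat.card S := by
      rw [Nat.card_congr (QuotientGroup.quotientKerEquivRange θ).symm.toEquiv,
        Nat.card_congr (QuotientGroup.quotientMulEquivOfEq (QuotientGroup.ker_mk' _)).toEquiv]
      rw [Subgroup.card_eq_card_quotient_mul_card_subgroup (Q.subgroupOf S),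
        Nat.card_congr (Subgroup.subgroupOfEquivOfLe hQn.1).toEquiv]
      refine lt_mul_of_one_lt_right Nat.card_pos ?_
      haveI := finite_of_le hQn.1
      exact (Subgroup.one_lt_card_iff_ne_bot _).2 hQne
    have hθne : θ.range ≠ ⊥ := fun h => hQS (le_antisymm hQn.1 fun s hs =>
      (hker ⟨s, hs⟩).1 (Subgroup.mem_bot.1 (h ▸ ⟨⟨s, hs⟩, rfl⟩)))
    have hautE : IsPGroup p (E.autGroup θ.range) := by
      refine (isPGroup_autInducedBy hp' θ.range).to_le fun α hα => ?_
      obtain ⟨-, g, hg, hge⟩ :=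
        (isMap_induced_iff (fun _ _ => Iff.rfl) rfl).1 (isMap_of_autGroup le_rfl hα)
      have hpre : ∀ s : S, (s : Ω) ∈ preimageAlong θ θ.range := fun s =>
        mem_preimageAlong.2 ⟨s.2, s, rfl⟩
      obtain ⟨a, ha, hax⟩ := hinner g (hg.mono fun s hs => hpre ⟨s, hs⟩)
      refine mem_autInducedBy_iff.2 ⟨θ ⟨a, ha⟩, ⟨_, rfl⟩, fun y => ?_⟩
      obtain ⟨s, hs⟩ := y.2
      have h1 := hge s (hpre s)
      rw [← toFun_aut_apply α y.2, ← hs]
      rw [h1, ← map_inv, ← map_mul, ← map_mul]
      exact congrArg θ (Subtype.ext (hax s s.2))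
    have hIH := ih _ (hSn ▸ hlt) _ θ.range hp' E rfl hEs hθne hautE
    refine lt_of_le_of_ne (focal_le_self M) fun heq => hIH.ne (le_antisymm (focal_le_self E) ?_)
    rintro _ ⟨s, rfl⟩
    have h1 : M.focalSubgroup ≤ preimageAlong θ E.focalSubgroup := by
      refine focal_le_of fun P f hf x hx => mem_preimageAlong.2
        ⟨S.mul_mem (S.inv_mem (hf.le hx)) (hf.mem hx), ?_⟩
      obtain ⟨φ', hφ', hind⟩ := hsurj.1.2 P _ hf.toHom_mem
      have hmem : θ ⟨x, hf.le hx⟩ ∈ imageAlong θ P := mem_imageAlong.2 ⟨x, hf.le hx, hx, rfl⟩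
      have h2 := diff_mem_focal (isMap_of_hom hφ') hmem
      rw [toFun_of_mem φ' hmem, inducedAlong_apply hind hx (hf.le hx) (hf.mem hx) hmem] at h2
      rw [← map_inv, ← map_mul] at h2
      exact h2
    exact (mem_preimageAlong.1 (h1 (heq.ge s.2))).2

end CfsgLib.Fusion
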